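import Mathlib.Algebra.Homology.DerivedCategory.Fractions
import Mathlib.CategoryTheory.Functor.Derived.LeftDerived
import Mathlib.CategoryTheory.Functor.Derived.RightDerived

/-!
# Recognition of derived functors on `D(A)` by a class of adapted complexes
-/

universe w v v'' u u''

open CategoryTheory Category Limits DerivedCategory

set_option autoImplicit false
set_option linter.unusedSectionVars false
set_option backward.isDefEq.respectTransparency false

namespace Groth.Agent.CohDer42.ClassDerived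

variable {A : Type u} [Category.{v} A] [Abelian A] [HasDerivedCategory.{w} A]
  {E : Type u''} [Category.{v''} E] {G : CochainComplex A ℤ ⥤ E}
  (P : CochainComplex A ℤ → Prop)

section Left

variable {H : DerivedCategory A ⥤ E} (τ : Q ⋙ H ⟶ G)
  (hres : ∀ K : CochainComplex A ℤ, ∃ (L : CochainComplex A ℤ) (s : L ⟶ K), P L ∧ IsIso (Q.map s))
  (hτ : ∀ K, P K → IsIso (τ.app K))

include hres hτ in
lemma isRightKanExtension : H.IsRightKanExtension τ := by
  have huniq : ∀ X, ∀ (m m' : X ⟶ Functor.RightExtension.mk H τ), m = m' := by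
    intro X m m'
    refine CostructuredArrow.hom_ext _ _ ?_
    ext Y
    obtain ⟨M, r, hM, hr⟩ := hres (Q.objPreimage Y)
    have := hτ M hM
    let e : Q.obj M ≅ Y := asIso (Q.map r) ≪≫ Q.objObjPreimageIso Y
    rw [← cancel_epi (X.left.map e.hom), NatTrans.naturality, NatTrans.naturality]
    congr 1
    rw [← cancel_mono (τ.app M)]
    exact (NatTrans.congr_app (CostructuredArrow.w m) M).trans
      (NatTrans.congr_app (CostructuredArrow.w m') M).symm
  refine ⟨⟨IsTerminal.ofUniqueHom (fun X => ?_) (fun X m => huniq X m _)⟩⟩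
  let H' := X.left
  let β : Q ⋙ H' ⟶ G := X.hom
  have γ₀ : ∀ L, P L → { g : H'.obj (Q.obj L) ⟶ H.obj (Q.obj L) // g ≫ τ.app L = β.app L } :=
    fun L hL =>
      haveI := hτ L hL
      ⟨β.app L ≫ inv (τ.app L), by simp⟩
  have key : ∀ (Z M : CochainComplex A ℤ) (hZ : P Z) (hM : P M) (g : Z ⟶ M),
      H'.map (Q.map g) ≫ (γ₀ M hM).1 = (γ₀ Z hZ).1 ≫ H.map (Q.map g) := fun Z M hZ hM g => by
    have := hτ M hM
    have h1 : H.map (Q.map g) ≫ τ.app M = τ.app Z ≫ G.map g := τ.naturality g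
    have h2 : H'.map (Q.map g) ≫ β.app M = β.app Z ≫ G.map g := β.naturality g
    rw [← cancel_mono (τ.app M), assoc, (γ₀ M hM).2, assoc, h1, h2, reassoc_of% (γ₀ Z hZ).2]
  have nat : ∀ L L' (hL : P L) (hL' : P L') (φ : Q.obj L ⟶ Q.obj L'),
      H'.map φ ≫ (γ₀ L' hL').1 = (γ₀ L hL).1 ≫ H.map φ := by
    intro L L' hL hL' φ
    obtain ⟨Z, t, ht, g, rfl⟩ := right_fac φ
    obtain ⟨Z', r, hZ', hr⟩ := hres Z
    have e : Q.map (r ≫ t) ≫ inv (Q.map t) ≫ Q.map g = Q.map (r ≫ g) := by simp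
    have hrt : IsIso (Q.map (r ≫ t)) := by rw [Functor.map_comp]; infer_instance
    rw [← cancel_epi (H'.map (Q.map (r ≫ t))), ← H'.map_comp_assoc, e,
      key _ _ hZ' hL' (r ≫ g), ← assoc (H'.map _), key _ _ hZ' hL (r ≫ t), assoc, ← H.map_comp, e]
  choose L s hL hs using fun Y : DerivedCategory A => hres (Q.objPreimage Y)
  let e : ∀ Y, Q.obj (L Y) ≅ Y := fun Y =>
    haveI := hs Y
    asIso (Q.map (s Y)) ≪≫ Q.objObjPreimageIso Y
  let γ : H' ⟶ H :=
    { app := fun Y => H'.map (e Y).inv ≫ (γ₀ (L Y) (hL Y)).1 ≫ H.map (e Y).hom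
      naturality := fun Y Y' φ => by
        have h := nat (L Y) (L Y') (hL Y) (hL Y') ((e Y).hom ≫ φ ≫ (e Y').inv)
        rw [← cancel_epi (H'.map (e Y).hom), ← H'.map_comp_assoc, ← assoc (H'.map _),
          ← H'.map_comp, assoc, reassoc_of% h, ← H.map_comp]
        simp }
  refine CostructuredArrow.homMk γ ?_
  ext K
  obtain ⟨M, r, hM, hr⟩ := hres K
  change γ.app (Q.obj K) ≫ τ.app K = β.app K
  rw [← cancel_epi (H'.map (Q.map r))]
  have h1 : H.map (Q.map r) ≫ τ.app K = τ.app M ≫ G.map r := τ.naturality r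
  have h2 : H'.map (Q.map r) ≫ β.app K = β.app M ≫ G.map r := β.naturality r
  have h3 : γ.app (Q.obj M) = (γ₀ M hM).1 := by
    change H'.map _ ≫ (γ₀ (L (Q.obj M)) (hL _)).1 ≫ H.map _ = _
    rw [← nat _ _ (hL _) hM, ← H'.map_comp_assoc, Iso.inv_hom_id, CategoryTheory.Functor.map_id, id_comp]
  rw [← assoc, γ.naturality, assoc, h1, h3, reassoc_of% (γ₀ M hM).2, h2]

include hres hτ in
lemma isLeftDerivedFunctor :
    H.IsLeftDerivedFunctor τ (HomologicalComplex.quasiIso A (ComplexShape.up ℤ)) :=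
  ⟨isRightKanExtension P τ hres hτ⟩

end Left

section Right

variable {R : DerivedCategory A ⥤ E} (α : G ⟶ Q ⋙ R)
  (hres : ∀ K : CochainComplex A ℤ, ∃ (L : CochainComplex A ℤ) (s : K ⟶ L), P L ∧ IsIso (Q.map s))
  (hα : ∀ K, P K → IsIso (α.app K))

include hres hα in
lemma isLeftKanExtension : R.IsLeftKanExtension α := by
  have huniq : ∀ X, ∀ (m m' : Functor.LeftExtension.mk R α ⟶ X), m = m' := by
    intro X m m'
    refine StructuredArrow.hom_ext _ _ ?_
    ext Y
    obtain ⟨M, r, hM, hr⟩ := hres (Q.objPreimage Y)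
    have := hα M hM
    let e : Y ≅ Q.obj M := (Q.objObjPreimageIso Y).symm ≪≫ asIso (Q.map r)
    rw [← cancel_mono (X.right.map e.hom), ← NatTrans.naturality, ← NatTrans.naturality]
    congr 1
    rw [← cancel_epi (α.app M)]
    exact (NatTrans.congr_app (StructuredArrow.w m) M).trans
      (NatTrans.congr_app (StructuredArrow.w m') M).symm
  refine ⟨⟨IsInitial.ofUniqueHom (fun X => ?_) (fun X m => huniq X m _)⟩⟩
  let R' := X.right
  let β : G ⟶ Q ⋙ R' := X.hom
  have γ₀ : ∀ L, P L → { g : R.obj (Q.obj L) ⟶ R'.obj (Q.obj L) // α.app L ≫ g = β.app L } :=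
    fun L hL =>
      haveI := hα L hL
      ⟨inv (α.app L) ≫ β.app L, by simp⟩
  have key : ∀ (M Z : CochainComplex A ℤ) (hM : P M) (hZ : P Z) (g : M ⟶ Z),
      R.map (Q.map g) ≫ (γ₀ Z hZ).1 = (γ₀ M hM).1 ≫ R'.map (Q.map g) := fun M Z hM hZ g => by
    have := hα M hM
    have h1 : G.map g ≫ α.app Z = α.app M ≫ R.map (Q.map g) := α.naturality g
    have h2 : G.map g ≫ β.app Z = β.app M ≫ R'.map (Q.map g) := β.naturality g
    rw [← cancel_epi (α.app M), ← reassoc_of% h1, (γ₀ Z hZ).2, h2, reassoc_of% (γ₀ M hM).2]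
  have nat : ∀ L L' (hL : P L) (hL' : P L') (φ : Q.obj L ⟶ Q.obj L'),
      R.map φ ≫ (γ₀ L' hL').1 = (γ₀ L hL).1 ≫ R'.map φ := by
    intro L L' hL hL' φ
    obtain ⟨Z, g, t, ht, rfl⟩ := left_fac φ
    obtain ⟨Z', r, hZ', hr⟩ := hres Z
    have hrt : IsIso (Q.map (t ≫ r)) := by rw [Functor.map_comp]; infer_instance
    have e : (Q.map g ≫ inv (Q.map t)) ≫ Q.map (t ≫ r) = Q.map (g ≫ r) := by simp
    rw [← cancel_mono (R'.map (Q.map (t ≫ r))), assoc, assoc, ← key _ _ hL' hZ' (t ≫ r),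
      ← R.map_comp_assoc, e, key _ _ hL hZ' (g ≫ r), ← R'.map_comp, e]
  choose L s hL hs using fun Y : DerivedCategory A => hres (Q.objPreimage Y)
  let e : ∀ Y, Y ≅ Q.obj (L Y) := fun Y =>
    haveI := hs Y
    (Q.objObjPreimageIso Y).symm ≪≫ asIso (Q.map (s Y))
  let γ : R ⟶ R' :=
    { app := fun Y => R.map (e Y).hom ≫ (γ₀ (L Y) (hL Y)).1 ≫ R'.map (e Y).inv
      naturality := fun Y Y' φ => by
        have h := nat (L Y) (L Y') (hL Y) (hL Y') ((e Y).inv ≫ φ ≫ (e Y').hom)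
        rw [← cancel_epi (R.map (e Y).inv), ← R.map_comp_assoc, ← R.map_comp_assoc, assoc,
          reassoc_of% h, ← R'.map_comp]
        simp }
  refine StructuredArrow.homMk γ ?_
  ext K
  obtain ⟨M, r, hM, hr⟩ := hres K
  change α.app K ≫ γ.app (Q.obj K) = β.app K
  rw [← cancel_mono (R'.map (Q.map r))]
  have h1 : G.map r ≫ α.app M = α.app K ≫ R.map (Q.map r) := α.naturality r
  have h2 : G.map r ≫ β.app M = β.app K ≫ R'.map (Q.map r) := β.naturality r
  have h3 : γ.app (Q.obj M) = (γ₀ M hM).1 := by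
    change R.map _ ≫ (γ₀ (L (Q.obj M)) (hL _)).1 ≫ R'.map _ = _
    rw [← assoc, nat _ _ hM (hL _), assoc, ← R'.map_comp, Iso.hom_inv_id,
      CategoryTheory.Functor.map_id, comp_id]
  rw [assoc, ← γ.naturality, ← reassoc_of% h1, h3, (γ₀ M hM).2, h2]

include hres hα in
lemma isRightDerivedFunctor :
    R.IsRightDerivedFunctor α (HomologicalComplex.quasiIso A (ComplexShape.up ℤ)) :=
  ⟨isLeftKanExtension P α hres hα⟩

end Right

end Groth.Agent.CohDer42.ClassDerived
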