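import Mathlib.Algebra.Homology.ModelCategory.Lifting
import Mathlib.Algebra.Homology.HomotopyCategory.KInjective
import Mathlib.Algebra.Homology.DerivedCategory.KProjective
import Mathlib.Algebra.Homology.DerivedCategory.HomologySequence
import Mathlib.Algebra.Homology.HomologySequenceLemmas
import Mathlib.Algebra.Homology.HomotopyCategory.HomComplexSingle

/-!
# Maps from bounded complexes of projectives, extensions of maps to K-injective complexes
-/

universe w v u

open CategoryTheory Category Limits Pretriangulated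
open CochainComplex CochainComplex.HomComplex
open scoped ZeroObject

set_option autoImplicit false
set_option backward.isDefEq.respectTransparency false

namespace Groth.Agent.CohDer42

variable {A : Type u} [Category.{v} A] [Abelian A]

section Vanishing

variable (P K : CochainComplex A ℤ) (n b : ℤ) [P.IsStrictlyGE n] [P.IsStrictlyLE b]
  (hP : ∀ i : ℤ, Projective (P.X i)) (hK : ∀ i : ℤ, n ≤ i → IsZero (K.homology i))

include b hP hK

lemma derived_hom_eq_zero_aux [HasDerivedCategory.{w} A]
    (φ : DerivedCategory.Qh.obj ((HomotopyCategory.quotient A (ComplexShape.up ℤ)).obj P) ⟶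
      DerivedCategory.Qh.obj ((HomotopyCategory.quotient A (ComplexShape.up ℤ)).obj K)) : φ = 0 := by
  haveI := hP
  haveI : P.IsKProjective := CochainComplex.isKProjective_of_projective P b
  haveI : K.IsLE (n - 1) := by
    rw [CochainComplex.isLE_iff]
    intro i hi
    exact (HomologicalComplex.exactAt_iff_isZero_homology K i).2 (hK i (by omega))
  haveI : QuasiIso (K.ιTruncLE (n - 1)) := (K.quasiIso_ιTruncLE_iff (n - 1)).2 inferInstance
  have h0 : ∀ f : P ⟶ K.truncLE (n - 1), f = 0 := fun f => by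
    ext i
    by_cases hi : i < n
    · exact (P.isZero_of_isStrictlyGE n i hi).eq_of_src _ _
    · exact ((K.truncLE (n - 1)).isZero_of_isStrictlyLE (n - 1) i (by omega)).eq_of_tgt _ _
  let t := (HomotopyCategory.quotient A (ComplexShape.up ℤ)).map (K.ιTruncLE (n - 1))
  haveI : IsIso (DerivedCategory.Qh.map t) := by
    rw [DerivedCategory.isIso_Qh_map_iff]
    exact (HomotopyCategory.quotient_map_mem_quasiIso_iff _).2
      ((HomologicalComplex.mem_quasiIso_iff _).2 inferInstance)
  obtain ⟨g, hg⟩ := (CochainComplex.IsKProjective.Qh_map_bijective P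
    ((HomotopyCategory.quotient A (ComplexShape.up ℤ)).obj (K.truncLE (n - 1)))).2
      (φ ≫ inv (DerivedCategory.Qh.map t))
  obtain ⟨f, rfl⟩ := (HomotopyCategory.quotient A (ComplexShape.up ℤ)).map_surjective g
  rw [h0 f, Functor.map_zero, Functor.map_zero] at hg
  rw [← cancel_mono (inv (DerivedCategory.Qh.map t)), zero_comp]
  exact hg.symm

lemma derived_hom_eq_zero [HasDerivedCategory.{w} A]
    (φ : DerivedCategory.Q.obj P ⟶ DerivedCategory.Q.obj K) : φ = 0 := by
  let e := DerivedCategory.quotientCompQhIso A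
  have h := derived_hom_eq_zero_aux P K n b hP hK (e.hom.app P ≫ φ ≫ e.inv.app K)
  rw [← cancel_epi (e.hom.app P), ← cancel_mono (e.inv.app K), assoc, comp_zero, zero_comp]
  exact h

lemma homotopy_hom_eq_zero
    (φ : (HomotopyCategory.quotient A (ComplexShape.up ℤ)).obj P ⟶
      (HomotopyCategory.quotient A (ComplexShape.up ℤ)).obj K) : φ = 0 := by
  haveI := HasDerivedCategory.standard A
  haveI := hP
  haveI : P.IsKProjective := CochainComplex.isKProjective_of_projective P b
  refine (CochainComplex.IsKProjective.Qh_map_bijective P _).1 ?_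
  rw [Functor.map_zero]
  exact derived_hom_eq_zero_aux P K n b hP hK _

end Vanishing

lemma exists_lift_up_to_homotopy (P E L : CochainComplex A ℤ) (β : P ⟶ L) (α : E ⟶ L) (n b : ℤ)
    [P.IsStrictlyGE n] [P.IsStrictlyLE b] (hP : ∀ i : ℤ, Projective (P.X i))
    (hiso : ∀ i : ℤ, n < i → IsIso (HomologicalComplex.homologyMap α i))
    (hepi : Epi (HomologicalComplex.homologyMap α n)) :
    ∃ γ : P ⟶ E, Nonempty (Homotopy (γ ≫ α) β) := by
  haveI := HasDerivedCategory.standard A
  have hT : DerivedCategory.Q.mapTriangle.obj (mappingCone.triangle α) ∈ distTriang _ :=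
    DerivedCategory.mappingCone_triangle_distinguished α
  have hC : ∀ i, n ≤ i → IsZero ((mappingCone α).homology i) := fun i hi => by
    have h₁ : Epi (HomologicalComplex.homologyMap α i) := by
      obtain rfl | h := eq_or_lt_of_le hi
      · exact hepi
      · have := hiso i h; infer_instance
    have h₂ : IsIso (HomologicalComplex.homologyMap α (i + 1)) := hiso (i + 1) (by omega)
    have e₁ : HomologicalComplex.homologyMap (mappingCone.triangle α).mor₂ i = 0 := by
      rw [← cancel_epi (HomologicalComplex.homologyMap α i), comp_zero]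
      exact homologyMap_comp_eq_zero_of_distTriang _ hT i
    have e₂ : homologyδOfTriangle (mappingCone.triangle α) i (i + 1) rfl = 0 := by
      rw [← cancel_mono (HomologicalComplex.homologyMap α (i + 1)), zero_comp]
      exact homologyδOfTriangle_homologyMap _ hT i (i + 1) rfl
    exact (homologyMap_exact₃_of_distTriang _ hT i (i + 1) rfl).isZero_X₂ e₁ e₂
  have h0 := homotopy_hom_eq_zero P (mappingCone α) n b hP hC
    ((HomotopyCategory.quotient A (ComplexShape.up ℤ)).map (β ≫ mappingCone.inr α))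
  rw [Functor.map_comp] at h0
  obtain ⟨g, hg⟩ := Triangle.coyoneda_exact₂ _
    (HomotopyCategory.mappingCone_triangleh_distinguished α) _ h0
  change (HomotopyCategory.quotient A (ComplexShape.up ℤ)).obj P ⟶
    (HomotopyCategory.quotient A (ComplexShape.up ℤ)).obj E at g
  obtain ⟨γ, rfl⟩ := (HomotopyCategory.quotient A (ComplexShape.up ℤ)).map_surjective g
  exact ⟨γ, ⟨HomotopyCategory.homotopyOfEq _ _ ((Functor.map_comp _ _ _).trans hg.symm)⟩⟩

lemma exists_extension_kinjective (I : CochainComplex A ℤ) [I.IsKInjective]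
    (hI : ∀ n : ℤ, Injective (I.X n)) (S : ShortComplex (CochainComplex A ℤ)) (hS : S.ShortExact)
    (h₃ : S.X₃.Acyclic) (φ : S.X₁ ⟶ I) : ∃ ψ : S.X₂ ⟶ I, S.f ≫ ψ = φ := by
  haveI := hS.mono_f
  haveI := hS.epi_g
  haveI := hI
  have hm : ∀ n, Mono (S.f.f n) := fun n => inferInstance
  have sq : CommSq φ S.f (0 : I ⟶ (0 : CochainComplex A ℤ)) 0 := ⟨by simp⟩
  let l : ∀ n, S.X₂.X n ⟶ I.X n := fun n =>
    @Injective.factorThru A _ _ _ _ (hI n) (φ.f n) (S.f.f n) (hm n)
  let hsq : ∀ n, (sq.map (HomologicalComplex.eval _ _ n)).LiftStruct := fun n =>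
    { l := l n
      fac_left := @Injective.comp_factorThru A _ _ _ _ (hI n) (φ.f n) (S.f.f n) (hm n)
      fac_right := ((HomologicalComplex.eval A (ComplexShape.up ℤ) n).map_isZero
        (isZero_zero (CochainComplex A ℤ))).eq_of_tgt _ _ }
  have hK : IsLimit (KernelFork.ofι (f := (0 : I ⟶ (0 : CochainComplex A ℤ))) (𝟙 I) comp_zero) :=
    KernelFork.IsLimit.ofId _ rfl
  let β := Lifting.cocycle₁ sq hsq hS.gIsCokernel hK
  obtain ⟨α, hα⟩ := IsKInjective.eq_δ_of_cocycle β h₃ 0 (by simp)
  haveI := Lifting.hasLift sq hsq hS.gIsCokernel hK α hα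
  exact ⟨sq.lift, sq.fac_left⟩

lemma exists_extension_of_quasiIso (K L I : CochainComplex A ℤ) (α : K ⟶ L) [QuasiIso α]
    (hα : ∀ n : ℤ, Mono (α.f n)) [I.IsKInjective] (hI : ∀ n : ℤ, Injective (I.X n)) (γ : K ⟶ I) :
    ∃ β : L ⟶ I, α ≫ β = γ := by
  haveI := hα
  haveI : Mono α := HomologicalComplex.mono_of_mono_f _ hα
  have hS : (ShortComplex.mk _ _ (cokernel.condition α)).ShortExact :=
    { exact := ShortComplex.exact_cokernel α }
  exact exists_extension_kinjective I hI _ hS (hS.acyclic_X₃ (by dsimp; infer_instance)) γ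

lemma acyclic_mappingCone_id (K : CochainComplex A ℤ) : (mappingCone (𝟙 K)).Acyclic := fun i => by
  rw [HomologicalComplex.exactAt_iff_isZero_homology, IsZero.iff_id_eq_zero]
  rw [← HomologicalComplex.homologyMap_id, (mappingCone.homotopyToZeroOfId K).homologyMap_eq i,
    HomologicalComplex.homologyMap_zero]

lemma quasiIso_of_acyclic {K L : CochainComplex A ℤ} (f : K ⟶ L) (hK : K.Acyclic) (hL : L.Acyclic) :
    QuasiIso f :=
  ⟨fun i => by
    rw [quasiIsoAt_iff_isIso_homologyMap]
    exact ((HomologicalComplex.exactAt_iff_isZero_homology K i).1 (hK i)).isIso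
      ((HomologicalComplex.exactAt_iff_isZero_homology L i).1 (hL i)) _⟩

section Converse

variable (I : CochainComplex A ℤ)
  (h : ∀ (S : ShortComplex (CochainComplex A ℤ)), S.ShortExact → S.X₃.Acyclic →
    ∀ φ : S.X₁ ⟶ I, ∃ ψ : S.X₂ ⟶ I, S.f ≫ ψ = φ)

include h

lemma extension_of_acyclic {K L : CochainComplex A ℤ} (f : K ⟶ L) [Mono f] [QuasiIso f]
    (φ : K ⟶ I) : ∃ ψ : L ⟶ I, f ≫ ψ = φ := by
  have hS : (ShortComplex.mk _ _ (cokernel.condition f)).ShortExact :=
    { exact := ShortComplex.exact_cokernel f }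
  exact h _ hS (hS.acyclic_X₃ (by dsimp; infer_instance)) φ

lemma injective_of_extension (n : ℤ) : Injective (I.X n) := ⟨fun {X Y} u g _ => by
  let s := fun Z : A => (HomologicalComplex.single A (ComplexShape.up ℤ) (n + 1)).obj Z
  let e := fun Z : A => HomologicalComplex.singleObjXSelf (ComplexShape.up ℤ) (n + 1) Z
  let G : s X ⟶ s Y := (HomologicalComplex.single A (ComplexShape.up ℤ) (n + 1)).map g
  let α : Cochain (s X) I (-1) := Cochain.fromSingleMk u (by omega)
  let z : Cocycle (s X) I 0 := Cocycle.mk (δ (-1) 0 α) 1 (by omega) (by simp [δ_δ])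
  let φ : mappingCone (𝟙 (s X)) ⟶ I := mappingCone.desc _ α (Cocycle.homOf z) (by
    rw [Category.id_comp]
    exact (Cocycle.cochain_ofHom_homOf_eq_coe z).symm)
  let F : mappingCone (𝟙 (s X)) ⟶ mappingCone (𝟙 (s Y)) :=
    mappingCone.map _ _ G G (by simp)
  haveI : Mono G := by
    refine HomologicalComplex.mono_of_mono_f _ fun i => ?_
    by_cases hi : i = n + 1
    · subst hi
      dsimp [G]
      infer_instance
    · exact ⟨fun a b _ => (HomologicalComplex.isZero_single_obj_X _ _ _ _ hi).eq_of_tgt _ _⟩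
  haveI : Mono F := by
    refine HomologicalComplex.mono_of_mono_f _ fun p => ⟨fun {W} a b hab => ?_⟩
    have h1 : F.f p ≫ (mappingCone.fst (𝟙 (s Y))).1.v p (p + 1) rfl =
        (mappingCone.fst (𝟙 (s X))).1.v p (p + 1) rfl ≫ G.f (p + 1) := by
      rw [mappingCone.ext_from_iff _ (p + 1) p rfl]
      simp [F, mappingCone.map]
    have h2 : F.f p ≫ (mappingCone.snd (𝟙 (s Y))).v p p (add_zero p) =
        (mappingCone.snd (𝟙 (s X))).v p p (add_zero p) ≫ G.f p := by
      rw [mappingCone.ext_from_iff _ (p + 1) p rfl]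
      simp [F, mappingCone.map]
    rw [mappingCone.ext_to_iff _ _ _ rfl]
    constructor
    · rw [← cancel_mono (G.f (p + 1)), assoc, assoc, ← h1, reassoc_of% hab]
    · rw [← cancel_mono (G.f p), assoc, assoc, ← h2, reassoc_of% hab]
  haveI := quasiIso_of_acyclic F (acyclic_mappingCone_id _) (acyclic_mappingCone_id _)
  obtain ⟨ψ, hψ⟩ := extension_of_acyclic I h F φ
  refine ⟨(e Y).inv ≫ (mappingCone.inl (𝟙 (s Y))).v (n + 1) n (by omega) ≫ ψ.f n, ?_⟩
  have key : G.f (n + 1) ≫ (mappingCone.inl (𝟙 (s Y))).v (n + 1) n (by omega) ≫ ψ.f n =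
      (e X).hom ≫ u := by
    have h1 : (mappingCone.inl (𝟙 (s X))).v (n + 1) n (by omega) ≫ F.f n =
        G.f (n + 1) ≫ (mappingCone.inl (𝟙 (s Y))).v (n + 1) n (by omega) := by
      simp [F, mappingCone.map]
    rw [← reassoc_of% h1]
    rw [← HomologicalComplex.comp_f, hψ]
    simp [φ, α, e, s]
  rw [← cancel_epi (e X).hom]
  refine Eq.trans ?_ key
  simp [G, e, s, HomologicalComplex.single_map_f_self]⟩

lemma isKInjective_of_extension : I.IsKInjective := ⟨fun {K} f hK => by
  haveI : Mono (mappingCone.inr (𝟙 K)) := HomologicalComplex.mono_of_mono_f _ fun p =>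
    mono_of_mono_fac (mappingCone.inr_f_snd_v (𝟙 K) p)
  haveI := quasiIso_of_acyclic (mappingCone.inr (𝟙 K)) hK (acyclic_mappingCone_id K)
  obtain ⟨ψ, hψ⟩ := extension_of_acyclic I h (mappingCone.inr (𝟙 K)) f
  exact ⟨(Homotopy.ofEq (by rw [id_comp, hψ])).trans
    ((((mappingCone.homotopyToZeroOfId K).compRight ψ).compLeft (mappingCone.inr (𝟙 K))).trans
      (Homotopy.ofEq (by rw [zero_comp, comp_zero])))⟩⟩

end Converse

end Groth.Agent.CohDer42
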