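import Groth.Agent.CohDer42.SmallAcyclic
import Groth.Agent.CohDer42.Extend
import Mathlib.CategoryTheory.Abelian.GrothendieckCategory.EnoughInjectives
import Mathlib.CategoryTheory.Abelian.CommSq

/-!
# K-injective resolutions in Grothendieck abelian categories
-/

universe v u

open CategoryTheory Category Limits HomologicalComplex
open scoped ZeroObject

set_option autoImplicit false
set_option linter.unusedSectionVars false
set_option backward.isDefEq.respectTransparency false

namespace Groth.Agent.CohDer42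

variable {A : Type u} [Category.{v} A] [Abelian A] [IsGrothendieckAbelian.{v} A]
  {κ : Type v} (Y : κ → CochainComplex A ℤ)

/-- the bounded complexes used for the generators -/
def MIndex : Type v :=
  Σ (k : κ) (σ : Set (Shrink.{v} (Subobject (Y k)))),
    Shrink.{v} (Subobject (∐ fun _ : σ => separator (CochainComplex A ℤ)))

/-- the bounded complex attached to an index -/
noncomputable def MObj (x : MIndex Y) : CochainComplex A ℤ :=
  cokernel ((equivShrink _).symm x.2.2).arrow

/-- the index type of the generators -/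
def GenIndex : Type v :=
  Σ x : MIndex Y, { t : Shrink.{v} (Subobject (MObj Y x)) // qisMono ((equivShrink _).symm t).arrow }

/-- generating monomorphisms with acyclic cokernel -/
noncomputable def gens : MorphismProperty (CochainComplex A ℤ) :=
  MorphismProperty.ofHoms (fun g : GenIndex Y => ((equivShrink _).symm g.2.1).arrow)

instance : MorphismProperty.IsSmall.{v} (gens Y) := by
  dsimp [gens]
  infer_instance

lemma gens_le : gens Y ≤ qisMono := by
  rintro _ _ _ ⟨g⟩
  exact g.2.2

lemma pushouts_gens_le : (gens Y).pushouts ≤ qisMono :=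
  (MorphismProperty.pushouts_monotone (gens_le Y)).trans MorphismProperty.pushouts_le

variable (hY : ∀ (Q : CochainComplex A ℤ), Q.Acyclic → ¬ IsZero Q →
  ∃ (k : κ) (u : Y k ⟶ Q), Mono u ∧ (Y k).Acyclic ∧ ¬ IsZero (Y k))

omit hY in
lemma step_core {X B Q' M T : CochainComplex A ℤ} (p : X ⟶ B) [Mono p] (u : Q' ⟶ cokernel p) [Mono u]
    (hQ' : Q'.Acyclic) (hQ'0 : ¬ IsZero Q') (f : M ⟶ B) [Mono f] (c : T ⟶ M) [Epi c]
    (e' : T ⟶ Q') [Epi e'] (h : c ≫ f ≫ cokernel.π p = e' ≫ u) :
    qisMono (pullback.snd p f) ∧ ¬ IsIso (pushout.inl (pullback.fst p f) (pullback.snd p f)) := by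
  let ψ : M ⟶ Q' := Abelian.monoLift u (f ≫ cokernel.π p) (by
    rw [← cancel_epi c, comp_zero, ← assoc, h, assoc, cokernel.condition, comp_zero])
  have hψ : ψ ≫ u = f ≫ cokernel.π p := Abelian.monoLift_comp _ _ _
  have : Epi ψ := by
    have h' : c ≫ ψ = e' := by
      rw [← cancel_mono u, assoc, hψ, h]
    exact epi_of_epi_fac h'
  have hz : pullback.snd p f ≫ ψ = 0 := by
    rw [← cancel_mono u, zero_comp, assoc, hψ, ← assoc, ← pullback.condition, assoc,
      cokernel.condition, comp_zero]
  have hex : (ShortComplex.mk _ _ hz).Exact := by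
    refine ShortComplex.exact_of_f_is_kernel _ (KernelFork.IsLimit.ofι' _ _ (fun {W} y hy => ?_))
    have hy' : (y ≫ f) ≫ cokernel.π p = 0 := by
      rw [assoc, ← hψ, ← assoc, (show y ≫ ψ = 0 from hy), zero_comp]
    exact ⟨pullback.lift ((ShortComplex.exact_cokernel p).lift (y ≫ f) hy') y
      ((ShortComplex.exact_cokernel p).lift_f _ _), pullback.lift_snd _ _ _⟩
  refine ⟨?_, fun hi => hQ'0 ?_⟩
  · have hS : (ShortComplex.mk _ _ hz).ShortExact := { exact := hex }
    exact ⟨inferInstance, quasiIso_of_shortExact hS hQ'⟩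
  · have hf0 : f ≫ cokernel.π p = 0 := by
      have : f = (pushout.inr _ _ ≫ inv (pushout.inl (pullback.fst p f) (pullback.snd p f))) ≫ p := by
        have e : pushout.inl (pullback.fst p f) (pullback.snd p f) ≫
            pushout.desc p f pullback.condition = p := pushout.inl_desc _ _ _
        calc f = pushout.inr (pullback.fst p f) (pullback.snd p f) ≫
              pushout.desc p f pullback.condition := (pushout.inr_desc _ _ _).symm
          _ = _ := by
            rw [assoc]
            congr 1
            exact (IsIso.eq_inv_comp _).2 e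
      rw [this, assoc, cokernel.condition, comp_zero]
    have hψ0 : ψ = 0 := by rw [← cancel_mono u, hψ, hf0, zero_comp]
    rw [IsZero.iff_id_eq_zero, ← cancel_epi ψ, hψ0, zero_comp, zero_comp]

omit hY in
lemma gens_arrow (x : MIndex Y) {N : CochainComplex A ℤ} (i : N ⟶ MObj Y x) [Mono i]
    (hi : qisMono i) : gens Y (Subobject.mk i).arrow := by
  have ht : qisMono (Subobject.mk i).arrow :=
    ((qisMono (A := A)).arrow_mk_iso_iff (Arrow.isoMk (Subobject.underlyingIso i)
      (Iso.refl _) (by simp))).2 hi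
  let gi : GenIndex Y :=
    ⟨x, equivShrink _ (Subobject.mk i), by rw [Equiv.symm_apply_apply]; exact ht⟩
  have h : gens Y ((equivShrink _).symm gi.2.1).arrow := ⟨gi⟩
  dsimp only [gi] at h
  rw [Equiv.symm_apply_apply] at h
  exact h

omit hY in
lemma exists_MObj (k : κ) {σ : Set (Shrink.{v} (Subobject (Y k)))} {B : CochainComplex A ℤ}
    (d : (∐ fun _ : σ => separator (CochainComplex A ℤ)) ⟶ B) :
    ∃ (x : MIndex Y) (f : MObj Y x ⟶ B)
      (c : (∐ fun _ : σ => separator (CochainComplex A ℤ)) ⟶ MObj Y x),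
      Mono f ∧ Epi c ∧ c ≫ f = d := by
  obtain ⟨s, ⟨e⟩⟩ := exists_quotient_iso (Abelian.factorThruImage d)
  refine ⟨⟨k, σ, s⟩, e.hom ≫ Abelian.image.ι d, Abelian.factorThruImage d ≫ e.inv,
    inferInstanceAs (Mono (e.hom ≫ Abelian.image.ι d)),
    inferInstanceAs (Epi (Abelian.factorThruImage d ≫ e.inv)), ?_⟩
  exact (assoc _ _ _).trans ((congrArg (Abelian.factorThruImage d ≫ ·)
    (Iso.inv_hom_id_assoc e _)).trans (Abelian.image.fac d))

include hY in
lemma exists_pushouts_gens {X B : CochainComplex A ℤ} (p : X ⟶ B) (hp : qisMono p) (hni : ¬ IsIso p) :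
    ∃ (X' : CochainComplex A ℤ) (i : X ⟶ X') (p' : X' ⟶ B) (_ : (gens Y).pushouts i)
      (_ : ¬ IsIso i) (_ : Mono p'), i ≫ p' = p := by
  have := hp.1
  have hQ0 : ¬ IsZero (cokernel p) := fun hz => hni (by
    have : Epi p := Preadditive.epi_of_isZero_cokernel p hz
    exact isIso_of_mono_of_epi p)
  obtain ⟨k, u, hu, hYk, hYk0⟩ := hY _ (acyclic_cokernel hp) hQ0
  obtain ⟨σ, g, hg⟩ := exists_small_cover (isSeparator_separator (CochainComplex A ℤ))
    (pullback.snd (cokernel.π p) u)
  obtain ⟨x, f, c, hf, hc, hcf⟩ := exists_MObj Y k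
    (Sigma.desc (fun s => g s ≫ pullback.fst (cokernel.π p) u))
  have h : c ≫ f ≫ cokernel.π p = Sigma.desc (fun t => g t ≫ pullback.snd _ u) ≫ u := by
    rw [← assoc, hcf]
    exact Sigma.hom_ext _ _ (fun t => by simp [pullback.condition])
  obtain ⟨hN, hno⟩ := step_core p u hYk hYk0 f c _ h
  exact ⟨pushout (pullback.fst p f) (pullback.snd p f), pushout.inl _ _,
    pushout.desc p f pullback.condition,
    ⟨_, _, (Subobject.mk (pullback.snd p f)).arrow,
      (Subobject.underlyingIso _).hom ≫ pullback.fst _ _,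
      pushout.inr _ _, gens_arrow Y x _ hN,
      (IsPushout.of_hasPushout (pullback.fst p f) (pullback.snd p f)).of_iso
        ((Subobject.underlyingIso _).symm) (Iso.refl _) (Iso.refl _)
        (Iso.refl _) (by simp) (by simp) (by simp) (by simp)⟩, hno,
    (IsPushout.of_hasPushout _ _).mono_of_isPullback_of_mono
      (IsPullback.of_hasPullback p f) _ (by simp) (by simp), by simp⟩

section Iteration

variable {X : CochainComplex A ℤ}

include hY in
lemma exists_larger (S : Subobject X) (h : qisMono S.arrow) (hS : S ≠ ⊤) :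
    ∃ (S' : Subobject X) (hle : S < S'), (gens Y).pushouts (Subobject.ofLE S S' hle.le) := by
  induction S using Subobject.ind with | _ f
  have hf : qisMono f :=
    ((qisMono (A := A)).arrow_mk_iso_iff (Arrow.isoMk (Subobject.underlyingIso f)
      (Iso.refl _) (by simp))).1 h
  obtain ⟨X', i, p', hi, hi', hp', fac⟩ := exists_pushouts_gens Y hY f hf
    (by simpa only [Subobject.isIso_iff_mk_eq_top] using hS)
  refine ⟨Subobject.mk p', Subobject.mk_lt_mk_of_comm i fac hi',
    (MorphismProperty.arrow_mk_iso_iff _ ?_).2 hi⟩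
  refine Arrow.isoMk (Subobject.underlyingIso f) (Subobject.underlyingIso p') ?_
  dsimp
  simp only [← cancel_mono p', assoc, fac,
    Subobject.underlyingIso_hom_comp_eq_mk, Subobject.ofLE_arrow]

open scoped Classical in
/-- enlarging a subobject by a generator -/
noncomputable def larger (S : Subobject X) : Subobject X :=
  if h : qisMono S.arrow ∧ S ≠ ⊤ then (exists_larger Y hY S h.1 h.2).choose else ⊤

lemma lt_larger (S : Subobject X) (hS : S ≠ ⊤) : S < larger Y hY S := by
  dsimp only [larger]
  split
  · next h => exact (exists_larger Y hY S h.1 h.2).choose_spec.choose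
  · exact lt_top_iff_ne_top.2 hS

lemma larger_top : larger Y hY (⊤ : Subobject X) = ⊤ := dif_neg (fun h => h.2 rfl)

lemma le_larger (S : Subobject X) : S ≤ larger Y hY S := by
  by_cases hS : S = ⊤
  · subst hS
    rw [larger_top]
  · exact (lt_larger Y hY S hS).le

lemma ofLE_larger_mem (S : Subobject X) (h : qisMono S.arrow) :
    (gens Y).pushouts (Subobject.ofLE S _ (le_larger Y hY S)) ∨
      IsIso (Subobject.ofLE S _ (le_larger Y hY S)) := by
  by_cases hS : S = ⊤
  · subst hS
    right
    have := (Subobject.isIso_arrow_iff_eq_top (larger Y hY (⊤ : Subobject X))).2 (larger_top Y hY)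
    exact IsIso.of_isIso_fac_right (Subobject.ofLE_arrow (le_larger Y hY (⊤ : Subobject X)))
  · left
    have e : (exists_larger Y hY S h hS).choose = larger Y hY S := by
      rw [larger, dif_pos ⟨h, hS⟩]
    refine (MorphismProperty.arrow_mk_iso_iff _ ?_).1
      (exists_larger Y hY S h hS).choose_spec.choose_spec
    exact Arrow.isoMk (Iso.refl _) (Subobject.isoOfEq _ _ e)

variable (A₀ : Subobject X) (J : Type v) [LinearOrder J] [OrderBot J] [SuccOrder J] [WellFoundedLT J]

/-- the iteration -/
@[simps]
noncomputable def iterMonoOver : J ⥤ MonoOver X where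
  obj j := MonoOver.mk (transfiniteIterate (larger Y hY) j A₀).arrow
  map {j j'} f := MonoOver.homMk (Subobject.ofLE _ _
      (monotone_transfiniteIterate _ _ (le_larger Y hY) (leOfHom f)))

/-- the iteration, as complexes -/
noncomputable abbrev iterFunctor : J ⥤ CochainComplex A ℤ :=
  iterMonoOver Y hY A₀ J ⋙ MonoOver.forget _ ⋙ Over.forget _

set_option backward.defeqAttrib.useBackward true in
instance : (iterFunctor Y hY A₀ J).IsWellOrderContinuous where
  nonempty_isColimit m hm := ⟨by
    have := hm.nonempty_Iio.to_subtype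
    let c := (Set.principalSegIio m).cocone (iterMonoOver Y hY A₀ J ⋙ MonoOver.forget _)
    have : Mono c.pt.hom := by dsimp [c]; infer_instance
    apply IsGrothendieckAbelian.isColimitMapCoconeOfSubobjectMkEqISup
      ((Set.principalSegIio m).monotone.functor ⋙ iterMonoOver Y hY A₀ J) c
    dsimp [c]
    simp only [Subobject.mk_arrow]
    exact transfiniteIterate_limit (larger Y hY) A₀ m hm⟩

variable (hA₀ : qisMono A₀.arrow)

lemma qisMono_arrow_of_map {j : J}
    (h : qisMono ((iterFunctor Y hY A₀ J).map (homOfLE bot_le : ⊥ ⟶ j)))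
    (h₀ : qisMono A₀.arrow) :
    qisMono (transfiniteIterate (larger Y hY) j A₀).arrow := by
  have hle : A₀ ≤ transfiniteIterate (larger Y hY) j A₀ := by
    conv_lhs => rw [← transfiniteIterate_bot (larger Y hY) A₀ (J := J)]
    exact monotone_transfiniteIterate _ _ (le_larger Y hY) bot_le
  have e : qisMono (Subobject.ofLE _ _ hle) := by
    refine ((qisMono (A := A)).arrow_mk_iso_iff ?_).2 h
    refine Arrow.isoMk (Subobject.isoOfEq _ _ (transfiniteIterate_bot _ _).symm) (Iso.refl _) ?_
    exact (Subobject.ofLE_comp_ofLE _ _ _ _ _).trans (comp_id _).symm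
  obtain ⟨_, _⟩ := e
  obtain ⟨_, h₀'⟩ := h₀
  have : QuasiIso (Subobject.ofLE _ _ hle ≫ (transfiniteIterate (larger Y hY) j A₀).arrow) := by
    rw [Subobject.ofLE_arrow]
    exact h₀'
  exact ⟨inferInstance, quasiIso_of_comp_left (Subobject.ofLE _ _ hle) _⟩

include hA₀ in
lemma qisMono_map_bot (j : J) :
    qisMono ((iterFunctor Y hY A₀ J).map (homOfLE bot_le : ⊥ ⟶ j)) := by
  induction j using SuccOrder.limitRecOn with
  | isMin a ha =>
    obtain rfl := ha.eq_bot
    rw [show (homOfLE bot_le : (⊥ : J) ⟶ ⊥) = 𝟙 _ from Subsingleton.elim _ _,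
      CategoryTheory.Functor.map_id]
    exact (qisMono (A := A)).id_mem _
  | succ a ha ih =>
    have e : (iterFunctor Y hY A₀ J).map (homOfLE bot_le : ⊥ ⟶ Order.succ a) =
        (iterFunctor Y hY A₀ J).map (homOfLE bot_le : ⊥ ⟶ a) ≫
          (iterFunctor Y hY A₀ J).map (homOfLE (Order.le_succ a)) := by
      rw [← Functor.map_comp]
      rfl
    rw [e]
    refine (qisMono (A := A)).comp_mem _ _ ih ?_
    have hW := qisMono_arrow_of_map Y hY A₀ J ih hA₀
    have hmem : qisMono (Subobject.ofLE _ _ (le_larger Y hY (transfiniteIterate (larger Y hY) a A₀))) := by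
      obtain h | h := ofLE_larger_mem Y hY _ hW
      · exact pushouts_gens_le Y _ h
      · exact ⟨inferInstance, inferInstance⟩
    refine ((qisMono (A := A)).arrow_mk_iso_iff ?_).1 hmem
    refine Arrow.isoMk (Iso.refl _) (Subobject.isoOfEq _ _ (transfiniteIterate_succ _ _ _ ha).symm) ?_
    exact (id_comp _).trans (Subobject.ofLE_comp_ofLE _ _ _ _ _).symm
  | isSuccLimit m hm ih =>
    have := hm.nonempty_Iio.to_subtype
    have : IsConnected (Set.Iio m) := IsFiltered.isConnected _
    let F := (Set.principalSegIio m).monotone.functor ⋙ iterFunctor Y hY A₀ J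
    let α : (Functor.const (Set.Iio m)).obj ((iterFunctor Y hY A₀ J).obj ⊥) ⟶ F :=
      { app := fun k => (iterFunctor Y hY A₀ J).map (homOfLE bot_le : ⊥ ⟶ k.1)
        naturality := fun k k' g =>
          (id_comp _).trans ((congrArg (iterFunctor Y hY A₀ J).map (Subsingleton.elim _
            ((homOfLE bot_le : (⊥ : J) ⟶ k.1) ≫ homOfLE (show k.1 ≤ k'.1 from leOfHom g)))).trans
              ((iterFunctor Y hY A₀ J).map_comp _ _)) }
    exact MorphismProperty.IsStableUnderColimitsOfShape.condition (W := qisMono (A := A))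
      (J := Set.Iio m) _ _ _ _ (isColimitConstCocone (Set.Iio m) _)
      ((iterFunctor Y hY A₀ J).isColimitOfIsWellOrderContinuous m hm) α (fun k => ih k.1 k.2)
      _ (fun k => (id_comp _).trans ((congrArg (iterFunctor Y hY A₀ J).map (Subsingleton.elim _
        ((homOfLE bot_le : (⊥ : J) ⟶ k.1) ≫ homOfLE (show k.1 ≤ m from le_of_lt k.2)))).trans
          ((iterFunctor Y hY A₀ J).map_comp _ _)))

include hA₀ in
lemma map_succ_llp (k k' : J) (hk : ¬ IsMax k) (e : Order.succ k = k') (φ : k ⟶ k') :
    (gens Y).rlp.llp ((iterFunctor Y hY A₀ J).map φ) := by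
  subst e
  obtain rfl : φ = homOfLE (Order.le_succ k) := Subsingleton.elim _ _
  have hW := qisMono_arrow_of_map Y hY A₀ J (qisMono_map_bot Y hY A₀ J hA₀ k) hA₀
  have h : (gens Y).rlp.llp
      (Subobject.ofLE _ _ (le_larger Y hY (transfiniteIterate (larger Y hY) k A₀))) := by
    obtain h | h := ofLE_larger_mem Y hY _ hW
    · exact ((MorphismProperty.pushouts_monotone (MorphismProperty.le_llp_rlp (gens Y))).trans
        MorphismProperty.pushouts_le) _ h
    · exact fun _ _ p _ => inferInstance
  refine (((gens Y).rlp.llp).arrow_mk_iso_iff ?_).1 h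
  refine Arrow.isoMk (Iso.refl _) (Subobject.isoOfEq _ _ (transfiniteIterate_succ _ _ _ hk).symm) ?_
  exact (id_comp _).trans (Subobject.ofLE_comp_ofLE _ _ _ _ _).symm

set_option backward.defeqAttrib.useBackward true in
/-- the composition up to a stage -/
noncomputable def transfiniteMapFromBot (hA : qisMono A₀.arrow) (j : J) :
    ((gens Y).rlp.llp).TransfiniteCompositionOfShape (Set.Iic j)
      ((iterFunctor Y hY A₀ J).map (homOfLE bot_le : ⊥ ⟶ j)) where
  F := (Set.initialSegIic j).monotone.functor ⋙ iterFunctor Y hY A₀ J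
  isoBot := Iso.refl _
  incl :=
    { app k := (iterFunctor Y hY A₀ J).map (homOfLE k.2)
      naturality k k' h := by
        simp [MonoOver.forget] }
  fac := by simp
  isColimit := colimitOfDiagramTerminal isTerminalTop _
  map_mem k hk := by
    exact map_succ_llp Y hY A₀ J hA k.1 _ (Set.not_isMax_coe _ hk)
      (congrArg Subtype.val (Set.Iic.succ_eq_of_not_isMax hk).symm)
      (homOfLE (show k.1 ≤ (Order.succ k).1 from Order.le_succ k))

end Iteration

include hY in
lemma qisMono_le_llp : qisMono ≤ (gens Y).rlp.llp := by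
  intro X B f hf
  have := hf.1
  let A₀ := Subobject.mk f
  have hA₀ : qisMono A₀.arrow :=
    ((qisMono (A := A)).arrow_mk_iso_iff (Arrow.isoMk (Subobject.underlyingIso f)
      (Iso.refl _) (by simp [A₀]))).2 hf
  let κ' := Order.succ (Cardinal.mk (Shrink.{v} (Subobject B)))
  have : Nonempty κ'.ord.ToType := by simp [κ']
  have := WellFoundedLT.toOrderBot κ'.ord.ToType
  have hκ : HasCardinalLT (Subobject B) (Cardinal.mk κ'.ord.ToType) :=
    lt_of_lt_of_le (Order.lt_succ _) (by simp [κ'])
  obtain ⟨j, hj⟩ : ∃ j : κ'.ord.ToType, transfiniteIterate (larger Y hY) j A₀ = ⊤ :=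
    top_mem_range_transfiniteIterate (larger Y hY) A₀ (lt_larger Y hY) (larger_top Y hY)
      (fun h => by simpa [hasCardinalLT_iff_cardinal_mk_lt] using hκ.of_injective _ h)
  have := (Subobject.isIso_arrow_iff_eq_top (transfiniteIterate (larger Y hY) j A₀)).2 hj
  have h : (gens Y).rlp.llp ((iterFunctor Y hY A₀ κ'.ord.ToType).map (homOfLE bot_le : ⊥ ⟶ j)) :=
    MorphismProperty.transfiniteCompositionsOfShape_le _ _ _
      (transfiniteMapFromBot Y hY A₀ _ hA₀ j).mem
  refine (((gens Y).rlp.llp).arrow_mk_iso_iff ?_).1 h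
  refine Arrow.isoMk (Subobject.isoOfEq _ _ (transfiniteIterate_bot _ _) ≪≫
    Subobject.underlyingIso f) (asIso (transfiniteIterate (larger Y hY) j A₀).arrow) ?_
  simp [iterMonoOver, MonoOver.forget, A₀]

instance : MorphismProperty.HasSmallObjectArgument.{v} (gens Y) := by
  obtain ⟨c, hc', hc⟩ := HasCardinalLT.exists_regular_cardinal_forall.{v}
    (fun x : MIndex Y => Subobject (MObj Y x))
  have : Fact c.IsRegular := ⟨hc'⟩
  have : Nonempty c.ord.ToType := by simpa using hc'.ne_zero
  have := WellFoundedLT.toOrderBot c.ord.ToType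
  exact ⟨c, inferInstance, inferInstance,
    { preservesColimit {A B X Y'} i hi f hf := by
        let hf' : (MorphismProperty.monomorphisms _).TransfiniteCompositionOfShape c.ord.ToType f :=
          { toTransfiniteCompositionOfShape := hf.toTransfiniteCompositionOfShape
            map_mem j hj := by
              have := (hf.attachCells j hj).pushouts_coproducts
              simp only [MorphismProperty.ofHoms_homFamily] at this
              refine (?_ : _ ≤ MorphismProperty.monomorphisms _) _ this
              simp only [MorphismProperty.pushouts_le_iff, MorphismProperty.coproducts_le_iff]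
              exact fun _ _ g hg => (gens_le Y g hg).1 }
        have (j j' : c.ord.ToType) (φ : j ⟶ j') : Mono (hf'.F.map φ) := hf'.mem_map φ
        apply IsGrothendieckAbelian.preservesColimit_coyoneda_obj_of_mono (Y := hf'.F) (κ := c)
        obtain ⟨g⟩ := hi
        exact Subobject.hasCardinalLT_of_mono (hc g.1) ((equivShrink _).symm g.2.1).arrow }⟩

lemma llp_rlp_gens_le : (gens Y).rlp.llp ≤ qisMono := by
  rw [MorphismProperty.llp_rlp_of_hasSmallObjectArgument]
  refine (MorphismProperty.retracts_monotone ?_).trans (MorphismProperty.retracts_le _)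
  refine (MorphismProperty.transfiniteCompositions_monotone ?_).trans
    (MorphismProperty.transfiniteCompositions_le _)
  exact (MorphismProperty.pushouts_monotone ((MorphismProperty.coproducts_monotone (gens_le Y)).trans
    (MorphismProperty.coproducts_le _))).trans MorphismProperty.pushouts_le

theorem exists_kinjective_resolution (M : CochainComplex A ℤ) :
    ∃ (I : CochainComplex A ℤ) (f : M ⟶ I), I.IsKInjective ∧ QuasiIso f ∧ (∀ n, Mono (f.f n)) ∧
      ∀ n, Injective (I.X n) := by
  obtain ⟨κ, Y, hY⟩ := exists_small_acyclic (A := A)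
  let d := (MorphismProperty.functorialFactorizationData (gens Y).rlp.llp (gens Y).rlp).factorizationData
    (0 : M ⟶ 0)
  obtain ⟨_, hq⟩ := llp_rlp_gens_le Y _ d.hi
  have hext : ∀ (S : ShortComplex (CochainComplex A ℤ)), S.ShortExact → S.X₃.Acyclic →
      ∀ φ : S.X₁ ⟶ d.Z, ∃ ψ : S.X₂ ⟶ d.Z, S.f ≫ ψ = φ := fun S hS h₃ φ => by
    have := hS.mono_f
    have := qisMono_le_llp Y hY S.f ⟨inferInstance, quasiIso_of_shortExact hS h₃⟩ d.p d.hp
    have sq : CommSq φ S.f d.p 0 := ⟨(isZero_zero _).eq_of_tgt _ _⟩
    exact ⟨sq.lift, sq.fac_left⟩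
  exact ⟨d.Z, d.i, isKInjective_of_extension d.Z hext, hq, fun n => inferInstance,
    injective_of_extension d.Z hext⟩

end Groth.Agent.CohDer42
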