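import Groth.Agent.Mod48.KInjDerived
import Groth.Agent.CohDer42.KInj
import Groth.Agent.CohDer42.ClassDerived

/-!
# Derived right adjoints on Grothendieck abelian categories
-/

universe w w' v v' u u'

open CategoryTheory Limits DerivedCategory

set_option autoImplicit false
set_option linter.unusedSectionVars false
set_option backward.isDefEq.respectTransparency false

namespace Groth.Agent.CohDer42.RdAdj

variable {A : Type u} [Category.{v} A] [Abelian A] [IsGrothendieckAbelian.{v} A] [HasDerivedCategory.{w} A]
  {B : Type u'} [Category.{v'} B] [Abelian B] [HasDerivedCategory.{w'} B]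

omit [HasDerivedCategory A] in
lemma enoughKInj : Mod48.EnoughKInj A := fun M =>
  let ⟨I, f, hI, hf, _⟩ := exists_kinjective_resolution M
  ⟨I, f, hI, hf⟩

variable {L : B ⥤ A} {R : A ⥤ B} [L.Additive] [R.Additive] (adj : L ⊣ R)
  [PreservesFiniteLimits L] [PreservesFiniteColimits L]
  (RF : DerivedCategory A ⥤ DerivedCategory B)
  (α : R.mapHomotopyCategory (ComplexShape.up ℤ) ⋙ Qh ⟶ Qh ⋙ RF)
  [RF.IsRightDerivedFunctor α (HomotopyCategory.quasiIso A (ComplexShape.up ℤ))]

/-- The derived adjunction. -/
noncomputable def adjRF : L.mapDerivedCategory ⊣ RF := Mod48.derivedAdj adj enoughKInj RF α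

/-- The counit of the derived adjunction is invertible when the one of the adjunction is. -/
lemma isIso_counit_app [IsIso adj.counit] (X : DerivedCategory A) : IsIso ((adjRF adj RF α).counit.app X) := by
  obtain ⟨I, hI, ⟨e⟩⟩ := Mod48.exists_Qh_iso_kInjective A enoughKInj X
  refine (NatTrans.isIso_app_iff_of_iso _ e).1 ?_
  let γ := L.mapDerivedCategoryFactorsh
  let Iq := (HomotopyCategory.quotient A (ComplexShape.up ℤ)).obj I
  have h : L.mapDerivedCategory.map (α.app Iq) ≫ (adjRF adj RF α).counit.app (Qh.obj Iq) =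
      γ.hom.app ((R.mapHomotopyCategory _).obj Iq) ≫ Qh.map ((Mod48.adjHomotopy adj).counit.app Iq) := by
    have : (L.mapDerivedCategory).IsLeftDerivedFunctor γ.hom (HomotopyCategory.quasiIso B (ComplexShape.up ℤ)) :=
      Functor.isLeftDerivedFunctor_of_inverts _ L.mapDerivedCategory γ
    have : (RF ⋙ L.mapDerivedCategory).IsRightDerivedFunctor
        (Functor.whiskerRight α L.mapDerivedCategory ≫ (Functor.associator _ _ _).hom)
        (HomotopyCategory.quasiIso A (ComplexShape.up ℤ)) :=
      Mod48.isRightDerivedFunctor_comp RF α enoughKInj L.mapDerivedCategory _ rfl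
    exact (Mod48.adjHomotopy adj).derivedε_fac_app (HomotopyCategory.quasiIso A (ComplexShape.up ℤ)) γ.hom α Iq
  have := Mod48.isIso_unit_of_kInjective RF α enoughKInj I hI
  have : IsIso (Mod48.cxCounit adj I) := by
    have : ∀ n, IsIso ((Mod48.cxCounit adj I).f n) := fun n => inferInstanceAs (IsIso (adj.counit.app (I.X n)))
    exact HomologicalComplex.Hom.isIso_of_components _
  have : IsIso ((Mod48.adjHomotopy adj).counit.app Iq) :=
    inferInstanceAs (IsIso ((HomotopyCategory.quotient A (ComplexShape.up ℤ)).map (Mod48.cxCounit adj I)))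
  exact IsIso.of_isIso_fac_left h

variable (R) in
/-- A right derived functor on homotopy categories. -/
noncomputable def rd : DerivedCategory A ⥤ DerivedCategory B :=
  have := Mod48.hasPointwiseLeftKanExtension_Qh (A := A) (F := R.mapHomotopyCategory (ComplexShape.up ℤ) ⋙ (Qh (C := B))) enoughKInj
  (DerivedCategory.Qh (C := A)).leftKanExtension (R.mapHomotopyCategory (ComplexShape.up ℤ) ⋙ Qh)

variable (R) in
/-- The unit of `rd`. -/
noncomputable def rdUnit : R.mapHomotopyCategory (ComplexShape.up ℤ) ⋙ Qh ⟶ Qh ⋙ rd R :=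
  have := Mod48.hasPointwiseLeftKanExtension_Qh (A := A) (F := R.mapHomotopyCategory (ComplexShape.up ℤ) ⋙ (Qh (C := B))) enoughKInj
  (DerivedCategory.Qh (C := A)).leftKanExtensionUnit _

omit [RF.IsRightDerivedFunctor α (HomotopyCategory.quasiIso A (ComplexShape.up ℤ))] in
instance isRightDerivedFunctor_rd :
    (rd R).IsRightDerivedFunctor (rdUnit R) (HomotopyCategory.quasiIso A (ComplexShape.up ℤ)) :=
  have := Mod48.hasPointwiseLeftKanExtension_Qh (A := A) (F := R.mapHomotopyCategory (ComplexShape.up ℤ) ⋙ (Qh (C := B))) enoughKInj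
  ⟨inferInstanceAs (((DerivedCategory.Qh : _ ⥤ DerivedCategory A).leftKanExtension _).IsLeftKanExtension
    ((DerivedCategory.Qh : _ ⥤ DerivedCategory A).leftKanExtensionUnit _))⟩

include adj in
/-- A derived functor defined on complexes is right adjoint to the derived exact left adjoint. -/
theorem nonempty_adj_of_complexes (RG : DerivedCategory A ⥤ DerivedCategory B)
    (β' : R.mapHomologicalComplex (ComplexShape.up ℤ) ⋙ Q ⟶ Q ⋙ RG)
    [RG.IsRightDerivedFunctor β' (HomologicalComplex.quasiIso A (ComplexShape.up ℤ))] :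
    Nonempty (L.mapDerivedCategory ⊣ RG) := by
  let q := HomotopyCategory.quotient A (ComplexShape.up ℤ)
  let β : R.mapHomologicalComplex (ComplexShape.up ℤ) ⋙ Q ⟶ Q ⋙ rd R :=
    { app := fun K => (quotientCompQhIso B).inv.app ((R.mapHomologicalComplex _).obj K) ≫
        (rdUnit R).app (q.obj K) ≫ (rd R).map ((quotientCompQhIso A).hom.app K)
      naturality := fun K M f => by
        have h1 := (quotientCompQhIso B).inv.naturality ((R.mapHomologicalComplex (ComplexShape.up ℤ)).map f)
        have h2 : (Qh (C := B)).map ((HomotopyCategory.quotient B (ComplexShape.up ℤ)).map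
              ((R.mapHomologicalComplex (ComplexShape.up ℤ)).map f)) ≫ (rdUnit R).app (q.obj M) =
            (rdUnit R).app (q.obj K) ≫ (rd R).map (Qh.map (q.map f)) :=
          (rdUnit R).naturality (q.map f)
        have h3 := (quotientCompQhIso A).hom.naturality f
        simp only [Functor.comp_map] at h1 h2 h3 ⊢
        rw [reassoc_of% h1, reassoc_of% h2, ← Functor.map_comp, h3, Functor.map_comp]
        simp only [Category.assoc] }
  have hβ : (rd R).IsRightDerivedFunctor β (HomologicalComplex.quasiIso A (ComplexShape.up ℤ)) := by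
    refine ClassDerived.isRightDerivedFunctor CochainComplex.IsKInjective β (fun K => ?_) (fun K hK => ?_)
    · obtain ⟨I, f, hI, hf, -⟩ := exists_kinjective_resolution K
      exact ⟨I, f, hI, inferInstance⟩
    · have := Mod48.isIso_unit_of_kInjective (rd R) (rdUnit R) enoughKInj K hK
      exact (inferInstance : IsIso ((quotientCompQhIso B).inv.app ((R.mapHomologicalComplex _).obj K) ≫
        (rdUnit R).app (q.obj K) ≫ (rd R).map ((quotientCompQhIso A).hom.app K)))
  exact ⟨(adjRF adj (rd R) (rdUnit R)).ofNatIsoRight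
    (Functor.rightDerivedUnique _ RG β β' (HomologicalComplex.quasiIso A (ComplexShape.up ℤ)))⟩

end Groth.Agent.CohDer42.RdAdj
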