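import Groth.Agent.RFPlus43.Acyclic
import Mathlib.CategoryTheory.Abelian.RightDerived
import Mathlib.CategoryTheory.Abelian.Injective.Extend
import Mathlib.Algebra.Homology.Embedding.ExtendHomology
import Mathlib.Algebra.Homology.Embedding.IsSupported

/-!
# Acyclicity for the derived functor on D⁺ versus the classical right derived functors
-/

universe w w' v v' u u'

open CategoryTheory Category Limits

set_option autoImplicit false
set_option linter.unusedSectionVars false
set_option backward.isDefEq.respectTransparency false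

namespace Groth.Agent.CohDer42

variable {C : Type u} [Category.{v} C] [Abelian C] {D : Type u'} [Category.{v'} D] [Abelian D]
  (G : C ⥤ D) [G.Additive]

local notation "eN" => ComplexShape.embeddingUpNat

/-- extension by zero commutes with additive functors -/
noncomputable def mapExtendIso (K : CochainComplex C ℕ) :
    HomologicalComplex.extend ((G.mapHomologicalComplex (ComplexShape.up ℕ)).obj K) eN ≅
      (G.mapHomologicalComplex (ComplexShape.up ℤ)).obj (K.extend eN) :=
  HomologicalComplex.Hom.isoOfComponents
    (fun n => if h : 0 ≤ n then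
        HomologicalComplex.extendXIso ((G.mapHomologicalComplex (ComplexShape.up ℕ)).obj K) eN
          (i := n.toNat) (show (n.toNat : ℤ) = n by lia) ≪≫
          G.mapIso (HomologicalComplex.extendXIso K eN
            (i := n.toNat) (show (n.toNat : ℤ) = n by lia)).symm
      else IsZero.iso
        (HomologicalComplex.isZero_extend_X _ eN n (fun k hk => h (by simp at hk; lia)))
        (G.map_isZero (HomologicalComplex.isZero_extend_X _ eN n (fun k hk => h (by simp at hk; lia)))))
    (fun i j hij => by
      simp only [ComplexShape.up_Rel] at hij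
      by_cases hi : 0 ≤ i
      · have hj : 0 ≤ j := by lia
        simp only [dif_pos hi, dif_pos hj, Iso.trans_hom, Functor.mapIso_hom, Iso.symm_hom,
          Functor.mapHomologicalComplex_obj_d, assoc]
        rw [HomologicalComplex.extend_d_eq _ _ (i := i.toNat) (j := j.toNat)
            (show (i.toNat : ℤ) = i by lia) (show (j.toNat : ℤ) = j by lia),
          HomologicalComplex.extend_d_eq _ _ (i := i.toNat) (j := j.toNat)
            (show (i.toNat : ℤ) = i by lia) (show (j.toNat : ℤ) = j by lia)]
        simp [← Functor.map_comp]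
      · exact (HomologicalComplex.isZero_extend_X _ eN i
          (fun k hk => hi (by simp at hk; lia))).eq_of_src _ _)

lemma extendMap_single_comp (K : CochainComplex C ℕ) {X : C}
    (φ : (CochainComplex.single₀ C).obj X ⟶ K) :
    (G.mapHomologicalComplex (ComplexShape.up ℤ)).map (HomologicalComplex.extendMap φ eN) =
      (mapExtendIso G ((CochainComplex.single₀ C).obj X)).inv ≫
        HomologicalComplex.extendMap ((G.mapHomologicalComplex (ComplexShape.up ℕ)).map φ) eN ≫
          (mapExtendIso G K).hom := by
  rw [Iso.eq_inv_comp]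
  ext n
  by_cases hn : 0 ≤ n
  · simp only [HomologicalComplex.comp_f, Functor.mapHomologicalComplex_map_f, mapExtendIso,
      HomologicalComplex.Hom.isoOfComponents_hom_f, dif_pos hn, Iso.trans_hom, Functor.mapIso_hom,
      Iso.symm_hom, assoc]
    rw [HomologicalComplex.extendMap_f _ _ (i := n.toNat) (show (n.toNat : ℤ) = n by lia),
      HomologicalComplex.extendMap_f _ _ (i := n.toNat) (show (n.toNat : ℤ) = n by lia)]
    simp [← Functor.map_comp]
  · exact (HomologicalComplex.isZero_extend_X _ eN n
      (fun k hk => hn (by simp at hk; lia))).eq_of_src _ _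

/-- a map from an object in degree zero, seen on `ℤ` or on `ℕ` -/
lemma quasiIso_map_ι'_iff {X : C} (R : InjectiveResolution X) :
    QuasiIso ((G.mapHomologicalComplex (ComplexShape.up ℤ)).map R.ι') ↔
      QuasiIso ((G.mapHomologicalComplex (ComplexShape.up ℕ)).map R.ι) := by
  have h : (G.mapHomologicalComplex (ComplexShape.up ℤ)).map R.ι' =
      ((G.mapHomologicalComplex (ComplexShape.up ℤ)).mapIso
          (HomologicalComplex.extendSingleIso eN X 0 0 (by simp)).symm ≪≫
        (mapExtendIso G ((CochainComplex.single₀ C).obj X)).symm).hom ≫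
      HomologicalComplex.extendMap ((G.mapHomologicalComplex (ComplexShape.up ℕ)).map R.ι) eN ≫
      (mapExtendIso G R.cocomplex).hom := by
    rw [Iso.trans_hom, Iso.symm_hom, assoc, ← extendMap_single_comp, Functor.mapIso_hom,
      ← Functor.map_comp]
    rfl
  rw [h, quasiIso_iff_comp_left, quasiIso_iff_comp_right, HomologicalComplex.quasiIso_extendMap_iff]

lemma toRightDerivedZero'_comp {X : C} (R : InjectiveResolution X) :
    (HomologicalComplex.singleObjXSelf (ComplexShape.up ℕ) 0 (G.obj X)).hom ≫
        (R.toRightDerivedZero' G ≫ HomologicalComplex.iCycles _ _) =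
      (HomologicalComplex.singleObjXSelf (ComplexShape.up ℕ) 0 (G.obj X)).hom ≫ G.map (R.ι.f 0) := by
  rw [InjectiveResolution.toRightDerivedZero'_comp_iCycles]

lemma quasiIso_map_ι_iff [EnoughInjectives C] {X : C} (R : InjectiveResolution X) :
    QuasiIso ((G.mapHomologicalComplex (ComplexShape.up ℕ)).map R.ι) ↔
      (IsIso (G.toRightDerivedZero.app X) ∧ ∀ i : ℕ, 0 < i → IsZero ((G.rightDerived i).obj X)) := by
  let φ : (CochainComplex.single₀ D).obj (G.obj X) ⟶
      (G.mapHomologicalComplex (ComplexShape.up ℕ)).obj R.cocomplex :=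
    (HomologicalComplex.singleMapHomologicalComplex G (ComplexShape.up ℕ) 0).inv.app X ≫
      (G.mapHomologicalComplex (ComplexShape.up ℕ)).map R.ι
  have hφ : QuasiIso φ ↔ QuasiIso ((G.mapHomologicalComplex (ComplexShape.up ℕ)).map R.ι) :=
    quasiIso_iff_comp_left _ _
  rw [← hφ, quasiIso_iff]
  have hpos : ∀ i : ℕ, 0 < i → (QuasiIsoAt φ i ↔ IsZero ((G.rightDerived i).obj X)) := by
    intro i hi
    have h1 : ((CochainComplex.single₀ D).obj (G.obj X)).ExactAt i :=
      HomologicalComplex.exactAt_single_obj _ _ _ _ (by lia)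
    rw [quasiIsoAt_iff_exactAt φ i h1, HomologicalComplex.exactAt_iff_isZero_homology]
    exact (R.isoRightDerivedObj G i).symm.isZero_iff
  have h0 : QuasiIsoAt φ 0 ↔ IsIso (G.toRightDerivedZero.app X) := by
    have hz : ((CochainComplex.single₀ D).obj (G.obj X)).d 0 1 = 0 := rfl
    have hcyc : HomologicalComplex.cyclesMap φ 0 =
        ((CochainComplex.single₀ D).obj (G.obj X)).iCycles 0 ≫
          (HomologicalComplex.singleObjXSelf (ComplexShape.up ℕ) 0 (G.obj X)).hom ≫
            R.toRightDerivedZero' G := by
      rw [← cancel_mono (HomologicalComplex.iCycles _ 0), HomologicalComplex.cyclesMap_i, assoc,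
        assoc, InjectiveResolution.toRightDerivedZero'_comp_iCycles]
      congr 1
    have : IsIso (((CochainComplex.single₀ D).obj (G.obj X)).iCycles 0) :=
      HomologicalComplex.isIso_iCycles _ 0 1 (by simp) hz
    rw [quasiIsoAt_iff_isIso_homologyMap, R.toRightDerivedZero_eq G,
      isIso_comp_right_iff]
    have hπ : ((CochainComplex.single₀ D).obj (G.obj X)).homologyπ 0 ≫
        HomologicalComplex.homologyMap φ 0 = HomologicalComplex.cyclesMap φ 0 ≫
          (CochainComplex.isoHomologyπ₀ _).hom := HomologicalComplex.homologyπ_naturality φ 0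
    have i1 : IsIso (((CochainComplex.single₀ D).obj (G.obj X)).homologyπ 0) :=
      (CochainComplex.isoHomologyπ₀ _).isIso_hom
    rw [← isIso_comp_left_iff (((CochainComplex.single₀ D).obj (G.obj X)).homologyπ 0), hπ,
      isIso_comp_right_iff, hcyc, isIso_comp_left_iff, isIso_comp_left_iff]
  constructor
  · intro h
    exact ⟨h0.1 (h 0), fun i hi => (hpos i hi).1 (h i)⟩
  · rintro ⟨h, h'⟩ i
    rcases Nat.eq_zero_or_pos i with rfl | hi
    · exact h0.2 h
    · exact (hpos i hi).2 (h' i hi)

variable [HasDerivedCategory.{w} C] [EnoughInjectives C] [HasDerivedCategory.{w'} D]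

lemma isAc_iff_quasiIso {X : C} (R : InjectiveResolution X) :
    RFPlus43.IsAc G X ↔ QuasiIso ((G.mapHomologicalComplex (ComplexShape.up ℤ)).map R.ι') := by
  let J : CochainComplex.Plus C := ⟨R.cochainComplex, 0, inferInstance⟩
  let s : RFPlus43.singleP.obj X ⟶ J := ObjectProperty.homMk R.ι'
  let q := (HomotopyCategory.Plus.quotient C).map s
  have h2 : IsIso ((RFPlus43.RGK G).map q) := by
    have : IsIso (DerivedCategory.Plus.Qh.map q) :=
      Localization.inverts DerivedCategory.Plus.Qh (HomotopyCategory.Plus.quasiIso C) q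
        ((HomotopyCategory.quotient_map_mem_quasiIso_iff _).2
          ((HomologicalComplex.mem_quasiIso_iff _).2 (inferInstanceAs (QuasiIso R.ι'))))
    exact inferInstanceAs (IsIso (DerivedCategory.Plus.ι.map (G.rightDerivedFunctorPlus.map
      (DerivedCategory.Plus.Qh.map q))))
  have h3 : IsIso ((RFPlus43.unitK G).app ((HomotopyCategory.Plus.quotient C).obj J)) := by
    refine (RFPlus43.isIso_unitK_iff G _).2 ?_
    have : ∀ n : ℤ, Injective (((HomotopyCategory.Plus.quotient C).obj J).obj.as.X n) := fun n =>
      inferInstanceAs (Injective (R.cochainComplex.X n))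
    infer_instance
  have hnat := (RFPlus43.unitK G).naturality q
  have key : IsIso ((RFPlus43.GK G).map q) ↔
      IsIso ((RFPlus43.unitK G).app ((HomotopyCategory.Plus.quotient C).obj (RFPlus43.singleP.obj X))) := by
    rw [← isIso_comp_right_iff ((RFPlus43.GK G).map q) ((RFPlus43.unitK G).app _), hnat,
      isIso_comp_right_iff]
  refine key.symm.trans ?_
  rw [RFPlus43.isIso_GK_map_iff]
  exact (HomotopyCategory.quotient_map_mem_quasiIso_iff _).trans (HomologicalComplex.mem_quasiIso_iff _)

/-- the two notions of acyclicity agree -/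
theorem isAc_iff (X : C) :
    RFPlus43.IsAc G X ↔
      (IsIso (G.toRightDerivedZero.app X) ∧ ∀ i : ℕ, 0 < i → IsZero ((G.rightDerived i).obj X)) := by
  rw [isAc_iff_quasiIso G (injectiveResolution X), quasiIso_map_ι'_iff, quasiIso_map_ι_iff]

lemma isAc_iff_unit (X : C) :
    RFPlus43.IsAc G X ↔
      IsIso (G.rightDerivedFunctorPlusUnit.app ((HomotopyCategory.Plus.singleFunctor C 0).obj X)) :=
  RFPlus43.isIso_unitK_iff G _

end Groth.Agent.CohDer42
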