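import Groth.Agent.CohDer42.TowerLim
import Groth.Agent.Mod48.PushLoc
import Groth.Agent.Mod48.DerivedProd
import Mathlib.Algebra.Homology.DerivedCategory.Fractions
import Mathlib.Algebra.Homology.ShortComplex.ExactFunctor
import Groth.Prelude.Def_DCoh2

/-!
# Right derived functors commute with derived limits

The first section is the generic part of helper48's `Mod48/PushProd.lean`, repeated here to avoid its imports.
-/

universe w w' v v' u u' t

open CategoryTheory CategoryTheory.Limits CategoryTheory.Pretriangulated DerivedCategory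
open Groth.Agent.Mod48

namespace Groth.Agent.CohDer42.RlimRight

section General

variable {A : Type u} [Category.{v} A] [Abelian A] [HasDerivedCategory.{w} A]

lemma Q_map_surjective_kInjective {M I : CochainComplex A ℤ} (hI : I.IsKInjective) (g : Q.obj M ⟶ Q.obj I) :
    ∃ φ : M ⟶ I, Q.map φ = g := by
  obtain ⟨φ', hφ'⟩ := (CochainComplex.IsKInjective.Qh_map_bijective
    ((HomotopyCategory.quotient A (ComplexShape.up ℤ)).obj M) I).2
    ((quotientCompQhIso A).hom.app M ≫ g ≫ (quotientCompQhIso A).inv.app I)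
  obtain ⟨φ, rfl⟩ := (HomotopyCategory.quotient A (ComplexShape.up ℤ)).map_surjective φ'
  refine ⟨φ, ?_⟩
  have h : Qh.map ((HomotopyCategory.quotient A (ComplexShape.up ℤ)).map φ) ≫ (quotientCompQhIso A).hom.app I =
      (quotientCompQhIso A).hom.app M ≫ Q.map φ := (quotientCompQhIso A).hom.naturality φ
  rw [hφ'] at h
  rw [← cancel_epi ((quotientCompQhIso A).hom.app M), ← h]
  exact (Category.assoc _ _ _).trans (congrArg (_ ≫ ·) ((Category.assoc _ _ _).trans
    ((congrArg (g ≫ ·) ((quotientCompQhIso A).inv_hom_id_app I)).trans (Category.comp_id g))))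

lemma nonempty_homotopy_of_Q_map_eq {M I : CochainComplex A ℤ} (hI : I.IsKInjective) {φ ψ : M ⟶ I}
    (h : Q.map φ = Q.map ψ) : Nonempty (Homotopy φ ψ) := by
  refine ⟨HomotopyCategory.homotopyOfEq _ _ ((CochainComplex.IsKInjective.Qh_map_bijective _ I).1 ?_)⟩
  have h1 : ∀ χ : M ⟶ I, Qh.map ((HomotopyCategory.quotient A (ComplexShape.up ℤ)).map χ) ≫
      (quotientCompQhIso A).hom.app I = (quotientCompQhIso A).hom.app M ≫ Q.map χ :=
    fun χ => (quotientCompQhIso A).hom.naturality χ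
  exact (cancel_mono ((quotientCompQhIso A).hom.app I)).1 ((h1 φ).trans ((congrArg (_ ≫ ·) h).trans (h1 ψ).symm))

/-- Products of K-injective complexes are products in the derived category. -/
lemma Q_pi_bijective {ι : Type t} [HasProductsOfShape ι A] (I : ι → CochainComplex A ℤ)
    (hI : ∀ k, (I k).IsKInjective) (Z : DerivedCategory A) :
    Function.Bijective fun g : Z ⟶ Q.obj (∏ᶜ I) => fun k => g ≫ Q.map (Pi.π I k) := by
  obtain ⟨M, ⟨e⟩⟩ : ∃ M : CochainComplex A ℤ, Nonempty (Q.obj M ≅ Z) := ⟨_, ⟨Q.objObjPreimageIso Z⟩⟩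
  have hP : (∏ᶜ I).IsKInjective := Mod48.isKInjective_pi I hI
  refine ⟨fun g g' h => ?_, fun f => ?_⟩
  · obtain ⟨φ, hφ⟩ := Q_map_surjective_kInjective hP (e.hom ≫ g)
    obtain ⟨φ', hφ'⟩ := Q_map_surjective_kInjective hP (e.hom ≫ g')
    have hk : ∀ k, Nonempty (Homotopy (φ ≫ Pi.π I k) (φ' ≫ Pi.π I k)) := fun k => by
      refine nonempty_homotopy_of_Q_map_eq (hI k) ?_
      have := congrFun h k
      rw [Functor.map_comp, Functor.map_comp, hφ, hφ', Category.assoc, Category.assoc]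
      exact congrArg (e.hom ≫ ·) this
    have : Homotopy φ φ' := Homotopy.equivSubZero.symm (piHomotopy I _ fun k =>
      (Homotopy.ofEq (Preadditive.sub_comp _ _ _)).trans (Homotopy.equivSubZero (hk k).some))
    rw [← cancel_epi e.hom, ← hφ, ← hφ', Q_map_eq_of_homotopy A this]
  · choose φ hφ using fun k => Q_map_surjective_kInjective (hI k) (e.hom ≫ f k)
    refine ⟨e.inv ≫ Q.map (Pi.lift φ), funext fun k => ?_⟩
    change (e.inv ≫ Q.map (Pi.lift φ)) ≫ Q.map (Pi.π I k) = f k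
    rw [Category.assoc, ← Functor.map_comp, Pi.lift_π, hφ, Iso.inv_hom_id_assoc]

variable {B : Type u'} [Category.{v'} B] [Abelian B] [HasDerivedCategory.{w'} B] {R : A ⥤ B} [R.Additive]
  (RF : DerivedCategory A ⥤ DerivedCategory B)
  (α : R.mapHomotopyCategory (ComplexShape.up ℤ) ⋙ Qh ⟶ Qh ⋙ RF)
  (hα : ∀ I : CochainComplex A ℤ, I.IsKInjective →
      IsIso (α.app ((HomotopyCategory.quotient A (ComplexShape.up ℤ)).obj I)))

include α hα in
lemma additive_push (hA : EnoughKInj A) : RF.Additive := by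
  refine ⟨fun {X Y f g} => ?_⟩
  obtain ⟨I, hI, ⟨eX⟩⟩ := exists_Qh_iso_kInjective A hA X
  obtain ⟨I', hI', ⟨eY⟩⟩ := exists_Qh_iso_kInjective A hA Y
  let e := ((quotientCompQhIso A).app I).symm ≪≫ eX
  let e' := ((quotientCompQhIso A).app I').symm ≪≫ eY
  have := LocGen.isIso_unitQ RF α hα I hI
  obtain ⟨φ, hφ⟩ := Q_map_surjective_kInjective hI' (e.hom ≫ f ≫ e'.inv)
  obtain ⟨ψ, hψ⟩ := Q_map_surjective_kInjective hI' (e.hom ≫ g ≫ e'.inv)
  have hf : f = e.inv ≫ Q.map φ ≫ e'.hom := by rw [hφ]; simp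
  have hg : g = e.inv ≫ Q.map ψ ≫ e'.hom := by rw [hψ]; simp
  have hfg : f + g = e.inv ≫ Q.map (φ + ψ) ≫ e'.hom := by
    rw [Functor.map_add, Preadditive.add_comp, Preadditive.comp_add, ← hf, ← hg]
  have hadd : RF.map (Q.map (φ + ψ)) = RF.map (Q.map φ) + RF.map (Q.map ψ) := by
    rw [← cancel_epi (LocGen.unitQ RF α I), Preadditive.comp_add, ← LocGen.unitQ_naturality, ← LocGen.unitQ_naturality,
      ← LocGen.unitQ_naturality, Functor.map_add, Functor.map_add, Preadditive.add_comp]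
  rw [hfg, RF.map_comp, RF.map_comp, hadd, hf, hg]
  simp only [RF.map_comp, Preadditive.add_comp, Preadditive.comp_add]

open CochainComplex in
include hα in
/-- The derived functor sends distinguished triangles to distinguished triangles. -/
lemma exists_distinguished_push (hA : EnoughKInj A) {X Y Z : DerivedCategory A} (a : X ⟶ Y) (b : Y ⟶ Z)
    (c : Z ⟶ X⟦(1 : ℤ)⟧) (hT : Triangle.mk a b c ∈ distinguishedTriangles) :
    ∃ c' : RF.obj Z ⟶ (RF.obj X)⟦(1 : ℤ)⟧,
      Triangle.mk (RF.map a) (RF.map b) c' ∈ distinguishedTriangles := by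
  obtain ⟨I, hI, ⟨eX⟩⟩ := exists_Qh_iso_kInjective A hA X
  obtain ⟨I', hI', ⟨eY⟩⟩ := exists_Qh_iso_kInjective A hA Y
  let e := ((quotientCompQhIso A).app I).symm ≪≫ eX
  let e' := ((quotientCompQhIso A).app I').symm ≪≫ eY
  obtain ⟨φ, hφ⟩ := Q_map_surjective_kInjective hI' (e.hom ≫ a ≫ e'.inv)
  have hcone : (mappingCone φ).IsKInjective := by
    refine ⟨fun {K} f hK => ⟨HomotopyCategory.homotopyOfEq _ _ ?_⟩⟩
    rw [Functor.map_zero]
    have h3 : (I⟦(1 : ℤ)⟧).IsKInjective := inferInstance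
    have hd : (HomotopyCategory.quotient A (ComplexShape.up ℤ)).map f ≫ (mappingCone.triangleh φ).mor₃ = 0 := by
      have e : (HomotopyCategory.quotient A (ComplexShape.up ℤ)).map f ≫
          (HomotopyCategory.quotient A (ComplexShape.up ℤ)).map (mappingCone.triangle φ).mor₃ = 0 := by
        rw [← Functor.map_comp, ← Functor.map_zero]
        exact HomotopyCategory.eq_of_homotopy _ _ (h3.nonempty_homotopy_zero _ hK).some
      exact (Category.assoc _ _ _).symm.trans ((congrArg (· ≫ _) e).trans zero_comp)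
    obtain ⟨g, hg⟩ := Triangle.coyoneda_exact₃ _ (HomotopyCategory.mappingCone_triangleh_distinguished φ)
      ((HomotopyCategory.quotient A (ComplexShape.up ℤ)).map f) hd
    obtain ⟨g', rfl⟩ : ∃ g' : K ⟶ I', (HomotopyCategory.quotient A (ComplexShape.up ℤ)).map g' = g :=
      (HomotopyCategory.quotient A (ComplexShape.up ℤ)).map_surjective g
    exact hg.trans ((congrArg (· ≫ _) ((HomotopyCategory.eq_of_homotopy _ _ (hI'.nonempty_homotopy_zero g' hK).some).trans
      (Functor.map_zero _ _ _))).trans zero_comp)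
  have hT' : Q.mapTriangle.obj (mappingCone.triangle φ) ∈ distinguishedTriangles :=
    (DerivedCategory.mem_distTriang_iff _).2 ⟨_, _, φ, ⟨Iso.refl _⟩⟩
  let T := Q.mapTriangle.obj (mappingCone.triangle φ)
  obtain ⟨θ, hθ₂, hθ₃⟩ : ∃ θ : Q.obj (mappingCone φ) ⟶ Z, Q.map (mappingCone.inr φ) ≫ θ = e'.hom ≫ b ∧
      T.mor₃ ≫ e.hom⟦(1 : ℤ)⟧' = θ ≫ c := complete_distinguished_triangle_morphism T (Triangle.mk a b c) hT' hT e.hom e'.hom (by
        change Q.map φ ≫ e'.hom = e.hom ≫ a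
        rw [hφ]; simp)
  have hθ : IsIso θ := isIso₃_of_isIso₁₂ (Triangle.homMk T (Triangle.mk a b c) e.hom e'.hom θ
    (by change Q.map φ ≫ e'.hom = e.hom ≫ a; rw [hφ]; simp) hθ₂ hθ₃) hT' hT e.isIso_hom e'.isIso_hom
  let κ : Q.obj (mappingCone ((R.mapHomologicalComplex (ComplexShape.up ℤ)).map φ)) ⟶ RF.obj Z :=
    Q.map (mappingCone.mapHomologicalComplexIso φ R).inv ≫ LocGen.unitQ RF α (mappingCone φ) ≫ RF.map θ
  have := LocGen.isIso_unitQ RF α hα I hI
  have := LocGen.isIso_unitQ RF α hα I' hI'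
  have := LocGen.isIso_unitQ RF α hα (mappingCone φ) hcone
  have : IsIso κ := inferInstanceAs (IsIso (_ ≫ _ ≫ _))
  let S := Q.mapTriangle.obj (mappingCone.triangle ((R.mapHomologicalComplex (ComplexShape.up ℤ)).map φ))
  let u₁ := asIso (LocGen.unitQ RF α I) ≪≫ RF.mapIso e
  let u₂ := asIso (LocGen.unitQ RF α I') ≪≫ RF.mapIso e'
  refine ⟨inv κ ≫ S.mor₃ ≫ u₁.hom⟦(1 : ℤ)⟧', isomorphic_distinguished S
    ((DerivedCategory.mem_distTriang_iff _).2 ⟨_, _, _, ⟨Iso.refl _⟩⟩) _ (Triangle.isoMk _ _ u₁.symm u₂.symm (asIso κ).symm ?_ ?_ ?_)⟩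
  · change RF.map a ≫ u₂.inv = u₁.inv ≫ Q.map ((R.mapHomologicalComplex (ComplexShape.up ℤ)).map φ)
    rw [Iso.comp_inv_eq, Category.assoc, Iso.eq_inv_comp]
    simp only [u₁, u₂, Iso.trans_hom, asIso_hom, Functor.mapIso_hom, Category.assoc]
    rw [← Category.assoc (Q.map _), LocGen.unitQ_naturality, Category.assoc, ← RF.map_comp, ← RF.map_comp, hφ]
    simp
  · change RF.map b ≫ inv κ = u₂.inv ≫ Q.map (mappingCone.inr _)
    rw [IsIso.comp_inv_eq, Category.assoc, Iso.eq_inv_comp]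
    have hi : Q.map (mappingCone.inr ((R.mapHomologicalComplex (ComplexShape.up ℤ)).map φ)) ≫
        Q.map (mappingCone.mapHomologicalComplexIso φ R).inv =
        Q.map ((R.mapHomologicalComplex (ComplexShape.up ℤ)).map (mappingCone.inr φ)) := by
      rw [← Functor.map_comp, ← mappingCone.map_inr φ R, Category.assoc]
      simp
    simp only [u₂, κ, Iso.trans_hom, asIso_hom, Functor.mapIso_hom, Category.assoc]
    rw [reassoc_of% hi, ← Category.assoc (Q.map _), LocGen.unitQ_naturality, Category.assoc, ← RF.map_comp,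
      ← RF.map_comp, hθ₂]
  · change (inv κ ≫ S.mor₃ ≫ u₁.hom⟦(1 : ℤ)⟧') ≫ u₁.inv⟦(1 : ℤ)⟧' = inv κ ≫ S.mor₃
    refine (Category.assoc _ _ _).trans (congrArg (inv κ ≫ ·) ((Category.assoc _ _ _).trans ?_))
    exact (congrArg (S.mor₃ ≫ ·) (((CategoryTheory.shiftFunctor (DerivedCategory B) (1 : ℤ)).map_comp u₁.hom u₁.inv).symm.trans
      ((congrArg _ u₁.hom_inv_id).trans (CategoryTheory.Functor.map_id _ _)))).trans (Category.comp_id _)

end General

section ExactProducts

variable {B : Type u'} [Category.{v'} B] [Abelian B] [HasDerivedCategory.{w'} B]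
  [HasLimitsOfShape (Discrete ℕ) B]

lemma hasExactLimitsOfShape [(lim : (Discrete ℕ ⥤ B) ⥤ B).PreservesEpimorphisms] :
    HasExactLimitsOfShape (Discrete ℕ) B := by
  let F := (lim : (Discrete ℕ ⥤ B) ⥤ B)
  have : PreservesBinaryBiproducts F := preservesBinaryBiproducts_of_preservesBinaryProducts F
  have : F.Additive := Functor.additive_of_preservesBinaryBiproducts F
  have key : (∀ S : ShortComplex (Discrete ℕ ⥤ B), S.ShortExact → (S.map F).Exact ∧ Epi (F.map S.g)) ↔
      PreservesFiniteColimits F := (Functor.preservesFiniteColimits_tfae F).out 0 3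
  refine ⟨key.1 fun S hS => ⟨?_, ?_⟩⟩
  · exact ((Functor.preservesFiniteLimits_iff_forall_exact_map_and_mono F).1 inferInstance S hS).1
  · have := hS.epi_g
    infer_instance

lemma exists_homotopy_of_Q_map_eq_zero {X Y : CochainComplex B ℤ} {φ : X ⟶ Y} (h : Q.map φ = 0) :
    ∃ (Z : CochainComplex B ℤ) (t : Y ⟶ Z), QuasiIso t ∧ Nonempty (Homotopy (φ ≫ t) 0) := by
  let q := HomotopyCategory.quotient B (ComplexShape.up ℤ)
  have h0 : Qh.map (q.map φ) = Qh.map (q.map 0) := by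
    have e := quotientCompQhIso B
    rw [← cancel_mono (e.hom.app Y)]
    have h1 : Qh.map (q.map φ) ≫ e.hom.app Y = e.hom.app X ≫ Q.map φ := e.hom.naturality φ
    have h2 : Qh.map (q.map (0 : X ⟶ Y)) ≫ e.hom.app Y = e.hom.app X ≫ Q.map 0 := e.hom.naturality 0
    rw [h1, h2, h, Functor.map_zero]
  obtain ⟨Z, t, ht, he⟩ := (MorphismProperty.map_eq_iff_postcomp Qh
    (HomotopyCategory.quasiIso B (ComplexShape.up ℤ)) _ _).1 h0
  obtain ⟨Z, rfl⟩ := HomotopyCategory.quotient_obj_surjective Z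
  obtain ⟨t, rfl⟩ := q.map_surjective t
  refine ⟨Z, t, (HomologicalComplex.mem_quasiIso_iff _).1 ((HomotopyCategory.quotient_map_mem_quasiIso_iff _).1 ht),
    ⟨HomotopyCategory.homotopyOfEq _ _ ?_⟩⟩
  rw [Functor.map_comp, he, Functor.map_zero, zero_comp, Functor.map_zero]

variable [HasExactLimitsOfShape (Discrete ℕ) B]

lemma isIso_Q_piMap {X Y : ℕ → CochainComplex B ℤ} (t : ∀ k, X k ⟶ Y k) (h : ∀ k, QuasiIso (t k)) :
    IsIso (Q.map (Limits.Pi.map t)) :=
  (isIso_Q_map_iff_quasiIso (φ := Limits.Pi.map t)).2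
    ⟨fun i => TowerLim.quasiIsoAt_piMap t i fun k => (h k).quasiIsoAt i⟩

/-- Countable products of complexes are products in the derived category. -/
lemma Q_pi_bijective_of_exact (X : ℕ → CochainComplex B ℤ) (Z : DerivedCategory B) :
    Function.Bijective fun g : Z ⟶ Q.obj (∏ᶜ X) => fun k => g ≫ Q.map (Pi.π X k) := by
  obtain ⟨M, ⟨e⟩⟩ : ∃ M : CochainComplex B ℤ, Nonempty (Q.obj M ≅ Z) := ⟨_, ⟨Q.objObjPreimageIso Z⟩⟩
  refine ⟨fun g g' h => ?_, fun f => ?_⟩
  · suffices ∀ d : Q.obj M ⟶ Q.obj (∏ᶜ X), (∀ k, d ≫ Q.map (Pi.π X k) = 0) → d = 0 by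
      rw [← sub_eq_zero]
      refine (cancel_epi e.hom).1 ((this (e.hom ≫ (g - g')) fun k => ?_).trans comp_zero.symm)
      rw [Category.assoc, Preadditive.sub_comp]
      have := congrFun h k
      simp only at this
      rw [this, sub_self, comp_zero]
    intro d hd
    obtain ⟨M', s, hs, φ, rfl⟩ := DerivedCategory.right_fac d
    have hk : ∀ k, Q.map (φ ≫ Pi.π X k) = 0 := fun k => by
      rw [← cancel_epi (inv (Q.map s)), comp_zero, Functor.map_comp, ← Category.assoc]
      exact hd k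
    choose W t ht hht using fun k => exists_homotopy_of_Q_map_eq_zero (hk k)
    have H : Homotopy (φ ≫ Limits.Pi.map t) 0 := piHomotopy W _ fun k =>
      (Homotopy.ofEq (by simp)).trans (hht k).some
    have h0 : Q.map φ ≫ Q.map (Limits.Pi.map t) = 0 := by
      rw [← Functor.map_comp, DerivedCategory.Q_map_eq_of_homotopy _ H, Functor.map_zero]
    have := isIso_Q_piMap t ht
    rw [(cancel_mono (Q.map (Limits.Pi.map t))).1 (h0.trans zero_comp.symm), comp_zero]
  · choose W ψ t ht hψ using fun k => DerivedCategory.left_fac (e.hom ≫ f k)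
    have := fun k => (isIso_Q_map_iff_quasiIso (φ := t k)).1 (ht k)
    have := isIso_Q_piMap t this
    refine ⟨e.inv ≫ Q.map (Pi.lift ψ) ≫ inv (Q.map (Limits.Pi.map t)), funext fun k => ?_⟩
    change (e.inv ≫ Q.map (Pi.lift ψ) ≫ inv (Q.map (Limits.Pi.map t))) ≫ Q.map (Pi.π X k) = f k
    have := ht k
    have h1 : inv (Q.map (Limits.Pi.map t)) ≫ Q.map (Pi.π X k) = Q.map (Pi.π W k) ≫ inv (Q.map (t k)) := by
      rw [IsIso.inv_comp_eq, ← Category.assoc, IsIso.eq_comp_inv, ← Q.map_comp, ← Q.map_comp, Limits.Pi.map_π]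
    rw [Category.assoc, Category.assoc, h1, ← Q.map_comp_assoc, Limits.Pi.lift_π, ← hψ, Iso.inv_hom_id_assoc]

end ExactProducts

section Main

variable {A : Type u} [Category.{v} A] [Abelian A] [HasDerivedCategory.{w} A]
  {B : Type u'} [Category.{v'} B] [Abelian B] [HasDerivedCategory.{w'} B]
  [HasLimitsOfShape (Discrete ℕ) A] [HasLimitsOfShape (Discrete ℕ) B]
  [HasExactLimitsOfShape (Discrete ℕ) B] {R : A ⥤ B} [R.Additive]
  [PreservesLimitsOfShape (Discrete ℕ) R]
  (RF : DerivedCategory A ⥤ DerivedCategory B)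
  (α : R.mapHomotopyCategory (ComplexShape.up ℤ) ⋙ Qh ⟶ Qh ⋙ RF)
  (hα : ∀ I : CochainComplex A ℤ, I.IsKInjective →
      IsIso (α.app ((HomotopyCategory.quotient A (ComplexShape.up ℤ)).obj I)))

include α hα

theorem isIso_piComparison (hA : EnoughKInj A) (E : ℕ → DerivedCategory A) [HasProduct E]
    [HasProduct fun k => RF.obj (E k)] : IsIso (piComparison RF E) := by
  choose I hI he using fun k => exists_Qh_iso_kInjective A hA (E k)
  let e : ∀ k, Q.obj (I k) ≅ E k := fun k => ((quotientCompQhIso _).app (I k)).symm ≪≫ (he k).some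
  let FI : ℕ → CochainComplex B ℤ := fun k => (R.mapHomologicalComplex (ComplexShape.up ℤ)).obj (I k)
  let PI := ∏ᶜ I
  let PJ := ∏ᶜ FI
  let θ : Q.obj PI ⟶ ∏ᶜ E := Pi.lift fun k => Q.map (Pi.π I k) ≫ (e k).hom
  have hθ : IsIso θ := by
    obtain ⟨g, hg⟩ := (Q_pi_bijective I hI (∏ᶜ E)).2 fun k => Pi.π E k ≫ (e k).inv
    refine ⟨g, (Q_pi_bijective I hI (Q.obj PI)).1 (funext fun k => ?_), Pi.hom_ext _ _ fun k => ?_⟩
    · change (θ ≫ g) ≫ Q.map (Pi.π I k) = 𝟙 _ ≫ Q.map (Pi.π I k)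
      have := congrFun hg k
      change g ≫ Q.map (Pi.π I k) = _ at this
      rw [Category.assoc, this, Category.id_comp]
      simp [θ]
    · have := congrFun hg k
      change g ≫ Q.map (Pi.π I k) = _ at this
      simp [θ, reassoc_of% this]
  let w : (R.mapHomologicalComplex (ComplexShape.up ℤ)).obj PI ⟶ PJ :=
    Pi.lift fun k => (R.mapHomologicalComplex (ComplexShape.up ℤ)).map (Pi.π I k)
  have : ∀ n, IsIso (w.f n) := fun n => by
    let E' := HomologicalComplex.eval A (ComplexShape.up ℤ) n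
    let EB := HomologicalComplex.eval B (ComplexShape.up ℤ) n
    have h1 := isLimitFanMkObjOfIsLimit R _ _ (isLimitFanMkObjOfIsLimit E' I (Pi.π I) (productIsProduct I))
    have h2 := isLimitFanMkObjOfIsLimit EB FI (Pi.π FI) (productIsProduct FI)
    have e : (h1.conePointUniqueUpToIso h2).hom = w.f n := h2.hom_ext fun ⟨k⟩ =>
      (h1.conePointUniqueUpToIso_hom_comp h2 ⟨k⟩).trans
        (((HomologicalComplex.congr_hom (Pi.lift_π (fun k =>
          (R.mapHomologicalComplex (ComplexShape.up ℤ)).map (Pi.π I k)) k) n).symm))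
    exact e ▸ inferInstance
  have hw : IsIso w := HomologicalComplex.Hom.isIso_of_components _
  have hPI : PI.IsKInjective := Mod48.isKInjective_pi I hI
  have := LocGen.isIso_unitQ RF α hα PI hPI
  let a : Q.obj PJ ⟶ ∏ᶜ fun k => RF.obj (E k) :=
    inv (Q.map w) ≫ LocGen.unitQ RF α PI ≫ RF.map θ ≫ piComparison RF E
  have hu : ∀ k, IsIso (LocGen.unitQ RF α (I k)) := fun k => LocGen.isIso_unitQ RF α hα (I k) (hI k)
  let c : ∀ k, Q.obj (FI k) ≅ RF.obj (E k) := fun k =>
    @asIso _ _ _ _ (LocGen.unitQ RF α (I k)) (hu k) ≪≫ RF.mapIso (e k)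
  have hak : ∀ k, a ≫ Pi.π _ k = Q.map (Pi.π FI k) ≫ (c k).hom := fun k => by
    rw [← cancel_epi (Q.map w)]
    simp only [a, c, Category.assoc, piComparison_comp_π, IsIso.hom_inv_id_assoc, Iso.trans_hom,
      asIso_hom, Functor.mapIso_hom]
    rw [← Functor.map_comp RF, show θ ≫ Pi.π E k = Q.map (Pi.π I k) ≫ (e k).hom from Pi.lift_π _ _,
      Functor.map_comp, ← Category.assoc (LocGen.unitQ _ _ _), ← LocGen.unitQ_naturality, ← Q.map_comp_assoc w,
      Pi.lift_π]
    simp [Category.assoc]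
  have : IsIso a := by
    obtain ⟨g, hg⟩ := (Q_pi_bijective_of_exact FI (∏ᶜ fun k => RF.obj (E k))).2
      fun k => Pi.π (fun k => RF.obj (E k)) k ≫ (c k).inv
    refine ⟨g, (Q_pi_bijective_of_exact FI (Q.obj PJ)).1 (funext fun k => ?_), Pi.hom_ext _ _ fun k => ?_⟩
    · have := congrFun hg k
      change g ≫ Q.map (Pi.π FI k) = _ at this
      change (a ≫ g) ≫ Q.map (Pi.π FI k) = 𝟙 _ ≫ Q.map (Pi.π FI k)
      rw [Category.assoc, this, ← Category.assoc, hak, Category.assoc, Iso.hom_inv_id, Category.comp_id,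
        Category.id_comp]
    · have := congrFun hg k
      change g ≫ Q.map (Pi.π FI k) = _ at this
      rw [Category.assoc, hak, reassoc_of% this, Iso.inv_hom_id, Category.comp_id, Category.id_comp]
  have h : (Q.map w ≫ a) = (LocGen.unitQ RF α PI ≫ RF.map θ) ≫ piComparison RF E := by simp [a]
  exact IsIso.of_isIso_fac_left h.symm

theorem isRlim_map (hA : EnoughKInj A) (E : ℕ → DerivedCategory A) (t : ∀ n, E (n + 1) ⟶ E n)
    (L : DerivedCategory A) [HasProduct E] [HasProduct fun n => RF.obj (E n)] (hL : DCoh.IsRlim E t L) :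
    DCoh.IsRlim (fun n => RF.obj (E n)) (fun n => RF.map (t n)) (RF.obj L) := by
  have := additive_push RF α hα hA
  obtain ⟨a, c, hc⟩ := hL
  obtain ⟨c', hc'⟩ := exists_distinguished_push RF α hα hA _ _ c hc
  have := isIso_piComparison RF α hα hA E
  let p := asIso (piComparison RF E)
  refine ⟨RF.map a ≫ p.hom, p.inv ≫ c',
    isomorphic_distinguished _ hc' _ (Triangle.isoMk _ _ (Iso.refl _) p.symm p.symm ?_ ?_ ?_)⟩
  · change (RF.map a ≫ p.hom) ≫ p.inv = 𝟙 _ ≫ RF.map a
    simp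
  · change Pi.lift _ ≫ p.inv = p.inv ≫ RF.map _
    rw [Iso.comp_inv_eq, Category.assoc, Iso.eq_inv_comp]
    refine Pi.hom_ext _ _ fun n => ?_
    simp only [p, asIso_hom, Category.assoc, Pi.lift_π, piComparison_comp_π, ← Functor.map_comp, Functor.map_sub,
      Preadditive.comp_sub]
    simp [Functor.map_comp]
  · change (p.inv ≫ c') ≫ (𝟙 _)⟦(1 : ℤ)⟧' = p.inv ≫ c'
    simp

end Main

end Groth.Agent.CohDer42.RlimRight
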