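import Mathlib.Algebra.Homology.DerivedCategory.KInjective
import Mathlib.Algebra.Homology.HomotopyFiber
import Mathlib.Algebra.Homology.HomologicalComplexLimits
import Groth.Agent.CohDer42.KInj

/-!
# Products and coproducts in derived categories via K-injective complexes
-/

universe w v u

open CategoryTheory Category Limits HomologicalComplex

set_option autoImplicit false
set_option linter.unusedSectionVars false
set_option backward.isDefEq.respectTransparency false

namespace Groth.Agent.CohDer42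

variable {A : Type u} [Category.{v} A] [Abelian A] [HasDerivedCategory.{w} A]

lemma Q_map_surjective_of_isKInjective {Z I : CochainComplex A ℤ} [I.IsKInjective]
    (φ : DerivedCategory.Q.obj Z ⟶ DerivedCategory.Q.obj I) :
    ∃ f : Z ⟶ I, DerivedCategory.Q.map f = φ := by
  obtain ⟨g, hg⟩ := (CochainComplex.IsKInjective.Qh_map_bijective
    ((HomotopyCategory.quotient A (ComplexShape.up ℤ)).obj Z) I).surjective
    ((DerivedCategory.quotientCompQhIso A).hom.app Z ≫ φ ≫
      (DerivedCategory.quotientCompQhIso A).inv.app I)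
  obtain ⟨f, rfl⟩ := (HomotopyCategory.quotient _ _).map_surjective g
  refine ⟨f, ?_⟩
  rw [← NatIso.naturality_1 (DerivedCategory.quotientCompQhIso A) f]
  dsimp
  rw [hg]
  simp

lemma homotopy_of_Q_map_eq {Z I : CochainComplex A ℤ} [I.IsKInjective] {f g : Z ⟶ I}
    (h : DerivedCategory.Q.map f = DerivedCategory.Q.map g) :
    Nonempty (Homotopy f g) := by
  refine ⟨HomotopyCategory.homotopyOfEq _ _ ?_⟩
  refine (CochainComplex.IsKInjective.Qh_map_bijective _ I).injective ?_
  have e := DerivedCategory.quotientCompQhIso A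
  change (HomotopyCategory.quotient A (ComplexShape.up ℤ) ⋙ DerivedCategory.Qh).map f =
    (HomotopyCategory.quotient A (ComplexShape.up ℤ) ⋙ DerivedCategory.Qh).map g
  rw [← cancel_mono (e.hom.app I), e.hom.naturality, e.hom.naturality, h]

lemma Q_map_eq_of_forall_pi {ι : Type*} {Z : CochainComplex A ℤ} {I : ι → CochainComplex A ℤ}
    [∀ i, (I i).IsKInjective] [HasProduct I] {f g : Z ⟶ ∏ᶜ I}
    (h : ∀ i, DerivedCategory.Q.map (f ≫ Pi.π I i) = DerivedCategory.Q.map (g ≫ Pi.π I i)) :
    DerivedCategory.Q.map f = DerivedCategory.Q.map g := by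
  have H := fun i => (homotopy_of_Q_map_eq (h i)).some
  let Φ : Z.cylinder ⟶ ∏ᶜ I := Pi.lift fun i => cylinder.desc _ _ (H i)
  have h₀ : cylinder.ι₀ Z ≫ Φ = f := Pi.hom_ext _ _ fun i => by simp [Φ]
  have h₁ : cylinder.ι₁ Z ≫ Φ = g := Pi.hom_ext _ _ fun i => by simp [Φ]
  rw [← h₀, ← h₁, Functor.map_comp, Functor.map_comp, DerivedCategory.Q_map_eq_of_homotopy _
    (cylinder.homotopy₀₁ Z (fun j => ⟨j - 1, by simp⟩))]

lemma Q_map_eq_of_forall_sigma {ι : Type*} {J : CochainComplex A ℤ} [J.IsKInjective]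
    {X : ι → CochainComplex A ℤ} [HasCoproduct X] {f g : ∐ X ⟶ J}
    (h : ∀ i, DerivedCategory.Q.map (Sigma.ι X i ≫ f) = DerivedCategory.Q.map (Sigma.ι X i ≫ g)) :
    DerivedCategory.Q.map f = DerivedCategory.Q.map g := by
  have H := fun i => (homotopy_of_Q_map_eq (h i)).some
  let Φ : ∐ X ⟶ J.pathObject := Sigma.desc fun i => pathObject.lift _ _ (H i)
  have h₀ : Φ ≫ pathObject.π₀ J = f := Sigma.hom_ext _ _ fun i => by simp [Φ]
  have h₁ : Φ ≫ pathObject.π₁ J = g := Sigma.hom_ext _ _ fun i => by simp [Φ]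
  rw [← h₀, ← h₁, Functor.map_comp, Functor.map_comp, DerivedCategory.Q_map_eq_of_homotopy _
    (pathObject.homotopy₀₁ J (fun j => ⟨j + 1, by simp⟩))]

/-- the product of K-injective complexes is K-injective -/
lemma isKInjective_pi {ι : Type*} (I : ι → CochainComplex A ℤ) [∀ i, (I i).IsKInjective]
    [HasProduct I] : (∏ᶜ I).IsKInjective where
  nonempty_homotopy_zero {K} f hK := by
    let H := fun i => CochainComplex.IsKInjective.homotopyZero (f ≫ Pi.π I i) hK
    let Φ : K.cylinder ⟶ ∏ᶜ I := Pi.lift fun i => cylinder.desc _ _ (H i)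
    have h₀ : cylinder.ι₀ K ≫ Φ = f := Pi.hom_ext _ _ fun i => by simp [Φ]
    have h₁ : cylinder.ι₁ K ≫ Φ = 0 := Pi.hom_ext _ _ fun i => by simp [Φ]
    exact ⟨(Homotopy.ofEq h₀.symm).trans (((cylinder.homotopy₀₁ K
      (fun j => ⟨j - 1, by simp⟩)).compRight Φ).trans (Homotopy.ofEq h₁))⟩

/-- the fan in the derived category attached to a family of K-injective complexes -/
noncomputable def isLimitFanQ {ι : Type*} (I : ι → CochainComplex A ℤ) [∀ i, (I i).IsKInjective]
    [HasProduct I] :
    IsLimit (Fan.mk (DerivedCategory.Q.obj (∏ᶜ I))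
      (fun i => DerivedCategory.Q.map (Pi.π I i))) :=
  Limits.mkFanLimit _
    (fun s => (DerivedCategory.Q.objObjPreimageIso s.pt).inv ≫ DerivedCategory.Q.map
      (Pi.lift fun i => (Q_map_surjective_of_isKInjective
        ((DerivedCategory.Q.objObjPreimageIso s.pt).hom ≫ s.proj i)).choose))
    (fun s i => by
      dsimp
      rw [assoc, ← Functor.map_comp, Pi.lift_π]
      erw [(Q_map_surjective_of_isKInjective
        ((DerivedCategory.Q.objObjPreimageIso s.pt).hom ≫ s.proj i)).choose_spec]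
      simp)
    (fun s m hm => by
      have := isKInjective_pi I
      obtain ⟨f, hf⟩ := Q_map_surjective_of_isKInjective
        ((DerivedCategory.Q.objObjPreimageIso s.pt).hom ≫ m)
      rw [← cancel_epi (DerivedCategory.Q.objObjPreimageIso s.pt).hom, Iso.hom_inv_id_assoc, ← hf]
      refine Q_map_eq_of_forall_pi fun i => ?_
      rw [Functor.map_comp _ f, hf, Pi.lift_π,
        (Q_map_surjective_of_isKInjective
        ((DerivedCategory.Q.objObjPreimageIso s.pt).hom ≫ s.proj i)).choose_spec, assoc]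
      exact congrArg _ (hm i))

lemma hasProduct_of_isKInjective {ι : Type*} (X : ι → DerivedCategory A)
    (h : ∀ i, ∃ I : CochainComplex A ℤ, I.IsKInjective ∧
      Nonempty (X i ≅ DerivedCategory.Q.obj I))
    (hP : ∀ I : ι → CochainComplex A ℤ, HasProduct I) : HasProduct X := by
  choose I hI e using h
  have := hP I
  have : HasProduct (fun i => DerivedCategory.Q.obj (I i)) := ⟨⟨⟨_, isLimitFanQ I⟩⟩⟩
  exact hasLimit_of_iso (F := Discrete.functor fun i => DerivedCategory.Q.obj (I i))
    (G := Discrete.functor X) (Discrete.natIso fun i => (e i.as).some.symm)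

lemma hasProducts_of_kinjective (h : ∀ M : CochainComplex A ℤ, ∃ (I : CochainComplex A ℤ) (f : M ⟶ I),
    I.IsKInjective ∧ QuasiIso f) [HasProducts.{v} A] : HasProducts.{v} (DerivedCategory A) := by
  intro ι
  refine ⟨fun X => ?_⟩
  have := hasProduct_of_isKInjective (fun i => X.obj ⟨i⟩) (fun i => ?_) (fun I => inferInstance)
  · exact hasLimit_of_iso (F := Discrete.functor fun i => X.obj ⟨i⟩) Discrete.natIsoFunctor.symm
  · obtain ⟨I, f, hI, hf⟩ := h (DerivedCategory.Q.objPreimage (X.obj ⟨i⟩))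
    exact ⟨I, hI, ⟨(DerivedCategory.Q.objObjPreimageIso (X.obj ⟨i⟩)).symm ≪≫
      asIso (DerivedCategory.Q.map f)⟩⟩

/-- coproducts of complexes give coproducts in the derived category -/
lemma hasCoproducts_of_kinjective
    (h : ∀ M : CochainComplex A ℤ, ∃ (I : CochainComplex A ℤ) (f : M ⟶ I),
      I.IsKInjective ∧ QuasiIso f) [HasCoproducts.{v} A] :
    HasCoproducts.{v} (DerivedCategory A) := by
  intro ι
  refine ⟨fun Y => ?_⟩
  let X : ι → CochainComplex A ℤ := fun i => DerivedCategory.Q.objPreimage (Y.obj ⟨i⟩)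
  have hx : ∀ (T : DerivedCategory A), ∃ J : CochainComplex A ℤ, J.IsKInjective ∧
      Nonempty (DerivedCategory.Q.obj J ≅ T) := fun T => by
    obtain ⟨I, f, hI, hf⟩ := h (DerivedCategory.Q.objPreimage T)
    exact ⟨I, hI, ⟨(asIso (DerivedCategory.Q.map f)).symm ≪≫
      DerivedCategory.Q.objObjPreimageIso T⟩⟩
  have hu : ∀ (T : DerivedCategory A) (φ : ∀ i, DerivedCategory.Q.obj (X i) ⟶ T),
      ∃! m : DerivedCategory.Q.obj (∐ X) ⟶ T,
        ∀ i, DerivedCategory.Q.map (Sigma.ι X i) ≫ m = φ i := by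
    intro T φ
    obtain ⟨J, hJ, ⟨e⟩⟩ := hx T
    choose g hg using fun i => Q_map_surjective_of_isKInjective (φ i ≫ e.inv)
    refine ⟨DerivedCategory.Q.map (Sigma.desc g) ≫ e.hom, fun i => ?_, fun m hm => ?_⟩
    · rw [← Functor.map_comp_assoc, Sigma.ι_desc, hg, assoc, e.inv_hom_id, comp_id]
    · obtain ⟨f, hf⟩ := Q_map_surjective_of_isKInjective (m ≫ e.inv)
      have : DerivedCategory.Q.map f = DerivedCategory.Q.map (Sigma.desc g) :=
        Q_map_eq_of_forall_sigma fun i => by
          rw [Functor.map_comp, hf, ← assoc, hm, Sigma.ι_desc, hg]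
      rw [← this, hf, assoc, e.inv_hom_id, comp_id]
  have hl : IsColimit (Cofan.mk (DerivedCategory.Q.obj (∐ X))
      (fun i => DerivedCategory.Q.map (Sigma.ι X i))) :=
    mkCofanColimit _ (fun s => (hu s.pt s.inj).choose)
      (fun s => (hu s.pt s.inj).choose_spec.1)
      (fun s m hm => (hu s.pt s.inj).choose_spec.2 m hm)
  have : HasCoproduct (fun i => DerivedCategory.Q.obj (X i)) := ⟨⟨⟨_, hl⟩⟩⟩
  exact hasColimit_of_iso (F := Discrete.functor fun i => DerivedCategory.Q.obj (X i))
    (G := Y) (Discrete.natIso fun i => (DerivedCategory.Q.objObjPreimageIso (Y.obj i)).symm)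

end Groth.Agent.CohDer42
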