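import Mathlib.CategoryTheory.Triangulated.Pretriangulated
import Mathlib.CategoryTheory.Triangulated.Subcategory
import Mathlib.CategoryTheory.Localization.Triangulated
import Mathlib.Tactic.NoncommRing

/-!
# Basic lemmas on pretriangulated categories
-/

universe w v u

open CategoryTheory Category Limits Pretriangulated Preadditive
open scoped ZeroObject

set_option autoImplicit false
set_option backward.isDefEq.respectTransparency false
set_option linter.unusedSectionVars false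
set_option linter.unusedSimpArgs false

namespace Groth.Agent.CohDer42

variable {D : Type u} [Category.{v} D] [Preadditive D] [HasZeroObject D] [HasShift D ℤ]
  [∀ n : ℤ, (shiftFunctor D n).Additive] [Pretriangulated D]

lemma eq_zero_of_shift_comp {T : Triangle D} (n : ℤ) {A : D}
    (hA : ∀ u : A⟦-n⟧ ⟶ T.obj₁, u ≫ T.mor₁ = 0 → u = 0)
    (u : A ⟶ T.obj₁⟦n⟧) (hu : u ≫ T.mor₁⟦n⟧' = 0) : u = 0 := by
  let e := shiftFunctorCompIsoId D n (-n) (add_neg_cancel n)
  have h := e.hom.naturality T.mor₁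
  simp only [Functor.id_map, Functor.comp_map] at h
  have hv : u⟦-n⟧' ≫ e.hom.app T.obj₁ = 0 := hA _ (by
    simp only [assoc]
    erw [← h]
    simp only [Functor.comp_obj, ← assoc, ← Functor.map_comp, hu, Functor.map_zero, zero_comp])
  apply (shiftFunctor D (-n)).map_injective
  rw [Functor.map_zero]
  exact (cancel_mono (e.hom.app T.obj₁)).1 (hv.trans (zero_comp).symm)

lemma mem_of_isIso (S : MorphismProperty D) [S.ContainsIdentities]
    [S.IsCompatibleWithTriangulation] {X Y : D} (f : X ⟶ Y) [IsIso f] : S f := by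
  let T₁ := contractibleTriangle X |>.invRotate
  have h₁ : Triangle.mk (0 : (0 : D) ⟶ X) (𝟙 X) (0 : X ⟶ (0 : D)⟦(1 : ℤ)⟧) ∈ distTriang D :=
    contractible_distinguished₁ X
  have h₂ : Triangle.mk (0 : (0 : D) ⟶ X) f (0 : Y ⟶ (0 : D)⟦(1 : ℤ)⟧) ∈ distTriang D :=
    isomorphic_distinguished _ h₁ _
      (Triangle.isoMk _ _ (Iso.refl _) (Iso.refl _) (asIso f).symm (by exact (isZero_zero D).eq_of_src _ _)
        (by change f ≫ inv f = 𝟙 _ ≫ 𝟙 _; simp)
        (by exact (isZero_zero D |> fun h => ((shiftFunctor D (1 : ℤ)).map_isZero h).eq_of_tgt _ _)))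
  obtain ⟨c, hc, hc', -⟩ := MorphismProperty.compatible_with_triangulation (W := S) _ _ h₁ h₂
    (𝟙 (0 : D)) (𝟙 X) (S.id_mem _) (S.id_mem _) (by exact (isZero_zero D).eq_of_src _ _)
  change 𝟙 X ≫ c = 𝟙 X ≫ f at hc'
  have e : c = f := (id_comp (c : X ⟶ Y)).symm.trans (hc'.trans (id_comp f))
  exact e ▸ hc

lemma exists_idempotent_triangle_endo
    (T : Triangle D) (hT : T ∈ distTriang D) (a : T.obj₁ ⟶ T.obj₁) (c : T.obj₃ ⟶ T.obj₃)
    (ha : a ≫ a = a) (hc : c ≫ c = c) (comm : T.mor₃ ≫ a⟦(1 : ℤ)⟧' = c ≫ T.mor₃) :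
    ∃ b : T.obj₂ ⟶ T.obj₂, b ≫ b = b ∧ T.mor₁ ≫ b = a ≫ T.mor₁ ∧ T.mor₂ ≫ c = b ≫ T.mor₂ := by
  obtain ⟨b₀, hb₁, hb₂⟩ := complete_distinguished_triangle_morphism₂ T T hT hT a c comm
  have h₁ : T.mor₁ ≫ (b₀ ≫ b₀ - b₀) = 0 := by
    rw [comp_sub, ← assoc, hb₁, assoc, hb₁, ← assoc, ha, sub_self]
  have h₂ : (b₀ ≫ b₀ - b₀) ≫ T.mor₂ = 0 := by
    rw [sub_comp, assoc, ← hb₂, ← assoc, ← hb₂, assoc, hc, sub_self]
  obtain ⟨v', hv'⟩ := T.coyoneda_exact₂ hT _ h₂
  have hh : (b₀ ≫ b₀ - b₀) ≫ (b₀ ≫ b₀ - b₀) = 0 := by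
    conv_lhs => arg 1; rw [hv']
    rw [assoc, h₁, comp_zero]
  refine ⟨b₀ ≫ b₀ + b₀ ≫ b₀ + b₀ ≫ b₀ - (b₀ ≫ b₀ ≫ b₀ + b₀ ≫ b₀ ≫ b₀), ?_, ?_, ?_⟩
  · let x : End T.obj₂ := b₀
    change (x * x + x * x + x * x - (x * x * x + x * x * x)) *
      (x * x + x * x + x * x - (x * x * x + x * x * x)) = _
    have hx : (x * x - x) * (x * x - x) = 0 := hh
    have key : (x * x + x * x + x * x - (x * x * x + x * x * x)) *
        (x * x + x * x + x * x - (x * x * x + x * x * x)) -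
        (x * x + x * x + x * x - (x * x * x + x * x * x)) =
        ((x * x - x) * (x * x - x)) * ((x * x) * 4 - x * 4 - 3) := by noncomm_ring
    rw [hx, zero_mul, sub_eq_zero] at key
    exact key
  · simp only [comp_add, comp_sub, reassoc_of% hb₁, hb₁, assoc, reassoc_of% ha, ha]
    abel
  · simp only [add_comp, sub_comp, assoc, ← hb₂]
    simp only [← assoc, ← hb₂]
    simp only [assoc, hc]
    abel

lemma coproduct_triangle_distinguished {J : Type w} (T : J → Triangle D)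
    (hT : ∀ j, T j ∈ distTriang D) [HasCoproduct (fun j => (T j).obj₁)]
    [HasCoproduct (fun j => (T j).obj₂)] [HasCoproduct (fun j => (T j).obj₃)] :
    Triangle.mk (Limits.Sigma.map (fun j => (T j).mor₁)) (Limits.Sigma.map (fun j => (T j).mor₂))
      (Sigma.desc (fun j => (T j).mor₃ ≫
        (shiftFunctor D (1 : ℤ)).map (Sigma.ι (fun j => (T j).obj₁) j))) ∈ distTriang D := by
  let f₁ := Limits.Sigma.map (fun j => (T j).mor₁)
  obtain ⟨Z, f₂, f₃, hT'⟩ := distinguished_cocone_triangle f₁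
  have hex := fun j => complete_distinguished_triangle_morphism (T j) (Triangle.mk f₁ f₂ f₃)
    (hT j) hT' (Sigma.ι (fun j => (T j).obj₁) j) (Sigma.ι (fun j => (T j).obj₂) j) (by simp [f₁])
  choose c hc₂ hc₃ using hex
  let φ : (∐ fun j => (T j).obj₃) ⟶ Z := Sigma.desc c
  have comm₂ : Limits.Sigma.map (fun j => (T j).mor₂) ≫ φ = f₂ := by
    apply Sigma.hom_ext; intro j; simp [φ]; exact hc₂ j
  have comm₃ : φ ≫ f₃ = Sigma.desc (fun j => (T j).mor₃ ≫
      (shiftFunctor D (1 : ℤ)).map (Sigma.ι (fun j => (T j).obj₁) j)) := by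
    apply Sigma.hom_ext; intro j; simp [φ]; exact (hc₃ j).symm
  suffices hφ : IsIso φ by
    have := hφ
    refine isomorphic_distinguished _ hT' _ (Triangle.isoMk _ _ (Iso.refl _) (Iso.refl _) (asIso φ) ?_ ?_ ?_)
    · simp [f₁]
    · simpa using comm₂
    · simpa using comm₃.symm
  refine isIso_of_coyoneda_map_bijective _ (fun A => ⟨?_, ?_⟩)
  · suffices ∀ u : Z ⟶ A, φ ≫ u = 0 → u = 0 by
      intro u₁ u₂ h
      exact sub_eq_zero.1 (this _ (by rw [comp_sub, sub_eq_zero]; exact h))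
    intro u hu
    obtain ⟨g, hg⟩ : ∃ g, u = f₃ ≫ g := Triangle.yoneda_exact₃ _ hT' u (by
      change f₂ ≫ u = 0
      rw [← comm₂, assoc, hu, comp_zero])
    have hg' : ∀ j, (T j).mor₃ ≫ (shiftFunctor D (1 : ℤ)).map
        (Sigma.ι (fun j => (T j).obj₁) j) ≫ g = 0 := fun j => by
      have := Sigma.ι (fun j => (T j).obj₃) j ≫= hu
      rw [hg, ← assoc φ, comm₃] at this
      simpa using this
    have hg'' := fun j => Triangle.yoneda_exact₃ (T j).rotate (rot_of_distTriang _ (hT j)) _ (hg' j)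
    choose w' hw' using hg''
    let w : (∐ fun j => (T j).obj₂)⟦(1 : ℤ)⟧ ⟶ A := by
      refine ((shiftEquiv D (1 : ℤ)).toAdjunction.homEquiv _ _).symm (Sigma.desc fun j => ?_)
      exact ((shiftEquiv D (1 : ℤ)).toAdjunction.homEquiv _ _) (-(w' j))
    have hw : g = (shiftFunctor D (1 : ℤ)).map f₁ ≫ w := by
      apply ((shiftEquiv D (1 : ℤ)).toAdjunction.homEquiv _ _).injective
      dsimp only [w]
      erw [Adjunction.homEquiv_naturality_left, Equiv.apply_symm_apply]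
      apply Sigma.hom_ext; intro j
      simp only [f₁, Sigma.ι_map_assoc, Sigma.ι_desc]
      erw [← Adjunction.homEquiv_naturality_left, ← Adjunction.homEquiv_naturality_left]
      congr 1
      refine (hw' j).trans ?_
      simp [Triangle.rotate]
      rfl
    rw [hg, hw, ← assoc]
    have : f₃ ≫ (shiftFunctor D (1 : ℤ)).map f₁ = 0 := comp_distTriang_mor_zero₃₁ _ hT'
    rw [this, zero_comp]
  · intro a
    have hb : ∀ j, (T j).mor₁ ≫ (T j).mor₂ ≫ Sigma.ι (fun j => (T j).obj₃) j ≫ a = 0 := fun j => by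
      rw [← assoc, comp_distTriang_mor_zero₁₂ _ (hT j), zero_comp]
    obtain ⟨b, hb'⟩ : ∃ b, Limits.Sigma.map (fun j => (T j).mor₂) ≫ a = f₂ ≫ b :=
      Triangle.yoneda_exact₂ _ hT' _ (by
        apply Sigma.hom_ext; intro j; simpa [f₁] using hb j)
    have ha : ∀ j, (T j).mor₂ ≫ (Sigma.ι (fun j => (T j).obj₃) j ≫ (a - φ ≫ b)) = 0 := fun j => by
      have := Sigma.ι (fun j => (T j).obj₂) j ≫= hb'
      simp only [Sigma.ι_map_assoc] at this
      rw [comp_sub, comp_sub, this, ← comm₂]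
      simp
    choose d hd using fun j => Triangle.yoneda_exact₃ (T j) (hT j) _ (ha j)
    let e : (∐ fun j => (T j).obj₁)⟦(1 : ℤ)⟧ ⟶ A := by
      refine ((shiftEquiv D (1 : ℤ)).toAdjunction.homEquiv _ _).symm (Sigma.desc fun j => ?_)
      exact ((shiftEquiv D (1 : ℤ)).toAdjunction.homEquiv _ _) (d j)
    have he : ∀ j, (shiftFunctor D (1 : ℤ)).map (Sigma.ι (fun j => (T j).obj₁) j) ≫ e = d j := by
      intro j
      apply ((shiftEquiv D (1 : ℤ)).toAdjunction.homEquiv _ _).injective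
      dsimp only [e]
      erw [Adjunction.homEquiv_naturality_left, Equiv.apply_symm_apply, Sigma.ι_desc]
    refine ⟨b + f₃ ≫ e, ?_⟩
    change φ ≫ (b + f₃ ≫ e) = a
    rw [comp_add, ← assoc φ, comm₃, add_comm, ← eq_sub_iff_add_eq]
    apply Sigma.hom_ext; intro j
    rw [hd j]
    simp [he j]

lemma biprod_triangle_distinguished (T T' : Triangle D) (hT : T ∈ distTriang D)
    (hT' : T' ∈ distTriang D) :
    Triangle.mk (biprod.map T.mor₁ T'.mor₁) (biprod.map T.mor₂ T'.mor₂)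
        (biprod.desc (T.mor₃ ≫ (shiftFunctor D (1 : ℤ)).map biprod.inl)
          (T'.mor₃ ≫ (shiftFunctor D (1 : ℤ)).map biprod.inr)) ∈ distTriang D := by
  let J : WalkingPair → Triangle D := fun j => WalkingPair.casesOn j T T'
  have hJ : ∀ j, J j ∈ distTriang D := by rintro ⟨_⟩ <;> assumption
  refine isomorphic_distinguished _ (coproduct_triangle_distinguished J hJ) _ (Iso.symm ?_)
  let e₁ : ∐ (fun j => (J j).obj₁) ≅ T.obj₁ ⊞ T'.obj₁ :=
    ⟨Sigma.desc (fun j => WalkingPair.casesOn j biprod.inl biprod.inr),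
      biprod.desc (Sigma.ι (fun j => (J j).obj₁) .left) (Sigma.ι (fun j => (J j).obj₁) .right),
      by apply Sigma.hom_ext; rintro ⟨_⟩ <;> simp, by ext <;> simp <;> (first | exact biprod.inl_fst | exact biprod.inl_snd | exact biprod.inr_fst | exact biprod.inr_snd)⟩
  let e₂ : ∐ (fun j => (J j).obj₂) ≅ T.obj₂ ⊞ T'.obj₂ :=
    ⟨Sigma.desc (fun j => WalkingPair.casesOn j biprod.inl biprod.inr),
      biprod.desc (Sigma.ι (fun j => (J j).obj₂) .left) (Sigma.ι (fun j => (J j).obj₂) .right),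
      by apply Sigma.hom_ext; rintro ⟨_⟩ <;> simp, by ext <;> simp <;> (first | exact biprod.inl_fst | exact biprod.inl_snd | exact biprod.inr_fst | exact biprod.inr_snd)⟩
  let e₃ : ∐ (fun j => (J j).obj₃) ≅ T.obj₃ ⊞ T'.obj₃ :=
    ⟨Sigma.desc (fun j => WalkingPair.casesOn j biprod.inl biprod.inr),
      biprod.desc (Sigma.ι (fun j => (J j).obj₃) .left) (Sigma.ι (fun j => (J j).obj₃) .right),
      by apply Sigma.hom_ext; rintro ⟨_⟩ <;> simp, by ext <;> simp <;> (first | exact biprod.inl_fst | exact biprod.inl_snd | exact biprod.inr_fst | exact biprod.inr_snd)⟩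
  exact Triangle.isoMk _ _ e₁ e₂ e₃
    (by apply Sigma.hom_ext; rintro ⟨_⟩ <;> simp [J, e₁, e₂])
    (by apply Sigma.hom_ext; rintro ⟨_⟩ <;> simp [J, e₂, e₃])
    (by apply Sigma.hom_ext; rintro ⟨_⟩ <;> simp [J, e₁, e₃, ← Functor.map_comp])

lemma triangle_of_biprod_distinguished (T T' : Triangle D)
    (h : Triangle.mk (biprod.map T.mor₁ T'.mor₁) (biprod.map T.mor₂ T'.mor₂)
        (biprod.desc (T.mor₃ ≫ (shiftFunctor D (1 : ℤ)).map biprod.inl)
          (T'.mor₃ ≫ (shiftFunctor D (1 : ℤ)).map biprod.inr)) ∈ distTriang D) :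
    T ∈ distTriang D ∧ T' ∈ distTriang D := by
  obtain ⟨Z, f₂, f₃, h₀⟩ := distinguished_cocone_triangle T.mor₁
  obtain ⟨Z', f₂', f₃', h₀'⟩ := distinguished_cocone_triangle T'.mor₁
  obtain ⟨c, hc₂, hc₃⟩ := complete_distinguished_triangle_morphism _ _ h₀ h
    (biprod.inl (X := T.obj₁) (Y := T'.obj₁)) (biprod.inl (X := T.obj₂) (Y := T'.obj₂))
    (biprod.inl_map T.mor₁ T'.mor₁).symm
  obtain ⟨c', hc₂', hc₃'⟩ := complete_distinguished_triangle_morphism _ _ h₀' h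
    (biprod.inr (X := T.obj₁) (Y := T'.obj₁)) (biprod.inr (X := T.obj₂) (Y := T'.obj₂))
    (biprod.inr_map T.mor₁ T'.mor₁).symm
  change Z ⟶ T.obj₃ ⊞ T'.obj₃ at c
  change Z' ⟶ T.obj₃ ⊞ T'.obj₃ at c'
  change f₂ ≫ c = biprod.inl ≫ biprod.map T.mor₂ T'.mor₂ at hc₂
  change f₂' ≫ c' = biprod.inr ≫ biprod.map T.mor₂ T'.mor₂ at hc₂'
  change f₃ ≫ _ = c ≫ biprod.desc _ _ at hc₃
  change f₃' ≫ _ = c' ≫ biprod.desc _ _ at hc₃'
  let α := c ≫ biprod.fst
  let β := c' ≫ biprod.snd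
  have hfst : biprod.desc (T.mor₃ ≫ (shiftFunctor D (1 : ℤ)).map biprod.inl)
      (T'.mor₃ ≫ (shiftFunctor D (1 : ℤ)).map (biprod.inr : T'.obj₁ ⟶ T.obj₁ ⊞ T'.obj₁)) ≫
      (shiftFunctor D (1 : ℤ)).map biprod.fst = biprod.fst ≫ T.mor₃ := by
    ext <;> simp [← Functor.map_comp]
  have hsnd : biprod.desc (T.mor₃ ≫ (shiftFunctor D (1 : ℤ)).map biprod.inl)
      (T'.mor₃ ≫ (shiftFunctor D (1 : ℤ)).map (biprod.inr : T'.obj₁ ⟶ T.obj₁ ⊞ T'.obj₁)) ≫
      (shiftFunctor D (1 : ℤ)).map biprod.snd = biprod.snd ≫ T'.mor₃ := by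
    ext <;> simp [← Functor.map_comp]
  have hα₂ : f₂ ≫ α = T.mor₂ := by simp [α, reassoc_of% hc₂]
  have hβ₂ : f₂' ≫ β = T'.mor₂ := by simp [β, reassoc_of% hc₂']
  have hα₃ : α ≫ T.mor₃ = f₃ := by
    have := hc₃ =≫ (shiftFunctor D (1 : ℤ)).map biprod.fst
    simp only [assoc, hfst, ← Functor.map_comp, biprod.inl_fst, Functor.map_id, comp_id] at this
    erw [biprod.inl_fst, CategoryTheory.Functor.map_id, comp_id] at this
    simpa [α] using this.symm
  have hβ₃ : β ≫ T'.mor₃ = f₃' := by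
    have := hc₃' =≫ (shiftFunctor D (1 : ℤ)).map biprod.snd
    simp only [assoc, hsnd, ← Functor.map_comp, biprod.inr_snd, Functor.map_id, comp_id] at this
    erw [biprod.inr_snd, CategoryTheory.Functor.map_id, comp_id] at this
    simpa [β] using this.symm
  have key : IsIso α ∧ IsIso β := by
    have hS := biprod_triangle_distinguished _ _ h₀ h₀'
    let Φ : Triangle.mk (biprod.map T.mor₁ T'.mor₁) (biprod.map f₂ f₂')
        (biprod.desc (f₃ ≫ (shiftFunctor D (1 : ℤ)).map biprod.inl)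
          (f₃' ≫ (shiftFunctor D (1 : ℤ)).map biprod.inr)) ⟶
        Triangle.mk (biprod.map T.mor₁ T'.mor₁) (biprod.map T.mor₂ T'.mor₂)
        (biprod.desc (T.mor₃ ≫ (shiftFunctor D (1 : ℤ)).map biprod.inl)
          (T'.mor₃ ≫ (shiftFunctor D (1 : ℤ)).map biprod.inr)) :=
      Triangle.homMk _ _ (𝟙 (T.obj₁ ⊞ T'.obj₁)) (𝟙 (T.obj₂ ⊞ T'.obj₂)) (biprod.map α β)
        (by change biprod.map T.mor₁ T'.mor₁ ≫ 𝟙 _ = 𝟙 _ ≫ biprod.map T.mor₁ T'.mor₁; simp)
        (by change biprod.map f₂ f₂' ≫ biprod.map α β = 𝟙 _ ≫ biprod.map T.mor₂ T'.mor₂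
            ext <;> simp [hα₂, hβ₂])
        (by change biprod.desc _ _ ≫ (shiftFunctor D (1 : ℤ)).map (𝟙 _) =
              biprod.map α β ≫ biprod.desc _ _
            ext <;> simp [reassoc_of% hα₃, reassoc_of% hβ₃])
    have i₁ : IsIso Φ.hom₁ := by change IsIso (𝟙 (T.obj₁ ⊞ T'.obj₁)); infer_instance
    have i₂ : IsIso Φ.hom₂ := by change IsIso (𝟙 (T.obj₂ ⊞ T'.obj₂)); infer_instance
    have i₃ : IsIso (biprod.map α β) := isIso₃_of_isIso₁₂ Φ hS h i₁ i₂
    constructor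
    · refine ⟨biprod.inl ≫ inv (biprod.map α β) ≫ biprod.fst, ?_, ?_⟩
      · rw [← biprod.inl_map_assoc α β, IsIso.hom_inv_id_assoc, biprod.inl_fst]
      · simp only [assoc, ← biprod.map_fst α β, IsIso.inv_hom_id_assoc, biprod.inl_fst]
    · refine ⟨biprod.inr ≫ inv (biprod.map α β) ≫ biprod.snd, ?_, ?_⟩
      · rw [← biprod.inr_map_assoc α β, IsIso.hom_inv_id_assoc, biprod.inr_snd]
      · simp only [assoc, ← biprod.map_snd α β, IsIso.inv_hom_id_assoc, biprod.inr_snd]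
  obtain ⟨_, _⟩ := key
  exact ⟨isomorphic_distinguished _ h₀ _ (Iso.symm (Triangle.isoMk _ _ (Iso.refl _) (Iso.refl _)
      (asIso α) (by simp) (by simpa using hα₂) (by simpa using hα₃.symm))),
    isomorphic_distinguished _ h₀' _ (Iso.symm (Triangle.isoMk _ _ (Iso.refl _) (Iso.refl _)
      (asIso β) (by simp) (by simpa using hβ₂) (by simpa using hβ₃.symm)))⟩

end Groth.Agent.CohDer42
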