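import Groth.Prelude.Def_CohDer
import Mathlib.CategoryTheory.Adjunction.Additive
import Mathlib.CategoryTheory.Adjunction.Limits
import Groth.Agent.CohDer42.TriBasic

/-!
# Compact objects
-/

universe v u u'

open CategoryTheory Category Limits Pretriangulated Preadditive
open scoped ZeroObject

set_option autoImplicit false
set_option linter.unusedSectionVars false

namespace Groth.Agent.CohDer42

section Additive

variable {D : Type u} [Category.{v} D] [Preadditive D]

lemma homSum_of (K : D) {ι : Type v} [DecidableEq ι] (X : ι → D) [HasCoproduct X] (i : ι)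
    (x : K ⟶ X i) :
    CohDer.homSumToHomCoprod K X (DirectSum.of (fun i => K ⟶ X i) i x) = x ≫ Sigma.ι X i := by
  unfold CohDer.homSumToHomCoprod
  convert DirectSum.toAddMonoid_of (β := fun i => K ⟶ X i)
    (fun i => Preadditive.rightComp K (Sigma.ι X i)) i x using 0
  rfl

lemma homSum_natural {K K' : D} (g : K' ⟶ K) {ι : Type v} (X : ι → D) [HasCoproduct X]
    (s : DirectSum ι (fun i => K ⟶ X i)) :
    CohDer.homSumToHomCoprod K' X
      (DirectSum.map (fun i => Preadditive.leftComp (X i) g) s) =
      g ≫ CohDer.homSumToHomCoprod K X s := by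
  classical
  induction s using DirectSum.induction_on with
  | zero => simp
  | of i x => rw [DirectSum.map_of, homSum_of, homSum_of]; exact Category.assoc g x _
  | add a b ha hb => rw [map_add, map_add, map_add, ha, hb, comp_add]

/-- a family of maps in the kernel of precomposition lifts -/
lemma exists_map_eq {ι : Type v} {β γ : ι → Type v} [∀ i, AddCommGroup (β i)]
    [∀ i, AddCommGroup (γ i)] (f : ∀ i, β i →+ γ i) (s : DirectSum ι γ)
    (h : ∀ i, ∃ b, f i b = s i) : ∃ t, DirectSum.map f t = s := by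
  classical
  choose b hb using h
  refine ⟨∑ i ∈ DFinsupp.support s, DirectSum.of β i (b i), ?_⟩
  rw [map_sum]
  simp only [DirectSum.map_of, hb]
  exact DirectSum.sum_support_of s

variable [HasCoproducts.{v} D]

lemma isCompactObject_of_iso {K K' : D} (e : K ≅ K') (h : CohDer.IsCompactObject K) :
    CohDer.IsCompactObject K' := by
  intro ι X
  have h1 : Function.Bijective (DirectSum.map (fun i => Preadditive.leftComp (X i) e.inv) :
      DirectSum ι (fun i => K ⟶ X i) → DirectSum ι (fun i => K' ⟶ X i)) := by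
    refine ⟨Function.LeftInverse.injective (g := DirectSum.map (fun i => Preadditive.leftComp (X i) e.hom)) fun s => ?_,
      Function.RightInverse.surjective (g := DirectSum.map (fun i => Preadditive.leftComp (X i) e.hom)) fun s => ?_⟩
    · apply DFinsupp.ext; intro i
      rw [DirectSum.map_apply, DirectSum.map_apply]
      exact e.hom_inv_id_assoc _
    · apply DFinsupp.ext; intro i
      rw [DirectSum.map_apply, DirectSum.map_apply]
      exact e.inv_hom_id_assoc _
  refine (Function.Bijective.of_comp_iff _ h1).1 ?_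
  have : (CohDer.homSumToHomCoprod K' X) ∘ (DirectSum.map (fun i => Preadditive.leftComp (X i) e.inv)) =
      (fun g => e.inv ≫ g) ∘ CohDer.homSumToHomCoprod K X := funext fun s => homSum_natural _ X s
  rw [this]
  refine Function.Bijective.comp ⟨fun a b hab => (cancel_epi e.inv).1 hab, fun g => ⟨e.hom ≫ g, by simp⟩⟩ (h ι X)

lemma isCompactObject_zero {Z : D} (hZ : IsZero Z) : CohDer.IsCompactObject Z := fun ι X =>
  ⟨fun s t _ => DFinsupp.ext fun i => hZ.eq_of_src _ _, fun g => ⟨0, hZ.eq_of_src _ _⟩⟩

variable {D' : Type u'} [Category.{v} D'] [Preadditive D'] [HasCoproducts.{v} D']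

/-- a left adjoint whose right adjoint commutes with coproducts preserves compact objects -/
lemma isCompactObject_map (F : D ⥤ D') (G : D' ⥤ D) (adj : F ⊣ G) [F.Additive]
    [∀ κ : Type v, PreservesColimitsOfShape (Discrete κ) G] {K : D} (h : CohDer.IsCompactObject K) :
    CohDer.IsCompactObject (F.obj K) := by
  classical
  intro ι X
  have := adj.right_adjoint_additive
  let Φ : (F.obj K ⟶ ∐ X) → (K ⟶ ∐ (fun i => G.obj (X i))) := fun g =>
    adj.homEquiv _ _ g ≫ inv (sigmaComparison G X)
  have hΦ : Function.Bijective Φ :=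
    Function.Bijective.comp (g := fun g => g ≫ inv (sigmaComparison G X))
      ⟨fun a b hab => (cancel_mono (inv (sigmaComparison G X))).1 hab,
        fun g => ⟨g ≫ sigmaComparison G X, by simp⟩⟩ (adj.homEquiv _ _).bijective
  let ψ : DirectSum ι (fun i => F.obj K ⟶ X i) →+ DirectSum ι (fun i => K ⟶ G.obj (X i)) :=
    DirectSum.map fun i => (adj.homAddEquiv K (X i)).toAddMonoidHom
  have hψ : Function.Bijective ψ := by
    let ψ' : DirectSum ι (fun i => K ⟶ G.obj (X i)) →+ DirectSum ι (fun i => F.obj K ⟶ X i) :=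
      DirectSum.map fun i => (adj.homAddEquiv K (X i)).symm.toAddMonoidHom
    refine ⟨Function.LeftInverse.injective (g := ψ') fun s => ?_,
      Function.RightInverse.surjective (g := ψ') fun s => ?_⟩
    · apply DFinsupp.ext; intro i
      rw [DirectSum.map_apply, DirectSum.map_apply]
      exact (adj.homAddEquiv K (X i)).symm_apply_apply _
    · apply DFinsupp.ext; intro i
      rw [DirectSum.map_apply, DirectSum.map_apply]
      exact (adj.homAddEquiv K (X i)).apply_symm_apply _
  have comm : Φ ∘ CohDer.homSumToHomCoprod (F.obj K) X =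
      CohDer.homSumToHomCoprod K (fun i => G.obj (X i)) ∘ ψ := by
    funext s
    induction s using DirectSum.induction_on with
    | zero => simp [Φ, Adjunction.homEquiv_unit]
    | of i x =>
      simp only [Function.comp_apply, Φ, ψ, DirectSum.map_of, homSum_of]
      rw [adj.homEquiv_naturality_right, assoc]
      congr 1
      rw [← ι_comp_sigmaComparison G X i, assoc, IsIso.hom_inv_id, comp_id]
    | add a b ha hb =>
      simp only [Function.comp_apply, map_add] at ha hb ⊢
      rw [← ha, ← hb]
      simp [Φ, Adjunction.homEquiv_unit, add_comp]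
  exact (Function.Bijective.of_comp_iff' hΦ _).1 (comm ▸ (h ι _).comp hψ)

end Additive

section Triangulated

variable {D : Type u} [Category.{v} D] [Preadditive D] [HasZeroObject D] [HasShift D ℤ]
  [∀ n : ℤ, (shiftFunctor D n).Additive] [Pretriangulated D] [HasCoproducts.{v} D]

lemma isCompactObject_shift {K : D} (h : CohDer.IsCompactObject K) (n : ℤ) :
    CohDer.IsCompactObject (K⟦n⟧) :=
  have : (shiftEquiv D n).functor.Additive := inferInstanceAs (shiftFunctor D n).Additive
  isCompactObject_map _ _ (shiftEquiv D n).toAdjunction h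

lemma isCompactObject_obj₂ {T : Triangle D} (hT : T ∈ distTriang D)
    (h₁ : CohDer.IsCompactObject T.obj₁) (h₃ : CohDer.IsCompactObject T.obj₃) :
    CohDer.IsCompactObject T.obj₂ := by
  intro ι X
  constructor
  · rw [injective_iff_map_eq_zero]
    intro s hs
    have h0 : DirectSum.map (fun i => leftComp (X i) T.mor₁) s = 0 := (h₁ ι X).1 (by
      rw [homSum_natural, hs, comp_zero, map_zero])
    have hex : ∀ i, ∃ u : T.obj₃ ⟶ X i, leftComp (X i) T.mor₂ u = s i := fun i => by
      have : T.mor₁ ≫ (s i : T.obj₂ ⟶ X i) = 0 := by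
        have := DFinsupp.ext_iff.1 h0 i
        rw [DirectSum.map_apply] at this
        exact this
      obtain ⟨u, hu⟩ := T.yoneda_exact₂ hT _ this
      exact ⟨u, hu.symm⟩
    obtain ⟨u, rfl⟩ := exists_map_eq _ s hex
    rw [homSum_natural] at hs
    obtain ⟨g, hg⟩ := T.yoneda_exact₃ hT _ hs
    obtain ⟨w, rfl⟩ := (isCompactObject_shift h₁ 1 ι X).2 g
    rw [← homSum_natural] at hg
    rw [(h₃ ι X).1 hg]
    apply DFinsupp.ext
    intro i
    rw [DirectSum.map_apply, DirectSum.map_apply]
    change T.mor₂ ≫ T.mor₃ ≫ _ = 0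
    rw [comp_distTriang_mor_zero₂₃_assoc _ hT, zero_comp]
  · intro f
    obtain ⟨s₁, hs₁⟩ := (h₁ ι X).2 (T.mor₁ ≫ f)
    let w : T.obj₃⟦(-1 : ℤ)⟧ ⟶ T.obj₁ := T.invRotate.mor₁
    have hw : w ≫ T.mor₁ = 0 :=
      comp_distTriang_mor_zero₁₂ _ (inv_rot_of_distTriang _ hT)
    have h0 : DirectSum.map (fun i => leftComp (X i) w) s₁ = 0 :=
      (isCompactObject_shift h₃ (-1) ι X).1 (by
        rw [homSum_natural, hs₁, reassoc_of% hw, zero_comp, map_zero])
    have hex : ∀ i, ∃ u : T.obj₂ ⟶ X i, leftComp (X i) T.mor₁ u = s₁ i := fun i => by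
      have : T.invRotate.mor₁ ≫ (s₁ i : T.obj₁ ⟶ X i) = 0 := by
        have := DFinsupp.ext_iff.1 h0 i
        erw [DirectSum.map_apply] at this
        exact this
      obtain ⟨u, hu⟩ := T.invRotate.yoneda_exact₂ (inv_rot_of_distTriang _ hT) _ this
      exact ⟨u, hu.symm⟩
    obtain ⟨u, rfl⟩ := exists_map_eq _ s₁ hex
    rw [homSum_natural] at hs₁
    obtain ⟨g, hg⟩ := T.yoneda_exact₂ hT (f - CohDer.homSumToHomCoprod T.obj₂ X u) (by
      rw [comp_sub, hs₁, sub_self])
    obtain ⟨s₃, rfl⟩ := (h₃ ι X).2 g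
    exact ⟨u + DirectSum.map (fun i => leftComp (X i) T.mor₂) s₃, by
      rw [map_add, homSum_natural, ← hg, add_sub_cancel]⟩

lemma isTriangulated_isCompactObject :
    ObjectProperty.IsTriangulated (fun K : D => CohDer.IsCompactObject K) := by
  let P : ObjectProperty D := fun K => CohDer.IsCompactObject K
  have : P.IsClosedUnderIsomorphisms := ⟨fun e h => isCompactObject_of_iso e h⟩
  have : P.ContainsZero := ⟨0, isZero_zero D, isCompactObject_zero (isZero_zero D)⟩
  have : P.IsStableUnderShift ℤ := ⟨fun n => ⟨fun K h => isCompactObject_shift h n⟩⟩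
  have : P.IsTriangulatedClosed₂ :=
    ObjectProperty.IsTriangulatedClosed₂.mk' fun T hT h₁ h₃ => isCompactObject_obj₂ hT h₁ h₃
  exact { }

/-- maps from a compact object into a coproduct factor through a coproduct of copies -/
lemma exists_factor_of_isCompactObject {κ : Type} {K : D} (hK : CohDer.IsCompactObject K)
    (X : κ → D) [HasCoproduct X] [HasCoproduct (fun _ : κ => K)] (α : K ⟶ ∐ X) :
    ∃ (β : ∀ n, K ⟶ X n) (γ : K ⟶ ∐ (fun _ : κ => K)), α = γ ≫ Limits.Sigma.map β := by
  classical
  let X' : ULift.{v} κ → D := fun n => X n.down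
  let e : ∐ X' ⟶ ∐ X := Sigma.desc fun n => Sigma.ι X n.down
  let e' : ∐ X ⟶ ∐ X' := Sigma.desc fun n => Sigma.ι X' ⟨n⟩
  have he : e' ≫ e = 𝟙 _ := by apply Sigma.hom_ext; intro n; simp [e, e', X']
  obtain ⟨s, hs⟩ := (hK _ X').2 (α ≫ e')
  refine ⟨fun n => s ⟨n⟩, ∑ n ∈ DFinsupp.support s, Sigma.ι (fun _ : κ => K) n.down, ?_⟩
  rw [sum_comp]
  have hsum : CohDer.homSumToHomCoprod K X' s = ∑ n ∈ DFinsupp.support s, (s n) ≫ Sigma.ι X' n := by
    conv_lhs => rw [← DirectSum.sum_support_of s]
    rw [map_sum]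
    simp only [homSum_of]
  calc α = (α ≫ e') ≫ e := by rw [assoc, he, comp_id]
    _ = _ := by
      rw [← hs, hsum, sum_comp]
      refine Finset.sum_congr rfl fun n _ => ?_
      simp [e, X']

end Triangulated

end Groth.Agent.CohDer42
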