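import Groth.Agent.CohDer42.Brown
import Groth.Agent.CohDer42.Compact
import Mathlib.CategoryTheory.Triangulated.Opposite.Functor
import Mathlib.CategoryTheory.Triangulated.Yoneda
import Mathlib.CategoryTheory.Preadditive.Yoneda.Limits
import Mathlib.CategoryTheory.Limits.Preserves.Opposites
import Mathlib.CategoryTheory.Adjunction.Basic

/-!
# Brown representability and adjoints
-/

universe v u u'

open CategoryTheory Category Limits Pretriangulated Preadditive Opposite
open CategoryTheory.Pretriangulated.Opposite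
open scoped ZeroObject

set_option autoImplicit false
set_option linter.unusedSectionVars false

namespace Groth.Agent.CohDer42

variable {D : Type u} [Category.{v} D] [Preadditive D] [HasZeroObject D] [HasShift D ℤ]
  [∀ n : ℤ, (shiftFunctor D n).Additive] [Pretriangulated D] [HasCoproducts.{v} D]

lemma hasColimitsOfShape_nat : HasColimitsOfShape (Discrete ℕ) D :=
  hasColimitsOfShape_of_equivalence (Discrete.equivalence (Equiv.ulift.{v} (α := ℕ)))

/-- Brown representability -/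
theorem brown_bis [HasColimitsOfShape (Discrete ℕ) D] {ι : Type v} (E : ι → D)
    (h1 : ∀ X : D, ¬ IsZero X → ∃ (i : ι) (f : E i ⟶ X), f ≠ 0)
    (h2 : ∀ (X : ℕ → D) (i : ι) (α : E i ⟶ ∐ X), ∃ (j : ℕ → ι) (β : ∀ n, E (j n) ⟶ X n)
      (γ : E i ⟶ ∐ (fun n => E (j n))), α = γ ≫ Limits.Sigma.map β)
    (H : Dᵒᵖ ⥤ AddCommGrpCat.{v}) [H.IsHomological]
    [∀ κ : Type v, PreservesLimitsOfShape (Discrete κ) H] :
    (H ⋙ forget AddCommGrpCat.{v}).IsRepresentable := by
  classical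
  have : PreservesLimitsOfShape (Discrete ℕ) H :=
    preservesLimitsOfShape_of_equiv (Discrete.equivalence (Equiv.ulift.{v} (α := ℕ))) H
  let E' : ι × ℤ → D := fun p => (E p.1)⟦p.2⟧
  refine Brown.isRepresentable_of_shiftStable H E' ?_ ?_ ?_
  · exact fun p => ⟨(p.1, p.2 + (-1)), ⟨(shiftFunctorAdd D p.2 (-1 : ℤ)).app (E p.1)⟩⟩
  · rintro X ⟨i, m⟩ α
    let F := shiftFunctor D m
    let Y : ℕ → D := fun n => (shiftEquiv D m).inverse.obj (X n)
    let e : ∀ n, F.obj (Y n) ≅ X n := fun n => (shiftEquiv D m).counitIso.app (X n)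
    obtain ⟨j, β, γ, hγ⟩ := h2 Y i
      (F.preimage (α ≫ Limits.Sigma.map (fun n => (e n).inv) ≫ sigmaComparison F Y))
    refine ⟨fun n => (j n, m), fun n => F.map (β n) ≫ (e n).hom,
      F.map γ ≫ inv (sigmaComparison F (fun n => E (j n))), ?_⟩
    have h := congrArg (fun u => F.map u ≫ inv (sigmaComparison F Y) ≫
      Limits.Sigma.map (fun n => (e n).hom)) hγ
    simp only [F.map_preimage, assoc, IsIso.hom_inv_id_assoc, F.map_comp] at h
    have h' : Limits.Sigma.map (fun n => (e n).inv) ≫ Limits.Sigma.map (fun n => (e n).hom) = 𝟙 _ := by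
      apply Sigma.hom_ext; intro n; simp
    rw [h', comp_id] at h
    rw [h, assoc]
    congr 1
    rw [IsIso.eq_inv_comp]
    apply Sigma.hom_ext; intro n
    have h3 : Sigma.ι (fun n => F.obj (E (j n))) n ≫ sigmaComparison F (fun n => E (j n)) =
        F.map (Sigma.ι (fun n => E (j n)) n) := ι_comp_sigmaComparison _ _ _
    rw [reassoc_of% h3, ← F.map_comp_assoc, Sigma.ι_map, F.map_comp, assoc]
    have h4 : F.map (Sigma.ι Y n) ≫ inv (sigmaComparison F Y) = Sigma.ι (fun n => F.obj (Y n)) n := by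
      rw [← ι_comp_sigmaComparison F Y n, assoc, IsIso.hom_inv_id, comp_id]
    rw [reassoc_of% h4]
    simp
  · intro X hX
    obtain ⟨i, f, hf⟩ := h1 X hX
    refine ⟨(i, 0), ((shiftFunctorZero D ℤ).app (E i)).hom ≫ f, fun h0 => hf ?_⟩
    exact (cancel_epi ((shiftFunctorZero D ℤ).app (E i)).hom).1 (h0.trans comp_zero.symm)

variable {D' : Type u'} [Category.{v} D'] [Preadditive D'] [HasZeroObject D'] [HasShift D' ℤ]
  [∀ n : ℤ, (shiftFunctor D' n).Additive] [Pretriangulated D']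

/-- the adjoint functor theorem from Brown representability -/
theorem isLeftAdjoint_of_brown [HasColimitsOfShape (Discrete ℕ) D] {ι : Type v} (E : ι → D)
    (h1 : ∀ X : D, ¬ IsZero X → ∃ (i : ι) (f : E i ⟶ X), f ≠ 0)
    (h2 : ∀ (X : ℕ → D) (i : ι) (α : E i ⟶ ∐ X), ∃ (j : ℕ → ι) (β : ∀ n, E (j n) ⟶ X n)
      (γ : E i ⟶ ∐ (fun n => E (j n))), α = γ ≫ Limits.Sigma.map β)
    (F : D ⥤ D') [F.CommShift ℤ] [F.IsTriangulated]
    [∀ κ : Type v, PreservesColimitsOfShape (Discrete κ) F] : F.IsLeftAdjoint := by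
  have hop : ∀ κ : Type v, PreservesLimitsOfShape (Discrete κ) F.op := fun κ => by
    have : PreservesColimitsOfShape (Discrete κ)ᵒᵖ F :=
      preservesColimitsOfShape_of_equiv (Discrete.opposite κ).symm F
    exact preservesLimitsOfShape_op _ F
  have hrep : ∀ Y : D', ((F.op ⋙ preadditiveYoneda.obj Y) ⋙ forget AddCommGrpCat.{v}).IsRepresentable :=
    fun Y => brown_bis E h1 h2 (F.op ⋙ preadditiveYoneda.obj Y)
  let e : ∀ (X : D) (Y : D'), (F.obj X ⟶ Y) ≃ (X ⟶ ((F.op ⋙ preadditiveYoneda.obj Y) ⋙ forget _).reprX (hF := hrep Y)) :=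
    fun X Y => (((F.op ⋙ preadditiveYoneda.obj Y) ⋙ forget _).representableBy (hF := hrep Y)).homEquiv.symm
  have he : ∀ X' X Y f g, e X' Y (F.map f ≫ g) = f ≫ e X Y g := by
    intro X' X Y f g
    let r := ((F.op ⋙ preadditiveYoneda.obj Y) ⋙ forget _).representableBy (hF := hrep Y)
    apply r.homEquiv.injective
    change r.homEquiv (r.homEquiv.symm _) = r.homEquiv (f ≫ r.homEquiv.symm g)
    rw [r.homEquiv_comp, Equiv.apply_symm_apply, Equiv.apply_symm_apply]
    rfl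
  exact (Adjunction.adjunctionOfEquivRight e he).isLeftAdjoint

lemma brown_hyps_of_compact {ι : Type v} (E : ι → D) (hc : ∀ i, CohDer.IsCompactObject (E i))
    (hg : CohDer.Generates E) :
    (∀ X : D, ¬ IsZero X → ∃ (p : ι × ℤ) (f : (E p.1)⟦p.2⟧ ⟶ X), f ≠ 0) ∧
    (∀ [HasColimitsOfShape (Discrete ℕ) D] (X : ℕ → D) (p : ι × ℤ) (α : (E p.1)⟦p.2⟧ ⟶ ∐ X),
      ∃ (j : ℕ → ι × ℤ) (β : ∀ n, (E (j n).1)⟦(j n).2⟧ ⟶ X n)
      (γ : (E p.1)⟦p.2⟧ ⟶ ∐ (fun n => (E (j n).1)⟦(j n).2⟧)), α = γ ≫ Limits.Sigma.map β) := by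
  refine ⟨fun X hX => ?_, ?_⟩
  · by_contra hne
    simp only [not_exists, not_not] at hne
    refine hX (hg X fun i n f => ?_)
    let w := (shiftFunctorCompIsoId D n (-n) (add_neg_cancel n)).hom.app X
    have := hne (i, -n) (f⟦-n⟧' ≫ w)
    apply (shiftFunctor D (-n)).map_injective
    rw [Functor.map_zero]
    exact (cancel_mono w).1 (this.trans zero_comp.symm)
  · intro _ X p α
    obtain ⟨β, γ, h⟩ := exists_factor_of_isCompactObject (isCompactObject_shift (hc p.1) p.2) X α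
    exact ⟨fun _ => p, β, γ, h⟩

theorem brown_compactlyGenerated (hD : CohDer.IsCompactlyGenerated D)
    (H : Dᵒᵖ ⥤ AddCommGrpCat.{v}) [H.IsHomological]
    [∀ κ : Type v, PreservesLimitsOfShape (Discrete κ) H] :
    (H ⋙ forget AddCommGrpCat.{v}).IsRepresentable := by
  obtain ⟨ι, E, hc, hg⟩ := hD
  have := hasColimitsOfShape_nat (D := D)
  obtain ⟨h1, h2⟩ := brown_hyps_of_compact E hc hg
  exact brown_bis (fun p : ι × ℤ => (E p.1)⟦p.2⟧) h1 h2 H

theorem isLeftAdjoint_compactlyGenerated (hD : CohDer.IsCompactlyGenerated D) (F : D ⥤ D')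
    [F.CommShift ℤ] [F.IsTriangulated]
    [∀ κ : Type v, PreservesColimitsOfShape (Discrete κ) F] : F.IsLeftAdjoint := by
  obtain ⟨ι, E, hc, hg⟩ := hD
  have := hasColimitsOfShape_nat (D := D)
  obtain ⟨h1, h2⟩ := brown_hyps_of_compact E hc hg
  exact isLeftAdjoint_of_brown (fun p : ι × ℤ => (E p.1)⟦p.2⟧) h1 h2 F

end Groth.Agent.CohDer42
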