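import Groth.Agent.FilD41.Basic
import Groth.Agent.PCoh41.Cone
import Mathlib.Algebra.Homology.HomologySequenceLemmas
import Mathlib.CategoryTheory.Limits.Shapes.Pullback.IsPullback.Kernels

/-!
# Resolutions by objects in a cogenerating class
-/

universe v u

open CategoryTheory Category Limits HomologicalComplex
open CochainComplex (mappingCone)

set_option autoImplicit false
set_option linter.unusedSectionVars false
set_option backward.isDefEq.respectTransparency false

namespace Groth.Agent.CohDer42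

variable {A : Type u} [Category.{v} A] [Abelian A]

lemma quasiIso_of_shortExact {S : ShortComplex (CochainComplex A ℤ)} (hS : S.ShortExact)
    (h : S.X₃.Acyclic) : QuasiIso S.f := by
  refine ⟨fun i => ?_⟩
  rw [quasiIsoAt_iff_isIso_homologyMap]
  have hz : ∀ j, IsZero (S.X₃.homology j) := fun j => (exactAt_iff_isZero_homology _ _).1 (h j)
  have : Mono (homologyMap S.f i) :=
    (hS.homology_exact₁ (i - 1) i (by simp)).mono_g ((hz (i - 1)).eq_of_src _ _)
  have : Epi (homologyMap S.f i) := (hS.homology_exact₂ i).epi_f ((hz i).eq_of_tgt _ _)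
  exact isIso_of_mono_of_epi _

lemma shortExact_cokernel {K L : CochainComplex A ℤ} (f : K ⟶ L) [Mono f] :
    (ShortComplex.mk _ _ (cokernel.condition f)).ShortExact :=
  { exact := ShortComplex.exact_cokernel f }

/-- mono quasi-isomorphisms are stable under pushouts -/
lemma mono_quasiIso_of_isPushout {X Y Z W : CochainComplex A ℤ} {f : X ⟶ Y} {g : X ⟶ Z}
    {i : Y ⟶ W} {j : Z ⟶ W} (sq : IsPushout f g i j) [Mono f] [QuasiIso f] :
    Mono j ∧ QuasiIso j := by
  have : Mono j := Abelian.mono_inr_of_isColimit f g sq.isColimit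
  have hac : (cokernel f).Acyclic := (shortExact_cokernel f).acyclic_X₃ (by dsimp; infer_instance)
  have := isIso_cokernel_map_of_isPushout sq
  refine ⟨inferInstance, quasiIso_of_shortExact (shortExact_cokernel j) (fun n => ?_)⟩
  exact (hac n).of_iso (asIso (cokernel.map _ _ _ _ sq.w))

section Resolution

variable (I : A → Prop) (hI : ∀ X : A, ∃ (Y : A) (ι : X ⟶ Y), I Y ∧ Mono ι)
  (K : CochainComplex A ℤ)

/-- differential of the cone under construction -/
noncomputable def coneD (n : ℤ) {L L' : A} (w : K.X (n + 1) ⊞ L ⟶ L') :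
    K.X (n + 1) ⊞ L ⟶ K.X (n + 1 + 1) ⊞ L' :=
  biprod.lift (-(biprod.fst ≫ K.d (n + 1) (n + 1 + 1))) w

/-- terms of a mapping cone -/
noncomputable def coneXIso {L : CochainComplex A ℤ} (φ : K ⟶ L) (m : ℤ) :
    K.X (m + 1) ⊞ L.X m ≅ (mappingCone φ).X m where
  hom := biprod.desc ((CochainComplex.mappingCone.inl φ).v (m + 1) m (by omega))
    ((CochainComplex.mappingCone.inr φ).f m)
  inv := biprod.lift ((CochainComplex.mappingCone.fst φ).1.v m (m + 1) rfl)
    ((CochainComplex.mappingCone.snd φ).v m m (add_zero m))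
  hom_inv_id := by apply biprod.hom_ext' <;> apply biprod.hom_ext <;> simp
  inv_hom_id := by rw [biprod.lift_desc]; exact CochainComplex.mappingCone.id_X φ m (m + 1) rfl

/-- state of the construction -/
structure RState (n : ℤ) where
  L : A
  hL : I L
  X : A
  δ : X ⟶ K.X (n + 1) ⊞ L
  comm : δ ≫ biprod.fst ≫ K.d (n + 1) (n + 1 + 1) = 0

/-- transition of states -/
def RNext (n : ℤ) (t : RState I K n) (t' : RState I K (n + 1)) : Prop :=
  ∃ (w : K.X (n + 1) ⊞ t.L ⟶ t'.L) (e : t'.X ≅ K.X (n + 1) ⊞ t.L) (h : t.δ ≫ w = 0),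
    t'.δ = e.hom ≫ coneD K n w ∧ (ShortComplex.mk _ _ h).Exact

include hI in
lemma exists_rnext (n : ℤ) (t : RState I K n) : ∃ t', RNext I K n t t' := by
  obtain ⟨Y, u, hY, hu⟩ := hI (cokernel t.δ)
  have h : t.δ ≫ cokernel.π t.δ ≫ u = 0 := by simp
  refine ⟨{ L := Y, hL := hY, X := K.X (n + 1) ⊞ t.L, δ := coneD K n (cokernel.π t.δ ≫ u),
            comm := by simp [coneD] }, cokernel.π t.δ ≫ u, Iso.refl _, h, (id_comp _).symm, ?_⟩
  rw [ShortComplex.exact_iff_exact_up_to_refinements]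
  intro T x hx
  exact (ShortComplex.exact_cokernel t.δ).exact_up_to_refinements x
    ((cancel_mono u).1 (((assoc _ _ _).trans hx).trans zero_comp.symm))

include hI in
lemma exists_resolution (hI0 : ∃ Z : A, IsZero Z ∧ I Z) (a : ℤ) [K.IsStrictlyGE a] :
    ∃ (L : CochainComplex A ℤ) (α : K ⟶ L), L.IsStrictlyGE a ∧ (∀ n, I (L.X n)) ∧
      (∀ n, Mono (α.f n)) ∧ QuasiIso α := by
  obtain ⟨Z, hZ, hIZ⟩ := hI0
  have hK0 : ∀ m, m < a → IsZero (K.X m) := fun m hm => K.isZero_of_isStrictlyGE a m hm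
  let zs : ∀ n, RState I K n := fun n =>
    { L := Z, hL := hIZ, X := Z, δ := 0, comm := zero_comp }
  obtain ⟨g, hg⟩ := Groth.Agent.FilD41.exists_chain_up
    (T := fun n => { t : RState I K n // n ≤ a - 1 → IsZero t.L })
    (fun n t t' => RNext I K n t.1 t'.1) (a - 1)
    (fun n _ => ⟨zs n, fun _ => hZ⟩)
    (fun n hn => by
      have hz : IsZero (K.X (n + 1) ⊞ Z) := (biprod_isZero_iff _ _).2 ⟨hK0 _ (by omega), hZ⟩
      exact ⟨0, hZ.iso hz, hZ.eq_of_src _ _, hZ.eq_of_src _ _, ShortComplex.exact_of_isZero_X₂ _ hz⟩)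
    (fun n t => by
      obtain ⟨t', ht'⟩ := exists_rnext I hI K n t.1
      by_cases hn : n + 1 ≤ a - 1
      · have hz : IsZero (K.X (n + 1) ⊞ t.1.L) :=
          (biprod_isZero_iff _ _).2 ⟨hK0 _ (by omega), t.2 (by omega)⟩
        exact ⟨⟨zs (n + 1), fun _ => hZ⟩, hz.to_ Z, hZ.iso hz,
          by rw [hz.eq_of_tgt t.1.δ 0, zero_comp], hZ.eq_of_src _ _,
          ShortComplex.exact_of_isZero_X₂ _ hz⟩
      · exact ⟨⟨t', fun h => absurd h hn⟩, ht'⟩)
  choose w e h hδ hex using hg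
  let L₀ : ℤ → A := fun n => (g n).1.L
  have hMM : ∀ n, coneD K n (w n) ≫ w (n + 1) = 0 := fun n => by
    have := h (n + 1)
    rw [hδ n, assoc] at this
    exact (cancel_epi (e n).hom).1 (this.trans comp_zero.symm)
  let dL : ∀ n, L₀ n ⟶ L₀ (n + 1) := fun n => biprod.inr ≫ w n
  have hw : ∀ n, (biprod.inl ≫ w n) ≫ dL (n + 1) =
      K.d (n + 1) (n + 1 + 1) ≫ biprod.inl ≫ w (n + 1) := fun n => by
    have := biprod.inl ≫= hMM n
    simp [coneD, biprod.lift_eq, Preadditive.comp_add, Preadditive.add_comp] at this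
    rw [neg_add_eq_zero] at this
    simpa [dL] using this.symm
  have hdd : ∀ n, dL n ≫ dL (n + 1) = 0 := fun n => by
    have := biprod.inr ≫= hMM n
    simp [coneD, biprod.lift_eq, Preadditive.comp_add, Preadditive.add_comp] at this
    simpa [dL] using this
  let L : CochainComplex A ℤ := CochainComplex.of L₀ dL hdd
  have hLd : ∀ n, L.d n (n + 1) = dL n := fun n => CochainComplex.of_d L₀ dL n
  let φf : ∀ n, K.X n ⟶ L.X n := fun n =>
    (K.XIsoOfEq (sub_add_cancel n 1)).inv ≫ biprod.inl ≫ w (n - 1) ≫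
      (L.XIsoOfEq (sub_add_cancel n 1)).hom
  have hφf : ∀ n, φf (n + 1) = biprod.inl ≫ w n := by
    suffices ∀ (n m : ℤ) (hm : m + 1 = n + 1),
        (K.XIsoOfEq hm).inv ≫ biprod.inl ≫ w m ≫ (L.XIsoOfEq hm).hom = biprod.inl ≫ w n from
      fun n => this n _ _
    intro n m hm
    obtain rfl : m = n := by omega
    simp
    exact congrArg (fun t => biprod.inl ≫ t) (comp_id (w m))
  let φ : K ⟶ L :=
    { f := φf
      comm' := fun i j (hij : i + 1 = j) => by
        subst hij
        obtain ⟨n, rfl⟩ : ∃ n, i = n + 1 := ⟨i - 1, by omega⟩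
        rw [hφf, hφf, hLd]
        exact hw n }
  refine ⟨L, φ, ?_, fun n => (g n).1.hL, fun n => ?_, ?_⟩
  · exact (CochainComplex.isStrictlyGE_iff _ a).2 (fun n hn => (g n).2 (by omega))
  · obtain ⟨m, rfl⟩ : ∃ m, n = m + 1 + 1 := ⟨n - 2, by omega⟩
    refine Preadditive.mono_of_cancel_zero _ (fun {T} y hy => ?_)
    have hy' : (y ≫ biprod.inl) ≫ w (m + 1) = 0 := by
      rw [assoc, ← hφf]
      exact hy
    obtain ⟨T₁, π₁, hπ₁, x, hx⟩ := (hex (m + 1)).exact_up_to_refinements _ hy'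
    have hx' : π₁ ≫ y ≫ biprod.inl = (x ≫ (e m).hom) ≫ coneD K m (w m) := by
      rw [assoc, ← hδ m]
      exact hx
    have hx₂ : (x ≫ (e m).hom) ≫ w m = 0 := by
      have := hx' =≫ biprod.snd
      simpa [coneD] using this.symm
    obtain ⟨T₂, π₂, hπ₂, z, hz⟩ := (hex m).exact_up_to_refinements _ hx₂
    have hx₁ : π₁ ≫ y = -((x ≫ (e m).hom) ≫ biprod.fst ≫ K.d (m + 1) (m + 1 + 1)) := by
      have := hx' =≫ biprod.fst
      simpa [coneD] using this
    have hz' : π₂ ≫ x ≫ (e m).hom = z ≫ (g m).1.δ := hz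
    rw [← cancel_epi π₁, ← cancel_epi π₂, comp_zero, comp_zero, hx₁, Preadditive.comp_neg]
    simp only [assoc]
    rw [reassoc_of% hz', (g m).1.comm, comp_zero, neg_zero]
  · refine Groth.Agent.PCoh41.quasiIso_of_nqiso _ (fun _ i _ => ?_)
    obtain ⟨n, rfl⟩ : ∃ n, i = n + 1 := ⟨i - 1, by omega⟩
    refine (exactAt_iff_isZero_homology _ _).1 ?_
    rw [exactAt_iff' _ n (n + 1) (n + 1 + 1) (by simp) (by simp)]
    have hc : ∀ m, (coneXIso K φ m).hom ≫ (mappingCone φ).d m (m + 1) =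
        coneD K m (w m) ≫ (coneXIso K φ (m + 1)).hom := fun m => by
      have h1 : φ.f (m + 1) = biprod.inl ≫ w m := hφf m
      have h2 : L.d m (m + 1) = biprod.inr ≫ w m := hLd m
      apply biprod.hom_ext'
      · simp [coneXIso, coneD, h1, CochainComplex.mappingCone.inl_v_d φ (m + 1) m (m + 1 + 1)
          (by omega) (by omega), biprod.lift_desc, Preadditive.comp_add]
        erw [biprod.inl_fst_assoc]
        abel
      · simp [coneXIso, coneD, h2, biprod.lift_desc, Preadditive.comp_add]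
        erw [biprod.inr_fst_assoc]
        simp
        rfl
    have hz : (g (n + 1)).1.δ ≫ coneD K (n + 1) (w (n + 1)) = 0 := by
      apply biprod.hom_ext <;> simp [coneD, (g (n + 1)).1.comm, h (n + 1)]
    have hex' : (ShortComplex.mk _ _ hz).Exact := by
      rw [ShortComplex.exact_iff_exact_up_to_refinements]
      intro T x hx
      refine (hex (n + 1)).exact_up_to_refinements x ?_
      have := hx =≫ biprod.snd
      simpa [coneD] using this
    refine ShortComplex.exact_of_iso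
      (ShortComplex.isoMk (S₂ := (mappingCone φ).sc' n (n + 1) (n + 1 + 1))
        (e n ≪≫ coneXIso K φ n) (coneXIso K φ (n + 1)) (coneXIso K φ (n + 1 + 1)) ?_
        (hc (n + 1))) hex'
    change ((e n).hom ≫ (coneXIso K φ n).hom) ≫ (mappingCone φ).d n (n + 1) =
        (g (n + 1)).1.δ ≫ (coneXIso K φ (n + 1)).hom
    rw [assoc, hc n, hδ n, assoc]

include hI in
lemma exists_resolution' (hI0 : ∃ Z : A, IsZero Z ∧ I Z) (a : ℤ)
    (hK : ∀ n : ℤ, n < a → IsZero (K.homology n)) :
    ∃ (L : CochainComplex A ℤ) (α : K ⟶ L), L.IsStrictlyGE a ∧ (∀ n, I (L.X n)) ∧ QuasiIso α := by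
  have : K.IsGE a := by
    rw [CochainComplex.isGE_iff]
    intro i hi
    exact (exactAt_iff_isZero_homology K i).2 (hK i hi)
  have : QuasiIso (K.πTruncGE a) := (K.quasiIso_πTruncGE_iff a).2 inferInstance
  obtain ⟨L, α, h₁, h₂, -, h₃⟩ := exists_resolution I hI (K.truncGE a) hI0 a
  exact ⟨L, K.πTruncGE a ≫ α, h₁, h₂, inferInstance⟩

end Resolution

end Groth.Agent.CohDer42
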