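import Groth.Agent.CohDer42.AcCrit
import Groth.Agent.CohDer42.DerProd
import Groth.Agent.CohDer42.Res

/-!
# Adapted classes consist of acyclic objects
-/

universe w w' v v' u u'

open CategoryTheory Category Limits HomologicalComplex
open scoped ZeroObject

set_option autoImplicit false
set_option linter.unusedSectionVars false
set_option backward.isDefEq.respectTransparency false

namespace Groth.Agent.CohDer42

variable {C : Type u} [Category.{v} C] [Abelian C] {D : Type u'} [Category.{v'} D] [Abelian D]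
  (G : C ⥤ D) [G.Additive]

/-- saturation of a class -/
def sat (I : ObjectProperty C) : C → Prop := fun X => IsZero X ∨ ∃ Y, I Y ∧ Nonempty (Y ≅ X)

lemma sat_step (I : ObjectProperty C)
    (h2 : ∀ S : ShortComplex C, S.ShortExact → I S.X₁ → I S.X₂ → I S.X₃ ∧ (S.map G).ShortExact)
    (S : ShortComplex C) (hS : S.ShortExact) (h₁ : sat I S.X₁) (h₂ : sat I S.X₂) :
    sat I S.X₃ ∧ (S.map G).ShortExact := by
  by_cases hz : IsZero S.X₁
  · have := hS.epi_g
    have hm : Mono S.g := hS.exact.mono_g (hz.eq_of_src _ _)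
    have : IsIso S.g := isIso_of_mono_of_epi _
    refine ⟨?_, ?_⟩
    · rcases h₂ with h | ⟨Y, hY, ⟨e⟩⟩
      · exact Or.inl (h.of_iso (asIso S.g).symm)
      · exact Or.inr ⟨Y, hY, ⟨e ≪≫ asIso S.g⟩⟩
    · have hGz : IsZero (S.map G).X₁ := G.map_isZero hz
      have : IsIso (S.map G).g := inferInstanceAs (IsIso (G.map S.g))
      exact
        { exact := (ShortComplex.exact_iff_mono _ (hGz.eq_of_src _ _)).2 inferInstance
          mono_f := mono_of_isZero_or hGz
          epi_g := inferInstance }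
  · obtain ⟨Y₁, hY₁, ⟨e₁⟩⟩ := h₁.resolve_left hz
    have hz2 : ¬ IsZero S.X₂ := fun h => hz (by
      have := hS.mono_f
      exact IsZero.of_mono S.f h)
    obtain ⟨Y₂, hY₂, ⟨e₂⟩⟩ := h₂.resolve_left hz2
    let S' := ShortComplex.mk (e₁.hom ≫ S.f ≫ e₂.inv) (e₂.hom ≫ S.g) (by simp)
    let e : S' ≅ S := ShortComplex.isoMk e₁ e₂ (Iso.refl _) (by simp [S']) (by simp [S'])
    obtain ⟨h₃, h⟩ := h2 S' (ShortComplex.shortExact_of_iso e.symm hS) hY₁ hY₂
    exact ⟨Or.inr ⟨_, h₃, ⟨Iso.refl _⟩⟩,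
      ShortComplex.shortExact_of_iso (G.mapShortComplex.mapIso e) h⟩
where
  mono_of_isZero_or {S : ShortComplex D} (h : IsZero S.X₁) : Mono S.f :=
    ⟨fun g₁ g₂ _ => h.eq_of_tgt g₁ g₂⟩

lemma acyclic_map_of_adapted (I : ObjectProperty C)
    (h2 : ∀ S : ShortComplex C, S.ShortExact → I S.X₁ → I S.X₂ → I S.X₃ ∧ (S.map G).ShortExact)
    (M : CochainComplex C ℤ) (a : ℤ) [M.IsStrictlyGE a] (hM : M.Acyclic) (hX : ∀ n, sat I (M.X n)) :
    ((G.mapHomologicalComplex (ComplexShape.up ℤ)).obj M).Acyclic := by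
  let S : ℤ → ShortComplex C := fun n => ShortComplex.mk (M.iCycles n) (M.toCycles n (n + 1))
    (by rw [← cancel_mono (M.iCycles (n + 1)), assoc, toCycles_i, iCycles_d, zero_comp])
  have hS : ∀ n, (S n).ShortExact := fun n => by
    have he : Epi (M.toCycles n (n + 1)) := by
      refine Preadditive.epi_of_cancel_zero _ fun {T} g hg => ?_
      obtain ⟨l, hl⟩ := CokernelCofork.IsColimit.desc'
        (M.homologyIsCokernel n (n + 1) (by simp)) g hg
      have hz : IsZero (M.homology (n + 1)) :=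
        (exactAt_iff_isZero_homology _ _).1 (hM (n + 1))
      rw [← hl]
      change M.homologyπ (n + 1) ≫ l = 0
      rw [hz.eq_of_src l 0, comp_zero]
    refine { exact := ?_, epi_g := he, mono_f := inferInstanceAs (Mono (M.iCycles n)) }
    refine ShortComplex.exact_of_f_is_kernel _ ?_
    refine KernelFork.IsLimit.ofι' _ _ fun {T} x hx => ?_
    have hx' : x ≫ M.toCycles n (n + 1) = 0 := hx
    exact ⟨M.liftCycles x (n + 1) (by simp) (by
      rw [← M.toCycles_i n (n + 1), reassoc_of% hx', zero_comp]), M.liftCycles_i _ _ _ _⟩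
  have hZ : ∀ k : ℕ, sat I (M.cycles (a + k)) ∧ ((S (a + k)).map G).ShortExact := by
    intro k
    induction k with
    | zero =>
      have hz : IsZero (M.cycles (a + (0 : ℕ) - 1)) :=
        IsZero.of_mono (M.iCycles _) (M.isZero_of_isStrictlyGE a _ (by simp))
      have h0 : sat I (M.cycles (a + (0 : ℕ))) := by
        obtain ⟨h, -⟩ := sat_step G I h2 _ (hS (a + (0 : ℕ) - 1)) (Or.inl hz) (hX _)
        have e : a + (0 : ℕ) - 1 + 1 = a + (0 : ℕ) := by lia
        exact e ▸ h
      exact ⟨h0, (sat_step G I h2 _ (hS _) h0 (hX _)).2⟩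
    | succ k ih =>
      obtain ⟨h, -⟩ := sat_step G I h2 _ (hS (a + k)) ih.1 (hX _)
      have e : a + (k : ℤ) + 1 = a + ((k + 1 : ℕ) : ℤ) := by simp; lia
      have h' : sat I (M.cycles (a + ((k + 1 : ℕ) : ℤ))) := e ▸ h
      exact ⟨h', (sat_step G I h2 _ (hS _) h' (hX _)).2⟩
  have hSG : ∀ n, ((S n).map G).ShortExact := fun n => by
    by_cases hn : a ≤ n
    · obtain ⟨k, hk⟩ := Int.le.dest hn
      exact hk ▸ (hZ k).2
    · have hz : IsZero (M.cycles n) :=
        IsZero.of_mono (M.iCycles _) (M.isZero_of_isStrictlyGE a _ (by lia))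
      exact (sat_step G I h2 _ (hS n) (Or.inl hz) (hX n)).2
  intro n
  rw [exactAt_iff' _ (n - 1) n (n + 1) (by simp) (by simp)]
  let T := ShortComplex.mk (G.map (M.toCycles (n - 1) n) ≫ G.map (M.iCycles n))
    (G.map (M.toCycles n (n + 1)))
    (by rw [assoc, ← G.map_comp (M.iCycles n), (S n).zero, G.map_zero, comp_zero])
  have hT : T.Exact := by
    have he : Epi (G.map (M.toCycles (n - 1) n)) := by
      have h := (hSG (n - 1)).epi_g
      change Epi (G.map (M.toCycles (n - 1) (n - 1 + 1))) at h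
      rwa [sub_add_cancel] at h
    let φ : T ⟶ (S n).map G :=
      { τ₁ := G.map (M.toCycles (n - 1) n), τ₂ := 𝟙 _, τ₃ := 𝟙 _
        comm₁₂ := by simp [T, S]
        comm₂₃ := by simp [T, S] }
    have : Epi φ.τ₁ := he
    have : IsIso φ.τ₂ := inferInstanceAs (IsIso (𝟙 _))
    have : Mono φ.τ₃ := inferInstanceAs (Mono (𝟙 _))
    exact (ShortComplex.exact_iff_of_epi_of_isIso_of_mono φ).2 (hSG n).exact
  let ψ : T ⟶ ((G.mapHomologicalComplex (ComplexShape.up ℤ)).obj M).sc' (n - 1) n (n + 1) :=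
    { τ₁ := 𝟙 _, τ₂ := 𝟙 _, τ₃ := G.map (M.iCycles (n + 1))
      comm₁₂ := by
        simp only [id_comp, comp_id, T]
        exact (congrArg G.map (M.toCycles_i (n - 1) n)).symm.trans (G.map_comp _ _) 
      comm₂₃ := by
        simp only [id_comp, T]
        exact ((G.map_comp _ _).symm.trans (congrArg G.map (M.toCycles_i n (n + 1)))).symm }
  have : Epi ψ.τ₁ := inferInstanceAs (Epi (𝟙 _))
  have : IsIso ψ.τ₂ := inferInstanceAs (IsIso (𝟙 _))
  have : Mono ψ.τ₃ := (hSG (n + 1)).mono_f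
  exact (ShortComplex.exact_iff_of_epi_of_isIso_of_mono ψ).1 hT

theorem quasiIso_map_ι'_of_adapted (I : ObjectProperty C)
    (h1 : ∀ X : C, ∃ (Y : C) (ι : X ⟶ Y), I Y ∧ Mono ι)
    (h2 : ∀ S : ShortComplex C, S.ShortExact → I S.X₁ → I S.X₂ → I S.X₃ ∧ (S.map G).ShortExact)
    {X : C} (hX : I X) (R : InjectiveResolution X) :
    QuasiIso ((G.mapHomologicalComplex (ComplexShape.up ℤ)).map R.ι') := by
  let := HasDerivedCategory.standard C
  let := HasDerivedCategory.standard D
  obtain ⟨L, u, hL, hLI, -, hu⟩ := exists_resolution (sat I)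
    (fun Y => ⟨_, (h1 Y).choose_spec.choose, Or.inr ⟨_, (h1 Y).choose_spec.choose_spec.1, ⟨Iso.refl _⟩⟩,
      (h1 Y).choose_spec.choose_spec.2⟩)
    R.cochainComplex ⟨0, isZero_zero C, Or.inl (isZero_zero C)⟩ 0
  have : R.cochainComplex.IsKInjective := CochainComplex.isKInjective_of_injective _ 0
  obtain ⟨v, hv⟩ := Q_map_surjective_of_isKInjective (inv (DerivedCategory.Q.map u))
  obtain ⟨h⟩ := homotopy_of_Q_map_eq (f := u ≫ v) (g := 𝟙 _)
    (by rw [Functor.map_comp, hv, IsIso.hom_inv_id, CategoryTheory.Functor.map_id])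
  let X₀ := (CochainComplex.singleFunctor C 0).obj X
  have : CochainComplex.IsStrictlyGE X₀ 0 := inferInstance
  let M := CochainComplex.mappingCone (R.ι' ≫ u)
  have : M.IsStrictlyGE (-1) := CochainComplex.isStrictlyGE_mappingCone (R.ι' ≫ u) 0 0 (-1)
  have hMX : ∀ n, sat I (M.X n) := fun n => by
    by_cases hn : n = -1
    · subst hn
      refine Or.inr ⟨X, hX, ⟨?_⟩⟩
      have hz : IsZero (L.X (-1)) := L.isZero_of_isStrictlyGE 0 _ (by lia)
      exact (HomologicalComplex.singleObjXSelf (ComplexShape.up ℤ) 0 X).symm ≪≫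
        (isoBiprodZero hz) ≪≫
        (HomologicalComplex.homotopyCofiber.XIsoBiprod (R.ι' ≫ u) (-1) 0 (by simp)).symm
    · have hz : IsZero (X₀.X (n + 1)) := HomologicalComplex.isZero_single_obj_X _ _ _ _ (by lia)
      let e : L.X n ≅ M.X n := isoZeroBiprod hz ≪≫
        (HomologicalComplex.homotopyCofiber.XIsoBiprod (R.ι' ≫ u) n (n + 1) rfl).symm
      rcases hLI n with h | ⟨Y, hY, ⟨e'⟩⟩
      · exact Or.inl (h.of_iso e.symm)
      · exact Or.inr ⟨Y, hY, ⟨e' ≪≫ e⟩⟩
  have hT := HomotopyCategory.mappingCone_triangleh_distinguished (R.ι' ≫ u)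
  have hMac : M.Acyclic := by
    refine (HomotopyCategory.quotient_obj_mem_subcategoryAcyclic_iff_acyclic _).1 ?_
    refine ((HomotopyCategory.subcategoryAcyclic C).trW_iff_of_distinguished _ hT).1 ?_
    rw [← HomotopyCategory.quasiIso_eq_trW_subcategoryAcyclic]
    exact (HomotopyCategory.quotient_map_mem_quasiIso_iff _).2
      ((HomologicalComplex.mem_quasiIso_iff _).2 (inferInstance : QuasiIso (R.ι' ≫ u)))
  have hq : QuasiIso ((G.mapHomologicalComplex (ComplexShape.up ℤ)).map (R.ι' ≫ u)) := by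
    rw [← HomologicalComplex.mem_quasiIso_iff, ← HomotopyCategory.quotient_map_mem_quasiIso_iff,
      HomotopyCategory.quasiIso_eq_trW_subcategoryAcyclic]
    refine ((HomotopyCategory.subcategoryAcyclic D).trW_iff_of_distinguished _
      ((G.mapHomotopyCategory (ComplexShape.up ℤ)).map_distinguished _ hT)).2 ?_
    exact (HomotopyCategory.quotient_obj_mem_subcategoryAcyclic_iff_acyclic _).2
      (acyclic_map_of_adapted G I h2 M (-1) hMac hMX)
  let GQ := G.mapHomologicalComplex (ComplexShape.up ℤ) ⋙ DerivedCategory.Q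
  have huv : GQ.map u ≫ GQ.map v = 𝟙 _ := by
    rw [← Functor.map_comp]
    exact (DerivedCategory.Q_map_eq_of_homotopy _ (G.mapHomotopy h)).trans (GQ.map_id _)
  have i1 : IsIso (GQ.map (R.ι' ≫ u)) := by
    change IsIso (DerivedCategory.Q.map ((G.mapHomologicalComplex (ComplexShape.up ℤ)).map (R.ι' ≫ u)))
    rwa [DerivedCategory.isIso_Q_map_iff_quasiIso]
  rw [← DerivedCategory.isIso_Q_map_iff_quasiIso D]
  change IsIso (GQ.map R.ι')
  have hp : Epi (GQ.map u) :=
    epi_of_epi_fac (show GQ.map R.ι' ≫ GQ.map u = GQ.map (R.ι' ≫ u) from (GQ.map_comp _ _).symm)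
  have hm : IsSplitMono (GQ.map u) := IsSplitMono.mk' ⟨GQ.map v, huv⟩
  have : IsIso (GQ.map u) := isIso_of_epi_of_isSplitMono _
  have : IsIso (GQ.map R.ι' ≫ GQ.map u) := by rw [← GQ.map_comp]; exact i1
  exact IsIso.of_isIso_comp_right _ (GQ.map u)

end Groth.Agent.CohDer42
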