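import Mathlib.Algebra.Homology.DerivedCategory.DerivabilityStructureInjectives
import Mathlib.Algebra.Homology.DerivedCategory.KInjective
import Mathlib.Algebra.Homology.DerivedCategory.TStructure
import Mathlib.Algebra.Homology.HomotopyCategory.HomComplexSingle

/-!
# Objects of the derived category represented by bounded complexes of injectives
-/

universe w v u

open CategoryTheory Category Limits Pretriangulated DerivedCategory CochainComplex.HomComplex

set_option autoImplicit false
set_option backward.isDefEq.respectTransparency false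

namespace Groth.Agent.CohDer42

variable {A : Type u} [Category.{v} A] [Abelian A] [HasDerivedCategory.{w} A]

/-- `X` is isomorphic to a bounded complex of injectives. -/
def IsBddInj (X : DerivedCategory A) : Prop :=
  ∃ (I : CochainComplex A ℤ) (b c : ℤ), I.IsStrictlyGE b ∧ I.IsStrictlyLE c ∧
    (∀ n : ℤ, Injective (I.X n)) ∧ Nonempty (X ≅ Q.obj I)

/-- Vanishing of `Hom(Y[0], X[i])` for large `i`. -/
def ExtVanishAbove (X : DerivedCategory A) (n₀ : ℤ) : Prop :=
  ∀ (Y : A) (i : ℤ), n₀ < i → ∀ φ : (DerivedCategory.singleFunctor A 0).obj Y ⟶ X⟦i⟧, φ = 0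

lemma extVanishAbove_of_iso {X X' : DerivedCategory A} (e : X ≅ X') {n₀ : ℤ}
    (h : ExtVanishAbove X n₀) : ExtVanishAbove X' n₀ := fun Y i hi φ => by
  rw [← cancel_mono ((shiftFunctor (DerivedCategory A) i).map e.inv), zero_comp]
  exact h Y i hi _

lemma extVanishAbove_of_kInjective (I : CochainComplex A ℤ) [I.IsKInjective] (c : ℤ)
    [I.IsStrictlyLE c] : ExtVanishAbove (Q.obj I) c := fun Y i hi φ => by
  let eS := (singleFunctorIsoCompQ A 0).app Y
  let eQ := quotientCompQhIso A
  obtain ⟨ψ, hψ⟩ := (CochainComplex.IsKInjective.Qh_map_bijective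
    ((HomotopyCategory.quotient A (ComplexShape.up ℤ)).obj ((CochainComplex.singleFunctor A 0).obj Y))
    (I⟦i⟧)).2 (eQ.hom.app _ ≫ eS.inv ≫ φ ≫ (Q.commShiftIso i).inv.app I ≫ eQ.inv.app _)
  obtain ⟨f, rfl⟩ := (HomotopyCategory.quotient A (ComplexShape.up ℤ)).map_surjective ψ
  have hf : f = 0 := by
    apply HomologicalComplex.from_single_hom_ext
    exact (I.isZero_of_isStrictlyLE c (0 + i) (by omega)).eq_of_tgt _ _
  rw [hf, Functor.map_zero, Functor.map_zero] at hψ
  replace hψ := hψ.symm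
  rwa [Preadditive.IsIso.comp_left_eq_zero, Preadditive.IsIso.comp_left_eq_zero,
    Preadditive.IsIso.comp_right_eq_zero] at hψ

lemma exists_lift_cycle (J : CochainComplex A ℤ) [J.IsKInjective] {n₀ i : ℤ} (hi : n₀ < i)
    (h : ExtVanishAbove (Q.obj J) n₀) {Y : A} (f : Y ⟶ J.X i) (hf : f ≫ J.d i (i + 1) = 0) :
    ∃ g : Y ⟶ J.X (i - 1), g ≫ J.d (i - 1) i = f := by
  rw [← Cocycle.fromSingleMk_mem_coboundaries_iff f (zero_add i) (i + 1) rfl hf (i - 1) (by omega),
    ← CohomologyClass.toHom_mk_eq_zero_iff]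
  apply (CochainComplex.IsKInjective.Qh_map_bijective _ _).1
  rw [Functor.map_zero, CohomologyClass.toHom_mk]
  let eQ := quotientCompQhIso A
  let eS := (singleFunctorIsoCompQ A 0).app Y
  let z := Cocycle.equivHomShift.symm (Cocycle.fromSingleMk f (zero_add i) (i + 1) rfl hf)
  have hz := h Y i hi (eS.hom ≫ Q.map z ≫ (Q.commShiftIso i).hom.app J)
  rw [Preadditive.IsIso.comp_left_eq_zero, Preadditive.IsIso.comp_right_eq_zero] at hz
  rw [← cancel_mono (eQ.hom.app _), zero_comp]
  exact (eQ.hom.naturality z).trans (by rw [hz, comp_zero])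

theorem isBddInj_iff [EnoughInjectives A] (X : DerivedCategory A) :
    IsBddInj X ↔ (∃ a : ℤ, X.IsGE a) ∧ ∃ n₀ : ℤ, ExtVanishAbove X n₀ := by
  constructor
  · rintro ⟨I, b, c, _, _, hI, ⟨e⟩⟩
    have := CochainComplex.isKInjective_of_injective I b
    refine ⟨⟨b, ?_⟩, c, extVanishAbove_of_iso e.symm (extVanishAbove_of_kInjective I c)⟩
    have : (Q.obj I).IsGE b := (isGE_Q_obj_iff I b).2 inferInstance
    exact TStructure.t.isGE_of_iso e.symm b
  · rintro ⟨⟨a, _⟩, n₀, hn⟩
    obtain ⟨K, _, ⟨e⟩⟩ := exists_iso_Q_obj_of_isGE X a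
    obtain ⟨J, q, _, hJ, _⟩ :=
      CochainComplex.Plus.modelCategoryQuillen.exists_quasiIso_injective K a
    have := CochainComplex.isKInjective_of_injective J a
    let eJ : X ≅ Q.obj J := e ≪≫ asIso (Q.map q)
    replace hn := extVanishAbove_of_iso eJ hn
    let m : ℤ := max n₀ a + 1
    have hle : J.IsLE m := by
      rw [CochainComplex.isLE_iff]
      intro i hi
      rw [HomologicalComplex.exactAt_iff' J (i - 1) i (i + 1) (by simp) (by simp)]
      rw [ShortComplex.exact_iff_exact_up_to_refinements]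
      intro T x hx
      obtain ⟨g, hg⟩ := exists_lift_cycle J (show n₀ < i by omega) hn x hx
      exact ⟨T, 𝟙 T, inferInstance, g, by simpa using hg.symm⟩
    have hinj : Injective (J.cycles m) := by
      obtain ⟨s, hs⟩ := exists_lift_cycle J (show n₀ < m by omega) hn (J.iCycles m) (J.iCycles_d m (m + 1))
      exact Retract.injective
        { i := s
          r := J.toCycles (m - 1) m
          retract := by rw [← cancel_mono (J.iCycles m), assoc, J.toCycles_i, id_comp, hs] }
    have hinjT : ∀ n : ℤ, Injective ((J.truncLE m).X n) := fun n => by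
      rcases lt_trichotomy n m with hlt | rfl | hgt
      · exact Injective.of_iso (J.truncLEXIso m n hlt).symm inferInstance
      · exact Injective.of_iso (J.truncLEXIsoCycles m).symm hinj
      · exact ((J.truncLE m).isZero_of_isStrictlyLE m n hgt).injective
    refine ⟨J.truncLE m, a, m, ?_, inferInstance, hinjT,
      ⟨eJ ≪≫ (asIso (Q.map (J.ιTruncLE m))).symm⟩⟩
    rw [CochainComplex.isStrictlyGE_iff]
    intro i hi
    exact (J.isZero_of_isStrictlyGE a i hi).of_iso (J.truncLEXIso m i (by omega))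

lemma isBddInj_obj₂ [EnoughInjectives A] {T : Triangle (DerivedCategory A)}
    (hT : T ∈ distTriang (DerivedCategory A)) (h₁ : IsBddInj T.obj₁) (h₃ : IsBddInj T.obj₃) :
    IsBddInj T.obj₂ := by
  rw [isBddInj_iff] at h₁ h₃ ⊢
  obtain ⟨⟨a₁, _⟩, n₁, hn₁⟩ := h₁
  obtain ⟨⟨a₃, _⟩, n₃, hn₃⟩ := h₃
  refine ⟨⟨min a₁ a₃, ?_⟩, max n₁ n₃, fun Y i hi φ => ?_⟩
  · have : TStructure.t.IsGE T.obj₁ (min a₁ a₃) := TStructure.t.isGE_of_ge _ _ a₁ (min_le_left _ _)
    have : TStructure.t.IsGE T.obj₃ (min a₁ a₃) := TStructure.t.isGE_of_ge _ _ a₃ (min_le_right _ _)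
    exact TStructure.t.isGE₂ T hT _ inferInstance inferInstance
  · obtain ⟨e, rfl⟩ := Triangle.coyoneda_exact₂ _ (Triangle.shift_distinguished T hT i) φ
      (hn₃ Y i (by omega) _)
    rw [hn₁ Y i (by omega) e, zero_comp]

end Groth.Agent.CohDer42
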