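import Mathlib.Algebra.Homology.HomotopyCategory.Plus

/-!
# `K⁻` and `Kᵇ` are triangulated subcategories
-/

universe v u

open CategoryTheory Category Limits Pretriangulated
open scoped ZeroObject

set_option autoImplicit false
set_option backward.isDefEq.respectTransparency false

namespace Groth.Agent.CohDer42

variable {V : Type u} [Category.{v} V] [Preadditive V] [HasZeroObject V] [HasBinaryBiproducts V]

lemma isStrictlyLE_mappingCone {K L : CochainComplex V ℤ} (f : K ⟶ L)
    (n₁ n₂ n : ℤ) [K.IsStrictlyLE n₁] [L.IsStrictlyLE n₂] (hn₁ : n₁ ≤ n + 1) (hn₂ : n₂ ≤ n) :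
    (CochainComplex.mappingCone f).IsStrictlyLE n := by
  rw [CochainComplex.isStrictlyLE_iff]
  intro i hi
  simp only [CochainComplex.mappingCone.isZero_X_iff]
  exact ⟨K.isZero_of_isStrictlyLE n₁ _ (by omega), L.isZero_of_isStrictlyLE n₂ _ (by omega)⟩

/-- a predicate on complexes, stable under shifts and cones, defines a triangulated subcategory -/
lemma isTriangulated_of_cones (P : CochainComplex V ℤ → Prop)
    (h0 : P 0) (hshift : ∀ (K : CochainComplex V ℤ) (n : ℤ), P K → P (K⟦n⟧))
    (hcone : ∀ {K L : CochainComplex V ℤ} (f : K ⟶ L), P K → P L → P (CochainComplex.mappingCone f)) :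
    ObjectProperty.IsTriangulated (fun K : HomotopyCategory V (ComplexShape.up ℤ) => P K.as) := by
  let Q : ObjectProperty (HomotopyCategory V (ComplexShape.up ℤ)) := fun K => P K.as
  have : Q.ContainsZero :=
    ⟨⟨(HomotopyCategory.quotient _ _).obj 0, Functor.map_isZero _ (isZero_zero _), h0⟩⟩
  have : Q.IsStableUnderShift ℤ :=
    ⟨fun n => ⟨fun K hK => by
      obtain ⟨K : CochainComplex V ℤ, rfl⟩ := K.quotient_obj_surjective
      rw [ObjectProperty.prop_shift_iff, HomotopyCategory.shift_quotient_obj]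
      exact hshift K n hK⟩⟩
  have : Q.IsTriangulatedClosed₃ := ⟨fun T hT h₁ h₂ => by
    obtain ⟨f : T.obj₁.as ⟶ T.obj₂.as, hf⟩ := (HomotopyCategory.quotient _ _).map_surjective T.mor₁
    refine ⟨(HomotopyCategory.quotient _ _).obj (CochainComplex.mappingCone f), hcone f h₁ h₂,
      ⟨Triangle.π₃.mapIso (isoTriangleOfIso₁₂ T _ hT
        (HomotopyCategory.mappingCone_triangleh_distinguished f) (Iso.refl _) (Iso.refl _) ?_)⟩⟩
    exact (comp_id _).trans ((id_comp _).trans hf).symm⟩
  exact { toIsTriangulatedClosed₂ := .of_isTriangulatedClosed₃ }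

lemma isTriangulated_minus :
    ObjectProperty.IsTriangulated (fun K : HomotopyCategory V (ComplexShape.up ℤ) =>
      ∃ n : ℤ, CochainComplex.IsStrictlyLE K.as n) :=
  isTriangulated_of_cones (fun K => ∃ n : ℤ, K.IsStrictlyLE n) ⟨0, inferInstance⟩
    (fun K n ⟨q, hq⟩ => ⟨q - n, K.isStrictlyLE_shift q n (q - n) (by omega)⟩)
    (fun f ⟨a, ha⟩ ⟨b, hb⟩ => ⟨max a b,
      isStrictlyLE_mappingCone f a b _ ((le_max_left a b).trans (by omega)) (le_max_right a b)⟩)

lemma isTriangulated_bounded :
    ObjectProperty.IsTriangulated (fun K : HomotopyCategory V (ComplexShape.up ℤ) =>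
      ∃ a b : ℤ, CochainComplex.IsStrictlyGE K.as a ∧ CochainComplex.IsStrictlyLE K.as b) :=
  isTriangulated_of_cones (fun K => ∃ a b : ℤ, K.IsStrictlyGE a ∧ K.IsStrictlyLE b)
    ⟨0, 0, inferInstance, inferInstance⟩
    (fun K n ⟨p, q, hp, hq⟩ => ⟨p - n, q - n, K.isStrictlyGE_shift p n (p - n) (by omega),
      K.isStrictlyLE_shift q n (q - n) (by omega)⟩)
    (fun f ⟨a, b, ha, hb⟩ ⟨a', b', ha', hb'⟩ => ⟨min a a' - 1, max b b',
      CochainComplex.isStrictlyGE_mappingCone f a a' _ (by have := min_le_left a a'; omega)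
        (by have := min_le_right a a'; omega),
      isStrictlyLE_mappingCone f b b' _ ((le_max_left b b').trans (by omega)) (le_max_right b b')⟩)

end Groth.Agent.CohDer42
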