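import Mathlib.CategoryTheory.Triangulated.HomologicalFunctor
import Mathlib.CategoryTheory.Triangulated.Opposite.Pretriangulated
import Mathlib.CategoryTheory.Limits.Shapes.Opposites.Products
import Mathlib.CategoryTheory.Limits.Preserves.Shapes.Products
import Mathlib.CategoryTheory.Limits.Types.Limits
import Mathlib.Algebra.Homology.ShortComplex.Ab
import Mathlib.Algebra.Category.Grp.Limits
import Mathlib.CategoryTheory.Yoneda
import Groth.Agent.CohDer42.TriBasic

/-!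
# Brown representability
-/

universe w v u

open CategoryTheory Category Limits Pretriangulated Preadditive Opposite
open CategoryTheory.Pretriangulated.Opposite
open scoped ZeroObject

set_option autoImplicit false
set_option linter.unusedSectionVars false

namespace Groth.Agent.CohDer42.Brown

variable {D : Type u} [Category.{v} D] [Preadditive D] [HasZeroObject D] [HasShift D ℤ]
  [∀ n : ℤ, (shiftFunctor D n).Additive] [Pretriangulated D]
  (H : Dᵒᵖ ⥤ AddCommGrpCat.{v}) [H.IsHomological]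

/-- contravariant action on elements -/
def ev {A B : D} (g : A ⟶ B) : H.obj (op B) →+ H.obj (op A) := (H.map g.op).hom

lemma ev_comp {A B C : D} (f : A ⟶ B) (g : B ⟶ C) (s : H.obj (op C)) :
    ev H (f ≫ g) s = ev H f (ev H g s) := by
  change (H.map (f ≫ g).op).hom s = _
  rw [op_comp, H.map_comp]
  rfl

lemma ev_id {A : D} (s : H.obj (op A)) : ev H (𝟙 A) s = s := by
  change (H.map (𝟙 A).op).hom s = _
  rw [op_id, H.map_id]
  rfl

lemma ev_sub {A B : D} (f g : A ⟶ B) (s : H.obj (op B)) :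
    ev H (f - g) s = ev H f s - ev H g s := by
  change (H.map (f - g).op).hom s = _
  rw [op_sub, H.map_sub]
  rfl

lemma ev_zero {A B : D} (s : H.obj (op B)) : ev H (0 : A ⟶ B) s = 0 := by
  change (H.map (0 : A ⟶ B).op).hom s = _
  rw [op_zero, H.map_zero]
  rfl

lemma exact_ev {T : Triangle D} (hT : T ∈ distTriang D) (s : H.obj (op T.obj₂))
    (h : ev H T.mor₁ s = 0) : ∃ t, ev H T.mor₂ t = s := by
  have := H.map_distinguished_exact _ (op_distinguished T hT)
  rw [ShortComplex.ab_exact_iff] at this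
  exact this s h

section Products

variable {κ : Type w} [Small.{v} κ] (X : κ → D) [HasCoproduct X]
  [PreservesLimitsOfShape (Discrete κ) H]

/-- the limit fan computing the value of `H` on a coproduct -/
noncomputable def evFan : IsLimit (Fan.mk ((H ⋙ forget AddCommGrpCat.{v}).obj (op (∐ X)))
    (fun k => (H ⋙ forget AddCommGrpCat.{v}).map (Sigma.ι X k).op)) :=
  isLimitFanMkObjOfIsLimit (H ⋙ forget AddCommGrpCat.{v}) (fun k => op (X k))
    (fun k => (Sigma.ι X k).op) (Cofan.IsColimit.op (coproductIsCoproduct X))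

lemma exists_ev_ι (s : ∀ k, H.obj (op (X k))) :
    ∃ t : H.obj (op (∐ X)), ∀ k, ev H (Sigma.ι X k) t = s k := by
  let c : Fan (fun k => (H ⋙ forget AddCommGrpCat.{v}).obj (op (X k))) :=
    Fan.mk PUnit.{v + 1} (fun k => ↾fun _ => s k)
  refine ⟨(evFan H X).lift c PUnit.unit, fun k => ?_⟩
  exact ConcreteCategory.congr_hom ((evFan H X).fac c ⟨k⟩) PUnit.unit

lemma ev_ι_ext (t t' : H.obj (op (∐ X)))
    (h : ∀ k, ev H (Sigma.ι X k) t = ev H (Sigma.ι X k) t') : t = t' := by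
  have := (evFan H X).hom_ext (W := PUnit.{v + 1}) (f := ↾fun _ => t) (f' := ↾fun _ => t') (by
    rintro ⟨k⟩
    ext x
    exact h k)
  exact ConcreteCategory.congr_hom this PUnit.unit

end Products

variable [HasCoproducts.{v} D] [∀ κ : Type v, PreservesLimitsOfShape (Discrete κ) H]
variable {ι : Type v} (E : ι → D)

lemma exists_killing (X : D) (s : H.obj (op X)) :
    ∃ (X' : D) (f : X ⟶ X') (s' : H.obj (op X')), ev H f s' = s ∧
      ∀ (i : ι) (e : E i ⟶ X), ev H e s = 0 → e ≫ f = 0 := by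
  let J := {p : Σ i, (E i ⟶ X) // ev H p.2 s = 0}
  let φ : (∐ fun p : J => E p.1.1) ⟶ X := Sigma.desc fun p => p.1.2
  obtain ⟨X', f, g, hT⟩ := distinguished_cocone_triangle φ
  have hs : ev H φ s = 0 := ev_ι_ext H _ _ _ fun p => by
    rw [← ev_comp, map_zero, Sigma.ι_desc]
    exact p.2
  obtain ⟨s', hs'⟩ := exact_ev H hT s hs
  refine ⟨X', f, s', hs', fun i e he => ?_⟩
  have h0 : φ ≫ f = 0 := comp_distTriang_mor_zero₁₂ _ hT
  have := Sigma.ι (fun p : J => E p.1.1) ⟨⟨i, e⟩, he⟩ ≫= h0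
  simpa [φ] using this

section Tower

variable [HasColimitsOfShape (Discrete ℕ) D]
variable (X : ℕ → D) (f : ∀ n, X n ⟶ X (n + 1))

/-- composites of the transition maps from the bottom -/
def F : ∀ n, X 0 ⟶ X n
  | 0 => 𝟙 _
  | n + 1 => F n ≫ f n

@[simp] lemma F_zero : F X f 0 = 𝟙 _ := rfl
lemma F_succ (n : ℕ) : F X f (n + 1) = F X f n ≫ f n := rfl

/-- composites of the transition maps from the first stage -/
def G : ∀ n, X 1 ⟶ X (n + 1)
  | 0 => 𝟙 _
  | n + 1 => G n ≫ f (n + 1)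

lemma F_eq_G : ∀ n, F X f (n + 1) = f 0 ≫ G X f n
  | 0 => by simp [F_succ, G]
  | n + 1 => by rw [F_succ, F_eq_G n, G, assoc]

variable (s : ∀ n, H.obj (op (X n))) (hs : ∀ n, ev H (f n) (s (n + 1)) = s n)

include hs in
lemma ev_F : ∀ n, ev H (F X f n) (s n) = s 0
  | 0 => by simp [ev_id]
  | n + 1 => by rw [F_succ, ev_comp, hs n, ev_F n]

/-- `1 - shift` on a constant system is a split monomorphism -/
lemma eq_zero_of_comp_constant {A B : D} (w : A ⟶ ∐ fun _ : ℕ => B)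
    (h : w ≫ Sigma.desc (fun n => Sigma.ι (fun _ : ℕ => B) n - Sigma.ι (fun _ : ℕ => B) (n + 1)) = 0) :
    w = 0 := by
  let r : (∐ fun _ : ℕ => B) ⟶ ∐ fun _ : ℕ => B :=
    Sigma.desc fun n => -∑ k ∈ Finset.range n, Sigma.ι (fun _ : ℕ => B) k
  have hr : Sigma.desc (fun n => Sigma.ι (fun _ : ℕ => B) n - Sigma.ι (fun _ : ℕ => B) (n + 1)) ≫ r = 𝟙 _ := by
    apply Sigma.hom_ext
    intro n
    simp only [r, Sigma.ι_desc_assoc, sub_comp, Sigma.ι_desc, comp_id, Finset.sum_range_succ]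
    abel
  rw [← comp_id w, ← hr, reassoc_of% h, zero_comp]

variable (h2 : ∀ (Y : ℕ → D) (i : ι) (α : E i ⟶ ∐ Y), ∃ (j : ℕ → ι) (β : ∀ n, E (j n) ⟶ Y n)
  (γ : E i ⟶ ∐ (fun n => E (j n))), α = γ ≫ Limits.Sigma.map β)

include h2 in
/-- kernels on coproducts are detected componentwise -/
lemma comp_map_eq_zero {Y Z W : ℕ → D} (g : ∀ n, Y n ⟶ Z n) (g' : ∀ n, Y n ⟶ W n)
    (hg : ∀ n i (e : E i ⟶ Y n), e ≫ g n = 0 → e ≫ g' n = 0)
    {i : ι} (w : E i ⟶ ∐ Y) (hw : w ≫ Limits.Sigma.map g = 0) : w ≫ Limits.Sigma.map g' = 0 := by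
  choose K k δ hK using fun n => distinguished_cocone_triangle₁ (g n)
  obtain ⟨u, hu⟩ := Triangle.coyoneda_exact₂ _
    (coproduct_triangle_distinguished (fun n => Triangle.mk (k n) (g n) (δ n)) hK) w hw
  change E i ⟶ ∐ K at u
  change w = u ≫ Limits.Sigma.map k at hu
  obtain ⟨j, β, γ, rfl⟩ := h2 K i u
  rw [hu]
  have : ∀ n, β n ≫ k n ≫ g' n = 0 := fun n => by
    rw [← assoc]
    refine hg n _ _ ?_
    have h0 : k n ≫ g n = 0 := comp_distTriang_mor_zero₁₂ _ (hK n)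
    rw [assoc, h0, comp_zero]
  have h' : Limits.Sigma.map β ≫ Limits.Sigma.map k ≫ Limits.Sigma.map g' = 0 := by
    apply Sigma.hom_ext
    intro n
    simp [reassoc_of% (this n)]
  simp [h']

variable (hsurj : ∀ i (t : H.obj (op (E i))), ∃ c : E i ⟶ X 0, ev H c (s 0) = t)
  (hkill : ∀ n i (e : E i ⟶ X n), ev H e (s n) = 0 → e ≫ f n = 0)

include hs h2 hsurj hkill in
lemma tower_repr {i : ι} (u : E i ⟶ ∐ X) :
    ∃ (j : ℕ → ι) (c : ∀ n, E (j n) ⟶ X 0) (γ : E i ⟶ ∐ fun n => E (j n)),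
      u ≫ Sigma.desc (fun n => f n ≫ Sigma.ι X (n + 1)) =
        γ ≫ Sigma.desc (fun n => c n ≫ F X f (n + 1) ≫ Sigma.ι X (n + 1)) := by
  obtain ⟨j, β, γ, rfl⟩ := h2 X i u
  choose c hc using fun n => hsurj (j n) (ev H (β n) (s n))
  refine ⟨j, c, γ, ?_⟩
  rw [assoc]
  congr 1
  apply Sigma.hom_ext
  intro n
  have hk : (β n - c n ≫ F X f n) ≫ f n = 0 := hkill n _ _ (by
    rw [ev_sub, ev_comp, ev_F H X f s hs, hc, sub_self])
  rw [sub_comp, sub_eq_zero, assoc] at hk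
  simp [F_succ, reassoc_of% hk]

include hs h2 hsurj hkill in
lemma tower_injective {i : ι} (u : E i ⟶ ∐ X)
    (hu : u ≫ (𝟙 _ - Sigma.desc (fun n => f n ≫ Sigma.ι X (n + 1))) = 0) : u = 0 := by
  obtain ⟨j, c, γ, hc⟩ := tower_repr H E X f s hs h2 hsurj hkill u
  rw [comp_sub, comp_id, sub_eq_zero] at hu
  let T : (∐ fun n => X (n + 1)) ⟶ ∐ X := Sigma.desc fun n => Sigma.ι X (n + 1)
  let R : ∐ X ⟶ ∐ fun n => X (n + 1) := Sigma.desc fun n =>
    match n with
    | 0 => 0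
    | m + 1 => Sigma.ι (fun n => X (n + 1)) m
  have hTR : T ≫ R = 𝟙 _ := by apply Sigma.hom_ext; intro n; simp [T, R]
  let q : (∐ fun _ : ℕ => X 0) ⟶ ∐ fun n => X (n + 1) := Limits.Sigma.map fun n => F X f (n + 1)
  let d₀ : (∐ fun _ : ℕ => X 0) ⟶ ∐ fun _ : ℕ => X 0 :=
    Sigma.desc fun n => Sigma.ι (fun _ : ℕ => X 0) n - Sigma.ι (fun _ : ℕ => X 0) (n + 1)
  obtain ⟨w₀, hw₀⟩ : ∃ w : E i ⟶ ∐ fun _ : ℕ => X 0, w = γ ≫ Limits.Sigma.map c := ⟨_, rfl⟩
  have hu' : u = w₀ ≫ q ≫ T := by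
    rw [hu, hc]
    simp only [hw₀, assoc]
    congr 1
    apply Sigma.hom_ext
    intro n
    simp [q, T]
  have hcomm : d₀ ≫ q ≫ T = q ≫ T ≫ (𝟙 _ - Sigma.desc (fun n => f n ≫ Sigma.ι X (n + 1))) := by
    apply Sigma.hom_ext
    intro n
    simp [d₀, q, T, sub_comp, comp_sub, F_succ]
  have h0 : (w₀ ≫ d₀) ≫ q = 0 := by
    have : u ≫ (𝟙 _ - Sigma.desc (fun n => f n ≫ Sigma.ι X (n + 1))) ≫ R = 0 := by
      rw [← assoc, comp_sub, comp_id, sub_eq_zero.2 hu, zero_comp]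
    rw [hu'] at this
    simp only [assoc] at this ⊢
    rw [← reassoc_of% hcomm, hTR, comp_id] at this
    exact this
  have hf₀ : (w₀ ≫ d₀) ≫ Limits.Sigma.map (fun _ : ℕ => f 0) = 0 :=
    comp_map_eq_zero E h2 (fun n => F X f (n + 1)) (fun _ => f 0) (fun n i e he => hkill 0 i e (by
      rw [← ev_F H X f s hs (n + 1), ← ev_comp, he, ev_zero])) _ h0
  have hw : w₀ ≫ Limits.Sigma.map (fun _ : ℕ => f 0) = 0 := by
    apply eq_zero_of_comp_constant
    refine Eq.trans ?_ hf₀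
    rw [assoc, assoc]
    refine congrArg (w₀ ≫ ·) ?_
    apply Sigma.hom_ext
    intro n
    simp [d₀, sub_comp, comp_sub]
  have hq : q = Limits.Sigma.map (fun _ : ℕ => f 0) ≫ Limits.Sigma.map (G X f) := by
    apply Sigma.hom_ext
    intro n
    simp [q, F_eq_G]
  rw [hu', hq, assoc, ← assoc w₀, hw, zero_comp]

variable (hshift : ∀ i, ∃ j, Nonempty (E j ≅ (E i)⟦(-1 : ℤ)⟧))
  [PreservesLimitsOfShape (Discrete ℕ) H]

include hs h2 hsurj hkill hshift in
lemma tower_colimit : ∃ (Y : D) (h : X 0 ⟶ Y) (t : H.obj (op Y)), ev H h t = s 0 ∧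
    ∀ i, Function.Bijective (fun g : E i ⟶ Y => ev H g t) := by
  let σ : ∐ X ⟶ ∐ X := Sigma.desc fun n => f n ≫ Sigma.ι X (n + 1)
  obtain ⟨Y, π, δ, hT⟩ := distinguished_cocone_triangle (𝟙 _ - σ)
  obtain ⟨sS, hsS⟩ := exists_ev_ι H X s
  have h0 : ev H (𝟙 _ - σ) sS = 0 := ev_ι_ext H _ _ _ fun n => by
    rw [← ev_comp, comp_sub, comp_id, Sigma.ι_desc, ev_sub, ev_comp, hsS, hsS, hs, sub_self, map_zero]
  obtain ⟨t, ht⟩ : ∃ t : H.obj (op Y), ev H π t = sS := exact_ev H hT sS h0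
  have hdπ : (𝟙 _ - σ) ≫ π = 0 := comp_distTriang_mor_zero₁₂ _ hT
  refine ⟨Y, Sigma.ι X 0 ≫ π, t, by rw [ev_comp, ht, hsS], fun i => ⟨?_, ?_⟩⟩
  · suffices ∀ g : E i ⟶ Y, ev H g t = 0 → g = 0 from
      fun g₁ g₂ h => sub_eq_zero.1 (this _ (by rw [ev_sub]; exact sub_eq_zero.2 h))
    intro g hg
    have hδ : g ≫ δ = 0 := by
      refine eq_zero_of_shift_comp (T := Triangle.mk (𝟙 _ - σ) π δ) 1 (fun u hu => ?_) _ ?_
      · obtain ⟨j, ⟨e⟩⟩ := hshift i
        have := tower_injective H E X f s hs h2 hsurj hkill (e.hom ≫ u) (by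
          exact (assoc _ _ _).trans ((congrArg (e.hom ≫ ·) hu).trans comp_zero))
        exact (cancel_epi e.hom).1 (this.trans comp_zero.symm)
      · exact (assoc _ _ _).trans ((congrArg (g ≫ ·) (comp_distTriang_mor_zero₃₁ _ hT)).trans comp_zero)
    obtain ⟨u, rfl⟩ : ∃ u : E i ⟶ ∐ X, g = u ≫ π := Triangle.coyoneda_exact₃ _ hT g hδ
    obtain ⟨j, c, γ, hc⟩ := tower_repr H E X f s hs h2 hsurj hkill u
    let A : ∀ m, X 0 ⟶ ∐ X := fun m => -∑ k ∈ Finset.range m, F X f k ≫ Sigma.ι X k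
    have hA : ∀ m, F X f m ≫ Sigma.ι X m = Sigma.ι X 0 + A m ≫ (𝟙 _ - σ) := by
      intro m
      induction m with
      | zero => simp [A]
      | succ m ih =>
        have : A (m + 1) = A m - F X f m ≫ Sigma.ι X m := by
          simp only [A, Finset.sum_range_succ, neg_add]
          abel
        rw [this, sub_comp, ← add_sub_assoc, ← ih, assoc, comp_sub, comp_id, Sigma.ι_desc, comp_sub,
          F_succ, assoc]
        abel
    have key : u ≫ π = (γ ≫ Sigma.desc c) ≫ Sigma.ι X 0 ≫ π := by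
      have h1 : u ≫ π = u ≫ σ ≫ π := by
        rw [← sub_eq_zero, ← comp_sub]
        rw [sub_comp, id_comp] at hdπ
        rw [hdπ, comp_zero]
      rw [h1, ← assoc, hc, assoc, assoc]
      congr 1
      apply Sigma.hom_ext
      intro n
      simp only [Sigma.ι_desc_assoc, assoc]
      rw [← assoc (F X f (n + 1)), hA, add_comp, assoc (A _), hdπ, comp_zero, add_zero]
    rw [key, ev_comp H (γ ≫ Sigma.desc c), ev_comp H (Sigma.ι X 0) π, ht, hsS] at hg
    have h1 : Sigma.ι X 0 ≫ π = f 0 ≫ Sigma.ι X 1 ≫ π := by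
      have := Sigma.ι X 0 ≫= hdπ
      simp only [σ, sub_comp, comp_sub, id_comp, comp_zero, Sigma.ι_desc_assoc, assoc, zero_add, sub_eq_zero] at this
      exact this
    rw [key, h1, ← assoc (γ ≫ Sigma.desc c), hkill 0 i _ hg, zero_comp]
  · intro x
    obtain ⟨c, hc⟩ := hsurj i x
    refine ⟨c ≫ Sigma.ι X 0 ≫ π, ?_⟩
    change ev H _ t = x
    rw [ev_comp, ev_comp, ht, hsS, hc]

end Tower

/-- a node of the tower -/
structure Node where
  obj : D
  el : H.obj (op obj)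

variable [HasColimitsOfShape (Discrete ℕ) D] [PreservesLimitsOfShape (Discrete ℕ) H]
variable (hshift : ∀ i, ∃ j, Nonempty (E j ≅ (E i)⟦(-1 : ℤ)⟧))
  (h2 : ∀ (Y : ℕ → D) (i : ι) (α : E i ⟶ ∐ Y), ∃ (j : ℕ → ι) (β : ∀ n, E (j n) ⟶ Y n)
    (γ : E i ⟶ ∐ (fun n => E (j n))), α = γ ≫ Limits.Sigma.map β)

include hshift h2 in
lemma exists_extension (W : D) (w : H.obj (op W)) :
    ∃ (X : D) (h : W ⟶ X) (s : H.obj (op X)), ev H h s = w ∧
      ∀ i, Function.Bijective (fun g : E i ⟶ X => ev H g s) := by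
  let J := Σ i, (H.obj (op (E i)) : Type v)
  let P := ∐ fun p : J => E p.1
  obtain ⟨p, hp⟩ := exists_ev_ι H (fun p : J => E p.1) (fun p => p.2)
  let N₀ : Node H := ⟨W ⊞ P, ev H biprod.fst w + ev H biprod.snd p⟩
  choose X' f' s' hs' hk' using fun (N : Node H) => exists_killing H E N.obj N.el
  let next : Node H → Node H := fun N => ⟨X' N, s' N⟩
  let N : ℕ → Node H := Nat.rec N₀ (fun _ M => next M)
  obtain ⟨Y, h, t, ht, hbij⟩ := tower_colimit H E (fun n => (N n).obj) (fun n => f' (N n))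
    (fun n => (N n).el) (fun n => hs' (N n)) h2 (fun i x => by
      refine ⟨Sigma.ι (fun p : J => E p.1) ⟨i, x⟩ ≫ biprod.inr, ?_⟩
      change ev H _ (ev H biprod.fst w + ev H biprod.snd p) = x
      rw [ev_comp, map_add, ← ev_comp H biprod.inr, ← ev_comp H biprod.inr, biprod.inr_fst,
        biprod.inr_snd, ev_zero, ev_id, zero_add, hp])
    (fun n => hk' (N n)) hshift
  refine ⟨Y, biprod.inl ≫ h, t, ?_, hbij⟩
  rw [ev_comp, ht]
  change ev H biprod.inl (ev H biprod.fst w + ev H biprod.snd p) = w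
  rw [map_add, ← ev_comp H biprod.inl, ← ev_comp H biprod.inl, biprod.inl_fst, biprod.inl_snd,
    ev_zero, ev_id, add_zero]

variable (h1 : ∀ X : D, ¬ IsZero X → ∃ (i : ι) (f : E i ⟶ X), f ≠ 0)

include hshift h1 in
lemma isIso_of_bijective {X X' : D} (h : X ⟶ X') (s : H.obj (op X)) (s' : H.obj (op X'))
    (hh : ev H h s' = s) (hX : ∀ i, Function.Bijective (fun g : E i ⟶ X => ev H g s))
    (hX' : ∀ i, Function.Bijective (fun g : E i ⟶ X' => ev H g s')) : IsIso h := by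
  have hb : ∀ i, Function.Bijective (fun g : E i ⟶ X => g ≫ h) := fun i => by
    refine (Function.Bijective.of_comp_iff' (hX' i) _).1 ?_
    have : (fun g : E i ⟶ X' => ev H g s') ∘ (fun g : E i ⟶ X => g ≫ h) =
        fun g : E i ⟶ X => ev H g s := funext fun g => by
      simp only [Function.comp_apply, ev_comp, hh]
    rw [this]
    exact hX i
  obtain ⟨C, m, δ, hT⟩ := distinguished_cocone_triangle h
  apply (Triangle.isZero₃_iff_isIso₁ _ hT).1
  by_contra hC
  obtain ⟨i, e, he⟩ := h1 C hC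
  apply he
  have hδ : e ≫ δ = 0 := by
    refine eq_zero_of_shift_comp (T := Triangle.mk h m δ) 1 (fun u hu => ?_) _ ?_
    · obtain ⟨j, ⟨e'⟩⟩ := hshift i
      have : e'.hom ≫ u = 0 := (hb j).1 (((assoc _ _ _).trans (congrArg (e'.hom ≫ ·) hu)).trans
        (comp_zero.trans zero_comp.symm))
      exact (cancel_epi e'.hom).1 (this.trans comp_zero.symm)
    · exact (assoc _ _ _).trans ((congrArg (e ≫ ·) (comp_distTriang_mor_zero₃₁ _ hT)).trans comp_zero)
  obtain ⟨g, rfl⟩ : ∃ g : E i ⟶ X', e = g ≫ m := Triangle.coyoneda_exact₃ _ hT e hδ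
  obtain ⟨g', rfl⟩ := (hb i).2 g
  change (g' ≫ h) ≫ m = 0
  have h0 : h ≫ m = 0 := comp_distTriang_mor_zero₁₂ _ hT
  rw [assoc, h0, comp_zero]

include hshift h2 h1 in
theorem isRepresentable_of_shiftStable : (H ⋙ forget AddCommGrpCat.{v}).IsRepresentable := by
  obtain ⟨X, -, s, -, hX⟩ := exists_extension H E hshift h2 0 0
  have hb : ∀ Z, Function.Bijective (fun g : Z ⟶ X => ev H g s) := fun Z => by
    refine ⟨?_, fun t => ?_⟩
    · suffices ∀ g : Z ⟶ X, ev H g s = 0 → g = 0 from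
        fun g₁ g₂ h => sub_eq_zero.1 (this _ (by rw [ev_sub]; exact sub_eq_zero.2 h))
      intro g hg
      obtain ⟨Y, y, δ, hT⟩ := distinguished_cocone_triangle g
      obtain ⟨sY, hsY⟩ := exact_ev H hT s hg
      obtain ⟨X', h, s', hs', hX'⟩ := exists_extension H E hshift h2 Y sY
      have : IsIso (y ≫ h) := isIso_of_bijective H E hshift h1 _ s s'
        (by rw [ev_comp, hs']; exact hsY) hX hX'
      rw [← cancel_mono (y ≫ h), zero_comp]
      have h0 : g ≫ y = 0 := comp_distTriang_mor_zero₁₂ _ hT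
      rw [reassoc_of% h0, zero_comp]
    · obtain ⟨X', h, s', hs', hX'⟩ := exists_extension H E hshift h2 (X ⊞ Z)
        (ev H biprod.fst s + ev H biprod.snd t)
      have h1' : ev H (biprod.inl ≫ h) s' = s := by
        rw [ev_comp, hs', map_add, ← ev_comp H biprod.inl, ← ev_comp H biprod.inl, biprod.inl_fst,
          biprod.inl_snd, ev_zero, ev_id, add_zero]
      have : IsIso (biprod.inl ≫ h) := isIso_of_bijective H E hshift h1 _ s s' h1' hX hX'
      refine ⟨biprod.inr ≫ h ≫ inv (biprod.inl ≫ h), ?_⟩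
      change ev H _ s = t
      conv_lhs => arg 2; rw [← h1']
      rw [← ev_comp, assoc, assoc, IsIso.inv_hom_id, comp_id, ev_comp, hs', map_add,
        ← ev_comp H biprod.inr, ← ev_comp H biprod.inr, biprod.inr_fst, biprod.inr_snd, ev_zero,
        ev_id, zero_add]
  exact Functor.RepresentableBy.isRepresentable
    (F := H ⋙ forget AddCommGrpCat.{v})
    { homEquiv := fun {Z} => Equiv.ofBijective _ (hb Z)
      homEquiv_comp := fun f g => ev_comp H f g s }

end Groth.Agent.CohDer42.Brown
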