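import Groth.Prelude.Def_CohDer
import Groth.Agent.DR39.Hom
import Groth.Agent.CohDer42.DerProd
import Groth.Agent.CohDer42.Compact
import Mathlib.Algebra.Category.ModuleCat.Projective
import Mathlib.Algebra.Category.ModuleCat.Colimits
import Mathlib.Algebra.Category.ModuleCat.AB
import Mathlib.Algebra.Homology.DerivedCategory.ShortExact

/-!
# `D(Mod R)` is compactly generated
-/

universe w v u

open CategoryTheory Category Limits

set_option autoImplicit false
set_option linter.unusedSectionVars false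
set_option backward.isDefEq.respectTransparency false

namespace Groth.Agent.CohDer42.CompactGen

variable {R : Type v} [Ring R]

open Classical in
/-- projection from a sum onto a summand -/
noncomputable def pr {C : Type u} [Category.{w} C] [HasZeroMorphisms C] {ι : Type*} (X : ι → C)
    [HasCoproduct X] (i : ι) : ∐ X ⟶ X i :=
  Sigma.desc fun k => if h : k = i then eqToHom (congrArg X h) else 0

lemma ι_pr {C : Type u} [Category.{w} C] [HasZeroMorphisms C] {ι : Type*} (X : ι → C)
    [HasCoproduct X] (i : ι) : Sigma.ι X i ≫ pr X i = 𝟙 _ := by simp [pr]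

lemma ι_pr_ne {C : Type u} [Category.{w} C] [HasZeroMorphisms C] {ι : Type*} (X : ι → C)
    [HasCoproduct X] {i k : ι} (h : k ≠ i) : Sigma.ι X k ≫ pr X i = 0 := by simp [pr, h]

/-- an element of a coproduct of complexes has finite support -/
lemma exists_support {ι : Type v} (X : ι → CochainComplex (ModuleCat.{v} R) ℤ) (j : ℤ) (x : (∐ X).X j) :
    ∃ S : Finset ι, x = ∑ i ∈ S, ((Sigma.ι X i).f j).hom (((pr X i).f j).hom x) := by
  classical
  let M : Submodule R ((∐ X).X j) :=
    { carrier := {x | ∃ S : Finset ι, ∀ S', S ⊆ S' → x = ∑ i ∈ S', ((Sigma.ι X i).f j).hom (((pr X i).f j).hom x)}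
      zero_mem' := ⟨∅, fun S' _ => by simp⟩
      add_mem' := fun {x y} ⟨S, hS⟩ ⟨T, hT⟩ => ⟨S ∪ T, fun S' h => by
        simp only [map_add, Finset.sum_add_distrib]
        rw [← hS S' (Finset.union_subset_left h), ← hT S' (Finset.union_subset_right h)]⟩
      smul_mem' := fun r x ⟨S, hS⟩ => ⟨S, fun S' h => by
        simp only [map_smul, ← Finset.smul_sum]
        rw [← hS S' h]⟩ }
  suffices hM : M = ⊤ by
    obtain ⟨S, hS⟩ := (Submodule.eq_top_iff'.1 hM x : x ∈ M)
    exact ⟨S, hS S subset_rfl⟩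
  have hc := isColimitCofanMkObjOfIsColimit (HomologicalComplex.eval (ModuleCat.{v} R) (ComplexShape.up ℤ) j)
    _ _ (coproductIsCoproduct X)
  have h0 : ModuleCat.ofHom M.mkQ = 0 := Cofan.IsColimit.hom_ext hc _ _ fun k =>
    ModuleCat.hom_ext (LinearMap.ext fun y => (Submodule.Quotient.mk_eq_zero _).2 ⟨{k}, fun S' h => by
      rw [Finset.sum_eq_single k]
      · exact (congrArg ((Sigma.ι X k).f j).hom (LinearMap.congr_fun (congrArg ModuleCat.Hom.hom
          (HomologicalComplex.congr_hom (ι_pr X k) j)) y)).symm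
      · intro i _ hi
        exact (congrArg ((Sigma.ι X i).f j).hom (LinearMap.congr_fun
          (congrArg ModuleCat.Hom.hom (HomologicalComplex.congr_hom (ι_pr_ne X (Ne.symm hi)) j)) y)).trans (map_zero _)
      · exact fun hk => absurd (h (Finset.mem_singleton_self k)) hk⟩)
  exact eq_top_iff.2 fun x _ => (Submodule.Quotient.mk_eq_zero M).1
    (LinearMap.congr_fun (congrArg ModuleCat.Hom.hom h0) x)

lemma f_sum {P Q : CochainComplex (ModuleCat.{v} R) ℤ} {ι : Type*} (S : Finset ι) (g : ι → (P ⟶ Q)) (j : ℤ) :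
    (∑ i ∈ S, g i).f j = ∑ i ∈ S, (g i).f j :=
  map_sum (AddMonoidHom.mk' (fun φ : P ⟶ Q => φ.f j) fun _ _ => rfl) g S

variable (R) in
/-- the free module of rank one as a complex -/
noncomputable abbrev P₀ : CochainComplex (ModuleCat.{v} R) ℤ :=
  (HomologicalComplex.single (ModuleCat.{v} R) (ComplexShape.up ℤ) 0).obj (ModuleCat.of R R)

lemma exists_finite {ι : Type v} (X : ι → CochainComplex (ModuleCat.{v} R) ℤ) (f : P₀ R ⟶ ∐ X) :
    ∃ S : Finset ι, f = ∑ i ∈ S, (f ≫ pr X i) ≫ Sigma.ι X i := by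
  let σ := HomologicalComplex.singleObjXSelf (ComplexShape.up ℤ) 0 (ModuleCat.of R R)
  obtain ⟨S, hS⟩ := exists_support X 0 ((σ.inv ≫ f.f 0).hom (1 : R))
  refine ⟨S, HomologicalComplex.from_single_hom_ext ?_⟩
  rw [← cancel_epi σ.inv, f_sum, Preadditive.comp_sum]
  refine ModuleCat.hom_ext (LinearMap.ext_ring ?_)
  rw [ModuleCat.hom_sum, LinearMap.sum_apply]
  exact hS

variable [HasDerivedCategory.{v} (ModuleCat.{v} R)] [HasCoproducts.{v} (DerivedCategory (ModuleCat.{v} R))]

theorem isCompactObject_single :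
    CohDer.IsCompactObject ((DerivedCategory.singleFunctor (ModuleCat.{v} R) 0).obj (ModuleCat.of R R)) := by
  classical
  refine isCompactObject_of_iso (K := DerivedCategory.Q.obj (P₀ R)) (Iso.refl _) ?_
  intro ι E
  refine ⟨(injective_iff_map_eq_zero _).2 fun s hs => DFinsupp.ext fun k => ?_, fun x => ?_⟩
  · have h0 : ∀ t : DirectSum ι (fun i => DerivedCategory.Q.obj (P₀ R) ⟶ E i),
        CohDer.homSumToHomCoprod _ E t ≫ pr E k = t k := by
      intro t
      induction t using DirectSum.induction_on with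
      | zero =>
        rw [map_zero]
        exact zero_comp
      | of i x =>
        rw [homSum_of, assoc]
        by_cases hik : i = k
        · subst hik; rw [ι_pr, DirectSum.of_eq_same]; exact comp_id _
        · rw [ι_pr_ne E hik, DirectSum.of_eq_of_ne _ _ _ (Ne.symm hik)]; exact comp_zero
      | add t₁ t₂ h₁ h₂ => rw [map_add, Preadditive.add_comp, h₁, h₂]; rfl
    rw [← h0 s, hs, zero_comp]; rfl
  · let X : ι → CochainComplex (ModuleCat.{v} R) ℤ := fun i => DerivedCategory.Q.objPreimage (E i)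
    let eE : ∀ i, DerivedCategory.Q.obj (X i) ≅ E i := fun i => DerivedCategory.Q.objObjPreimageIso (E i)
    obtain ⟨l, hl⟩ := exists_desc X (∐ E) fun i => (eE i).hom ≫ Sigma.ι E i
    let ψ : ∐ E ⟶ DerivedCategory.Q.obj (∐ X) :=
      Sigma.desc fun i => (eE i).inv ≫ DerivedCategory.Q.map (Sigma.ι X i)
    have hψl : ψ ≫ l = 𝟙 _ := Sigma.hom_ext _ _ fun i => by simp [ψ, hl]
    haveI : (P₀ R).IsKProjective := DR39.isKProjective_single (ModuleCat.of R R) 0
    obtain ⟨f, hf⟩ := DR39.Q_map_surjective (P₀ R) (∐ X) (x ≫ ψ)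
    obtain ⟨S, hS⟩ := exists_finite X f
    refine ⟨∑ i ∈ S, DirectSum.of (fun i => DerivedCategory.Q.obj (P₀ R) ⟶ E i) i
      (DerivedCategory.Q.map (f ≫ pr X i) ≫ (eE i).hom), ?_⟩
    calc CohDer.homSumToHomCoprod _ E (∑ i ∈ S, DirectSum.of (fun i => DerivedCategory.Q.obj (P₀ R) ⟶ E i) i
          (DerivedCategory.Q.map (f ≫ pr X i) ≫ (eE i).hom))
        = DerivedCategory.Q.map (∑ i ∈ S, (f ≫ pr X i) ≫ Sigma.ι X i) ≫ l := by
          rw [map_sum, Functor.map_sum, Preadditive.sum_comp]
          refine Finset.sum_congr rfl fun i _ => ?_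
          rw [homSum_of, Functor.map_comp _ (f ≫ pr X i), assoc, assoc, hl]
      _ = x := by rw [← hS, hf, assoc, hψl, comp_id]
where
  exists_desc {ι : Type v} (X : ι → CochainComplex (ModuleCat.{v} R) ℤ) (T : DerivedCategory (ModuleCat.{v} R))
      (φ : ∀ i, DerivedCategory.Q.obj (X i) ⟶ T) :
      ∃ l : DerivedCategory.Q.obj (∐ X) ⟶ T, ∀ i, DerivedCategory.Q.map (Sigma.ι X i) ≫ l = φ i := by
    obtain ⟨J, f, hJ, hf, -⟩ := exists_kinjective_resolution (DerivedCategory.Q.objPreimage T)
    let e : DerivedCategory.Q.obj J ≅ T :=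
      (asIso (DerivedCategory.Q.map f)).symm ≪≫ DerivedCategory.Q.objObjPreimageIso T
    choose g hg using fun i => Q_map_surjective_of_isKInjective (φ i ≫ e.inv)
    exact ⟨DerivedCategory.Q.map (Sigma.desc g) ≫ e.hom, fun i => by
      rw [← Functor.map_comp_assoc, Sigma.ι_desc, hg, assoc, e.inv_hom_id, comp_id]⟩

theorem generates_single :
    CohDer.Generates (fun _ : PUnit.{v + 1} =>
      (DerivedCategory.singleFunctor (ModuleCat.{v} R) 0).obj (ModuleCat.of R R)) := by
  intro K hK
  have hz : ∀ n : ℤ, IsZero ((DerivedCategory.homologyFunctor (ModuleCat.{v} R) n).obj K) := by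
    intro n
    refine IsZero.of_iso ?_
      (((DerivedCategory.homologyFunctor (ModuleCat.{v} R) 0).shiftIso n 0 n (add_zero n)).app K).symm
    haveI : Projective (ModuleCat.of R R) := (IsProjective.iff_projective (R := R) _).1 inferInstance
    have hb := DR39.homToH0_bijective (ModuleCat.of R R) (K⟦n⟧)
    refine @ModuleCat.isZero_of_subsingleton _ _ _ ⟨fun a b => ?_⟩
    have key : ∀ a, a = (0 : (DerivedCategory.homologyFunctor (ModuleCat.{v} R) 0).obj (K⟦n⟧)) := fun a => by
      obtain ⟨f, hf⟩ := hb.2 (ModuleCat.ofHom (LinearMap.toSpanSingleton R _ a))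
      rw [hK PUnit.unit n f] at hf
      have h0 : DR39.homToH0 (ModuleCat.of R R) (K⟦n⟧) 0 = 0 := by simp [DR39.homToH0]
      rw [h0] at hf
      simpa using (LinearMap.congr_fun (congrArg ModuleCat.Hom.hom hf) (1 : R)).symm
    rw [key a, key b]
  have : IsIso (0 : K ⟶ K) := by
    rw [DerivedCategory.isIso_iff]
    exact fun n => ⟨0, (hz n).eq_of_src _ _, (hz n).eq_of_src _ _⟩
  rw [IsZero.iff_id_eq_zero, ← cancel_epi (0 : K ⟶ K)]
  simp

theorem isCompactlyGenerated : CohDer.IsCompactlyGenerated (DerivedCategory (ModuleCat.{v} R)) :=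
  ⟨PUnit.{v + 1}, _, fun _ => isCompactObject_single, generates_single⟩

end Groth.Agent.CohDer42.CompactGen
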