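import Groth.Agent.CohDer42.SmallHom
import Groth.Agent.CohDer42.CompactGen
import Groth.Agent.CohDer42.BrownAdjoint
import Groth.Agent.Mod48.KInjDerived
import Mathlib.CategoryTheory.Abelian.GrothendieckCategory.ModuleEmbedding.GabrielPopescu
import Mathlib.CategoryTheory.Generator.Preadditive
import Mathlib.CategoryTheory.Triangulated.Opposite.Functor
import Mathlib.CategoryTheory.Adjunction.Limits

/-!
# Brown representability for derived categories of Grothendieck abelian categories
-/

universe w v v' u u'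

open CategoryTheory Category Limits

set_option autoImplicit false
set_option linter.unusedSectionVars false
set_option backward.isDefEq.respectTransparency false

namespace Groth.Agent.CohDer42.BrownGroth

section Reflect

variable {C : Type u} [Category.{v} C] {D : Type u'} [Category.{v} D] {L : C ⥤ D} {R : D ⥤ C}

/-- representability descends to reflective subcategories -/
theorem isRepresentable_of_reflective (adj : L ⊣ R) [R.Full] [R.Faithful] (P : Dᵒᵖ ⥤ Type v)
    [(L.op ⋙ P).IsRepresentable] : P.IsRepresentable := by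
  let Y := (L.op ⋙ P).reprX
  let r := (L.op ⋙ P).representableBy
  let η := adj.unit.app Y
  have hLη : IsIso (L.map η) := inferInstanceAs (IsIso (L.map (adj.unit.app Y)))
  have hPη : IsIso ((L.op ⋙ P).map η.op) := inferInstanceAs (IsIso (P.map (L.map η).op))
  have hbij : Function.Bijective fun g : R.obj (L.obj Y) ⟶ Y => η ≫ g := by
    have h : (fun g : R.obj (L.obj Y) ⟶ Y => η ≫ g) =
        r.homEquiv.symm ∘ (asIso ((L.op ⋙ P).map η.op)).toEquiv ∘ r.homEquiv := by
      funext g
      apply r.homEquiv.injective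
      simp only [Function.comp_apply, Equiv.apply_symm_apply]
      exact r.homEquiv_comp η g
    rw [h]
    exact r.homEquiv.symm.bijective.comp ((Equiv.bijective _).comp r.homEquiv.bijective)
  obtain ⟨g, hg⟩ := hbij.2 (𝟙 Y)
  have hg' : η ≫ g = 𝟙 Y := hg
  have hg'' : g ≫ η = 𝟙 _ := by
    obtain ⟨t, ht⟩ := R.map_surjective (g ≫ η)
    have : t = 𝟙 _ := by
      apply (adj.homEquiv _ _).injective
      rw [adj.homEquiv_unit, adj.homEquiv_unit, ht, reassoc_of% hg', R.map_id]
      exact (comp_id _).symm
    rw [← ht, this, R.map_id]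
  have : IsIso η := ⟨g, hg', hg''⟩
  let e : ∀ X : D, (X ⟶ L.obj Y) ≃ P.obj (Opposite.op X) := fun X =>
    ((Functor.FullyFaithful.ofFullyFaithful R).homEquiv.trans (asIso η).symm.homToEquiv).trans
      (r.homEquiv.trans (P.mapIso (asIso (adj.counit.app X)).op).symm.toEquiv)
  refine ⟨⟨L.obj Y, ⟨{ homEquiv := fun {X} => e X, homEquiv_comp := fun {X X'} f g => ?_ }⟩⟩⟩
  change P.map (inv (adj.counit.app X)).op (r.homEquiv (R.map (f ≫ g) ≫ inv η)) =
    P.map f.op (P.map (inv (adj.counit.app X')).op (r.homEquiv (R.map g ≫ inv η)))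
  rw [R.map_comp, assoc, r.homEquiv_comp]
  change (P.map (L.map (R.map f)).op ≫ P.map (inv (adj.counit.app X)).op) _ =
    (P.map (inv (adj.counit.app X')).op ≫ P.map f.op) _
  rw [← P.map_comp, ← P.map_comp, ← op_comp, ← op_comp]
  have : inv (adj.counit.app X) ≫ L.map (R.map f) = f ≫ inv (adj.counit.app X') := by
    rw [IsIso.inv_comp_eq, ← assoc, IsIso.eq_comp_inv]
    exact adj.counit.naturality f
  rw [this]
  rfl

end Reflect

variable {A : Type u} [Category.{v} A] [Abelian A] [IsGrothendieckAbelian.{v} A] [HasDerivedCategory.{v} A]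

lemma enoughKInj : Mod48.EnoughKInj A := fun M =>
  let ⟨I, f, hI, hf, _⟩ := exists_kinjective_resolution M
  ⟨I, f, hI, hf⟩

/-- exact left adjoint with fully faithful right adjoint: same on derived categories -/
theorem exists_derived_reflection {B : Type u'} [Category.{v'} B] [Abelian B] [HasDerivedCategory.{w} B]
    {L : B ⥤ A} {R : A ⥤ B} [L.Additive] [R.Additive] (adj : L ⊣ R) [IsIso adj.counit]
    [PreservesFiniteLimits L] [PreservesFiniteColimits L] :
    ∃ (RF : DerivedCategory A ⥤ DerivedCategory B) (adjD : L.mapDerivedCategory ⊣ RF), IsIso adjD.counit := by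
  have : (DerivedCategory.Qh : _ ⥤ DerivedCategory A).HasPointwiseLeftKanExtension
      (R.mapHomotopyCategory (ComplexShape.up ℤ) ⋙ DerivedCategory.Qh) :=
    Mod48.hasPointwiseLeftKanExtension_Qh enoughKInj
  let RF := (DerivedCategory.Qh : _ ⥤ DerivedCategory A).leftKanExtension
    (R.mapHomotopyCategory (ComplexShape.up ℤ) ⋙ DerivedCategory.Qh)
  let β : R.mapHomotopyCategory (ComplexShape.up ℤ) ⋙ DerivedCategory.Qh ⟶ DerivedCategory.Qh ⋙ RF :=
    (DerivedCategory.Qh : _ ⥤ DerivedCategory A).leftKanExtensionUnit _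
  have hRF : RF.IsRightDerivedFunctor β (HomotopyCategory.quasiIso A (ComplexShape.up ℤ)) :=
    ⟨inferInstanceAs (((DerivedCategory.Qh : _ ⥤ DerivedCategory A).leftKanExtension _).IsLeftKanExtension
      ((DerivedCategory.Qh : _ ⥤ DerivedCategory A).leftKanExtensionUnit _))⟩
  let adjD : L.mapDerivedCategory ⊣ RF := Mod48.derivedAdj adj enoughKInj RF β
  refine ⟨RF, adjD, ?_⟩
  suffices ∀ X, IsIso (adjD.counit.app X) from NatIso.isIso_of_isIso_app _
  intro X
  obtain ⟨I, hI, ⟨e⟩⟩ := Mod48.exists_Qh_iso_kInjective A enoughKInj X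
  refine (NatTrans.isIso_app_iff_of_iso _ e).1 ?_
  let α := L.mapDerivedCategoryFactorsh
  let Iq := (HomotopyCategory.quotient A (ComplexShape.up ℤ)).obj I
  have h : L.mapDerivedCategory.map (β.app Iq) ≫ adjD.counit.app (DerivedCategory.Qh.obj Iq) =
      α.hom.app ((R.mapHomotopyCategory _).obj Iq) ≫
        DerivedCategory.Qh.map ((Mod48.adjHomotopy adj).counit.app Iq) := by
    have : (L.mapDerivedCategory).IsLeftDerivedFunctor α.hom (HomotopyCategory.quasiIso B (ComplexShape.up ℤ)) :=
      Functor.isLeftDerivedFunctor_of_inverts _ L.mapDerivedCategory α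
    have : (RF ⋙ L.mapDerivedCategory).IsRightDerivedFunctor
        (Functor.whiskerRight β L.mapDerivedCategory ≫ (Functor.associator _ _ _).hom)
        (HomotopyCategory.quasiIso A (ComplexShape.up ℤ)) :=
      Mod48.isRightDerivedFunctor_comp RF β enoughKInj L.mapDerivedCategory _ rfl
    exact (Mod48.adjHomotopy adj).derivedε_fac_app (HomotopyCategory.quasiIso A (ComplexShape.up ℤ)) α.hom β Iq
  have := Mod48.isIso_unit_of_kInjective RF β enoughKInj I hI
  have : IsIso (Mod48.cxCounit adj I) := by
    have : ∀ n, IsIso ((Mod48.cxCounit adj I).f n) := fun n => inferInstanceAs (IsIso (adj.counit.app (I.X n)))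
    exact HomologicalComplex.Hom.isIso_of_components _
  have : IsIso ((Mod48.adjHomotopy adj).counit.app Iq) :=
    inferInstanceAs (IsIso ((HomotopyCategory.quotient A (ComplexShape.up ℤ)).map (Mod48.cxCounit adj I)))
  exact IsIso.of_isIso_fac_left h

open Pretriangulated.Opposite in
/-- Brown representability -/
theorem brown (H : (DerivedCategory A)ᵒᵖ ⥤ AddCommGrpCat.{v}) [H.IsHomological]
    [∀ (ι : Type v), PreservesLimitsOfShape (Discrete ι) H] :
    (H ⋙ forget AddCommGrpCat.{v}).IsRepresentable := by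
  let G := separator A
  have hG : IsSeparator G := isSeparator_separator A
  let L := IsGrothendieckAbelian.tensorObj G
  let R := preadditiveCoyonedaObj G
  let adj : L ⊣ R := IsGrothendieckAbelian.tensorObjPreadditiveCoyonedaObjAdjunction G
  haveI : R.Full := IsGrothendieckAbelian.GabrielPopescu.full G hG
  haveI : R.Faithful := (isSeparator_iff_faithful_preadditiveCoyonedaObj G).1 hG
  haveI : PreservesFiniteLimits L := IsGrothendieckAbelian.GabrielPopescu.preservesFiniteLimits G hG
  haveI : PreservesColimitsOfSize.{0, 0} L := adj.leftAdjoint_preservesColimits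
  haveI : PreservesFiniteColimits L := PreservesColimitsOfSize.preservesFiniteColimits L
  haveI : L.Additive := adj.left_adjoint_additive
  letI : HasDerivedCategory.{v} (ModuleCat.{v} (End G)ᵐᵒᵖ) := hasDerivedCategorySmall _ fun M => by
    obtain ⟨I, f, h₁, h₂, -⟩ := exists_kinjective_resolution M
    exact ⟨I, f, h₁, h₂⟩
  haveI : HasCoproducts.{v} (DerivedCategory (ModuleCat.{v} (End G)ᵐᵒᵖ)) :=
    hasCoproducts_of_kinjective fun M => by
      obtain ⟨I, f, h₁, h₂, -⟩ := exists_kinjective_resolution M
      exact ⟨I, f, h₁, h₂⟩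
  obtain ⟨RF, adjD, hc⟩ := exists_derived_reflection adj
  have hff := adjD.fullyFaithfulROfIsIsoCounit
  haveI := hff.full
  haveI := hff.faithful
  let DL := L.mapDerivedCategory
  haveI : PreservesLimitsOfSize.{v, v} DL.op := adjD.op.rightAdjoint_preservesLimits
  haveI : DL.op.IsTriangulated := inferInstance
  haveI : (DL.op ⋙ H).IsHomological := inferInstance
  haveI : ∀ κ : Type v, PreservesLimitsOfShape (Discrete κ) (DL.op ⋙ H) := fun κ => inferInstance
  haveI : (DL.op ⋙ (H ⋙ forget AddCommGrpCat.{v})).IsRepresentable :=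
    brown_compactlyGenerated CompactGen.isCompactlyGenerated (DL.op ⋙ H)
  exact isRepresentable_of_reflective adjD (H ⋙ forget AddCommGrpCat.{v})

open Pretriangulated.Opposite in
/-- the adjoint functor theorem -/
theorem isLeftAdjoint {D : Type u'} [Category.{v} D] [Preadditive D] [HasZeroObject D] [HasShift D ℤ]
    [∀ n : ℤ, (shiftFunctor D n).Additive] [Pretriangulated D]
    (F : DerivedCategory A ⥤ D) [F.CommShift ℤ] [F.IsTriangulated]
    [∀ (ι : Type v), PreservesColimitsOfShape (Discrete ι) F] :
    F.IsLeftAdjoint := by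
  have hop : ∀ κ : Type v, PreservesLimitsOfShape (Discrete κ) F.op := fun κ => by
    have : PreservesColimitsOfShape (Discrete κ)ᵒᵖ F :=
      preservesColimitsOfShape_of_equiv (Discrete.opposite κ).symm F
    exact preservesLimitsOfShape_op _ F
  have hrep : ∀ Y : D, ((F.op ⋙ preadditiveYoneda.obj Y) ⋙ forget AddCommGrpCat.{v}).IsRepresentable :=
    fun Y => brown (F.op ⋙ preadditiveYoneda.obj Y)
  let e : ∀ (X : DerivedCategory A) (Y : D),
      (F.obj X ⟶ Y) ≃ (X ⟶ ((F.op ⋙ preadditiveYoneda.obj Y) ⋙ forget _).reprX (hF := hrep Y)) :=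
    fun X Y => (((F.op ⋙ preadditiveYoneda.obj Y) ⋙ forget _).representableBy (hF := hrep Y)).homEquiv.symm
  have he : ∀ X' X Y f g, e X' Y (F.map f ≫ g) = f ≫ e X Y g := by
    intro X' X Y f g
    let r := ((F.op ⋙ preadditiveYoneda.obj Y) ⋙ forget _).representableBy (hF := hrep Y)
    apply r.homEquiv.injective
    change r.homEquiv (r.homEquiv.symm _) = r.homEquiv (f ≫ r.homEquiv.symm g)
    rw [r.homEquiv_comp, Equiv.apply_symm_apply, Equiv.apply_symm_apply]
    rfl
  exact (Adjunction.adjunctionOfEquivRight e he).isLeftAdjoint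

end Groth.Agent.CohDer42.BrownGroth
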