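import Groth.Prelude.Def_CE
import Mathlib.Algebra.Homology.Refinements
import Mathlib.Algebra.Homology.HomologySequence
import Mathlib.CategoryTheory.Preadditive.Injective.Basic
import Mathlib.Algebra.Homology.Embedding.CochainComplex

/-!
# Cartan-Eilenberg resolutions
-/

universe v u

open CategoryTheory Category Limits HomologicalComplex
open scoped ZeroObject

set_option autoImplicit false
set_option linter.unusedSectionVars false
set_option backward.isDefEq.respectTransparency false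

namespace Groth.Agent.CohDer42.CE

variable {A : Type u} [Category.{v} A] [Abelian A]

section Step

variable (M : CochainComplex A ℤ)

lemma exists_mono_injective [EnoughInjectives A] (X : A) :
    ∃ (E : A) (u : X ⟶ E), Injective E ∧ Mono u ∧ (IsZero X → IsZero E) := by
  by_cases h : IsZero X
  · exact ⟨X, 𝟙 X, ⟨fun _ _ _ => ⟨0, h.eq_of_tgt _ _⟩⟩, inferInstance, id⟩
  · exact ⟨Injective.under X, Injective.ι X, inferInstance, inferInstance, fun h' => absurd h' h⟩

lemma exists_homology_embedding [EnoughInjectives A] (p : ℤ) :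
    ∃ (S : A) (h : M.X p ⟶ S), Injective S ∧ (IsZero (M.X p) → IsZero S) ∧
      M.d (p - 1) p ≫ h = 0 ∧
      ∀ ⦃T : A⦄ (x : T ⟶ M.X p) (_ : x ≫ M.d p (p + 1) = 0) (_ : x ≫ h = 0),
        ∃ (T' : A) (π : T' ⟶ T) (_ : Epi π) (y : T' ⟶ M.X (p - 1)),
          π ≫ x = y ≫ M.d (p - 1) p := by
  obtain ⟨S, s, hS, hs, hz⟩ := exists_mono_injective (M.homology p)
  have hm : Mono (M.homologyι p) := inferInstance
  let e : M.opcycles p ⟶ S := Injective.factorThru s (M.homologyι p)
  refine ⟨S, M.pOpcycles p ≫ e, hS, fun h0 => hz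
    ((exactAt_iff_isZero_homology M p).1 (ShortComplex.exact_of_isZero_X₂ _ h0)),
    by rw [← assoc, d_pOpcycles, zero_comp], fun T x hx h0 => ?_⟩
  have h1 : M.liftCycles x (p + 1) (by simp) hx ≫ M.homologyπ p = 0 := by
    rw [← cancel_mono s, zero_comp, assoc,
      ← Injective.comp_factorThru s (M.homologyι p), ← assoc (M.homologyπ p), homology_π_ι,
      assoc, ← assoc _ (M.iCycles p), liftCycles_i]
    exact h0
  exact (M.liftCycles_comp_homologyπ_eq_zero_iff_up_to_refinements (p - 1) p (p + 1)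
    (by simp) (by simp) x hx).1 h1

lemma exists_boundary_embedding [EnoughInjectives A] (p : ℤ) :
    ∃ (E : A) (u : M.X p ⟶ E), Injective E ∧ (IsZero (M.X (p - 1)) → IsZero E) ∧
      ∀ ⦃T : A⦄ (y : T ⟶ M.X (p - 1)) (_ : y ≫ M.d (p - 1) p ≫ u = 0),
        y ≫ M.d (p - 1) p = 0 := by
  obtain ⟨E, s, hE, hs, hz⟩ := exists_mono_injective (Abelian.image (M.d (p - 1) p))
  refine ⟨E, Injective.factorThru s (Abelian.image.ι _), hE, fun h0 => hz ?_, fun T y hy => ?_⟩
  · rw [IsZero.iff_id_eq_zero, ← cancel_epi (Abelian.factorThruImage (M.d (p - 1) p))]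
    exact h0.eq_of_src _ _
  · have hf : Abelian.factorThruImage (M.d (p - 1) p) ≫ Abelian.image.ι (M.d (p - 1) p) =
        M.d (p - 1) p := Abelian.image.fac _
    have h1 : (y ≫ Abelian.factorThruImage (M.d (p - 1) p)) ≫ s = 0 := by
      rw [assoc, ← Injective.comp_factorThru s (Abelian.image.ι (M.d (p - 1) p)),
        ← assoc (Abelian.factorThruImage _), hf]
      exact hy
    have h2 := (cancel_mono s).1 (h1.trans zero_comp.symm)
    calc y ≫ M.d (p - 1) p
        = (y ≫ Abelian.factorThruImage (M.d (p - 1) p)) ≫ Abelian.image.ι _ := by rw [assoc, hf]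
      _ = 0 := by rw [h2, zero_comp]

variable (S E : ℤ → A)

/-- the terms of a split complex -/
noncomputable abbrev ceX (p : ℤ) : A := S p ⊞ (E (p + 1) ⊞ E p)

/-- a split complex with homology `S` and boundaries `E` -/
noncomputable def ceD (p : ℤ) : ceX S E p ⟶ ceX S E (p + 1) :=
  (biprod.snd : ceX S E p ⟶ _) ≫ biprod.fst ≫ biprod.inr ≫ biprod.inr

/-- the split complex -/
noncomputable def ceCx : CochainComplex A ℤ :=
  CochainComplex.of (ceX S E) (ceD S E) (fun p => by simp [ceD])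

lemma ceCx_d (p : ℤ) : (ceCx S E).d p (p + 1) =
    (biprod.snd : ceX S E p ⟶ _) ≫ biprod.fst ≫ biprod.inr ≫ biprod.inr :=
  CochainComplex.of_d (ceX S E) (ceD S E) p

variable [hS : ∀ p, Injective (S p)] [hE : ∀ p, Injective (E p)]

lemma injective_X (p : ℤ) : Injective ((ceCx S E).X p) :=
  (inferInstance : Injective (ceX S E p))

lemma injective_cycles (p : ℤ) : Injective ((ceCx S E).cycles p) := by
  have := injective_X S E p
  let e : (ceCx S E).X p ⟶ (ceCx S E).X p :=
    𝟙 (ceX S E p) - biprod.snd ≫ biprod.fst ≫ biprod.inl ≫ biprod.inr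
  have he : e ≫ (ceCx S E).d p (p + 1) = 0 := by
    rw [ceCx_d]
    simp [e, ceCx, Preadditive.sub_comp]
  refine Retract.injective (Y := (ceCx S E).X p)
    ⟨(ceCx S E).iCycles p, (ceCx S E).liftCycles e (p + 1) (by simp) he, ?_⟩
  rw [← cancel_mono ((ceCx S E).iCycles p), assoc, liftCycles_i, id_comp]
  have h := (ceCx S E).iCycles_d p (p + 1)
  rw [ceCx_d] at h
  have h' : (ceCx S E).iCycles p ≫ (biprod.snd : ceX S E p ⟶ _) ≫ biprod.fst = 0 := by
    simpa using h =≫ (biprod.snd ≫ biprod.snd : ceX S E (p + 1) ⟶ _)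
  change (ceCx S E).iCycles p ≫
    (𝟙 (ceX S E p) - biprod.snd ≫ biprod.fst ≫ biprod.inl ≫ biprod.inr) = _
  rw [Preadditive.comp_sub, reassoc_of% h', zero_comp, sub_zero]
  exact comp_id _

/-- the projection of the homology of a split complex -/
lemma ceCx_d_fst (i p : ℤ) :
    (ceCx S E).d i p ≫ (biprod.fst : ceX S E p ⟶ S p) = 0 := by
  by_cases h : i + 1 = p
  · subst h
    rw [ceCx_d]
    simp
  · rw [(ceCx S E).shape i p h]
    exact zero_comp

lemma injective_homology (p : ℤ) : Injective ((ceCx S E).homology p) := by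
  have := injective_cycles S E p
  obtain ⟨q, rfl⟩ : ∃ q, p = q + 1 := ⟨p - 1, by omega⟩
  let J := ceCx S E
  have hl : (biprod.inl : S (q + 1) ⟶ ceX S E (q + 1)) ≫ J.d (q + 1) (q + 1 + 1) = 0 := by
    rw [ceCx_d]
    simp
  let ρ := J.descOpcycles (biprod.fst : ceX S E (q + 1) ⟶ S (q + 1)) q (by simp) (ceCx_d_fst S E _ _)
  let l := J.liftCycles (biprod.inl : S (q + 1) ⟶ ceX S E (q + 1)) (q + 1 + 1) (by simp) hl
  refine Retract.injective (Y := J.cycles (q + 1))
    ⟨J.homologyι (q + 1) ≫ ρ ≫ l, J.homologyπ (q + 1), ?_⟩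
  rw [← cancel_epi (J.homologyπ (q + 1)), comp_id]
  simp only [assoc, homology_π_ι_assoc, ρ, p_descOpcycles_assoc]
  rw [← assoc (J.iCycles (q + 1)), ← assoc (_ ≫ _)]
  conv_rhs => rw [← id_comp (J.homologyπ (q + 1))]
  rw [comp_homologyπ_eq_iff_up_to_refinements J q (q + 1) (by simp)]
  refine ⟨_, 𝟙 _, inferInstance, -(J.iCycles (q + 1) ≫
    (biprod.snd : ceX S E (q + 1) ⟶ _) ≫ biprod.snd ≫ biprod.inl ≫
      (biprod.inr : _ ⟶ ceX S E q)), ?_⟩
  rw [id_comp, id_comp, ← cancel_mono (J.iCycles (q + 1))]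
  simp only [Preadditive.add_comp, Preadditive.neg_comp, assoc, liftCycles_i, l, toCycles_i, id_comp]
  rw [show J.d q (q + 1) = _ from ceCx_d S E q]
  have h := J.iCycles_d (q + 1) (q + 1 + 1)
  rw [show J.d (q + 1) (q + 1 + 1) = _ from ceCx_d S E (q + 1)] at h
  have h' : J.iCycles (q + 1) ≫ (biprod.snd : ceX S E (q + 1) ⟶ _) ≫ biprod.fst = 0 := by
    simpa using h =≫ (biprod.snd ≫ biprod.snd : ceX S E (q + 1 + 1) ⟶ _)
  have e : J.iCycles (q + 1) = (J.iCycles (q + 1) ≫ (biprod.fst : ceX S E (q + 1) ⟶ _) ≫ biprod.inl) +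
      J.iCycles (q + 1) ≫ (biprod.snd : ceX S E (q + 1) ⟶ _) ≫ biprod.snd ≫ biprod.inr ≫ biprod.inr := by
    have tot : 𝟙 (ceX S E (q + 1)) =
        (biprod.fst ≫ biprod.inl + biprod.snd ≫ biprod.snd ≫ biprod.inr ≫ biprod.inr) +
          biprod.snd ≫ biprod.fst ≫ biprod.inl ≫ biprod.inr := by
      ext <;> simp
    refine (comp_id _).symm.trans ?_
    change J.iCycles (q + 1) ≫ 𝟙 (ceX S E (q + 1)) = _
    rw [tot, Preadditive.comp_add, Preadditive.comp_add, reassoc_of% h', zero_comp, add_zero]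
  conv_rhs => lhs; rw [e]
  simp

lemma injective_ceCx (hS : ∀ p, Injective (S p)) (hE : ∀ p, Injective (E p)) :
    ∀ p, Injective ((ceCx S E).X p) ∧ Injective ((ceCx S E).cycles p) ∧
      Injective ((ceCx S E).homology p) :=
  fun p => ⟨injective_X S E p, injective_cycles S E p, injective_homology S E p⟩

end Step

/-- a complex with injective terms, cycles and homology -/
def IsCEInjective (J : CochainComplex A ℤ) : Prop :=
  ∀ p, Injective (J.X p) ∧ Injective (J.cycles p) ∧ Injective (J.homology p)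

/-- a short exact sequence of complexes which is exact on cycles and homology, with middle term
having injective terms, cycles and homology -/
structure IsCEStep (T : ShortComplex (CochainComplex A ℤ)) : Prop where
  inj : IsCEInjective T.X₂
  eval : ∀ p, (T.map (HomologicalComplex.eval A (ComplexShape.up ℤ) p)).ShortExact
  cycles : ∀ p, (T.map (HomologicalComplex.cyclesFunctor A (ComplexShape.up ℤ) p)).ShortExact
  homology : ∀ p, (T.map (HomologicalComplex.homologyFunctor A (ComplexShape.up ℤ) p)).ShortExact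

lemma exists_ce_mono [EnoughInjectives A] (M : CochainComplex A ℤ) (n : ℤ) [M.IsStrictlyGE n] :
    ∃ (J : CochainComplex A ℤ) (f : M ⟶ J), J.IsStrictlyGE n ∧ IsCEInjective J ∧
      (∀ p, Mono (f.f p)) ∧ ∀ p, Mono (homologyMap f p) := by
  choose S h hSI hS0 hdh hh using exists_homology_embedding M
  choose E u hEI hE0 hu using exists_boundary_embedding M
  let J := ceCx S E
  let fp : ∀ p, M.X p ⟶ ceX S E p := fun p =>
    biprod.lift (h p) (biprod.lift (M.d p (p + 1) ≫ u (p + 1)) (u p))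
  let f : M ⟶ J :=
    { f := fp
      comm' := fun i j (hij : i + 1 = j) => by
        subst hij
        have h1 : M.d i (i + 1) ≫ h (i + 1) = 0 := by
          have := hdh (i + 1)
          rwa [show i + 1 - 1 = i by omega] at this
        rw [show J.d i (i + 1) = _ from ceCx_d S E i]
        change fp i ≫ (biprod.snd : ceX S E i ⟶ _) ≫ biprod.fst ≫ biprod.inr ≫ biprod.inr =
          M.d i (i + 1) ≫ fp (i + 1)
        apply biprod.hom_ext
        · simp [fp, h1]
        · apply biprod.hom_ext <;> simp [fp] }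
  have hcyc : ∀ ⦃T : A⦄ (p : ℤ) (x : T ⟶ M.X p), x ≫ M.d p (p + 1) ≫ u (p + 1) = 0 →
      x ≫ M.d p (p + 1) = 0 := by
    intro T p x hx
    obtain ⟨q, rfl⟩ : ∃ q : ℤ, p = q + 1 - 1 := ⟨p, (add_sub_cancel_right p 1).symm⟩
    have := hu (q + 1) (T := T)
    rw [show q + 1 - 1 + 1 = q + 1 by omega] at hx ⊢
    exact this x hx
  refine ⟨J, f, ?_, injective_ceCx S E hSI hEI, fun p => ?_, fun p => ?_⟩
  · rw [CochainComplex.isStrictlyGE_iff]
    intro i hi
    exact (biprod_isZero_iff _ _).2 ⟨hS0 i (M.isZero_of_isStrictlyGE n i hi),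
      (biprod_isZero_iff _ _).2 ⟨hE0 _ (M.isZero_of_isStrictlyGE n _ (by omega)),
        hE0 _ (M.isZero_of_isStrictlyGE n _ (by omega))⟩⟩
  · refine Preadditive.mono_of_cancel_zero _ (fun {T} x (hx : x ≫ fp p = 0) => ?_)
    have h1 : x ≫ h p = 0 := by simpa [fp] using hx =≫ (biprod.fst : ceX S E p ⟶ _)
    have h2 : x ≫ M.d p (p + 1) ≫ u (p + 1) = 0 := by
      simpa [fp] using hx =≫ (biprod.snd ≫ biprod.fst : ceX S E p ⟶ _)
    have h3 : x ≫ u p = 0 := by
      simpa [fp] using hx =≫ (biprod.snd ≫ biprod.snd : ceX S E p ⟶ _)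
    obtain ⟨T', π, hπ, y, hy⟩ := hh p x (hcyc p x h2) h1
    rw [← cancel_epi π, comp_zero, hy]
    exact hu p y (by rw [← assoc, ← hy, assoc, h3, comp_zero])
  · rw [mono_homologyMap_iff_up_to_refinements f (p - 1) p (p + 1) (by simp) (by simp)]
    intro T x hx y hy
    refine hh p x hx ?_
    have := hy =≫ (biprod.fst : ceX S E p ⟶ S p)
    rw [assoc, assoc, show f.f p ≫ (biprod.fst : ceX S E p ⟶ S p) = h p from biprod.lift_fst _ _,
      show J.d (p - 1) p ≫ (biprod.fst : ceX S E p ⟶ S p) = 0 from ceCx_d_fst S E _ _] at this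
    exact this.trans comp_zero

lemma exists_ce_step [EnoughInjectives A] (M : CochainComplex A ℤ) (n : ℤ) [M.IsStrictlyGE n] :
    ∃ (J N : CochainComplex A ℤ) (f : M ⟶ J) (g : J ⟶ N) (w : f ≫ g = 0),
      J.IsStrictlyGE n ∧ N.IsStrictlyGE n ∧ IsCEStep (ShortComplex.mk f g w) := by
  obtain ⟨J, f, hJ, hI, hf, hH⟩ := exists_ce_mono M n
  have : Mono f := mono_of_mono_f _ hf
  let T := ShortComplex.mk f (cokernel.π f) (cokernel.condition f)
  have hT : T.ShortExact := { exact := ShortComplex.exact_cokernel f }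
  have hev : ∀ p, (T.map (eval A (ComplexShape.up ℤ) p)).ShortExact := fun p => hT.map_of_exact _
  have hepi : ∀ p, Epi ((cokernel.π f).f p) := fun p => (hev p).epi_g
  have hHepi : ∀ p, Epi (homologyMap (cokernel.π f) p) := fun p => by
    have := hH (p + 1)
    refine (hT.homology_exact₃ p (p + 1) rfl).epi_f ?_
    rw [← cancel_mono (homologyMap f (p + 1)), zero_comp]
    exact hT.δ_comp p (p + 1) rfl
  refine ⟨J, cokernel f, f, cokernel.π f, cokernel.condition f, hJ, ?_,
    ⟨hI, hev, fun p => ?_, fun p => ?_⟩⟩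
  · rw [CochainComplex.isStrictlyGE_iff]
    intro i hi
    have := hepi i
    rw [IsZero.iff_id_eq_zero, ← cancel_epi ((cokernel.π f).f i)]
    exact (J.isZero_of_isStrictlyGE n i hi).eq_of_src _ _
  · have hm : Mono (cyclesMap f p) := by
      refine Preadditive.mono_of_cancel_zero _ (fun {T} z hz => ?_)
      have := hf p
      rw [← cancel_mono (M.iCycles p), zero_comp, ← cancel_mono (f.f p), zero_comp, assoc,
        ← cyclesMap_i, reassoc_of% hz, zero_comp]
    refine { exact := ?_, mono_f := hm, epi_g := ?_ }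
    · rw [ShortComplex.exact_iff_exact_up_to_refinements]
      intro W (x : W ⟶ J.cycles p) (hx : x ≫ cyclesMap (cokernel.π f) p = 0)
      obtain ⟨W₁, π, hπ, y, hy⟩ := (hev p).exact.exact_up_to_refinements (x ≫ J.iCycles p) (by
        change (x ≫ J.iCycles p) ≫ (cokernel.π f).f p = 0
        rw [assoc, ← cyclesMap_i, reassoc_of% hx, zero_comp])
      change π ≫ x ≫ J.iCycles p = (y : W₁ ⟶ M.X p) ≫ f.f p at hy
      have hyd : (y : W₁ ⟶ M.X p) ≫ M.d p (p + 1) = 0 := by
        have := hf (p + 1)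
        rw [← cancel_mono (f.f (p + 1)), zero_comp, assoc, ← f.comm, ← reassoc_of% hy,
          iCycles_d, comp_zero, comp_zero]
      refine ⟨W₁, π, hπ, M.liftCycles y (p + 1) (by simp) hyd, ?_⟩
      change π ≫ x = M.liftCycles y (p + 1) _ hyd ≫ cyclesMap f p
      rw [← cancel_mono (J.iCycles p), assoc, hy, assoc, cyclesMap_i, liftCycles_i_assoc]
    · change Epi (cyclesMap (cokernel.π f) p)
      rw [epi_iff_surjective_up_to_refinements]
      intro W z
      have hz : (z ≫ (cokernel f).iCycles p) ≫ (cokernel f).d p (p + 1) = 0 := by simp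
      obtain ⟨W₁, π, hπ, x, hx, y, hy⟩ :=
        (epi_homologyMap_iff_up_to_refinements (cokernel.π f) (p - 1) p (p + 1) (by simp) (by simp)).1
          (hHepi p) _ hz
      have := hepi (p - 1)
      obtain ⟨W₂, π', hπ', j, hj⟩ := surjective_up_to_refinements_of_epi ((cokernel.π f).f (p - 1)) y
      have hd : (π' ≫ x + j ≫ J.d (p - 1) p) ≫ J.d p (p + 1) = 0 := by
        rw [Preadditive.add_comp, assoc, hx, assoc, d_comp_d, comp_zero, comp_zero, add_zero]
      refine ⟨W₂, π' ≫ π, inferInstance, J.liftCycles _ (p + 1) (by simp) hd, ?_⟩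
      rw [← cancel_mono ((cokernel f).iCycles p), assoc _ (cyclesMap _ p), cyclesMap_i,
        liftCycles_i_assoc, assoc, assoc, hy, Preadditive.comp_add, Preadditive.add_comp,
        assoc j, ← (cokernel.π f).comm, reassoc_of% hj, assoc]
  · exact { exact := hT.homology_exact₂ p, mono_f := hH p, epi_g := hHepi p }

section Assemble

variable (J : ℕ → CochainComplex A ℤ) (e : ∀ m, J m ⟶ J (m + 1)) (he : ∀ m, e m ≫ e (m + 1) = 0)

/-- the terms of a complex extended by zero -/
noncomputable def extX : ℤ → CochainComplex A ℤ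
  | Int.ofNat m => J m
  | Int.negSucc _ => 0

/-- the differential of a complex extended by zero -/
noncomputable def extD : ∀ q : ℤ, extX J q ⟶ extX J (q + 1)
  | Int.ofNat m => e m
  | Int.negSucc _ => 0

include he in
lemma extD_comp : ∀ q : ℤ, extD J e q ≫ extD J e (q + 1) = 0
  | Int.ofNat m => he m
  | Int.negSucc _ => zero_comp

/-- a complex of complexes indexed by `ℕ`, extended by zero -/
noncomputable def extCx : CochainComplex (CochainComplex A ℤ) ℤ :=
  CochainComplex.of (extX J) (extD J e) (extD_comp J e he)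

lemma extCx_d (q : ℤ) : (extCx J e he).d q (q + 1) = extD J e q :=
  CochainComplex.of_d (extX J) (extD J e) q

end Assemble

lemma isInjResolutionVia_of_steps (F : CochainComplex A ℤ ⥤ A) [F.PreservesZeroMorphisms]
    (M J : ℕ → CochainComplex A ℤ) (f : ∀ m, M m ⟶ J m) (g : ∀ m, J m ⟶ M (m + 1))
    (w : ∀ m, f m ≫ g m = 0)
    (hF : ∀ m, ((ShortComplex.mk (f m) (g m) (w m)).map F).ShortExact)
    (hI : ∀ m, Injective (F.obj (J m)))
    (he : ∀ m, (g m ≫ f (m + 1)) ≫ g (m + 1) ≫ f (m + 1 + 1) = 0) :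
    _root_.CE.IsInjResolutionVia
      ((F.mapHomologicalComplex (ComplexShape.up ℤ)).obj (extCx J (fun m => g m ≫ f (m + 1)) he))
      (F.obj (M 0)) (F.map (f 0)) := by
  let I := extCx J (fun m => g m ≫ f (m + 1)) he
  let C := (F.mapHomologicalComplex (ComplexShape.up ℤ)).obj I
  have hm : ∀ m, Mono (F.map (f m)) := fun m => (hF m).mono_f
  have hep : ∀ m, Epi (F.map (g m)) := fun m => (hF m).epi_g
  have hd : ∀ q, C.d q (q + 1) = F.map (extD J (fun m => g m ≫ f (m + 1)) q) := fun q =>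
    congrArg F.map (extCx_d J _ he q)
  have hneg : ∀ q : ℤ, q < 0 → IsZero (C.X q) := by
    rintro (m | m) hq
    · have := Int.ofNat_nonneg m
      simp at hq
      omega
    · exact F.map_isZero (isZero_zero _)
  have hzero : (F.map (f 0) : F.obj (M 0) ⟶ C.X 0) ≫ C.d 0 1 = 0 := by
    rw [show C.d 0 1 = _ from hd 0]
    change F.map (f 0) ≫ F.map (g 0 ≫ f 1) = 0
    rw [← F.map_comp, ← assoc, w, zero_comp, F.map_zero]
  refine ⟨hzero, ?_, ?_, ?_, hm 0, ?_⟩
  · rw [CochainComplex.isStrictlyGE_iff]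
    exact hneg
  · rintro (m | m)
    · exact hI m
    · exact ⟨fun _ _ _ => ⟨0, (hneg _ (Int.negSucc_lt_zero m)).eq_of_tgt _ _⟩⟩
  · intro q hq
    rcases q with m | m
    · obtain ⟨m, rfl⟩ : ∃ k, m = k + 1 := Nat.exists_eq_succ_of_ne_zero (by simpa using hq)
      change C.ExactAt ((m : ℤ) + 1)
      refine (exactAt_iff_exact_up_to_refinements C (m : ℤ) ((m : ℤ) + 1) ((m : ℤ) + 1 + 1)
        (by simp) (by simp)).2 ?_
      intro W x hx
      rw [hd] at hx
      change (x : W ⟶ F.obj (J (m + 1))) ≫ F.map (g (m + 1) ≫ f (m + 1 + 1)) = 0 at hx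
      have := hm (m + 1 + 1)
      rw [F.map_comp, ← assoc, ← zero_comp (f := F.map (f (m + 1 + 1))), cancel_mono] at hx
      obtain ⟨W₁, π, hπ, y, hy⟩ := (hF (m + 1)).exact.exact_up_to_refinements _ hx
      have := hep m
      obtain ⟨W₂, π', hπ', z, hz⟩ :=
        surjective_up_to_refinements_of_epi (F.map (g m)) (y : W₁ ⟶ F.obj (M (m + 1)))
      refine ⟨W₂, π' ≫ π, inferInstance, z, ?_⟩
      rw [show C.d (m : ℤ) ((m : ℤ) + 1) = _ from hd m]
      change (π' ≫ π) ≫ (x : W ⟶ F.obj (J (m + 1))) = (z : W₂ ⟶ F.obj (J m)) ≫ F.map (g m ≫ f (m + 1))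
      rw [assoc, hy, F.map_comp, ← assoc z, ← hz, assoc]
      rfl
    · exact ShortComplex.exact_of_isZero_X₂ _ (hneg _ (Int.negSucc_lt_zero m))
  · rw [ShortComplex.exact_iff_exact_up_to_refinements]
    intro W x hx
    refine (hF 0).exact.exact_up_to_refinements x ?_
    have hx' : (x : W ⟶ F.obj (J 0)) ≫ F.map (g 0 ≫ f 1) = 0 :=
      (congrArg (fun t => (x : W ⟶ C.X 0) ≫ t) (hd 0)).symm.trans hx
    have := hm 1
    rw [F.map_comp, ← assoc, ← zero_comp (f := F.map (f 1)), cancel_mono] at hx'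
    exact hx'

theorem exists_cartanEilenberg [EnoughInjectives A] (K : CochainComplex A ℤ) (n : ℤ) [K.IsStrictlyGE n] :
    ∃ (I : CochainComplex (CochainComplex A ℤ) ℤ) (ε : K ⟶ I.X 0) (_ : ε ≫ I.d 0 1 = 0),
      (∃ i : ℤ, ∀ p q : ℤ, p < i → IsZero ((I.X q).X p)) ∧
      (∀ p : ℤ, _root_.CE.IsInjResolutionVia (((eval A (ComplexShape.up ℤ) p).mapHomologicalComplex (ComplexShape.up ℤ)).obj I) (K.X p) (ε.f p)) ∧
      (∀ p : ℤ, _root_.CE.IsInjResolutionVia (((cyclesFunctor A (ComplexShape.up ℤ) p).mapHomologicalComplex (ComplexShape.up ℤ)).obj I) (K.cycles p) (cyclesMap ε p)) ∧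
      (∀ p : ℤ, _root_.CE.IsInjResolutionVia (((homologyFunctor A (ComplexShape.up ℤ) p).mapHomologicalComplex (ComplexShape.up ℤ)).obj I) (K.homology p) (homologyMap ε p)) := by
  have hstep : ∀ (t : { M : CochainComplex A ℤ // M.IsStrictlyGE n }),
      ∃ (J N : CochainComplex A ℤ) (f : t.1 ⟶ J) (g : J ⟶ N) (w : f ≫ g = 0),
        J.IsStrictlyGE n ∧ N.IsStrictlyGE n ∧ IsCEStep (ShortComplex.mk f g w) := fun t =>
    have := t.2
    exists_ce_step t.1 n
  choose J N f g w hJ hN hs using hstep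
  let T : ℕ → { M : CochainComplex A ℤ // M.IsStrictlyGE n } := fun m =>
    Nat.rec ⟨K, inferInstance⟩ (fun _ t => ⟨N t, hN t⟩) m
  have hgf : ∀ m, (g (T m) ≫ f (T (m + 1))) ≫ g (T (m + 1)) ≫ f (T (m + 1 + 1)) = 0 := fun m => by
    have := w (T (m + 1))
    rw [assoc, reassoc_of% this, zero_comp, comp_zero]
  refine ⟨extCx (fun m => J (T m)) (fun m => g (T m) ≫ f (T (m + 1))) hgf, f (T 0), ?_, ⟨n, ?_⟩,
    fun p => ?_, fun p => ?_, fun p => ?_⟩
  · rw [show (extCx (fun m => J (T m)) (fun m => g (T m) ≫ f (T (m + 1))) hgf).d 0 1 = _ from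
      extCx_d _ _ hgf 0]
    change f (T 0) ≫ g (T 0) ≫ f (T 1) = 0
    rw [reassoc_of% (w (T 0)), zero_comp]
  · rintro p (m | m) hp
    · have := hJ (T m)
      exact (J (T m)).isZero_of_isStrictlyGE n p hp
    · exact (eval A (ComplexShape.up ℤ) p).map_isZero (isZero_zero _)
  · exact isInjResolutionVia_of_steps (eval A _ p) (fun m => (T m).1) (fun m => J (T m))
      (fun m => f (T m)) (fun m => g (T m)) (fun m => w (T m)) (fun m => (hs (T m)).eval p)
      (fun m => ((hs (T m)).inj p).1) hgf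
  · exact isInjResolutionVia_of_steps (cyclesFunctor A _ p) (fun m => (T m).1) (fun m => J (T m))
      (fun m => f (T m)) (fun m => g (T m)) (fun m => w (T m)) (fun m => (hs (T m)).cycles p)
      (fun m => ((hs (T m)).inj p).2.1) hgf
  · exact isInjResolutionVia_of_steps (homologyFunctor A _ p) (fun m => (T m).1) (fun m => J (T m))
      (fun m => f (T m)) (fun m => g (T m)) (fun m => w (T m)) (fun m => (hs (T m)).homology p)
      (fun m => ((hs (T m)).inj p).2.2) hgf

end Groth.Agent.CohDer42.CE
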