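import Mathlib.CategoryTheory.Triangulated.Generators
import Groth.Agent.CohDer42.Compact

/-!
# Compact objects and classical generators; strong generators
-/

universe v u

open CategoryTheory Category Limits Pretriangulated Preadditive
open scoped ZeroObject

set_option autoImplicit false
set_option linter.unusedSectionVars false

namespace Groth.Agent.CohDer42

section Strong

variable {D : Type u} [Category.{v} D] [Preadditive D] [HasZeroObject D] [HasShift D ℤ]
  [∀ n : ℤ, (shiftFunctor D n).Additive] [Pretriangulated D]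

/-- a property closed under binary biproducts -/
def BiprodClosed (P : ObjectProperty D) : Prop := ∀ X Y, P X → P Y → P (X ⊞ Y)

lemma biprodClosed_retractClosure {P : ObjectProperty D} (h : BiprodClosed P) :
    BiprodClosed P.retractClosure := by
  rintro X Y ⟨X', hX, ⟨r⟩⟩ ⟨Y', hY, ⟨r'⟩⟩
  exact ⟨_, h _ _ hX hY, ⟨{ i := biprod.map r.i r'.i, r := biprod.map r.r r'.r, retract := by ext <;> simp }⟩⟩

lemma biprodClosed_extensionProduct {P Q : ObjectProperty D} (hP : BiprodClosed P) (hQ : BiprodClosed Q) :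
    BiprodClosed (ObjectProperty.extensionProduct P Q) := by
  rintro X Y ⟨A, B, f, g, h, hT, hA, hB⟩ ⟨A', B', f', g', h', hT', hA', hB'⟩
  exact ⟨_, _, _, _, _, biprod_triangle_distinguished _ _ hT hT', hP _ _ hA hA', hQ _ _ hB hB'⟩

lemma biprodClosed_binaryProductsClosure (P : ObjectProperty D) :
    BiprodClosed P.binaryProductsClosure := fun X Y hX hY =>
  ObjectProperty.prop_of_iso _ (biprod.isoProd X Y).symm
    (ObjectProperty.prop_of_isLimit _ (limit.isLimit (pair X Y)) (by rintro ⟨_ | _⟩ <;> assumption))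

lemma biprodClosed_triangEnvelopeIter (P : ObjectProperty D) :
    ∀ n, BiprodClosed (P.triangEnvelopeIter n)
  | 0 => by
    rw [ObjectProperty.triangEnvelopeIter_zero]
    exact biprodClosed_retractClosure (biprodClosed_binaryProductsClosure _)
  | n + 1 => by
    rw [ObjectProperty.triangEnvelopeIter_succ]
    exact biprodClosed_retractClosure (biprodClosed_extensionProduct
      (biprodClosed_retractClosure (biprodClosed_binaryProductsClosure _))
      (biprodClosed_triangEnvelopeIter P n))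

lemma triangEnvelopeIter_trans [IsTriangulated D] {P Q : ObjectProperty D} {m : ℕ}
    (h : P ≤ Q.triangEnvelopeIter m) : ∀ k, ∃ b, P.triangEnvelopeIter k ≤ Q.triangEnvelopeIter b := by
  have h0 : (P.shiftClosure ℤ).binaryProductsClosure.retractClosure ≤ Q.triangEnvelopeIter m := by
    have hc : (Q.triangEnvelopeIter m).IsClosedUnderBinaryProducts := ⟨by
      rintro Z ⟨p, hp⟩
      have := biprodClosed_triangEnvelopeIter Q m _ _ (hp ⟨WalkingPair.left⟩) (hp ⟨WalkingPair.right⟩)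
      refine ObjectProperty.prop_of_iso _ ?_ this
      exact biprod.isoProd _ _ ≪≫
        (limit.isLimit (pair _ _)).conePointUniqueUpToIso
          ((IsLimit.postcomposeHomEquiv (diagramIsoPair p.diag) _).symm p.isLimit)⟩
    rw [ObjectProperty.retractClosure_le_iff]
    refine ObjectProperty.limitsClosure_le ?_
    rw [ObjectProperty.shiftClosure_le_iff]
    exact h
  intro k
  induction k with
  | zero => exact ⟨m, by rwa [ObjectProperty.triangEnvelopeIter_zero]⟩
  | succ k ih =>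
    obtain ⟨b, hb⟩ := ih
    refine ⟨m + (b + 1), ?_⟩
    rw [ObjectProperty.triangEnvelopeIter_succ, ObjectProperty.triangEnvelopeIter_add' (m' := b) Q rfl]
    apply ObjectProperty.monotone_retractClosure
    exact le_trans (ObjectProperty.monotone_extensionProduct_left _ h0)
      (ObjectProperty.monotone_extensionProduct_right _ hb)

end Strong

variable {D : Type u} [Category.{v} D] [Preadditive D] [HasZeroObject D] [HasShift D ℤ]
  [∀ n : ℤ, (shiftFunctor D n).Additive] [Pretriangulated D] [HasCoproducts.{v} D]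

lemma isCompactObject_retract {X Y : D} (r : Retract X Y) (h : CohDer.IsCompactObject Y) :
    CohDer.IsCompactObject X := by
  intro ι W
  refine ⟨fun s t hst => ?_, fun f => ?_⟩
  · have h1 := congrArg (fun g => r.r ≫ g) hst
    simp only [← homSum_natural] at h1
    have h2 := congrArg (DirectSum.map fun i => leftComp (W i) r.i) ((h ι W).1 h1)
    apply DFinsupp.ext
    intro i
    have h3 := DFinsupp.ext_iff.1 h2 i
    rw [DirectSum.map_apply, DirectSum.map_apply, DirectSum.map_apply, DirectSum.map_apply] at h3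
    change r.i ≫ r.r ≫ s i = r.i ≫ r.r ≫ t i at h3
    simpa using h3
  · obtain ⟨u, hu⟩ := (h ι W).2 (r.r ≫ f)
    exact ⟨DirectSum.map (fun i => leftComp (W i) r.i) u, by rw [homSum_natural, hu, r.retract_assoc]⟩

variable [IsTriangulated D] (P : ObjectProperty D)

/-- maps from compact objects factor through the envelope of `P` -/
def FactorsCompact (Y : D) : Prop :=
  ∀ C : D, CohDer.IsCompactObject C → ∀ g : C ⟶ Y,
    ∃ (W : D) (a : C ⟶ W) (b : W ⟶ Y), P.triangEnvelope W ∧ a ≫ b = g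

variable {P} (hP : P.Nonempty) (hc : ∀ X, P X → CohDer.IsCompactObject X)

include hc in
lemma isCompactObject_of_triangEnvelope (W : D) (hW : P.triangEnvelope W) :
    CohDer.IsCompactObject W := by
  let Q : ObjectProperty D := fun K => CohDer.IsCompactObject K
  have : Q.IsTriangulated := isTriangulated_isCompactObject
  have : Q.IsStableUnderRetracts := ⟨fun r h => isCompactObject_retract r h⟩
  exact (ObjectProperty.triangEnvelope_le_iff P (Q := Q)).2 hc W hW

include hP in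
lemma factorsCompact_coproduct {J : Type v} (W : J → D) (hW : ∀ j, P.triangEnvelope (W j)) :
    FactorsCompact P (∐ W) := by
  classical
  have : P.triangEnvelope.IsTriangulated := inferInstance
  intro C hC g
  obtain ⟨s, rfl⟩ := (hC J W).2 g
  induction s using DirectSum.induction_on with
  | zero =>
    obtain ⟨Z, hZ, hZ'⟩ := P.triangEnvelope.exists_prop_of_containsZero
    exact ⟨Z, 0, 0, hZ', by simp⟩
  | of i x => exact ⟨W i, x, Sigma.ι W i, hW i, (homSum_of _ _ _ _).symm⟩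
  | add s t hs ht =>
    obtain ⟨A, a, b, hA, hab⟩ := hs
    obtain ⟨B, c, d, hB, hcd⟩ := ht
    refine ⟨A ⊞ B, biprod.lift a c, biprod.desc b d, ?_, ?_⟩
    · exact P.triangEnvelope.ext_of_isTriangulatedClosed₂ _ (binaryBiproductTriangle_distinguished A B) hA hB
    · rw [biprod.lift_desc, map_add, hab, hcd]

include hP hc in
lemma factorsCompact_ext {T : Triangle D} (hT : T ∈ distTriang D) (h₁ : FactorsCompact P T.obj₁)
    (h₃ : FactorsCompact P T.obj₃) : FactorsCompact P T.obj₂ := by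
  intro C hC g
  obtain ⟨S, p, q, hS, hpq⟩ := h₃ C hC (g ≫ T.mor₂)
  obtain ⟨C', k, δ, hC'⟩ := distinguished_cocone_triangle₁ p
  have hC'c : CohDer.IsCompactObject C' :=
    isCompactObject_obj₂ (T := (Triangle.mk k p δ).invRotate) (inv_rot_of_distTriang _ hC')
      (isCompactObject_shift (isCompactObject_of_triangEnvelope hc S hS) (-1)) hC
  obtain ⟨c, hc₁, hc₃⟩ := complete_distinguished_triangle_morphism₁ _ _ hC' hT g q hpq
  change C' ⟶ T.obj₁ at c
  obtain ⟨Z, a', b', hZ, hab⟩ := h₁ C' hC'c c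
  obtain ⟨W, m, n, hW⟩ := distinguished_cocone_triangle₂ (δ ≫ a'⟦(1 : ℤ)⟧')
  obtain ⟨α, hα₁, hα₂⟩ := complete_distinguished_triangle_morphism₂ _ _ hC' hW a' (𝟙 S) (id_comp _).symm
  obtain ⟨β, hβ₁, hβ₂⟩ := complete_distinguished_triangle_morphism₂ _ _ hW hT b' q (by
    change (δ ≫ a'⟦(1 : ℤ)⟧') ≫ b'⟦(1 : ℤ)⟧' = q ≫ T.mor₃
    rw [assoc, ← Functor.map_comp, hab]
    exact hc₃)
  change C ⟶ W at α
  change W ⟶ T.obj₂ at β
  change k ≫ α = a' ≫ m at hα₁
  change m ≫ β = b' ≫ T.mor₁ at hβ₁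
  change k ≫ g = c ≫ T.mor₁ at hc₁
  have hd : k ≫ (g - α ≫ β) = 0 := by
    rw [comp_sub, reassoc_of% hα₁, hβ₁, hc₁, ← hab, assoc, sub_self]
  obtain ⟨e, he⟩ : ∃ e, g - α ≫ β = p ≫ e := Triangle.yoneda_exact₂ _ hC' _ hd
  have hWenv : P.triangEnvelope W := P.triangEnvelope.ext_of_isTriangulatedClosed₂ _ hW hZ hS
  refine ⟨W ⊞ S, biprod.lift α p, biprod.desc β e, ?_, ?_⟩
  · exact P.triangEnvelope.ext_of_isTriangulatedClosed₂ _ (binaryBiproductTriangle_distinguished W S) hWenv hS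
  · rw [biprod.lift_desc, ← he, add_sub_cancel]

lemma FactorsCompact.shift {Y : D} (h : FactorsCompact P Y) (n : ℤ) : FactorsCompact P (Y⟦n⟧) := by
  intro C hC g
  let adj := (shiftEquiv D n).symm.toAdjunction
  obtain ⟨W, a, b, hW, hab⟩ := h _ (isCompactObject_shift hC (-n)) ((adj.homEquiv C Y).symm g)
  refine ⟨W⟦n⟧, adj.homEquiv C W a, b⟦n⟧', P.triangEnvelope.le_shift n _ hW, ?_⟩
  refine (adj.homEquiv_naturality_right a b).symm.trans ?_
  exact (congrArg (adj.homEquiv C Y) hab).trans (Equiv.apply_symm_apply _ _)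

/-- finite-sum normal form of maps from compact objects to countable coproducts -/
lemma tower_normal_form {C : D} (hC : CohDer.IsCompactObject C) (X : ℕ → D)
    (f : ∀ n, X n ⟶ X (n + 1)) [HasCoproduct X] {Y : D} (π : ∐ X ⟶ Y)
    (hπ : ∀ n, Sigma.ι X n ≫ π = f n ≫ Sigma.ι X (n + 1) ≫ π) (u : C ⟶ ∐ X) :
    ∃ (m : ℕ) (w : C ⟶ X m), u ≫ π = w ≫ Sigma.ι X m ≫ π := by
  classical
  let X' : ULift.{v} ℕ → D := fun n => X n.down
  let e : ∐ X' ⟶ ∐ X := Sigma.desc fun n => Sigma.ι X n.down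
  let e' : ∐ X ⟶ ∐ X' := Sigma.desc fun n => Sigma.ι X' ⟨n⟩
  have he : e' ≫ e = 𝟙 _ := by apply Sigma.hom_ext; intro n; simp [e, e', X']
  have hup : ∀ (k : ℕ) {m : ℕ} (w : C ⟶ X m), ∃ w' : C ⟶ X (m + k),
      w ≫ Sigma.ι X m ≫ π = w' ≫ Sigma.ι X (m + k) ≫ π := by
    intro k
    induction k with
    | zero => exact fun w => ⟨w, rfl⟩
    | succ k ih =>
      intro m w
      obtain ⟨w', hw⟩ := ih w
      exact ⟨w' ≫ f (m + k), by rw [hw, hπ, assoc]; rfl⟩
  obtain ⟨s, hs⟩ := (hC _ X').2 (u ≫ e')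
  have hu : u ≫ π = CohDer.homSumToHomCoprod C X' s ≫ e ≫ π := by
    rw [hs, assoc, reassoc_of% he]
  rw [hu]
  clear hs hu u
  induction s using DirectSum.induction_on with
  | zero => exact ⟨0, 0, by simp⟩
  | of i x =>
    rw [homSum_of]
    exact ⟨i.down, x, by simp [e, X']⟩
  | add s t hs ht =>
    obtain ⟨m, w, hw⟩ := hs
    obtain ⟨l, z, hz⟩ := ht
    obtain ⟨m', hm⟩ := Nat.exists_eq_add_of_le (Nat.le_max_left m l)
    obtain ⟨l', hl⟩ := Nat.exists_eq_add_of_le (Nat.le_max_right m l)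
    obtain ⟨w', hw'⟩ := hup m' w
    obtain ⟨z', hz'⟩ := hup l' z
    have hlm : l + l' = m + m' := by omega
    refine ⟨m + m', w' + z' ≫ eqToHom (congrArg X hlm), ?_⟩
    rw [map_add, add_comp, hw, hz, hw', hz', add_comp]
    congr 1
    have : ∀ (p q : ℕ) (hpq : p = q) (z : C ⟶ X p),
        z ≫ Sigma.ι X p ≫ π = (z ≫ eqToHom (congrArg X hpq)) ≫ Sigma.ι X q ≫ π := by
      intro p q hpq z
      subst hpq
      simp
    exact this _ _ hlm z'

lemma tower_inj {C : D} (hC : CohDer.IsCompactObject C) (X : ℕ → D)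
    (f : ∀ n, X n ⟶ X (n + 1)) [HasCoproduct X] (u : C ⟶ ∐ X)
    (hu : u ≫ (𝟙 _ - Sigma.desc (fun n => f n ≫ Sigma.ι X (n + 1))) = 0) : u = 0 := by
  classical
  let X' : ULift.{v} ℕ → D := fun n => X n.down
  let e : ∐ X' ⟶ ∐ X := Sigma.desc fun n => Sigma.ι X n.down
  let e' : ∐ X ⟶ ∐ X' := Sigma.desc fun n => Sigma.ι X' ⟨n⟩
  have he : e' ≫ e = 𝟙 _ := by apply Sigma.hom_ext; intro n; simp [e, e', X']
  have he' : e ≫ e' = 𝟙 _ := by apply Sigma.hom_ext; intro n; simp [e, e', X']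
  obtain ⟨s, hs⟩ := (hC _ X').2 (u ≫ e')
  let τ : DirectSum (ULift.{v} ℕ) (fun n => C ⟶ X' n) →+ DirectSum (ULift.{v} ℕ) (fun n => C ⟶ X' n) :=
    DirectSum.toAddMonoid fun n =>
      (DirectSum.of (fun n => C ⟶ X' n) ⟨n.down + 1⟩).comp (rightComp C (f n.down))
  have hτ : ∀ t, CohDer.homSumToHomCoprod C X' (τ t) ≫ e =
      CohDer.homSumToHomCoprod C X' t ≫ e ≫ Sigma.desc (fun n => f n ≫ Sigma.ι X (n + 1)) := by
    intro t
    induction t using DirectSum.induction_on with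
    | zero => simp
    | of i x =>
      simp only [τ, DirectSum.toAddMonoid_of, AddMonoidHom.comp_apply, homSum_of]
      simp [e, X', rightComp]
    | add a b ha hb => rw [map_add, map_add, map_add, add_comp, add_comp, ha, hb]
  have hu' : u = u ≫ Sigma.desc (fun n => f n ≫ Sigma.ι X (n + 1)) := by
    rwa [comp_sub, comp_id, sub_eq_zero] at hu
  have key : τ s = s := by
    apply (hC _ X').1
    have : Mono e := ⟨fun a b h => by simpa [assoc, he'] using h =≫ e'⟩
    rw [← cancel_mono e, hτ, hs, assoc, assoc, reassoc_of% he, he, comp_id, ← hu']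
  have hz : ∀ n : ℕ, s ⟨n⟩ = 0 := by
    have h0 : ∀ t, (τ t) ⟨0⟩ = 0 := by
      intro t
      induction t using DirectSum.induction_on with
      | zero => simp
      | of i x =>
        simp only [τ, DirectSum.toAddMonoid_of, AddMonoidHom.comp_apply]
        exact DirectSum.of_eq_of_ne _ _ _ (fun h => Nat.succ_ne_zero _ (congrArg ULift.down h).symm)
      | add a b ha hb => rw [map_add, DirectSum.add_apply, ha, hb, add_zero]
    have hs' : ∀ (n : ℕ) t, (τ t) ⟨n + 1⟩ = t ⟨n⟩ ≫ f n := by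
      intro n t
      induction t using DirectSum.induction_on with
      | zero => simp
      | of i x =>
        simp only [τ, DirectSum.toAddMonoid_of, AddMonoidHom.comp_apply]
        by_cases h : i = ⟨n⟩
        · subst h
          rw [DirectSum.of_eq_same, DirectSum.of_eq_same]
          rfl
        · rw [DirectSum.of_eq_of_ne _ _ _ (Ne.symm h), DirectSum.of_eq_of_ne _ _ _ (fun h' => h (by
            have := congrArg ULift.down h'
            exact ULift.ext _ _ (Nat.succ_injective this).symm)), zero_comp]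
      | add a b ha hb => rw [map_add, DirectSum.add_apply, DirectSum.add_apply, ha, hb, add_comp]
    intro n
    induction n with
    | zero => rw [← key]; exact h0 s
    | succ n ih => rw [← key, hs', ih, zero_comp]
  have : s = 0 := DFinsupp.ext fun i => hz i.down
  rw [this, map_zero] at hs
  have : Mono e' := ⟨fun a b h => by simpa [assoc, he] using h =≫ e⟩
  rw [← cancel_mono e', zero_comp]
  exact hs.symm

theorem classical_of_generates [HasColimitsOfShape (Discrete ℕ) D] (E : D)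
    (hE : CohDer.IsCompactObject E) (hg : CohDer.Generates (fun _ : Unit => E))
    (X : D) (hX : CohDer.IsCompactObject X) :
    ObjectProperty.triangEnvelope (fun Y : D => Y = E) X := by
  classical
  let P : ObjectProperty D := fun Y => Y = E
  have hPc : ∀ Y, P Y → CohDer.IsCompactObject Y := fun Y h => by rw [h]; exact hE
  have hPne : P.Nonempty := ⟨E, rfl⟩
  have hsum : ∀ {J : Type v} (m : J → ℤ), FactorsCompact P (∐ fun j => E⟦m j⟧) := fun m =>
    factorsCompact_coproduct hPne _ fun j =>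
      P.triangEnvelope.le_shift (m j) _ (P.le_triangEnvelope _ rfl)
  let N := {Y : Σ Y : D, (Y ⟶ X) // FactorsCompact P Y.1}
  have hstep : ∀ M : N, ∃ (M' : N) (f : M.1.1 ⟶ M'.1.1), f ≫ M'.1.2 = M.1.2 ∧
      ∀ (m : ℤ) (e : E⟦m⟧ ⟶ M.1.1), e ≫ M.1.2 = 0 → e ≫ f = 0 := by
    rintro ⟨⟨Y, p⟩, hY⟩
    let J := {j : Σ m : ULift.{v} ℤ, (E⟦m.down⟧ ⟶ Y) // j.2 ≫ p = 0}
    let φ : (∐ fun j : J => E⟦j.1.1.down⟧) ⟶ Y := Sigma.desc fun j => j.1.2
    obtain ⟨Y', f, δ, hT⟩ := distinguished_cocone_triangle φ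
    obtain ⟨p', hp'⟩ : ∃ p', p = f ≫ p' := Triangle.yoneda_exact₂ _ hT p (by
      change φ ≫ p = 0
      apply Sigma.hom_ext
      intro j
      simpa [φ] using j.2)
    have hY' : FactorsCompact P Y' :=
      factorsCompact_ext hPne hPc (T := (Triangle.mk φ f δ).rotate) (rot_of_distTriang _ hT) hY
        ((hsum _).shift 1)
    refine ⟨⟨⟨Y', p'⟩, hY'⟩, f, hp'.symm, fun m e he => ?_⟩
    have h0 : φ ≫ f = 0 := comp_distTriang_mor_zero₁₂ _ hT
    simpa [φ] using Sigma.ι (fun j : J => E⟦j.1.1.down⟧) ⟨⟨⟨m⟩, e⟩, he⟩ ≫= h0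
  choose nxt fm hfm hkill using hstep
  let J₀ := Σ m : ULift.{v} ℤ, (E⟦m.down⟧ ⟶ X)
  let M₀ : N := ⟨⟨∐ fun j : J₀ => E⟦j.1.down⟧, Sigma.desc fun j => j.2⟩, hsum _⟩
  let M : ℕ → N := Nat.rec M₀ (fun _ M => nxt M)
  let Xs : ℕ → D := fun n => (M n).1.1
  let fs : ∀ n, Xs n ⟶ Xs (n + 1) := fun n => fm (M n)
  let ps : ∀ n, Xs n ⟶ X := fun n => (M n).1.2
  have hps : ∀ n, fs n ≫ ps (n + 1) = ps n := fun n => hfm (M n)
  let d : ∐ Xs ⟶ ∐ Xs := 𝟙 _ - Sigma.desc (fun n => fs n ≫ Sigma.ι Xs (n + 1))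
  obtain ⟨Y, π, δ, hT⟩ := distinguished_cocone_triangle d
  have hdπ : d ≫ π = 0 := comp_distTriang_mor_zero₁₂ _ hT
  have hπ : ∀ n, Sigma.ι Xs n ≫ π = fs n ≫ Sigma.ι Xs (n + 1) ≫ π := fun n => by
    have := Sigma.ι Xs n ≫= hdπ
    simpa [d, sub_comp, comp_sub, sub_eq_zero] using this
  obtain ⟨p, hp⟩ : ∃ p, Sigma.desc ps = π ≫ p := Triangle.yoneda_exact₂ _ hT _ (by
    change d ≫ Sigma.desc ps = 0
    apply Sigma.hom_ext
    intro n
    simp [d, sub_comp, comp_sub, hps])
  have hlift : ∀ C, CohDer.IsCompactObject C → ∀ g : C ⟶ Y,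
      ∃ (m : ℕ) (w : C ⟶ Xs m), g = w ≫ Sigma.ι Xs m ≫ π := by
    intro C hC g
    have hδ : g ≫ δ = 0 := by
      refine eq_zero_of_shift_comp (T := Triangle.mk d π δ) 1 (fun u hu => ?_) _ ?_
      · exact tower_inj (isCompactObject_shift hC (-1)) Xs fs u hu
      · exact (assoc _ _ _).trans ((congrArg (g ≫ ·) (comp_distTriang_mor_zero₃₁ _ hT)).trans comp_zero)
    obtain ⟨u, rfl⟩ : ∃ u : C ⟶ ∐ Xs, g = u ≫ π := Triangle.coyoneda_exact₃ _ hT g hδ
    exact tower_normal_form hC Xs fs π hπ u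
  have hsurj : ∀ (m : ℤ) (g : E⟦m⟧ ⟶ X), ∃ g' : E⟦m⟧ ⟶ Y, g' ≫ p = g := fun m g => by
    refine ⟨Sigma.ι (fun j : J₀ => E⟦j.1.down⟧) ⟨⟨m⟩, g⟩ ≫ Sigma.ι Xs 0 ≫ π, ?_⟩
    rw [assoc, assoc, ← hp, Sigma.ι_desc]
    simp [ps, M, M₀]
  have hinj : ∀ (m : ℤ) (g : E⟦m⟧ ⟶ Y), g ≫ p = 0 → g = 0 := fun m g hg => by
    obtain ⟨n, w, rfl⟩ := hlift _ (isCompactObject_shift hE m) g
    rw [assoc, assoc, ← hp, Sigma.ι_desc] at hg
    rw [hπ n, reassoc_of% (hkill (M n) m w hg), zero_comp]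
  have hiso : IsIso p := by
    obtain ⟨C, q, ε, hTp⟩ := distinguished_cocone_triangle p
    apply (Triangle.isZero₃_iff_isIso₁ _ hTp).1
    refine hg C fun _ n v => ?_
    let w := (shiftFunctorCompIsoId D n (-n) (add_neg_cancel n)).hom.app C
    have h3 : v⟦-n⟧' ≫ w = 0 := by
      let v' : E⟦-n⟧ ⟶ C := v⟦-n⟧' ≫ w
      change v' = 0
      have hε : v' ≫ ε = 0 := by
        refine eq_zero_of_shift_comp (T := Triangle.mk p q ε) 1 (fun u hu => ?_) _ ?_
        · have := hinj (-n + -1) ((shiftFunctorAdd D (-n) (-1 : ℤ)).hom.app E ≫ u)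
            ((assoc _ _ _).trans ((congrArg (_ ≫ ·) hu).trans comp_zero))
          exact (cancel_epi ((shiftFunctorAdd D (-n) (-1 : ℤ)).hom.app E)).1 (this.trans comp_zero.symm)
        · exact (assoc _ _ _).trans ((congrArg (v' ≫ ·) (comp_distTriang_mor_zero₃₁ _ hTp)).trans comp_zero)
      obtain ⟨g, hg'⟩ : ∃ g : E⟦-n⟧ ⟶ X, v' = g ≫ q := Triangle.coyoneda_exact₃ _ hTp v' hε
      obtain ⟨g', rfl⟩ := hsurj _ g
      have h0 : p ≫ q = 0 := comp_distTriang_mor_zero₁₂ _ hTp
      rw [hg', assoc, h0, comp_zero]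
    apply (shiftFunctor D (-n)).map_injective
    rw [Functor.map_zero]
    exact (cancel_mono w).1 (h3.trans zero_comp.symm)
  obtain ⟨m, w, hw⟩ := hlift X hX (inv p)
  obtain ⟨W, a, b, hW, hab⟩ := (M m).2 X hX w
  refine P.triangEnvelope.prop_of_retract ⟨a, b ≫ ps m, ?_⟩ hW
  rw [reassoc_of% hab]
  have := hw =≫ p
  rw [IsIso.inv_hom_id, assoc, assoc, ← hp, Sigma.ι_desc] at this
  exact this.symm

end Groth.Agent.CohDer42
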