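import Groth.Agent.CohDer42.Res

/-!
# Left resolutions by objects in a generating class
-/

universe v u

open CategoryTheory Category Limits HomologicalComplex Opposite

set_option autoImplicit false
set_option linter.unusedSectionVars false
set_option backward.isDefEq.respectTransparency false

namespace Groth.Agent.CohDer42

variable {A : Type u} [Category.{v} A] [Abelian A]

/-- a complex over `A`, seen with reversed degrees in `Aᵒᵖ` -/
def negOp (K : CochainComplex A ℤ) : CochainComplex Aᵒᵖ ℤ where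
  X n := op (K.X (-n))
  d i j := (K.d (-j) (-i)).op
  shape i j h := by
    rw [K.shape _ _ (fun h' : -j + 1 = -i => h (show i + 1 = j by omega))]
    rfl
  d_comp_d' i j k _ _ := by rw [← op_comp, K.d_comp_d]; rfl

/-- a complex over `Aᵒᵖ`, seen with reversed degrees in `A` -/
def negUnop (K : CochainComplex Aᵒᵖ ℤ) : CochainComplex A ℤ where
  X n := unop (K.X (-n))
  d i j := (K.d (-j) (-i)).unop
  shape i j h := by
    rw [K.shape _ _ (fun h' : -j + 1 = -i => h (show i + 1 = j by omega))]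
    rfl
  d_comp_d' i j k _ _ := by rw [← unop_comp, K.d_comp_d]; rfl

/-- functoriality of `negUnop` -/
def negUnopMap {K L : CochainComplex Aᵒᵖ ℤ} (f : K ⟶ L) : negUnop L ⟶ negUnop K where
  f n := (f.f (-n)).unop
  comm' i j _ := by
    change (f.f (-i)).unop ≫ (K.d (-j) (-i)).unop = (L.d (-j) (-i)).unop ≫ (f.f (-j)).unop
    rw [← unop_comp, ← unop_comp, f.comm]

/-- applying `negUnop` to `negOp` gives back the complex -/
def negUnopNegOpIso (K : CochainComplex A ℤ) : negUnop (negOp K) ≅ K :=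
  Hom.isoOfComponents (fun n => K.XIsoOfEq (neg_neg n)) (fun i j _ => by
    simp [negUnop, negOp])

lemma quasiIso_negUnopMap {K L : CochainComplex Aᵒᵖ ℤ} (f : K ⟶ L) [QuasiIso f] :
    QuasiIso (negUnopMap f) := ⟨fun n => by
  rw [quasiIsoAt_iff' _ (n - 1) n (n + 1) (by simp) (by simp)]
  have h : ShortComplex.QuasiIso
      ((shortComplexFunctor' Aᵒᵖ (ComplexShape.up ℤ) (-(n + 1)) (-n) (-(n - 1))).map f) := by
    rw [← quasiIsoAt_iff' f (-(n + 1)) (-n) (-(n - 1)) (by grind [CochainComplex.prev])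
      (by grind [CochainComplex.next])]
    infer_instance
  exact ShortComplex.quasiIso_unopMap ((shortComplexFunctor' Aᵒᵖ (ComplexShape.up ℤ)
    (-(n + 1)) (-n) (-(n - 1))).map f)⟩

variable (P : A → Prop) (hP0 : ∃ Z : A, IsZero Z ∧ P Z)
  (hP : ∀ X : A, ∃ (Y : A) (π : Y ⟶ X), P Y ∧ Epi π) (K : CochainComplex A ℤ)

include hP0 hP

lemma exists_left_resolution (a : ℤ) [K.IsStrictlyLE a] :
    ∃ (Q : CochainComplex A ℤ) (α : Q ⟶ K), Q.IsStrictlyLE a ∧ (∀ n, P (Q.X n)) ∧
      (∀ n, Epi (α.f n)) ∧ QuasiIso α := by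
  obtain ⟨Z, hZ, hPZ⟩ := hP0
  have : (negOp K).IsStrictlyGE (-a) := by
    rw [CochainComplex.isStrictlyGE_iff]
    intro i hi
    exact (K.isZero_of_isStrictlyLE a (-i) (by omega)).op
  obtain ⟨L, α, hL, hLP, hmono, hqis⟩ := exists_resolution (fun X : Aᵒᵖ => P X.unop)
    (fun X => by
      obtain ⟨Y, π, hY, hπ⟩ := hP X.unop
      exact ⟨op Y, π.op, hY, inferInstance⟩)
    (negOp K) ⟨op Z, hZ.op, hPZ⟩ (-a)
  have hepi : ∀ n, Epi ((negUnopMap α).f n) := fun n => by
    have := hmono (-n)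
    exact inferInstanceAs (Epi (α.f (-n)).unop)
  have := quasiIso_negUnopMap α
  refine ⟨negUnop L, negUnopMap α ≫ (negUnopNegOpIso K).hom, ?_, fun n => hLP (-n),
    fun n => ?_, inferInstance⟩
  · rw [CochainComplex.isStrictlyLE_iff]
    intro i hi
    exact (L.isZero_of_isStrictlyGE (-a) (-i) (by omega)).unop
  · have := hepi n
    rw [comp_f]
    infer_instance

lemma exists_left_resolution' (a : ℤ) (hK : ∀ n : ℤ, a < n → IsZero (K.homology n)) :
    ∃ (Q : CochainComplex A ℤ) (α : Q ⟶ K), Q.IsStrictlyLE a ∧ (∀ n, P (Q.X n)) ∧ QuasiIso α := by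
  have : K.IsLE a := by
    rw [CochainComplex.isLE_iff]
    intro i hi
    exact (exactAt_iff_isZero_homology K i).2 (hK i hi)
  have : QuasiIso (K.ιTruncLE a) := (K.quasiIso_ιTruncLE_iff a).2 inferInstance
  obtain ⟨Q, α, h₁, h₂, -, h₃⟩ := exists_left_resolution P hP0 hP (K.truncLE a) a
  exact ⟨Q, α ≫ K.ιTruncLE a, h₁, h₂, inferInstance⟩

end Groth.Agent.CohDer42
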