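import Groth.Prelude.Def_CohDer
import Groth.Agent.CohDer42.DerProd
import Groth.Agent.CohDer42.Compact
import Groth.Agent.CohDer42.ResOp
import Mathlib.Algebra.Homology.DerivedCategory.ShortExact
import Mathlib.Algebra.Homology.Embedding.CochainComplex
import Mathlib.CategoryTheory.Preadditive.Yoneda.Basic
import Mathlib.Algebra.Category.Grp.Abelian
import Mathlib.Algebra.Category.Grp.EpiMono

/-!
# Compact objects of `D(A)` are retracts of finite complexes on generators
-/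

universe v u

open CategoryTheory Category Limits HomologicalComplex Opposite Pretriangulated

set_option autoImplicit false
set_option linter.unusedSectionVars false
set_option backward.isDefEq.respectTransparency false

open scoped ZeroObject
attribute [local instance] CategoryTheory.Abelian.hasFiniteBiproducts

namespace Groth.Agent.CohDer42.CompactBdd

variable {A : Type u} [Category.{v} A] [Abelian A]

open Classical in
/-- projection from a sum onto a summand -/
noncomputable def pr {C : Type*} [Category C] [HasZeroMorphisms C] {ι : Type*} (X : ι → C)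
    [HasCoproduct X] (i : ι) : ∐ X ⟶ X i :=
  Sigma.desc fun k => if h : k = i then eqToHom (congrArg X h) else 0

lemma ι_pr {C : Type*} [Category C] [HasZeroMorphisms C] {ι : Type*} (X : ι → C)
    [HasCoproduct X] (i : ι) : Sigma.ι X i ≫ pr X i = 𝟙 _ := by simp [pr]

lemma ι_pr_ne {C : Type*} [Category C] [HasZeroMorphisms C] {ι : Type*} (X : ι → C)
    [HasCoproduct X] {i k : ι} (h : k ≠ i) : Sigma.ι X k ≫ pr X i = 0 := by simp [pr, h]

/-! ### subcomplexes -/

lemma exists_subcomplex (P : CochainComplex A ℤ) (Q : ℤ → A) (u : ∀ i, Q i ⟶ P.X i)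
    [∀ i, Mono (u i)] (hd : ∀ i, ∃ δ, δ ≫ u (i + 1) = u i ≫ P.d i (i + 1)) :
    ∃ (L : CochainComplex A ℤ) (f : L ⟶ P), Mono f ∧
      ∀ i, ∃ e : L.X i ≅ Q i, f.f i = e.hom ≫ u i := by
  choose δ hδ using hd
  have h2 : ∀ i, δ i ≫ δ (i + 1) = 0 := fun i => by
    rw [← cancel_mono (u (i + 1 + 1)), assoc, hδ, ← assoc, hδ, assoc, P.d_comp_d, comp_zero,
      zero_comp]
  let L : CochainComplex A ℤ := CochainComplex.of Q δ h2
  let f : L ⟶ P := { f := u, comm' := fun i j (hij : i + 1 = j) => by subst hij; simp [L, hδ] }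
  have : ∀ i, Mono (f.f i) := fun i => inferInstanceAs (Mono (u i))
  exact ⟨L, f, HomologicalComplex.mono_of_mono_f _ this, fun i => ⟨Iso.refl _, (id_comp (u i)).symm⟩⟩

lemma isZero_cokernel_X {L P : CochainComplex A ℤ} (f : L ⟶ P) (i : ℤ) [Epi (f.f i)] :
    IsZero ((cokernel f).X i) := by
  have : Epi ((cokernel.π f).f i) := inferInstance
  rw [IsZero.iff_id_eq_zero, ← cancel_epi ((cokernel.π f).f i), ← cancel_epi (f.f i),
    ← assoc, ← HomologicalComplex.comp_f, cokernel.condition]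
  simp

/-! ### maps into sums -/

lemma exists_map_sigma {κ : Type*} (X : κ → CochainComplex A ℤ) [HasCoproduct X]
    {P : CochainComplex A ℤ} (f : ∀ j, P ⟶ X j) (R : ℤ → Finset κ)
    (hR : ∀ i j, j ∉ R i → (f j).f i = 0) :
    ∃ g : P ⟶ ∐ X, ∀ j, g ≫ pr X j = f j := by
  classical
  have key : ∀ (i : ℤ) (T : Finset κ), R i ⊆ T →
      ∑ j ∈ R i, (f j).f i ≫ (Sigma.ι X j).f i = ∑ j ∈ T, (f j).f i ≫ (Sigma.ι X j).f i :=
    fun i T hT => Finset.sum_subset hT fun j _ hj => by rw [hR i j hj, zero_comp]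
  let g : P ⟶ ∐ X :=
    { f := fun i => ∑ j ∈ R i, (f j).f i ≫ (Sigma.ι X j).f i
      comm' := fun i k _ => by
        rw [key i (R i ∪ R k) Finset.subset_union_left, key k (R i ∪ R k) Finset.subset_union_right,
          Preadditive.sum_comp, Preadditive.comp_sum]
        refine Finset.sum_congr rfl fun j _ => ?_
        simp }
  refine ⟨g, fun j => ?_⟩
  ext i
  change (∑ k ∈ R i, (f k).f i ≫ (Sigma.ι X k).f i) ≫ (pr X j).f i = _
  rw [key i (insert j (R i)) (Finset.subset_insert _ _), Preadditive.sum_comp,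
    Finset.sum_eq_single j]
  · rw [assoc, ← HomologicalComplex.comp_f, ι_pr, HomologicalComplex.id_f, comp_id]
  · intro k _ hk
    rw [assoc, ← HomologicalComplex.comp_f, ι_pr_ne X hk, HomologicalComplex.zero_f, comp_zero]
  · exact fun h => absurd (Finset.mem_insert_self _ _) h

lemma exists_finite_of_preserves (E : A) {ι : Type v} (X : ι → A) [HasCoproduct X]
    [PreservesColimitsOfShape (Discrete ι) (preadditiveCoyoneda.obj (op E))] (f : E ⟶ ∐ X) :
    ∃ S : Finset ι, f = ∑ k ∈ S, (f ≫ pr X k) ≫ Sigma.ι X k := by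
  classical
  let M : AddSubgroup (E ⟶ ∐ X) :=
    { carrier := {f | ∃ S : Finset ι, ∀ S', S ⊆ S' → f = ∑ k ∈ S', (f ≫ pr X k) ≫ Sigma.ι X k}
      zero_mem' := ⟨∅, fun S' _ => by simp⟩
      add_mem' := fun {x y} ⟨S, hS⟩ ⟨T, hT⟩ => ⟨S ∪ T, fun S' h => by
        simp only [Preadditive.add_comp, Finset.sum_add_distrib]
        rw [← hS S' (Finset.union_subset_left h), ← hT S' (Finset.union_subset_right h)]⟩
      neg_mem' := fun {x} ⟨S, hS⟩ => ⟨S, fun S' h => by
        simp only [Preadditive.neg_comp, Finset.sum_neg_distrib]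
        rw [← hS S' h]⟩ }
  suffices hM : M = ⊤ by
    obtain ⟨S, hS⟩ := (show f ∈ M by rw [hM]; exact AddSubgroup.mem_top f)
    exact ⟨S, hS S subset_rfl⟩
  let W := (preadditiveCoyoneda.obj (op E)).obj (∐ X)
  have hc := isColimitCofanMkObjOfIsColimit (preadditiveCoyoneda.obj (op E)) _ _
    (coproductIsCoproduct X)
  have h0 : (AddCommGrpCat.ofHom (QuotientAddGroup.mk' M) : W ⟶ AddCommGrpCat.of ((E ⟶ ∐ X) ⧸ M)) = 0 :=
    Cofan.IsColimit.hom_ext hc _ _ fun k => AddCommGrpCat.hom_ext (AddMonoidHom.ext fun y =>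
      (QuotientAddGroup.eq_zero_iff (y ≫ Sigma.ι X k)).2 ⟨{k}, fun S' h => by
        rw [Finset.sum_eq_single k]
        · rw [assoc y, ι_pr, comp_id]
        · intro i _ hi
          rw [assoc y, ι_pr_ne X (Ne.symm hi), comp_zero, zero_comp]
        · exact fun hk => absurd (h (Finset.mem_singleton_self k)) hk⟩)
  exact eq_top_iff.2 fun x _ => (QuotientAddGroup.eq_zero_iff x).1
    (DFunLike.congr_fun (congrArg AddCommGrpCat.Hom.hom h0) x)

variable [IsGrothendieckAbelian.{v} A] [HasDerivedCategory.{v} A]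
  [HasCoproducts.{v} (DerivedCategory A)]

open DerivedCategory

lemma hom_ext_sigma {ι : Type v} (X : ι → CochainComplex A ℤ) {T : DerivedCategory A}
    {l l' : Q.obj (∐ X) ⟶ T} (h : ∀ i, Q.map (Sigma.ι X i) ≫ l = Q.map (Sigma.ι X i) ≫ l') :
    l = l' := by
  obtain ⟨J, f, hJ, hf, -⟩ := exists_kinjective_resolution (Q.objPreimage T)
  let e : Q.obj J ≅ T := (asIso (Q.map f)).symm ≪≫ Q.objObjPreimageIso T
  obtain ⟨a, ha⟩ := Q_map_surjective_of_isKInjective (l ≫ e.inv)
  obtain ⟨b, hb⟩ := Q_map_surjective_of_isKInjective (l' ≫ e.inv)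
  rw [← cancel_mono e.inv, ← ha, ← hb]
  refine Q_map_eq_of_forall_sigma fun i => ?_
  rw [Functor.map_comp, Functor.map_comp, ha, hb, ← assoc, h, assoc]

/-- maps from a compact object into the image of a sum of complexes see finitely many summands -/
lemma exists_finite_components {K : DerivedCategory A} (hK : CohDer.IsCompactObject K)
    {ι : Type v} (X : ι → CochainComplex A ℤ) {Y : CochainComplex A ℤ} (g : Y ⟶ ∐ X)
    (φ : K ⟶ Q.obj Y) :
    ∃ F : Finset ι, (∀ k ∉ F, φ ≫ Q.map (g ≫ pr X k) = 0) ∧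
      φ ≫ Q.map g = ∑ k ∈ F, (φ ≫ Q.map (g ≫ pr X k)) ≫ Q.map (Sigma.ι X k) := by
  classical
  let E : ι → DerivedCategory A := fun i => Q.obj (X i)
  obtain ⟨J, f, hJ, hf, -⟩ := exists_kinjective_resolution (Q.objPreimage (∐ E))
  let e : Q.obj J ≅ ∐ E := (asIso (Q.map f)).symm ≪≫ Q.objObjPreimageIso (∐ E)
  choose a ha using fun i => Q_map_surjective_of_isKInjective (Sigma.ι E i ≫ e.inv)
  let c : Q.obj (∐ X) ⟶ ∐ E := Q.map (Sigma.desc a) ≫ e.hom
  let c' : ∐ E ⟶ Q.obj (∐ X) := Sigma.desc fun i => Q.map (Sigma.ι X i)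
  have hc : ∀ i, Q.map (Sigma.ι X i) ≫ c = Sigma.ι E i := fun i => by
    simp only [c]
    rw [← Functor.map_comp_assoc, Sigma.ι_desc, ha, assoc, e.inv_hom_id, comp_id]
  have hcc : c ≫ c' = 𝟙 _ := hom_ext_sigma X fun i => by
    rw [reassoc_of% (hc i)]; simp [c']
  obtain ⟨s, hs⟩ := (hK ι E).2 (φ ≫ Q.map g ≫ c)
  have hsum : φ ≫ Q.map g = ∑ k ∈ DFinsupp.support s, (s k) ≫ Q.map (Sigma.ι X k) := by
    have : φ ≫ Q.map g = (φ ≫ Q.map g ≫ c) ≫ c' := by simp [assoc, hcc]
    rw [this, ← hs]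
    conv_lhs => rw [← DirectSum.sum_support_of s]
    rw [map_sum, Preadditive.sum_comp]
    refine Finset.sum_congr rfl fun k _ => ?_
    rw [homSum_of, assoc]
    simp [c']
  have hk : ∀ k, φ ≫ Q.map (g ≫ pr X k) = s k := fun k => by
    rw [Functor.map_comp, ← assoc, hsum, Preadditive.sum_comp]
    simp only [assoc, ← Functor.map_comp]
    rw [Finset.sum_eq_single k]
    · rw [ι_pr, CategoryTheory.Functor.map_id, comp_id]
    · intro i _ hi
      rw [ι_pr_ne X hi, Functor.map_zero, comp_zero]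
    · intro h
      rw [DFinsupp.notMem_support_iff.1 h, zero_comp]
  refine ⟨DFinsupp.support s, fun k h => (hk k).trans (DFinsupp.notMem_support_iff.1 h), ?_⟩
  simp only [hk]
  exact hsum

/-- a retract of a complex is a retract of a subcomplex, if the composite to the quotient vanishes -/
lemma retract_sub {K : DerivedCategory A} {L P : CochainComplex A ℤ} (f : L ⟶ P) [Mono f]
    (r : Retract K (Q.obj P)) (h : r.i ≫ Q.map (cokernel.π f) = 0) :
    Nonempty (Retract K (Q.obj L)) := by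
  have hS : (ShortComplex.mk f (cokernel.π f) (cokernel.condition f)).ShortExact :=
    shortExact_cokernel f
  obtain ⟨w, hw⟩ := Triangle.coyoneda_exact₂ _ (triangleOfSES_distinguished hS) r.i h
  exact ⟨{
    i := w
    r := Q.map f ≫ r.r
    retract := by rw [← assoc]; exact (congrArg (· ≫ r.r) hw.symm).trans r.retract }⟩

/-- a compact object has bounded cohomology -/
lemma exists_bounds {K : DerivedCategory A} (hK : CohDer.IsCompactObject K)
    {J : CochainComplex A ℤ} (φ : K ≅ Q.obj J) :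
    ∃ a b : ℤ, a ≤ b ∧ ∀ n, n < a ∨ b < n → IsZero (J.homology n) := by
  classical
  let I : ℤ → A := fun n => Injective.under (J.homology n)
  let h : ∀ n, J.opcycles n ⟶ I n := fun n =>
    Injective.factorThru (Injective.ι (J.homology n)) (J.homologyι n)
  let X : ULift.{v} ℤ → CochainComplex A ℤ := fun n => (single A (ComplexShape.up ℤ) n.down).obj (I n.down)
  let f : ∀ n, J ⟶ X n := fun n =>
    mkHomToSingle (J.pOpcycles n.down ≫ h n.down) (fun i _ => by simp)
  obtain ⟨g, hg⟩ := exists_map_sigma X f (fun i => {⟨i⟩}) (fun i j hj => by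
    refine (isZero_single_obj_X _ _ _ _ ?_).eq_of_tgt _ _
    intro e
    exact hj (Finset.mem_singleton.2 (ULift.ext _ _ e.symm)))
  obtain ⟨F, hF, -⟩ := exists_finite_components hK X g φ.hom
  obtain ⟨a, b, hab, hFb⟩ : ∃ a b : ℤ, a ≤ b ∧ ∀ n, n < a ∨ b < n → (ULift.up n : ULift.{v} ℤ) ∉ F := by
    obtain ⟨B, hB⟩ := (F.image fun n => |n.down|).bddAbove
    refine ⟨-max B 0, max B 0, by omega, fun n hn hmem => ?_⟩
    have : |n| ≤ B := hB (Finset.mem_image.2 ⟨_, hmem, rfl⟩)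
    have := le_abs_self n
    have := neg_abs_le n
    rcases hn with hn | hn <;> omega
  refine ⟨a, b, hab, fun n hn => ?_⟩
  have hz := hF _ (hFb n hn)
  rw [hg] at hz
  have hQ : Q.map (f ⟨n⟩) = 0 := by rw [← cancel_epi φ.hom, hz, comp_zero]
  have hh : homologyMap (f ⟨n⟩) n = 0 := by
    have := congrArg ((DerivedCategory.homologyFunctor A n).map) hQ
    rw [Functor.map_zero] at this
    have nat := (DerivedCategory.homologyFunctorFactors A n).hom.naturality (f ⟨n⟩)
    exact (cancel_epi ((DerivedCategory.homologyFunctorFactors A n).hom.app J)).1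
      (nat.symm.trans (by erw [this, zero_comp, comp_zero]))
  have h1 : J.homologyι n ≫ opcyclesMap (f ⟨n⟩) n = 0 := by
    rw [← homologyι_naturality, hh, zero_comp]
  let σ := singleObjXSelf (ComplexShape.up ℤ) n (I n)
  have : IsIso ((X ⟨n⟩).pOpcycles n) :=
    (X ⟨n⟩).isIso_pOpcycles _ n rfl (by simp [X])
  have h2 : opcyclesMap (f ⟨n⟩) n = h n ≫ σ.inv ≫ (X ⟨n⟩).pOpcycles n := by
    rw [← cancel_epi (J.pOpcycles n), p_opcyclesMap]
    simp [f, σ, X]
  rw [h2, ← assoc, ← assoc, Injective.comp_factorThru] at h1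
  have h3 : Injective.ι (J.homology n) = 0 := by
    rw [← cancel_mono σ.inv, ← cancel_mono ((X ⟨n⟩).pOpcycles n), h1]; simp
  exact IsZero.of_mono_eq_zero _ h3

variable (S : Set A)

/-- sums of members of `S` -/
def IsSum (X : A) : Prop :=
  ∃ (ι : Type v) (E : ι → A), (∀ i, E i ∈ S) ∧ Nonempty (X ≅ ∐ E)

/-- finite sums of members of `S` -/
def IsFinSum (X : A) : Prop :=
  ∃ (n : ℕ) (E : Fin n → A), (∀ j, E j ∈ S) ∧ Nonempty (X ≅ ⨁ E)

lemma isSum_of_isZero {Z : A} (hZ : IsZero Z) : IsSum.{v} S Z :=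
  ⟨PEmpty.{v + 1}, fun i => i.elim, fun i => i.elim,
    ⟨hZ.iso ((IsZero.iff_id_eq_zero _).2 (Sigma.hom_ext _ _ fun i => i.elim))⟩⟩

lemma isFinSum_of_isZero {Z : A} (hZ : IsZero Z) : IsFinSum S Z :=
  ⟨0, fun i : Fin 0 => i.elim0, fun i : Fin 0 => i.elim0,
    ⟨hZ.iso ((IsZero.iff_id_eq_zero _).2 (biproduct.hom_ext _ _ fun i : Fin 0 => i.elim0))⟩⟩

variable (h1 : ∀ X : A, ∃ (ι : Type v) (E : ι → A) (π : ∐ E ⟶ X), (∀ i, E i ∈ S) ∧ Epi π)
  (h2 : ∀ E ∈ S, ∀ ι : Type v,
    PreservesColimitsOfShape (Discrete ι) (preadditiveCoyoneda.obj (op E)))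

/-- invariant: `K` is a retract of a bounded complex of sums, finite below `m` -/
def Inv (K : DerivedCategory A) (a b m : ℤ) : Prop :=
  ∃ L : CochainComplex A ℤ, Nonempty (Retract K (Q.obj L)) ∧
    (∀ i, i < a ∨ b < i → IsZero (L.X i)) ∧ (∀ i, IsSum.{v} S (L.X i)) ∧
    ∀ i, i < m → IsFinSum S (L.X i)

include h2 in
lemma inv_succ {K : DerivedCategory A} (hK : CohDer.IsCompactObject K) {a b m : ℤ}
    (h : Inv S K a b m) : Inv S K a b (m + 1) := by
  classical
  obtain ⟨L, ⟨r⟩, hz, hsum, hfin⟩ := h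
  by_cases hm : m < a ∨ b < m
  · refine ⟨L, ⟨r⟩, hz, hsum, fun i hi => ?_⟩
    rcases lt_or_eq_of_le (Int.lt_add_one_iff.1 hi) with hi' | rfl
    · exact hfin i hi'
    · exact isFinSum_of_isZero S (hz _ hm)
  obtain ⟨κ, E, hE, ⟨e⟩⟩ := hsum m
  obtain ⟨N, E', hE', ⟨e'⟩⟩ := hfin (m - 1) (by omega)
  choose G₀ hG₀ using fun k : Fin N =>
    have := h2 (E' k) (hE' k) κ
    exists_finite_of_preserves (E' k) E (biproduct.ι E' k ≫ e'.inv ≫ L.d (m - 1) m ≫ e.hom)
  let G : Finset κ := Finset.univ.biUnion G₀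
  let ρ : Finset κ → (∐ E ⟶ ∐ E) := fun T => ∑ k ∈ T, pr E k ≫ Sigma.ι E k
  have hρ : ∀ (T : Finset κ) (k : κ), Sigma.ι E k ≫ ρ T = if k ∈ T then Sigma.ι E k else 0 := by
    intro T k
    simp only [ρ, Preadditive.comp_sum]
    by_cases hk : k ∈ T
    · rw [if_pos hk, Finset.sum_eq_single k]
      · rw [← assoc, ι_pr, id_comp]
      · intro i _ hi; rw [← assoc, ι_pr_ne E (Ne.symm hi), zero_comp]
      · exact fun h => absurd hk h
    · rw [if_neg hk]
      refine Finset.sum_eq_zero fun i hi => ?_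
      rw [← assoc, ι_pr_ne E (by rintro rfl; exact hk hi), zero_comp]
  have hG : ∀ T, G ⊆ T → L.d (m - 1) m ≫ e.hom ≫ ρ T = L.d (m - 1) m ≫ e.hom := by
    intro T hT
    rw [← cancel_epi e'.inv]
    refine biproduct.hom_ext' _ _ fun k => ?_
    rw [show biproduct.ι E' k ≫ e'.inv ≫ L.d (m - 1) m ≫ e.hom ≫ ρ T =
      (biproduct.ι E' k ≫ e'.inv ≫ L.d (m - 1) m ≫ e.hom) ≫ ρ T by simp only [assoc]]
    conv_lhs => rw [hG₀ k]
    rw [Preadditive.sum_comp]
    conv_rhs => rw [hG₀ k]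
    refine Finset.sum_congr rfl fun i hi => ?_
    rw [assoc, hρ, if_pos (hT (Finset.mem_biUnion.2 ⟨k, Finset.mem_univ _, hi⟩))]
  let X : κ → CochainComplex A ℤ := fun k => (single A (ComplexShape.up ℤ) m).obj (E k)
  let cmp : ∐ E ⟶ (∐ X).X m := Sigma.desc fun k =>
    (singleObjXSelf (ComplexShape.up ℤ) m (E k)).inv ≫ (Sigma.ι X k).f m
  let g : L ⟶ ∐ X :=
    mkHomToSingle (e.hom ≫ (𝟙 _ - ρ G)) (fun i hi => by
      obtain rfl : i = m - 1 := by simp at hi; omega
      rw [Preadditive.comp_sub, Preadditive.comp_sub, comp_id, hG G subset_rfl, sub_self]) ≫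
    mkHomFromSingle cmp (fun i _ => Sigma.hom_ext _ _ fun k => by simp [cmp, X])
  obtain ⟨F, -, hF⟩ := exists_finite_components hK X g r.i
  let H := G ∪ F
  let idx : Fin H.card → κ := fun i => (H.equivFin.symm i).1
  let um : ⨁ (fun i => E (idx i)) ⟶ L.X m := biproduct.desc (fun i => Sigma.ι E (idx i)) ≫ e.inv
  have hidx : ∀ k ∈ H, ∃ i, idx i = k := fun k hk => ⟨H.equivFin ⟨k, hk⟩, by simp [idx]⟩
  let rm : L.X m ⟶ ⨁ (fun i => E (idx i)) := e.hom ≫ biproduct.lift fun i => pr E (idx i)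
  have hru : um ≫ rm = 𝟙 _ := by
    refine biproduct.hom_ext' _ _ fun i => biproduct.hom_ext _ _ fun j => ?_
    simp only [um, rm, assoc, e.inv_hom_id_assoc, biproduct.ι_desc_assoc, biproduct.lift_π, comp_id]
    by_cases hij : i = j
    · subst hij; rw [ι_pr]; simp
    · rw [ι_pr_ne E (fun he => hij (H.equivFin.symm.injective (Subtype.ext he))),
        biproduct.ι_π_ne _ hij]
  have hur : rm ≫ um = e.hom ≫ ρ H ≫ e.inv := by
    simp only [um, rm, assoc, biproduct.lift_desc_assoc]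
    congr 2
    simp only [ρ]
    refine Finset.sum_bij (fun i _ => idx i) (fun i _ => (H.equivFin.symm i).2)
      (fun i _ j _ he => H.equivFin.symm.injective (Subtype.ext he))
      (fun k hk => ?_) (fun i _ => rfl)
    obtain ⟨i, hi⟩ := hidx k hk
    exact ⟨i, Finset.mem_univ _, hi⟩
  have hdat : ∀ i, ∃ (Qi : A) (u : Qi ⟶ L.X i), Mono u ∧ (i ≠ m → IsIso u) ∧
      ((h : m = i) → IsFinSum S Qi ∧ IsSum.{v} S Qi ∧
        (∃ δ, δ ≫ u = L.d (m - 1) m ≫ (L.XIsoOfEq h).hom) ∧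
        ∀ k ∈ H, ∃ x, x ≫ u = Sigma.ι E k ≫ e.inv ≫ (L.XIsoOfEq h).hom) := by
    intro i
    rcases eq_or_ne i m with rfl | hi
    · refine ⟨_, um, mono_of_mono_fac hru, fun h => absurd rfl h, fun _ =>
        ⟨⟨_, fun j => E (idx j), fun j => hE _, ⟨Iso.refl _⟩⟩,
          ⟨ULift.{v} (Fin H.card), fun j => E (idx j.down), fun j => hE _,
            ⟨biproduct.isoCoproduct _ ≪≫ (Sigma.whiskerEquiv (g := fun j => E (idx j)) Equiv.ulift
              (fun _ => Iso.refl _)).symm⟩⟩,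
          ⟨L.d (i - 1) i ≫ rm, ?_⟩, fun k hk => ⟨Sigma.ι E k ≫ e.inv ≫ rm, ?_⟩⟩⟩
      · rw [assoc, hur]
        simp only [XIsoOfEq_rfl, Iso.refl_hom, comp_id]
        rw [reassoc_of% (hG H Finset.subset_union_left)]
        simp
      · simp only [assoc, hur, XIsoOfEq_rfl, Iso.refl_hom, comp_id, e.inv_hom_id_assoc]
        rw [← assoc (Sigma.ι E k), hρ, if_pos hk]
    · exact ⟨_, 𝟙 _, inferInstance, fun _ => inferInstance, fun h => absurd h.symm hi⟩
  choose Qi u hu hiso hm' using hdat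
  obtain ⟨hfs, hs, ⟨δ₀, hδ₀⟩, hx⟩ := hm' m rfl
  simp only [XIsoOfEq_rfl, Iso.refl_hom, comp_id] at hδ₀ hx
  obtain ⟨L', f, hfm, hLf⟩ := exists_subcomplex L Qi u fun i => by
    by_cases hi : i + 1 = m
    · obtain rfl : i = m - 1 := by omega
      obtain ⟨-, -, ⟨δ, hδ⟩, -⟩ := hm' (m - 1 + 1) hi.symm
      refine ⟨u (m - 1) ≫ δ, ?_⟩
      rw [assoc, hδ]
      simp [XIsoOfEq]
    · have := hiso (i + 1) hi
      exact ⟨u i ≫ L.d i (i + 1) ≫ inv (u (i + 1)), by simp⟩
  have hepi : ∀ i, i ≠ m → IsIso (f.f i) := fun i hi => by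
    obtain ⟨eL, heL⟩ := hLf i
    have := hiso i hi
    rw [heL]; infer_instance
  have hker : ∀ k ∈ H, Sigma.ι E k ≫ e.inv ≫ (cokernel.π f).f m = 0 := fun k hk => by
    obtain ⟨x, hx⟩ := hx k hk
    obtain ⟨eL, heL⟩ := hLf m
    rw [← assoc, ← hx, show u m = eL.inv ≫ f.f m by rw [heL, eL.inv_hom_id_assoc], assoc, assoc,
      ← HomologicalComplex.comp_f, cokernel.condition]
    simp
  let w : ∐ X ⟶ cokernel f := Sigma.desc fun k =>
    mkHomFromSingle (Sigma.ι E k ≫ e.inv ≫ (cokernel.π f).f m) (fun j hj => by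
      have := hepi j (by simp at hj; omega)
      exact (isZero_cokernel_X f j).eq_of_tgt _ _)
  have hgw : g ≫ w = cokernel.π f := by
    ext i
    rcases eq_or_ne i m with rfl | hi
    · have hc : cmp ≫ w.f i = e.inv ≫ (cokernel.π f).f i := Sigma.hom_ext _ _ fun k => by
        simp only [cmp, w, Sigma.ι_desc_assoc, assoc]
        rw [← HomologicalComplex.comp_f, Sigma.ι_desc]
        simp
      have hz : ρ G ≫ e.inv ≫ (cokernel.π f).f i = 0 := Sigma.hom_ext _ _ fun k => by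
        rw [← assoc, hρ]
        split_ifs with hk
        · rw [hker k (Finset.mem_union_left _ hk), comp_zero]
        · simp
      simp [g, hc, hz, Preadditive.comp_sub, Preadditive.sub_comp]
    · have := hepi i hi
      exact (isZero_cokernel_X f i).eq_of_tgt _ _
  obtain ⟨r'⟩ := retract_sub f r (by
    rw [← hgw, Functor.map_comp, ← assoc, hF, Preadditive.sum_comp]
    refine Finset.sum_eq_zero fun k hk => ?_
    rw [assoc, ← Functor.map_comp]
    have : Sigma.ι X k ≫ w = 0 := from_single_hom_ext (by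
      simp only [w, Sigma.ι_desc, mkHomFromSingle_f, hker k (Finset.mem_union_right _ hk)]
      simp)
    rw [this, Functor.map_zero, comp_zero])
  refine ⟨L', ⟨r'⟩, fun i hi => ?_, fun i => ?_, fun i hi => ?_⟩
  · have := hepi i (by omega)
    exact (hz i hi).of_iso (asIso (f.f i))
  · obtain ⟨eL, -⟩ := hLf i
    rcases eq_or_ne i m with rfl | hi'
    · obtain ⟨ι, Eι, hEι, ⟨eι⟩⟩ := hs
      exact ⟨ι, Eι, hEι, ⟨eL ≪≫ eι⟩⟩
    · have := hepi i hi'
      obtain ⟨ι, Eι, hEι, ⟨eι⟩⟩ := hsum i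
      exact ⟨ι, Eι, hEι, ⟨asIso (f.f i) ≪≫ eι⟩⟩
  · obtain ⟨eL, -⟩ := hLf i
    rcases eq_or_ne i m with rfl | hi'
    · obtain ⟨n, En, hEn, ⟨en⟩⟩ := hfs
      exact ⟨n, En, hEn, ⟨eL ≪≫ en⟩⟩
    · have := hepi i hi'
      obtain ⟨n, En, hEn, ⟨en⟩⟩ := hfin i (by omega)
      exact ⟨n, En, hEn, ⟨asIso (f.f i) ≪≫ en⟩⟩

include h1 in
/-- a compact object is a retract of a bounded complex of sums -/
lemma exists_inv {K : DerivedCategory A} (hK : CohDer.IsCompactObject K) :
    ∃ a b : ℤ, Inv S K a b a := by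
  classical
  let J := Q.objPreimage K
  let φ : K ≅ Q.obj J := (Q.objObjPreimageIso K).symm
  obtain ⟨a, b, hab, hJ⟩ := exists_bounds hK φ
  have : J.IsLE b := (CochainComplex.isLE_iff J b).2 fun i hi =>
    (exactAt_iff_isZero_homology _ _).2 (hJ i (Or.inr hi))
  obtain ⟨P, α, hP, hPs, -, hα⟩ := exists_left_resolution (IsSum.{v} S)
    ⟨_, isZero_zero A, isSum_of_isZero S (isZero_zero A)⟩
    (fun X => by
      obtain ⟨ι, E, π, hE, hπ⟩ := h1 X
      exact ⟨∐ E, π, ⟨ι, E, hE, ⟨Iso.refl _⟩⟩, hπ⟩) (J.truncLE b) b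
  let φP : K ≅ Q.obj P :=
    φ ≪≫ (asIso (Q.map (J.ιTruncLE b))).symm ≪≫ (asIso (Q.map α)).symm
  let lo : ULift.{v} ℕ → ℤ := fun j => a - j.down
  have hdat : ∀ (j : ULift.{v} ℕ) (i : ℤ), ∃ (Qi : A) (u : Qi ⟶ P.X i), Mono u ∧
      (lo j ≤ i → IsIso u) ∧ (¬ lo j ≤ i → IsZero Qi) := fun j i => by
    by_cases hi : lo j ≤ i
    · exact ⟨_, 𝟙 _, inferInstance, fun _ => inferInstance, fun h => absurd hi h⟩
    · exact ⟨0, 0, ⟨fun x y _ => (isZero_zero A).eq_of_tgt _ _⟩, fun h => absurd h hi,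
        fun _ => isZero_zero A⟩
  choose Qi u hu hiso hzero using hdat
  choose L f hf hLf using fun j => exists_subcomplex P (Qi j) (u j) fun i => by
    by_cases hi : lo j ≤ i
    · have := hiso j (i + 1) (by omega)
      exact ⟨u j i ≫ P.d i (i + 1) ≫ inv (u j (i + 1)), by simp⟩
    · exact ⟨0, (hzero j i hi).eq_of_src _ _⟩
  let X : ULift.{v} ℕ → CochainComplex A ℤ := fun j => cokernel (f j)
  have hX : ∀ j i, lo j ≤ i → IsZero ((X j).X i) := fun j i hi => by
    obtain ⟨eL, heL⟩ := hLf j i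
    have := hiso j i hi
    have : Epi ((f j).f i) := by rw [heL]; infer_instance
    exact isZero_cokernel_X (f j) i
  obtain ⟨g, hg⟩ := exists_map_sigma X (fun j => cokernel.π (f j))
    (fun i => (Finset.range (a - i).toNat).image ULift.up) (fun i j hj => by
      refine (hX j i ?_).eq_of_tgt _ _
      by_contra h
      refine hj (Finset.mem_image.2 ⟨j.down, Finset.mem_range.2 ?_, rfl⟩)
      simp only [lo] at h
      omega)
  obtain ⟨F, hF, -⟩ := exists_finite_components hK X g φP.hom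
  obtain ⟨j, hj⟩ := Infinite.exists_notMem_finset F
  obtain ⟨r⟩ := retract_sub (f j) (Retract.ofIso φP) (by
    have := hF j hj
    rw [hg] at this
    exact this)
  have h0 : ∀ i, i < lo j ∨ b < i → IsZero ((L j).X i) := fun i hi => by
    obtain ⟨eL, heL⟩ := hLf j i
    by_cases hlo : lo j ≤ i
    · have := hiso j i hlo
      exact (P.isZero_of_isStrictlyLE b i (by omega)).of_iso (eL ≪≫ asIso (u j i))
    · exact (hzero j i hlo).of_iso eL
  refine ⟨lo j, b, L j, ⟨r⟩, h0, fun i => ?_, fun i hi => isFinSum_of_isZero S (h0 i (Or.inl hi))⟩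
  obtain ⟨eL, heL⟩ := hLf j i
  by_cases hlo : lo j ≤ i
  · have := hiso j i hlo
    obtain ⟨ι, E, hE, ⟨e⟩⟩ := hPs i
    exact ⟨ι, E, hE, ⟨eL ≪≫ asIso (u j i) ≪≫ e⟩⟩
  · exact isSum_of_isZero S ((hzero j i hlo).of_iso eL)

include h1 h2 in
/-- compact objects are retracts of bounded complexes of finite sums -/
theorem exists_retract {K : DerivedCategory A} (hK : CohDer.IsCompactObject K) :
    ∃ (L : CochainComplex A ℤ) (a b : ℤ), (∀ i : ℤ, i < a ∨ b < i → IsZero (L.X i)) ∧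
      (∀ i, IsFinSum S (L.X i)) ∧ Nonempty (Retract K (Q.obj L)) := by
  obtain ⟨a, b, h⟩ := exists_inv S h1 hK
  have hn : ∀ n : ℕ, Inv S K a b (a + n) := by
    intro n
    induction n with
    | zero => simpa using h
    | succ n ih => simpa [add_assoc] using inv_succ S h2 hK ih
  obtain ⟨L, hr, hz, -, hfin⟩ := hn (b - a + 1).toNat
  refine ⟨L, a, b, hz, fun i => ?_, hr⟩
  by_cases hi : b < i
  · exact isFinSum_of_isZero S (hz i (Or.inr hi))
  · exact hfin i (by omega)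

end Groth.Agent.CohDer42.CompactBdd
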