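import Mathlib.Algebra.Homology.HomotopyCategory.Plus
import Mathlib.Algebra.Homology.HomotopyCategory.MappingCocone
import Mathlib.Algebra.Homology.HomologicalComplexBiprod

/-!
# Factorizations of morphisms of complexes, splitting lemmas
-/

universe v u

open CategoryTheory Category Limits Preadditive
open CochainComplex CochainComplex.HomComplex
open scoped ZeroObject

set_option autoImplicit false
set_option linter.unusedSectionVars false
set_option backward.isDefEq.respectTransparency false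

namespace Groth.Agent.CohDer42

variable {V : Type u} [Category.{v} V] [Preadditive V]

lemma nonempty_homotopy_zero_of_split (S : ShortComplex (CochainComplex V ℤ))
    (σ : ∀ n : ℤ, (S.map (HomologicalComplex.eval V (ComplexShape.up ℤ) n)).Splitting)
    {B₁ B₃ : CochainComplex V ℤ} (b : B₁ ⟶ S.X₂) (b' : S.X₂ ⟶ B₃)
    (h : Homotopy (b ≫ S.g) 0) (h' : Homotopy (S.f ≫ b') 0) :
    Nonempty (Homotopy (b ≫ b') 0) := by
  let ρ : ∀ n, S.X₂.X n ⟶ S.X₁.X n := fun n => (σ n).r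
  let sec : ∀ n, S.X₃.X n ⟶ S.X₂.X n := fun n => (σ n).s
  have hsg : ∀ n, sec n ≫ S.g.f n = 𝟙 _ := fun n => (σ n).s_g
  have hfr : ∀ n, S.f.f n ≫ ρ n = 𝟙 _ := fun n => (σ n).f_r
  have hrf : ∀ n, ρ n ≫ S.f.f n = 𝟙 _ - S.g.f n ≫ sec n := fun n => (σ n).r_f
  let k : ∀ i j : ℤ, B₁.X i ⟶ S.X₂.X j := fun i j => h.hom i j ≫ sec j
  have hk0 : ∀ i j, ¬ (ComplexShape.up ℤ).Rel j i → k i j = 0 := fun i j hij => by
    simp [k, h.zero i j hij]
  let N := Homotopy.nullHomotopicMap k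
  have hN : N ≫ S.g = b ≫ S.g := by
    rw [Homotopy.nullHomotopicMap_comp]
    ext i
    have e : (fun i j => k i j ≫ S.g.f j) = h.hom := by
      funext i j
      simp [k, hsg]
    rw [e]
    have := h.comm i
    simp only [HomologicalComplex.zero_f, add_zero] at this
    exact this.symm
  let b₂ : B₁ ⟶ S.X₂ := b - N
  have hb₂ : b₂ ≫ S.g = 0 := by simp [b₂, hN]
  have hr : ∀ n, b₂.f n ≫ ρ n ≫ S.f.f n = b₂.f n := fun n => by
    have h2 : b₂.f n ≫ S.g.f n = 0 := by
      rw [← HomologicalComplex.comp_f, hb₂, HomologicalComplex.zero_f]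
    rw [hrf, comp_sub, comp_id, reassoc_of% h2, zero_comp, sub_zero]
  let c : B₁ ⟶ S.X₁ :=
    { f := fun n => b₂.f n ≫ ρ n
      comm' := fun i j _ => by
        have : IsSplitMono (S.f.f j) := IsSplitMono.mk' ⟨ρ j, hfr j⟩
        rw [← cancel_mono (S.f.f j)]
        simp only [assoc]
        rw [← S.f.comm i j, reassoc_of% (hr i), hr j]
        exact b₂.comm i j }
  have hc : c ≫ S.f = b₂ := by
    ext n
    exact (assoc _ _ _).trans (hr n)
  have hN' : Homotopy (N ≫ b') 0 :=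
    ((Homotopy.nullHomotopy k hk0).compRight b').trans (Homotopy.ofEq zero_comp)
  have hcb : Homotopy (b₂ ≫ b') 0 := by
    rw [← hc, assoc]
    exact (h'.compLeft c).trans (Homotopy.ofEq comp_zero)
  exact ⟨(Homotopy.ofEq (by simp [b₂])).trans ((hN'.add hcb).trans (Homotopy.ofEq (add_zero 0)))⟩

variable [HasBinaryBiproducts V]

lemma isZero_biprod {X Y : V} (hX : IsZero X) (hY : IsZero Y) : IsZero (X ⊞ Y) := by
  rw [IsZero.iff_id_eq_zero] at *
  ext <;> simp [hX, hY]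

lemma isZero_biprod_X {K L : CochainComplex V ℤ} {i : ℤ} (hK : IsZero (K.X i))
    (hL : IsZero (L.X i)) : IsZero ((K ⊞ L).X i) :=
  (isZero_biprod hK hL).of_iso (HomologicalComplex.biprodXIso K L i)

/-- factorization through a termwise split injection followed by a homotopy equivalence -/
lemma exists_split_mono_factorization (K L : CochainComplex V ℤ) (α : K ⟶ L) :
    ∃ (L' : CochainComplex V ℤ) (α' : K ⟶ L') (π : L' ⟶ L) (s : L ⟶ L'),
      α' ≫ π = α ∧ s ≫ π = 𝟙 L ∧ Nonempty (Homotopy (π ≫ s) (𝟙 L')) ∧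
      (∀ n : ℤ, ∃ (C : V) (e : L'.X n ≅ K.X n ⊞ C), α'.f n ≫ e.hom = biprod.inl) ∧
      (∀ a : ℤ, K.IsStrictlyGE a → L.IsStrictlyGE a → L'.IsStrictlyGE (a - 1)) ∧
      (∀ a : ℤ, K.IsStrictlyLE a → L.IsStrictlyLE a → L'.IsStrictlyLE a) := by
  refine ⟨mappingCone (𝟙 K) ⊞ L, biprod.lift (mappingCone.inr (𝟙 K)) α, biprod.snd, biprod.inr,
    by simp, by simp, ⟨?_⟩, fun n => ?_, fun a hK hL => ?_, fun a hK hL => ?_⟩
  · have h : Homotopy (biprod.fst ≫ biprod.inl : mappingCone (𝟙 K) ⊞ L ⟶ mappingCone (𝟙 K) ⊞ L) 0 :=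
      (Homotopy.ofEq (by rw [comp_id])).trans
        ((((mappingCone.homotopyToZeroOfId K).compLeft biprod.fst).compRight biprod.inl).trans
          (Homotopy.ofEq (by rw [comp_zero, zero_comp])))
    exact (Homotopy.ofEq (zero_add _).symm).trans
      ((h.symm.add (Homotopy.refl (biprod.snd ≫ biprod.inr))).trans (Homotopy.ofEq biprod.total))
  · let P : (mappingCone (𝟙 K) ⊞ L).X n ⟶ (mappingCone (𝟙 K)).X n :=
      (biprod.fst : mappingCone (𝟙 K) ⊞ L ⟶ _).f n
    let Q : (mappingCone (𝟙 K) ⊞ L).X n ⟶ L.X n :=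
      (biprod.snd : mappingCone (𝟙 K) ⊞ L ⟶ _).f n
    refine ⟨K.X (n + 1) ⊞ L.X n,
      { hom := biprod.lift (P ≫ (mappingCone.snd (𝟙 K)).v n n (add_zero n))
          (biprod.lift (P ≫ (mappingCone.fst (𝟙 K)).1.v n (n + 1) rfl)
            (Q - P ≫ (mappingCone.snd (𝟙 K)).v n n (add_zero n) ≫ α.f n))
        inv := biprod.desc ((biprod.lift (mappingCone.inr (𝟙 K)) α).f n)
          (biprod.desc ((mappingCone.inl (𝟙 K)).v (n + 1) n (by omega) ≫
              (biprod.inl : _ ⟶ mappingCone (𝟙 K) ⊞ L).f n)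
            ((biprod.inr : _ ⟶ mappingCone (𝟙 K) ⊞ L).f n))
        hom_inv_id := ?_
        inv_hom_id := ?_ }, ?_⟩
    · apply HomologicalComplex.biprodX_ext_to <;>
        simp only [P, Q, biprod.lift_desc, add_comp, sub_comp, assoc, id_comp,
          HomologicalComplex.biprod_lift_fst_f, HomologicalComplex.biprod_lift_snd_f,
          HomologicalComplex.biprod_inl_fst_f, HomologicalComplex.biprod_inl_snd_f,
          HomologicalComplex.biprod_inr_fst_f, HomologicalComplex.biprod_inr_snd_f,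
          comp_zero, comp_id, sub_zero, zero_add, add_zero]
      · have := mappingCone.id_X (𝟙 K) n (n + 1) rfl
        rw [add_comm] at this
        rw [← comp_add]
        erw [this]
        exact comp_id _
      · abel
    · ext <;> simp [P, Q]
    · ext <;> simp [P, Q]
  · rw [isStrictlyGE_iff]
    intro i hi
    refine isZero_biprod_X ?_ (L.isZero_of_isStrictlyGE a i (by omega))
    rw [mappingCone.isZero_X_iff]
    exact ⟨K.isZero_of_isStrictlyGE a _ (by omega), K.isZero_of_isStrictlyGE a i (by omega)⟩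
  · rw [isStrictlyLE_iff]
    intro i hi
    refine isZero_biprod_X ?_ (L.isZero_of_isStrictlyLE a i (by omega))
    rw [mappingCone.isZero_X_iff]
    exact ⟨K.isZero_of_isStrictlyLE a _ (by omega), K.isZero_of_isStrictlyLE a i (by omega)⟩

variable [HasZeroObject V]

lemma isZero_quotient_mappingCocone_id (L : CochainComplex V ℤ) :
    IsZero ((HomotopyCategory.quotient V (ComplexShape.up ℤ)).obj (mappingCocone (𝟙 L))) := by
  have h : IsZero ((HomotopyCategory.quotient V (ComplexShape.up ℤ)).obj (mappingCone (𝟙 L))) :=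
    (HomotopyCategory.isZero_quotient_obj_iff _).2 ⟨mappingCone.homotopyToZeroOfId L⟩
  exact ((CategoryTheory.shiftFunctor (HomotopyCategory V (ComplexShape.up ℤ)) (-1 : ℤ)).map_isZero h).of_iso
    (((HomotopyCategory.quotient V (ComplexShape.up ℤ)).commShiftIso (-1 : ℤ)).app (mappingCone (𝟙 L)))

/-- factorization through a homotopy equivalence followed by a termwise split surjection -/
lemma exists_split_epi_factorization (K L : CochainComplex V ℤ) (α : K ⟶ L) :
    ∃ (K' : CochainComplex V ℤ) (i : K ⟶ K') (α' : K' ⟶ L) (s : K' ⟶ K),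
      i ≫ α' = α ∧ i ≫ s = 𝟙 K ∧ Nonempty (Homotopy (s ≫ i) (𝟙 K')) ∧
      (∀ n : ℤ, ∃ (C : V) (e : K'.X n ≅ C ⊞ L.X n), e.inv ≫ α'.f n = biprod.snd) ∧
      (∀ a : ℤ, K.IsStrictlyGE a → L.IsStrictlyGE a → K'.IsStrictlyGE a) ∧
      (∀ a : ℤ, K.IsStrictlyLE a → L.IsStrictlyLE a → K'.IsStrictlyLE (a + 1)) := by
  refine ⟨K ⊞ mappingCocone (𝟙 L), biprod.inl, biprod.desc α (mappingCocone.fst (𝟙 L)), biprod.fst,
    by simp, by simp, ⟨?_⟩, fun n => ?_, fun a hK hL => ?_, fun a hK hL => ?_⟩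
  · refine HomotopyCategory.homotopyOfEq _ _ ?_
    rw [← biprod.total, Functor.map_add]
    have : (HomotopyCategory.quotient V (ComplexShape.up ℤ)).map
        (biprod.snd ≫ biprod.inr : K ⊞ mappingCocone (𝟙 L) ⟶ K ⊞ mappingCocone (𝟙 L)) = 0 := by
      rw [Functor.map_comp]
      rw [(isZero_quotient_mappingCocone_id L).eq_of_tgt ((HomotopyCategory.quotient V _).map biprod.snd) 0,
        zero_comp]
    rw [this, add_zero]
  · let P : (K ⊞ mappingCocone (𝟙 L)).X n ⟶ K.X n :=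
      (biprod.fst : K ⊞ mappingCocone (𝟙 L) ⟶ _).f n
    let Q : (K ⊞ mappingCocone (𝟙 L)).X n ⟶ (mappingCocone (𝟙 L)).X n :=
      (biprod.snd : K ⊞ mappingCocone (𝟙 L) ⟶ _).f n
    let I₁ := (biprod.inl : _ ⟶ K ⊞ mappingCocone (𝟙 L)).f n
    let I₂ := (biprod.inr : _ ⟶ K ⊞ mappingCocone (𝟙 L)).f n
    refine ⟨K.X n ⊞ L.X (n + -1),
      { hom := biprod.lift (biprod.lift P (Q ≫ (mappingCocone.snd (𝟙 L)).v n (n + -1) rfl))
          ((biprod.desc α (mappingCocone.fst (𝟙 L))).f n)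
        inv := biprod.desc
          (biprod.desc (I₁ - α.f n ≫ (mappingCocone.inl (𝟙 L)).v n n (add_zero n) ≫ I₂)
            ((mappingCocone.inr (𝟙 L)).1.v (n + -1) n (by omega) ≫ I₂))
          ((mappingCocone.inl (𝟙 L)).v n n (add_zero n) ≫ I₂)
        hom_inv_id := ?_
        inv_hom_id := ?_ }, ?_⟩
    · apply HomologicalComplex.biprodX_ext_from <;>
        simp only [P, Q, I₁, I₂, biprod.lift_desc, biprod.lift_desc_assoc, comp_add, comp_sub,
          add_comp, assoc, comp_id,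
          HomologicalComplex.biprod_inl_desc_f_assoc, HomologicalComplex.biprod_inr_desc_f_assoc,
          HomologicalComplex.biprod_inl_fst_f_assoc, HomologicalComplex.biprod_inl_snd_f_assoc,
          HomologicalComplex.biprod_inr_fst_f_assoc, HomologicalComplex.biprod_inr_snd_f_assoc,
          zero_comp, id_comp, sub_zero, zero_add, add_zero]
      · abel
      · have := mappingCocone.id_X (𝟙 L) n (n + -1) rfl
        rw [← assoc, ← assoc ((mappingCocone.fst (𝟙 L)).f n), ← add_comp, add_comm]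
        erw [this]
        exact id_comp _
    · ext <;> simp [P, Q, I₁, I₂]
    · ext <;> simp [P, Q, I₁, I₂]
  · rw [isStrictlyGE_iff]
    intro i hi
    refine isZero_biprod_X (K.isZero_of_isStrictlyGE a i (by omega)) ?_
    change IsZero (((mappingCone (𝟙 L))⟦(-1 : ℤ)⟧).X i)
    rw [shiftFunctor_obj_X', mappingCone.isZero_X_iff]
    exact ⟨L.isZero_of_isStrictlyGE a _ (by omega), L.isZero_of_isStrictlyGE a _ (by omega)⟩
  · rw [isStrictlyLE_iff]
    intro i hi
    refine isZero_biprod_X (K.isZero_of_isStrictlyLE a i (by omega)) ?_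
    change IsZero (((mappingCone (𝟙 L))⟦(-1 : ℤ)⟧).X i)
    rw [shiftFunctor_obj_X', mappingCone.isZero_X_iff]
    exact ⟨L.isZero_of_isStrictlyLE a _ (by omega), L.isZero_of_isStrictlyLE a _ (by omega)⟩

/-- one step of the ladder -/
lemma exists_step {B X X' : CochainComplex V ℤ} (e : HomotopyEquiv B X) (a : X ⟶ X') :
    ∃ (B' : CochainComplex V ℤ) (b : B ⟶ B') (e' : HomotopyEquiv B' X'),
      b ≫ e'.hom = e.hom ≫ a ∧
      (∀ n : ℤ, ∃ (C : V) (ε : B'.X n ≅ B.X n ⊞ C), b.f n ≫ ε.hom = biprod.inl) ∧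
      ((∃ m : ℤ, B.IsStrictlyGE m) → (∃ m : ℤ, X'.IsStrictlyGE m) → ∃ m : ℤ, B'.IsStrictlyGE m) ∧
      ((∃ m : ℤ, B.IsStrictlyLE m) → (∃ m : ℤ, X'.IsStrictlyLE m) → ∃ m : ℤ, B'.IsStrictlyLE m) := by
  obtain ⟨L', α', π, s, h₁, h₂, ⟨h₃⟩, h₄, h₅, h₆⟩ := exists_split_mono_factorization B X' (e.hom ≫ a)
  refine ⟨L', α', ⟨π, s, h₃, Homotopy.ofEq h₂⟩, h₁, h₄, ?_, ?_⟩
  · rintro ⟨m, hm⟩ ⟨m', hm'⟩
    exact ⟨_, h₅ (min m m') (B.isStrictlyGE_of_ge (min m m') m (min_le_left _ _))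
      (X'.isStrictlyGE_of_ge (min m m') m' (min_le_right _ _))⟩
  · rintro ⟨m, hm⟩ ⟨m', hm'⟩
    exact ⟨_, h₆ (max m m') (B.isStrictlyLE_of_le m (max m m') (le_max_left _ _))
      (X'.isStrictlyLE_of_le m' (max m m') (le_max_right _ _))⟩

lemma exists_ladder (X : ℕ → CochainComplex V ℤ) (a : ∀ i, X i ⟶ X (i + 1)) :
    ∃ (B : ℕ → CochainComplex V ℤ) (b : ∀ i, B i ⟶ B (i + 1)) (e : ∀ i, HomotopyEquiv (B i) (X i)),
      (∀ i, b i ≫ (e (i + 1)).hom = (e i).hom ≫ a i) ∧
      (∀ (i : ℕ) (n : ℤ), ∃ (C : V) (ε : (B (i + 1)).X n ≅ (B i).X n ⊞ C), (b i).f n ≫ ε.hom = biprod.inl) ∧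
      ((∀ i, ∃ m : ℤ, (X i).IsStrictlyGE m) → ∀ i, ∃ m : ℤ, (B i).IsStrictlyGE m) ∧
      ((∀ i, ∃ m : ℤ, (X i).IsStrictlyLE m) → ∀ i, ∃ m : ℤ, (B i).IsStrictlyLE m) := by
  choose B' b' e' he hs hge hle using
    fun (i : ℕ) (d : Σ B : CochainComplex V ℤ, HomotopyEquiv B (X i)) => exists_step d.2 (a i)
  let F : ∀ i, Σ B : CochainComplex V ℤ, HomotopyEquiv B (X i) :=
    fun i => Nat.rec ⟨X 0, HomotopyEquiv.refl _⟩ (fun i d => ⟨B' i d, e' i d⟩) i
  refine ⟨fun i => (F i).1, fun i => b' i (F i), fun i => (F i).2, fun i => he i (F i),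
    fun i => hs i (F i), fun h i => ?_, fun h i => ?_⟩
  · induction i with
    | zero => exact h 0
    | succ i ih => exact hge i (F i) ih (h (i + 1))
  · induction i with
    | zero => exact h 0
    | succ i ih => exact hle i (F i) ih (h (i + 1))

end Groth.Agent.CohDer42
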