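import Groth.Agent.DerAdj43.Basic
import Mathlib.Algebra.Homology.DerivedCategory.ExactFunctor
import Mathlib.Algebra.Homology.DerivedCategory.HomologySequence
import Mathlib.CategoryTheory.Abelian.SerreClass.Localization
import Mathlib.CategoryTheory.Localization.Composition
import Mathlib.CategoryTheory.Localization.Equivalence
import Mathlib.CategoryTheory.Adjunction.FullyFaithful
import Mathlib.CategoryTheory.Localization.Adjunction
import Mathlib.CategoryTheory.Adjunction.Additive

/-!
# Derived category of a quotient category with section functor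
-/

universe w w' v v' u u'

open CategoryTheory Category Limits
open CategoryTheory.Pretriangulated

set_option autoImplicit false
set_option linter.unusedSectionVars false
set_option backward.isDefEq.respectTransparency false

namespace Groth.Agent.CohDer42.DerQuot

variable {A : Type u} [Category.{v} A] [Abelian A] [HasDerivedCategory.{w} A]
  {B : Type u'} [Category.{v'} B] [Abelian B] [HasDerivedCategory.{w'} B]
  (F : A ⥤ B) [F.Additive] [PreservesFiniteLimits F] [PreservesFiniteColimits F]

/-- homology commutes with exact functors -/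
noncomputable def mapHomologyIsoCx (K : CochainComplex A ℤ) (n : ℤ) :
    ((F.mapHomologicalComplex (ComplexShape.up ℤ)).obj K).homology n ≅ F.obj (K.homology n) :=
  (K.sc n).mapHomologyIso F

lemma isZero_obj_iff (C : DerivedCategory A) :
    IsZero (F.mapDerivedCategory.obj C) ↔
      ∀ n : ℤ, IsZero (F.obj ((DerivedCategory.homologyFunctor A n).obj C)) := by
  let M := DerivedCategory.Q.objPreimage C
  let e : DerivedCategory.Q.obj M ≅ C := DerivedCategory.Q.objObjPreimageIso C
  have h1 : ∀ n, (DerivedCategory.homologyFunctor B n).obj (F.mapDerivedCategory.obj C) ≅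
      F.obj ((DerivedCategory.homologyFunctor A n).obj C) := fun n =>
    (DerivedCategory.homologyFunctor B n).mapIso
        (F.mapDerivedCategory.mapIso e.symm ≪≫ F.mapDerivedCategoryFactors.app M) ≪≫
      (DerivedCategory.homologyFunctorFactors B n).app _ ≪≫ mapHomologyIsoCx F M n ≪≫
      F.mapIso (((DerivedCategory.homologyFunctorFactors A n).app M).symm ≪≫
        (DerivedCategory.homologyFunctor A n).mapIso e)
  constructor
  · intro h n
    exact ((DerivedCategory.homologyFunctor B n).map_isZero h).of_iso (h1 n).symm
  · intro h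
    have : IsIso (0 : F.mapDerivedCategory.obj C ⟶ F.mapDerivedCategory.obj C) := by
      rw [DerivedCategory.isIso_iff]
      intro n
      have hz := (h n).of_iso (h1 n)
      exact ⟨0, hz.eq_of_src _ _, hz.eq_of_src _ _⟩
    rw [IsZero.iff_id_eq_zero, ← cancel_epi (0 : F.mapDerivedCategory.obj C ⟶ F.mapDerivedCategory.obj C)]
    simp

lemma trW_eq (P : ObjectProperty A) (hP : ∀ X, IsZero (F.obj X) ↔ P X) :
    ObjectProperty.trW (fun X : DerivedCategory A => ∀ n : ℤ, P ((DerivedCategory.homologyFunctor A n).obj X)) =
      (MorphismProperty.isomorphisms _).inverseImage F.mapDerivedCategory := by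
  have key : ∀ C, (∀ n : ℤ, P ((DerivedCategory.homologyFunctor A n).obj C)) ↔
      IsZero (F.mapDerivedCategory.obj C) := fun C => by
    rw [isZero_obj_iff]
    exact forall_congr' fun n => (hP _).symm
  ext X Y f
  constructor
  · rintro ⟨Z, g, h, hT, hZ⟩
    exact (Triangle.isZero₃_iff_isIso₁ _ (F.mapDerivedCategory.map_distinguished _ hT)).1 ((key Z).1 hZ)
  · intro hf
    obtain ⟨Z, g, h, hT⟩ := distinguished_cocone_triangle f
    exact ⟨Z, g, h, hT, (key Z).2
      ((Triangle.isZero₃_iff_isIso₁ _ (F.mapDerivedCategory.map_distinguished _ hT)).2 hf)⟩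

variable (u : B ⥤ A) (adj : u ⊣ F) [IsIso adj.unit]

include adj in
theorem isLocalization :
    F.mapDerivedCategory.IsLocalization
      ((MorphismProperty.isomorphisms _).inverseImage F.mapDerivedCategory) := by
  have : u.Additive := adj.left_adjoint_additive
  let L₁ := F.mapHomologicalComplex (ComplexShape.up ℤ)
  let adjC := DerAdj43.complexAdj adj (ComplexShape.up ℤ)
  have hunit : ∀ K, IsIso (adjC.unit.app K) := fun K => by
    have : ∀ i, IsIso ((adjC.unit.app K).f i) := fun i =>
      inferInstanceAs (IsIso (adj.unit.app (K.X i)))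
    exact HomologicalComplex.Hom.isIso_of_components _
  have : IsIso adjC.unit := NatIso.isIso_of_isIso_app _
  have hff := adjC.fullyFaithfulLOfIsIsoUnit
  have := hff.full
  have := hff.faithful
  have h₁ : L₁.IsLocalization ((MorphismProperty.isomorphisms _).inverseImage L₁) := adjC.isLocalization'
  let W₃ : MorphismProperty (CochainComplex A ℤ) :=
    (MorphismProperty.isomorphisms _).inverseImage (L₁ ⋙ DerivedCategory.Q)
  have h₂ : (L₁ ⋙ DerivedCategory.Q).IsLocalization W₃ := by
    refine Functor.IsLocalization.comp L₁ DerivedCategory.Q ((MorphismProperty.isomorphisms _).inverseImage L₁)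
      (HomologicalComplex.quasiIso B (ComplexShape.up ℤ)) W₃ (fun X Y f hf => hf) (fun X Y f hf => ?_)
      (fun X Y g hg => ?_)
    · have : IsIso (L₁.map f) := hf
      change IsIso (DerivedCategory.Q.map (L₁.map f))
      infer_instance
    · let G := (u.mapHomologicalComplex (ComplexShape.up ℤ))
      let e : Arrow.mk (L₁.map (G.map g)) ≅ Arrow.mk g :=
        (Arrow.isoMk (@asIso _ _ _ _ _ (hunit X)) (@asIso _ _ _ _ _ (hunit Y))
          (adjC.unit.naturality g).symm).symm
      refine ⟨G.obj X, G.obj Y, G.map g, ?_, ⟨e⟩⟩
      change IsIso (DerivedCategory.Q.map (L₁.map (G.map g)))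
      exact ((MorphismProperty.isomorphisms _).arrow_mk_iso_iff (DerivedCategory.Q.mapArrow.mapIso e)).2
        (Localization.inverts DerivedCategory.Q (HomologicalComplex.quasiIso B (ComplexShape.up ℤ)) g hg)
  have h₃ : (DerivedCategory.Q ⋙ F.mapDerivedCategory).IsLocalization W₃ :=
    Functor.IsLocalization.of_iso W₃ F.mapDerivedCategoryFactors.symm
  have hle : HomologicalComplex.quasiIso A (ComplexShape.up ℤ) ≤ W₃ := fun X Y f hf => by
    have : IsIso (DerivedCategory.Q.map f) :=
      Localization.inverts DerivedCategory.Q (HomologicalComplex.quasiIso A (ComplexShape.up ℤ)) f hf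
    change IsIso ((L₁ ⋙ DerivedCategory.Q).map f)
    exact (NatIso.isIso_map_iff F.mapDerivedCategoryFactors f).1
      (inferInstanceAs (IsIso (F.mapDerivedCategory.map (DerivedCategory.Q.map f))))
  have h₄ : F.mapDerivedCategory.IsLocalization (W₃.map DerivedCategory.Q) :=
    Functor.IsLocalization.of_comp DerivedCategory.Q F.mapDerivedCategory
      (HomologicalComplex.quasiIso A (ComplexShape.up ℤ)) _ W₃ hle rfl
  refine Functor.IsLocalization.of_equivalence_source F.mapDerivedCategory (W₃.map DerivedCategory.Q)
    F.mapDerivedCategory _ CategoryTheory.Equivalence.refl ?_ (fun X Y f hf => hf) (Functor.leftUnitor _)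
  refine le_trans ?_ (fun X Y f hf => MorphismProperty.le_isoClosure _ f hf)
  rw [MorphismProperty.map_le_iff]
  intro X Y f hf
  exact (NatIso.isIso_map_iff F.mapDerivedCategoryFactors f).2 hf

end Groth.Agent.CohDer42.DerQuot
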