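import Groth.Agent.CohDer42.FiniteDim
import Groth.Agent.CohDer42.ResOp

/-!
# Left resolutions by objects with only the top derived functor nonzero
-/

universe v v' u u'

open CategoryTheory Category Limits HomologicalComplex Opposite

set_option autoImplicit false
set_option linter.unusedSectionVars false
set_option backward.isDefEq.respectTransparency false

namespace Groth.Agent.CohDer42.PResolution

variable {A : Type u} [Category.{v} A] [Abelian A] [EnoughInjectives A]
  {B : Type u'} [Category.{v'} B] [Abelian B] (F : A ⥤ B) [F.Additive] (n : ℕ)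

/-- `R^iF X = 0` for `i < k`, `i ≠ n` … truncated at `n` -/
def V (k : ℕ) (X : A) : Prop := ∀ i : ℕ, i < k → i < n → IsZero ((F.rightDerived i).obj X)

/-- only `R^nF` is nonzero -/
def P : ObjectProperty A := fun X => ∀ i : ℕ, i ≠ n → IsZero ((F.rightDerived i).obj X)

/-- the class in the opposite category -/
def Pop : ObjectProperty Aᵒᵖ := fun X => P F n X.unop

variable [PreservesFiniteLimits F]

lemma v_of_shortExact (Δ : RDer.DerivedLES F) {S : ShortComplex A} (hS : S.ShortExact)
    (h₂ : P F n S.X₂) {k : ℕ} (h₃ : V F n k S.X₃) : V F n (k + 1) S.X₁ := fun i hi hin => by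
  rcases i with _ | i
  · have := preservesFiniteLimits_of_natIso (F := F) (G := F.rightDerived 0) F.rightDerivedZeroIsoSelf.symm
    have := hS.mono_f
    exact IsZero.of_mono ((F.rightDerived 0).map S.f) (h₂ 0 (by omega))
  · exact (Δ.exact₁ S hS i (i + 1) rfl).isZero_X₂ ((h₃ i (by omega) (by omega)).eq_of_src _ _)
      ((h₂ (i + 1) (by omega)).eq_of_tgt _ _)

lemma v_of_R (Δ : RDer.DerivedLES F) :
    ∀ (k : ℕ) (Z : Aᵒᵖ), DimShift.R (Pop F n) k Z → V F n k Z.unop
  | 0, _, _ => fun i hi _ => absurd hi (Nat.not_lt_zero i)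
  | k + 1, Z, ⟨S, hS, hP, ⟨e⟩, hR⟩ => by
    have h := v_of_shortExact F n Δ hS.unop hP (v_of_R Δ k S.X₁ hR)
    exact fun i hi hin => (h i hi hin).of_iso ((F.rightDerived i).mapIso e.unop)

lemma exists_resolution (hdim : ∀ (X : A) (i : ℕ), n < i → IsZero ((F.rightDerived i).obj X))
    (hP : ∀ X : A, ∃ (Y : A) (p : Y ⟶ X), Epi p ∧ P F n Y) (K : CochainComplex A ℤ) :
    ∃ (L : CochainComplex A ℤ) (s : L ⟶ K), QuasiIso s ∧ ∀ i, P F n (L.X i) := by
  obtain ⟨Δ⟩ := RD97.nonempty_derivedLES F
  choose Y p hp hY using hP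
  let E : DimShift.Emb Aᵒᵖ :=
    { Y := fun X => op (Y X.unop), u := fun X => (p X.unop).op,
      mono := fun X => by have := hp X.unop; infer_instance }
  have hsum : ∀ X Z, Pop F n X → Pop F n Z → Pop F n (X ⊞ Z) := fun X Z hX hZ i hi =>
    (Δ.exact₂ _ (ShortComplex.Splitting.ofHasBinaryBiproduct X Z).shortExact.unop i).isZero_X₂
      ((hZ i hi).eq_of_src _ _) ((hX i hi).eq_of_tgt _ _)
  obtain ⟨f, hf⟩ := DimShift.exists_qis_stage E (negOp K) n
  have := quasiIso_negUnopMap f
  refine ⟨_, negUnopMap f ≫ (negUnopNegOpIso K).hom, inferInstance, fun m i hi => ?_⟩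
  have hR := DimShift.R_stage E (negOp K) (Pop F n) (fun X => hY X.unop) hsum n (-m)
  rcases lt_or_gt_of_ne hi with h | h
  · exact v_of_R F n Δ n _ hR i h h
  · exact hdim _ i h

end Groth.Agent.CohDer42.PResolution
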