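import Groth.Agent.CohDer42.FiniteDim
import Groth.Prelude.Def_RDerDelta
import Mathlib.Algebra.Homology.DerivedCategory.ShortExact
import Mathlib.Algebra.Homology.HomologySequenceLemmas
import Mathlib.CategoryTheory.Limits.Preserves.Finite

/-!
# The functorial-enough first syzygy of a complex and the connecting morphisms
-/

universe w v v' u u'

open CategoryTheory Category Limits HomologicalComplex
open scoped ZeroObject

set_option autoImplicit false
set_option linter.unusedSectionVars false
set_option backward.isDefEq.respectTransparency false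

namespace Groth.Agent.CohDer42.Syzygy

variable {A : Type u} [Category.{v} A] [Abelian A] [EnoughInjectives A]
  {B : Type u'} [Category.{v'} B] [Abelian B]

/-- a contractible complex of injectives containing `K` -/
noncomputable def env (K : CochainComplex A ℤ) : CochainComplex A ℤ :=
  CochainComplex.of (fun m => Injective.under (K.X m) ⊞ Injective.under (K.X (m + 1)))
    (fun m => biprod.snd ≫ biprod.inl) (fun m => by simp)

lemma env_d (K : CochainComplex A ℤ) (m : ℤ) :
    (env K).d m (m + 1) = biprod.snd ≫ biprod.inl := by simp [env]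

instance injective_env_X (K : CochainComplex A ℤ) (m : ℤ) : Injective ((env K).X m) :=
  inferInstanceAs (Injective (Injective.under (K.X m) ⊞ Injective.under (K.X (m + 1))))

/-- the embedding -/
noncomputable def envι (K : CochainComplex A ℤ) : K ⟶ env K where
  f m := biprod.lift (Injective.ι _) (K.d m (m + 1) ≫ Injective.ι _)
  comm' i j hij := by
    obtain rfl : i + 1 = j := hij
    rw [env_d]
    apply biprod.hom_ext <;> simp [env]

lemma mono_envι (K : CochainComplex A ℤ) : Mono (envι K) := by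
  have : ∀ m, Mono ((envι K).f m) := fun m =>
    mono_of_mono_fac (show (envι K).f m ≫ biprod.fst = Injective.ι _ from biprod.lift_fst _ _)
  exact mono_of_mono_f _ this

instance (K : CochainComplex A ℤ) : Mono (envι K) := mono_envι K

lemma exists_envMap {K L : CochainComplex A ℤ} (f : K ⟶ L) :
    ∃ g : env K ⟶ env L, envι K ≫ g = f ≫ envι L := by
  let φ : ∀ m, Injective.under (K.X m) ⟶ Injective.under (L.X m) := fun m =>
    Injective.factorThru (f.f m ≫ Injective.ι _) (Injective.ι _)
  have hφ : ∀ m, Injective.ι (K.X m) ≫ φ m = f.f m ≫ Injective.ι _ := fun m =>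
    Injective.comp_factorThru _ _
  refine ⟨{ f := fun m => biprod.map (φ m) (φ (m + 1)), comm' := fun i j hij => ?_ }, ?_⟩
  · obtain rfl : i + 1 = j := hij
    rw [env_d, env_d]
    apply biprod.hom_ext' <;> simp [env]
  · ext m
    change (biprod.lift _ _ ≫ biprod.map _ _) = f.f m ≫ biprod.lift _ _
    apply biprod.hom_ext <;> simp [hφ, f.comm_assoc]

lemma acyclic_map_env (G : A ⥤ B) [G.Additive] (K : CochainComplex A ℤ) :
    ((G.mapHomologicalComplex (ComplexShape.up ℤ)).obj (env K)).Acyclic := by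
  intro n
  obtain ⟨m, rfl⟩ : ∃ m, n = m + 1 := ⟨n - 1, by omega⟩
  rw [exactAt_iff' _ m (m + 1) (m + 1 + 1) (by simp) (by simp),
    ShortComplex.exact_iff_exact_up_to_refinements]
  intro T x hx
  let a := biprod.fst (X := Injective.under (K.X (m + 1))) (Y := Injective.under (K.X (m + 1 + 1)))
  let b := biprod.snd (X := Injective.under (K.X (m + 1))) (Y := Injective.under (K.X (m + 1 + 1)))
  have hx' : x ≫ G.map (b ≫ (biprod.inl : _ ⟶ Injective.under (K.X (m + 1 + 1)) ⊞ Injective.under (K.X (m + 1 + 1 + 1)))) = 0 := by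
    simpa [env_d, b] using hx
  have hb : x ≫ G.map b = 0 := by
    have := congrArg (· ≫ G.map (biprod.fst (X := Injective.under (K.X (m + 1 + 1)))
      (Y := Injective.under (K.X (m + 1 + 1 + 1))))) hx'
    simp only [assoc, ← G.map_comp, biprod.inl_fst, comp_id, zero_comp] at this
    exact this
  refine ⟨T, 𝟙 _, inferInstance, x ≫ G.map (a ≫ biprod.inr), ?_⟩
  rw [id_comp]
  change x = (x ≫ G.map (a ≫ biprod.inr)) ≫ G.map ((env K).d m (m + 1))
  rw [env_d, assoc, ← G.map_comp, assoc, biprod.inr_snd_assoc]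
  calc x = x ≫ G.map (a ≫ biprod.inl + b ≫ biprod.inr) := by
        rw [biprod.total]
        erw [CategoryTheory.Functor.map_id, comp_id]
    _ = _ := by rw [G.map_add, Preadditive.comp_add, G.map_comp b, reassoc_of% hb, zero_comp, add_zero]

lemma acyclic_env (K : CochainComplex A ℤ) : (env K).Acyclic := fun n => acyclic_map_env (𝟭 A) K n

/-- the syzygy short exact sequence -/
noncomputable def syzSC (K : CochainComplex A ℤ) : ShortComplex (CochainComplex A ℤ) :=
  ShortComplex.mk (envι K) (cokernel.π (envι K)) (cokernel.condition _)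

/-- the syzygy -/
noncomputable abbrev syz (K : CochainComplex A ℤ) : CochainComplex A ℤ := (syzSC K).X₃

lemma syzSC_shortExact (K : CochainComplex A ℤ) : (syzSC K).ShortExact where
  exact := ShortComplex.exact_cokernel _
  mono_f := mono_envι K
  epi_g := inferInstanceAs (Epi (cokernel.π (envι K)))

lemma exists_syzMap {K L : CochainComplex A ℤ} (f : K ⟶ L) :
    ∃ φ : syzSC K ⟶ syzSC L, φ.τ₁ = f := by
  obtain ⟨g, hg⟩ := exists_envMap f
  exact ⟨{
    τ₁ := f, τ₂ := g, τ₃ := cokernel.map _ _ f g hg, comm₁₂ := hg.symm,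
    comm₂₃ := (cokernel.π_desc _ _ _).symm }, rfl⟩

lemma syzSC_eval (K : CochainComplex A ℤ) (m : ℤ) :
    ((syzSC K).map (HomologicalComplex.eval A (ComplexShape.up ℤ) m)).ShortExact :=
  (syzSC_shortExact K).map_of_exact _

section Derived

variable [HasDerivedCategory.{w} A]

open DerivedCategory Pretriangulated

lemma isIso_δ (K : CochainComplex A ℤ) : IsIso (triangleOfSESδ (syzSC_shortExact K)) := by
  refine (Triangle.isZero₂_iff_isIso₃ _ (triangleOfSES_distinguished (syzSC_shortExact K))).1 ?_
  have : QuasiIso (0 : env K ⟶ 0) := ⟨fun i => by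
    rw [quasiIsoAt_iff_exactAt _ _ (acyclic_env K i)]
    exact ExactAt.of_isZero ((HomologicalComplex.eval A (ComplexShape.up ℤ) i).map_isZero (isZero_zero _))⟩
  exact (Q.map_isZero (isZero_zero _)).of_iso (asIso (Q.map (0 : env K ⟶ 0)))

end Derived

section RightDerived

variable (F : A ⥤ B) [F.Additive]

/-- `R^jF` on complexes -/
noncomputable abbrev RC (j : ℕ) : CochainComplex A ℤ ⥤ CochainComplex B ℤ :=
  (F.rightDerived j).mapHomologicalComplex (ComplexShape.up ℤ)

variable (Δ : RDer.DerivedLES F)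

/-- the morphism of short exact sequences given by the differential -/
noncomputable def dSC (S : ShortComplex (CochainComplex A ℤ)) (i k : ℤ) :
    S.map (HomologicalComplex.eval A (ComplexShape.up ℤ) i) ⟶
      S.map (HomologicalComplex.eval A (ComplexShape.up ℤ) k) where
  τ₁ := S.X₁.d i k
  τ₂ := S.X₂.d i k
  τ₃ := S.X₃.d i k
  comm₁₂ := (S.f.comm i k).symm
  comm₂₃ := (S.g.comm i k).symm

/-- the connecting morphism on complexes -/
noncomputable def conn (j : ℕ) (K : CochainComplex A ℤ) :
    (RC F j).obj (syz K) ⟶ (RC F (j + 1)).obj K where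
  f m := Δ.δ _ (syzSC_eval K m) j (j + 1) rfl
  comm' i k _ := (Δ.δ_natural (syzSC_eval K i) (syzSC_eval K k) (dSC (syzSC K) i k) j (j + 1) rfl).symm

lemma conn_naturality (j : ℕ) {K L : CochainComplex A ℤ} (φ : syzSC K ⟶ syzSC L) :
    (RC F j).map φ.τ₃ ≫ conn F Δ j L = conn F Δ j K ≫ (RC F (j + 1)).map φ.τ₁ := by
  ext m
  exact Δ.δ_natural (syzSC_eval K m) (syzSC_eval L m)
    ((HomologicalComplex.eval A (ComplexShape.up ℤ) m).mapShortComplex.map φ) j (j + 1) rfl

/-- terms of cohomological dimension at most `j` -/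
def Cd (j : ℕ) (K : CochainComplex A ℤ) : Prop :=
  ∀ (m : ℤ) (i : ℕ), j < i → IsZero ((F.rightDerived i).obj (K.X m))

variable {F}

lemma cd_syz {j : ℕ} {K : CochainComplex A ℤ} (h : Cd F (j + 1) K) : Cd F j (syz K) := fun m i hi => by
  obtain ⟨i', rfl⟩ : ∃ i', i = i' + 1 := ⟨i - 1, by omega⟩
  exact FiniteDim.isZero_rightDerived_X₃ F (syzSC_eval K m) (i' + 1) (h m _ (by omega))
    (F.isZero_rightDerived_obj_injective_succ i' ((env K).X m))

lemma epi_conn_f (j : ℕ) (K : CochainComplex A ℤ) (m : ℤ) : Epi ((conn F Δ j K).f m) :=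
  (Δ.exact₁ _ (syzSC_eval K m) j (j + 1) rfl).epi_f
    ((F.isZero_rightDerived_obj_injective_succ j ((env K).X m)).eq_of_tgt _ _)

lemma isIso_conn {j : ℕ} (hj : 1 ≤ j) (K : CochainComplex A ℤ) : IsIso (conn F Δ j K) := by
  obtain ⟨j', rfl⟩ : ∃ j', j = j' + 1 := ⟨j - 1, by omega⟩
  have : ∀ m, IsIso ((conn F Δ (j' + 1) K).f m) := fun m => by
    have : Mono ((conn F Δ (j' + 1) K).f m) :=
      (Δ.exact₃ _ (syzSC_eval K m) (j' + 1) (j' + 1 + 1) rfl).mono_g
        ((F.isZero_rightDerived_obj_injective_succ j' ((env K).X m)).eq_of_src _ _)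
    have := epi_conn_f Δ (j' + 1) K m
    exact isIso_of_mono_of_epi _
  exact HomologicalComplex.Hom.isIso_of_components _

variable [PreservesFiniteLimits F]

lemma isLeftExact_zero : PreservesFiniteLimits (F.rightDerived 0) :=
  preservesFiniteLimits_of_natIso F.rightDerivedZeroIsoSelf.symm

lemma acyclic_RC_zero_iff (K : CochainComplex A ℤ) :
    ((RC F 0).obj K).Acyclic ↔ ((F.mapHomologicalComplex (ComplexShape.up ℤ)).obj K).Acyclic :=
  let e := (NatIso.mapHomologicalComplex F.rightDerivedZeroIsoSelf (ComplexShape.up ℤ)).app K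
  ⟨fun h i => (h i).of_iso e, fun h i => (h i).of_iso e.symm⟩

include Δ in
lemma shortExact_RC_zero {K : CochainComplex A ℤ} (hK : ∀ m, IsZero ((F.rightDerived 1).obj (K.X m))) :
    ((syzSC K).map (RC F 0)).ShortExact := by
  refine HomologicalComplex.shortExact_of_degreewise_shortExact _ fun m => ?_
  have := isLeftExact_zero (F := F)
  have h := syzSC_eval K m
  have := h.mono_f
  exact {
    exact := Δ.exact₂ _ h 0
    mono_f := inferInstanceAs (Mono ((F.rightDerived 0).map ((envι K).f m)))
    epi_g := (Δ.exact₃ _ h 0 1 rfl).epi_f ((hK m).eq_of_tgt _ _) }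

lemma quasiIso_conn_zero (K : CochainComplex A ℤ) (hK : ((RC F 0).obj K).Acyclic) :
    QuasiIso (conn F Δ 0 K) := by
  have := isLeftExact_zero (F := F)
  have hepi : Epi (conn F Δ 0 K) := by
    have : ∀ m, Epi ((conn F Δ 0 K).f m) := epi_conn_f Δ 0 K
    exact HomologicalComplex.epi_of_epi_f _ this
  let a := (RC F 0).map (envι K)
  let b := (RC F 0).map (cokernel.π (envι K))
  have hab : a ≫ b = 0 := by
    rw [← Functor.map_comp, cokernel.condition, Functor.map_zero]
  have hbc : b ≫ conn F Δ 0 K = 0 := by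
    ext m; exact Δ.comp_δ _ (syzSC_eval K m) 0 1 rfl
  let l := kernel.lift (conn F Δ 0 K) b hbc
  have hal : a ≫ l = 0 := by rw [← cancel_mono (kernel.ι _), assoc, kernel.lift_ι, hab, zero_comp]
  have hexb : (ShortComplex.mk b _ hbc).Exact :=
    HomologicalComplex.exact_of_degreewise_exact _ fun m => Δ.exact₃ _ (syzSC_eval K m) 0 1 rfl
  have hexa : (ShortComplex.mk a b hab).Exact :=
    HomologicalComplex.exact_of_degreewise_exact _ fun m => Δ.exact₂ _ (syzSC_eval K m) 0
  have ha : Mono a := by
    have : ∀ m, Mono (a.f m) := fun m => by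
      have := (syzSC_eval K m).mono_f
      exact inferInstanceAs (Mono ((F.rightDerived 0).map ((envι K).f m)))
    exact HomologicalComplex.mono_of_mono_f _ this
  have hl : Epi l := (ShortComplex.exact_iff_epi_kernel_lift _).1 hexb
  have h1 : (ShortComplex.mk a l hal).ShortExact :=
    { exact := by
        let φ : ShortComplex.mk a l hal ⟶ ShortComplex.mk a b hab :=
          { τ₁ := 𝟙 _, τ₂ := 𝟙 _, τ₃ := kernel.ι _, comm₁₂ := by simp,
            comm₂₃ := by simp [l] }
        have : Epi φ.τ₁ := inferInstanceAs (Epi (𝟙 _))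
        have : IsIso φ.τ₂ := inferInstanceAs (IsIso (𝟙 _))
        have : Mono φ.τ₃ := inferInstanceAs (Mono (kernel.ι _))
        exact (ShortComplex.exact_iff_of_epi_of_isIso_of_mono φ).2 hexa }
  have hM : (kernel (conn F Δ 0 K)).Acyclic := by
    refine h1.acyclic_X₃ ?_
    refine ⟨fun i => ?_⟩
    rw [quasiIsoAt_iff_exactAt _ _ (hK i)]
    exact acyclic_map_env (F.rightDerived 0) K i
  have h2 : (ShortComplex.mk (kernel.ι (conn F Δ 0 K)) (conn F Δ 0 K) (kernel.condition _)).ShortExact :=
    { exact := ShortComplex.exact_kernel _ }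
  refine ⟨fun i => ?_⟩
  rw [quasiIsoAt_iff_isIso_homologyMap]
  have hz : ∀ k, IsZero ((kernel (conn F Δ 0 K)).homology k) := fun k =>
    (exactAt_iff_isZero_homology _ _).1 (hM k)
  have : Mono (homologyMap (conn F Δ 0 K) i) := (h2.homology_exact₂ i).mono_g ((hz i).eq_of_src _ _)
  have : Epi (homologyMap (conn F Δ 0 K) i) :=
    (h2.homology_exact₃ i (i + 1) (by simp)).epi_f ((hz (i + 1)).eq_of_tgt _ _)
  exact isIso_of_mono_of_epi _

end RightDerived

end Groth.Agent.CohDer42.Syzygy
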