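import Groth.Agent.CohDer42.ClassDerived
import Groth.Agent.CohDer42.Syzygy
import Groth.Agent.CohDer42.PResolution

/-!
# `RF ≅ L(RⁿF)[-n]` for `F` of cohomological dimension at most `n`
-/

universe w w' v v' u u'

open CategoryTheory Category Limits HomologicalComplex DerivedCategory

set_option autoImplicit false
set_option linter.unusedSectionVars false
set_option backward.isDefEq.respectTransparency false

namespace Groth.Agent.CohDer42.DerShift

open Syzygy

variable {A : Type u} [Category.{v} A] [Abelian A] [EnoughInjectives A] [HasDerivedCategory.{w} A]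
  {B : Type u'} [Category.{v'} B] [Abelian B] [HasDerivedCategory.{w'} B]
  (F : A ⥤ B) [F.Additive] [PreservesFiniteLimits F]

/-- the functor to be right derived -/
noncomputable abbrev FQ : CochainComplex A ℤ ⥤ DerivedCategory B :=
  F.mapHomologicalComplex (ComplexShape.up ℤ) ⋙ Q

/-- termwise acyclic complexes -/
def AcT (K : CochainComplex A ℤ) : Prop := ∀ m, FiniteDim.Ac F (K.X m)

section Existence

variable (n : ℕ) (hn : ∀ X : A, IsZero ((F.rightDerived n).obj X))

include hn

lemma exists_rightDerived :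
    ∃ (R : DerivedCategory A ⥤ DerivedCategory B) (α : FQ F ⟶ Q ⋙ R),
      ∀ K, AcT F K → IsIso (α.app K) := by
  have := FiniteDim.hasRightDerivedFunctor F n hn
  let G := F.mapHomotopyCategory (ComplexShape.up ℤ) ⋙ Qh
  let R := G.totalRightDerived Qh (HomotopyCategory.quasiIso A (ComplexShape.up ℤ))
  let u := G.totalRightDerivedUnit Qh (HomotopyCategory.quasiIso A (ComplexShape.up ℤ))
  let α : FQ F ⟶ Q ⋙ R :=
    { app := fun K => (quotientCompQhIso B).inv.app ((F.mapHomologicalComplex _).obj K) ≫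
        Qh.map ((F.mapHomotopyCategoryFactors (ComplexShape.up ℤ)).inv.app K) ≫
        u.app ((HomotopyCategory.quotient A _).obj K) ≫ R.map ((quotientCompQhIso A).hom.app K)
      naturality := fun K L f => by
        have h1 := (quotientCompQhIso B).inv.naturality ((F.mapHomologicalComplex (ComplexShape.up ℤ)).map f)
        have h2 := congrArg Qh.map ((F.mapHomotopyCategoryFactors (ComplexShape.up ℤ)).inv.naturality f)
        have h3 := u.naturality ((HomotopyCategory.quotient A (ComplexShape.up ℤ)).map f)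
        have h4 := congrArg R.map ((quotientCompQhIso A).hom.naturality f)
        simp only [Functor.comp_map, Functor.map_comp, G] at h1 h2 h3 h4 ⊢
        rw [reassoc_of% h1, reassoc_of% h2, reassoc_of% h3, h4]
        simp only [assoc] }
  refine ⟨R, α, fun K hK => ?_⟩
  have := FiniteDim.isIso_totalRightDerivedUnit F n hn K hK
  change IsIso (_ ≫ _ ≫ u.app _ ≫ _)
  infer_instance

lemma exists_acT_resolution (K : CochainComplex A ℤ) :
    ∃ (L : CochainComplex A ℤ) (s : K ⟶ L), AcT F L ∧ IsIso (Q.map s) := by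
  obtain ⟨L, f, hf, hL⟩ := FiniteDim.exists_resolution F n hn K
  exact ⟨L, f, hL, inferInstance⟩

end Existence

variable {R : DerivedCategory A ⥤ DerivedCategory B} (α : FQ F ⟶ Q ⋙ R)
  (hα : ∀ K, AcT F K → IsIso (α.app K)) (Δ : RDer.DerivedLES F)

/-- the comparison map -/
noncomputable def τ : ∀ (j : ℕ) (K : CochainComplex A ℤ), Cd F j K →
    (R.obj ((Q.obj K)⟦(j : ℤ)⟧) ⟶ Q.obj ((RC F j).obj K))
  | 0, K, h =>
    haveI := hα K fun m i hi => h m i hi
    R.map ((shiftFunctorZero' (DerivedCategory A) ((0 : ℕ) : ℤ) Nat.cast_zero).hom.app (Q.obj K)) ≫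
      inv (α.app K) ≫
        Q.map ((NatTrans.mapHomologicalComplex F.rightDerivedZeroIsoSelf.inv (ComplexShape.up ℤ)).app K)
  | j + 1, K, h =>
    haveI := isIso_δ K
    R.map ((shiftFunctorAdd' (DerivedCategory A) (1 : ℤ) (j : ℤ) ((j + 1 : ℕ) : ℤ)
        (by push_cast; omega)).hom.app (Q.obj K)) ≫
      R.map ((inv (triangleOfSESδ (syzSC_shortExact K)))⟦(j : ℤ)⟧') ≫
        τ j (syz K) (cd_syz h) ≫ Q.map (conn F Δ j K)

lemma τ_naturality : ∀ (j : ℕ) {K L : CochainComplex A ℤ} (f : K ⟶ L) (hK : Cd F j K) (hL : Cd F j L),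
    R.map ((Q.map f)⟦(j : ℤ)⟧') ≫ τ F α hα Δ j L hL = τ F α hα Δ j K hK ≫ Q.map ((RC F j).map f)
  | 0, K, L, f, hK, hL => by
    have := hα K fun m i hi => hK m i hi
    have := hα L fun m i hi => hL m i hi
    have h1 : R.map ((Q.map f)⟦((0 : ℕ) : ℤ)⟧') ≫
        R.map ((shiftFunctorZero' (DerivedCategory A) ((0 : ℕ) : ℤ) Nat.cast_zero).hom.app (Q.obj L)) =
      R.map ((shiftFunctorZero' (DerivedCategory A) ((0 : ℕ) : ℤ) Nat.cast_zero).hom.app (Q.obj K)) ≫
        R.map (Q.map f) := by
      rw [← R.map_comp, ← R.map_comp]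
      exact congrArg R.map ((shiftFunctorZero' (DerivedCategory A) ((0 : ℕ) : ℤ) Nat.cast_zero).hom.naturality (Q.map f))
    have h2 : R.map (Q.map f) ≫ inv (α.app L) =
        inv (α.app K) ≫ Q.map ((F.mapHomologicalComplex (ComplexShape.up ℤ)).map f) := by
      rw [IsIso.eq_inv_comp, ← assoc, IsIso.comp_inv_eq]
      exact (α.naturality f).symm
    have h3 := congrArg Q.map
      ((NatTrans.mapHomologicalComplex F.rightDerivedZeroIsoSelf.inv (ComplexShape.up ℤ)).naturality f)
    rw [Functor.map_comp, Functor.map_comp] at h3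
    simp only [τ, assoc]
    rw [reassoc_of% h1, reassoc_of% h2, h3]
  | j + 1, K, L, f, hK, hL => by
    have := isIso_δ K
    have := isIso_δ L
    obtain ⟨φ, hφ⟩ := exists_syzMap f
    have h1 : R.map ((Q.map f)⟦((j + 1 : ℕ) : ℤ)⟧') ≫
        R.map ((shiftFunctorAdd' (DerivedCategory A) (1 : ℤ) (j : ℤ) ((j + 1 : ℕ) : ℤ)
          (by push_cast; omega)).hom.app (Q.obj L)) =
      R.map ((shiftFunctorAdd' (DerivedCategory A) (1 : ℤ) (j : ℤ) ((j + 1 : ℕ) : ℤ)
          (by push_cast; omega)).hom.app (Q.obj K)) ≫ R.map (((Q.map f)⟦(1 : ℤ)⟧')⟦(j : ℤ)⟧') := by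
      rw [← R.map_comp, ← R.map_comp]
      exact congrArg R.map ((shiftFunctorAdd' (DerivedCategory A) (1 : ℤ) (j : ℤ) ((j + 1 : ℕ) : ℤ)
          (by push_cast; omega)).hom.naturality (Q.map f))
    have h2 : R.map (((Q.map f)⟦(1 : ℤ)⟧')⟦(j : ℤ)⟧') ≫
        R.map ((inv (triangleOfSESδ (syzSC_shortExact L)))⟦(j : ℤ)⟧') =
      R.map ((inv (triangleOfSESδ (syzSC_shortExact K)))⟦(j : ℤ)⟧') ≫ R.map ((Q.map φ.τ₃)⟦(j : ℤ)⟧') := by
      rw [← R.map_comp, ← R.map_comp, ← Functor.map_comp, ← Functor.map_comp]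
      refine congrArg (fun g => R.map (g⟦(j : ℤ)⟧')) ?_
      rw [IsIso.eq_inv_comp, ← assoc, IsIso.comp_inv_eq]
      have := triangleOfSESδ_naturality (syzSC_shortExact K) (syzSC_shortExact L) φ
      rw [hφ] at this
      exact this
    have h3 := τ_naturality j φ.τ₃ (cd_syz hK) (cd_syz hL)
    have h4 := congrArg Q.map (conn_naturality F Δ j φ)
    rw [Functor.map_comp, Functor.map_comp, hφ] at h4
    simp only [τ, assoc]
    rw [reassoc_of% h1, reassoc_of% h2, reassoc_of% h3, h4]

lemma isIso_τ : ∀ (j : ℕ) {K : CochainComplex A ℤ} (hK : Cd F j K),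
    (∀ (m : ℤ) (i : ℕ), 1 ≤ i → i ≠ j → IsZero ((F.rightDerived i).obj (K.X m))) →
    (1 ≤ j → ((RC F 0).obj K).Acyclic) → IsIso (τ F α hα Δ j K hK)
  | 0, K, hK, _, _ => by
    have := hα K fun m i hi => hK m i hi
    have : IsIso ((NatTrans.mapHomologicalComplex F.rightDerivedZeroIsoSelf.inv (ComplexShape.up ℤ)).app K) :=
      inferInstanceAs (IsIso ((NatIso.mapHomologicalComplex F.rightDerivedZeroIsoSelf (ComplexShape.up ℤ)).app K).inv)
    simp only [τ]
    infer_instance
  | j + 1, K, hK, hP, hA => by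
    have := isIso_δ K
    have : IsIso (τ F α hα Δ j (syz K) (cd_syz hK)) := by
      refine isIso_τ j (cd_syz hK) (fun m i hi hij => ?_) (fun hj => ?_)
      · obtain ⟨i', rfl⟩ : ∃ i', i = i' + 1 := ⟨i - 1, by omega⟩
        exact FiniteDim.isZero_rightDerived_X₃ F (syzSC_eval K m) (i' + 1) (hP m _ (by omega) (by omega))
          (F.isZero_rightDerived_obj_injective_succ i' ((env K).X m))
      · refine (shortExact_RC_zero Δ fun m => hP m 1 le_rfl (by omega)).acyclic_X₃ ?_
        refine ⟨fun i => ?_⟩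
        rw [quasiIsoAt_iff_exactAt _ _ (hA (by omega) i)]
        exact acyclic_map_env (F.rightDerived 0) K i
    have : QuasiIso (conn F Δ j K) := by
      rcases Nat.eq_zero_or_pos j with rfl | hj
      · exact quasiIso_conn_zero Δ K (hA le_rfl)
      · have := isIso_conn (F := F) Δ hj K
        infer_instance
    simp only [τ]
    infer_instance

variable (n : ℕ) (hdim : ∀ (X : A) (i : ℕ), n < i → IsZero ((F.rightDerived i).obj X))

/-- the counit -/
noncomputable def counit :
    Q ⋙ (shiftFunctor (DerivedCategory A) (n : ℤ) ⋙ R) ⟶ RC F n ⋙ Q where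
  app K := τ F α hα Δ n K fun _ i hi => hdim _ i hi
  naturality _ _ f := τ_naturality F α hα Δ n f _ _

lemma isIso_counit_app {K : CochainComplex A ℤ} (hK : ∀ m, PResolution.P F n (K.X m)) :
    IsIso ((counit F α hα Δ n hdim).app K) := by
  refine isIso_τ F α hα Δ n _ (fun m i _ hi => hK m i hi) fun hn i => ?_
  exact ExactAt.of_isZero (hK i 0 (by omega))

variable (hP : ∀ X : A, ∃ (Y : A) (p : Y ⟶ X), Epi p ∧ PResolution.P F n Y)

include hP in
lemma isLeftDerivedFunctor_counit :
    (shiftFunctor (DerivedCategory A) (n : ℤ) ⋙ R).IsLeftDerivedFunctor (counit F α hα Δ n hdim)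
      (HomologicalComplex.quasiIso A (ComplexShape.up ℤ)) :=
  ClassDerived.isLeftDerivedFunctor (fun K => ∀ m, PResolution.P F n (K.X m)) _
    (fun K => by
      obtain ⟨L, s, hs, hL⟩ := PResolution.exists_resolution F n hdim hP K
      exact ⟨L, s, hL, inferInstance⟩)
    (fun _ hK => isIso_counit_app F α hα Δ n hdim hK)

/-- the unit before shifting back -/
noncomputable def preUnit (a : ℤ) :
    FQ F ⋙ shiftFunctor (DerivedCategory B) a ⟶ Q ⋙ shiftFunctor (DerivedCategory A) a ⋙ R where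
  app K := ((FQ F).commShiftIso a).inv.app K ≫ α.app (K⟦a⟧) ≫ R.map ((Q.commShiftIso a).hom.app K)
  naturality K L f := by
    have h1 := ((FQ F).commShiftIso a).inv.naturality f
    have h2 := α.naturality (f⟦a⟧')
    have h3 := congrArg R.map ((Q.commShiftIso a).hom.naturality f)
    simp only [Functor.comp_map, Functor.map_comp] at h1 h2 h3 ⊢
    rw [reassoc_of% h1, reassoc_of% h2, h3]
    simp only [assoc]

/-- the shifted unit -/
noncomputable def shiftedUnit (a : ℤ) :
    FQ F ⟶ Q ⋙ (shiftFunctor (DerivedCategory A) a ⋙ R ⋙ shiftFunctor (DerivedCategory B) (-a)) :=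
  (FQ F).rightUnitor.inv ≫ Functor.whiskerLeft (FQ F) (shiftEquiv (DerivedCategory B) a).unitIso.hom ≫
    (Functor.associator (FQ F) (shiftFunctor (DerivedCategory B) a) (shiftFunctor (DerivedCategory B) (-a))).inv ≫
    Functor.whiskerRight (preUnit F α a) (shiftFunctor (DerivedCategory B) (-a))

include hα in
lemma isIso_shiftedUnit_app (a : ℤ) {K : CochainComplex A ℤ} (hK : AcT F K) :
    IsIso ((shiftedUnit F α a).app K) := by
  have := hα (K⟦a⟧) fun m => hK (m + a)
  have : IsIso ((preUnit F α a).app K) := by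
    change IsIso (_ ≫ _ ≫ _)
    infer_instance
  change IsIso (_ ≫ _ ≫ _ ≫ _)
  simp only [Functor.whiskerRight_app, Functor.whiskerLeft_app]
  infer_instance

include α hα Δ hdim hP in
lemma nonempty_iso
    [(FQ F).HasRightDerivedFunctor (HomologicalComplex.quasiIso A (ComplexShape.up ℤ))]
    [(RC F n ⋙ Q).HasLeftDerivedFunctor (HomologicalComplex.quasiIso A (ComplexShape.up ℤ))] :
    Nonempty ((FQ F).totalRightDerived Q (HomologicalComplex.quasiIso A (ComplexShape.up ℤ)) ≅
      (RC F n ⋙ Q).totalLeftDerived Q (HomologicalComplex.quasiIso A (ComplexShape.up ℤ)) ⋙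
        shiftFunctor (DerivedCategory B) (-(n : ℤ))) := by
  have hn : ∀ X : A, IsZero ((F.rightDerived (n + 1)).obj X) := fun X => hdim X _ (Nat.lt_succ_self n)
  have h1 := isLeftDerivedFunctor_counit F α hα Δ n hdim hP
  have h2 := ClassDerived.isRightDerivedFunctor (AcT F) (shiftedUnit F α (n : ℤ))
    (exists_acT_resolution F (n + 1) hn) (fun _ hK => isIso_shiftedUnit_app F α hα (n : ℤ) hK)
  exact ⟨Functor.rightDerivedUnique _ _
      ((FQ F).totalRightDerivedUnit Q (HomologicalComplex.quasiIso A (ComplexShape.up ℤ)))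
      (shiftedUnit F α (n : ℤ)) (HomologicalComplex.quasiIso A (ComplexShape.up ℤ)) ≪≫
    (Functor.associator _ _ _).symm ≪≫ Functor.isoWhiskerRight
      (Functor.leftDerivedUnique _ _ (counit F α hα Δ n hdim)
        ((RC F n ⋙ Q).totalLeftDerivedCounit Q (HomologicalComplex.quasiIso A (ComplexShape.up ℤ)))
        (HomologicalComplex.quasiIso A (ComplexShape.up ℤ))) _⟩

end Groth.Agent.CohDer42.DerShift
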