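import Mathlib.Algebra.Homology.DerivedCategory.ExactFunctor
import Mathlib.Algebra.Homology.HomotopyCategory.Triangulated
import Mathlib.CategoryTheory.Functor.Derived.PointwiseRightDerived

/-!
# Right derived functors from a class of adapted objects (left calculus of fractions)
-/

universe w w' v v' v'' u u' u''

open CategoryTheory Category Limits

set_option autoImplicit false
set_option linter.unusedSectionVars false
set_option backward.isDefEq.respectTransparency false

namespace Groth.Agent.CohDer42.DerivedByClass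

section General

variable {C : Type u} [Category.{v} C] {D : Type u'} [Category.{v'} D] {H : Type u''} [Category.{v''} H]
  (L : C ⥤ D) (G : C ⥤ H) (W : MorphismProperty C) [L.IsLocalization W]
  [W.HasLeftCalculusOfFractions] (Q : C → Prop)
  (hres : ∀ X : C, ∃ (X' : C) (s : X ⟶ X'), W s ∧ Q X')
  (hG : ∀ ⦃X Y : C⦄ (f : X ⟶ Y), Q X → Q Y → W f → IsIso (G.map f))

include hres in
lemma exists_rep {Y X : C} (φ : L.obj Y ⟶ L.obj X) :
    ∃ (X₁ : C) (f : Y ⟶ X₁) (s : X ⟶ X₁), W s ∧ Q X₁ ∧ φ ≫ L.map s = L.map f := by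
  obtain ⟨z, hz⟩ := Localization.exists_leftFraction L W φ
  obtain ⟨X₁, r, hr, hX₁⟩ := hres z.Y'
  exact ⟨X₁, z.f ≫ r, z.s ≫ r, W.comp_mem _ _ z.hs hr, hX₁, by
    rw [hz, L.map_comp, L.map_comp, MorphismProperty.LeftFraction.map_comp_map_s_assoc]⟩

include hres hG in
lemma rep_unique {Y X : C} (hX : Q X) {φ : L.obj Y ⟶ L.obj X} {X₁ X₂ : C} (f₁ : Y ⟶ X₁) (s₁ : X ⟶ X₁)
    (hs₁ : W s₁) (hX₁ : Q X₁) (h₁ : φ ≫ L.map s₁ = L.map f₁) (f₂ : Y ⟶ X₂) (s₂ : X ⟶ X₂)
    (hs₂ : W s₂) (hX₂ : Q X₂) (h₂ : φ ≫ L.map s₂ = L.map f₂) [IsIso (G.map s₁)] [IsIso (G.map s₂)] :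
    G.map f₁ ≫ inv (G.map s₁) = G.map f₂ ≫ inv (G.map s₂) := by
  let z₁ := MorphismProperty.LeftFraction.mk f₁ s₁ hs₁
  let z₂ := MorphismProperty.LeftFraction.mk f₂ s₂ hs₂
  have e : z₁.map L (Localization.inverts L W) = z₂.map L (Localization.inverts L W) := by
    have := Localization.inverts L W _ hs₁
    have := Localization.inverts L W _ hs₂
    have e₁ : φ = z₁.map L (Localization.inverts L W) := by
      rw [← cancel_mono (L.map s₁)]
      exact h₁.trans (MorphismProperty.LeftFraction.map_comp_map_s z₁ L _).symm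
    have e₂ : φ = z₂.map L (Localization.inverts L W) := by
      rw [← cancel_mono (L.map s₂)]
      exact h₂.trans (MorphismProperty.LeftFraction.map_comp_map_s z₂ L _).symm
    exact e₁.symm.trans e₂
  obtain ⟨Z, t₁, t₂, hst, hft, ht⟩ := (MorphismProperty.LeftFraction.map_eq_iff L W z₁ z₂).1 e
  obtain ⟨Z', r, hr, hZ'⟩ := hres Z
  have : IsIso (G.map ((s₁ ≫ t₁) ≫ r)) := hG _ hX hZ' (W.comp_mem _ _ ht hr)
  have hst' : s₁ ≫ t₁ = s₂ ≫ t₂ := hst
  have hft' : f₁ ≫ t₁ = f₂ ≫ t₂ := hft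
  have k₁ : inv (G.map s₁) = G.map (t₁ ≫ r) ≫ inv (G.map ((s₁ ≫ t₁) ≫ r)) := by
    rw [← cancel_epi (G.map s₁), IsIso.hom_inv_id, ← assoc, ← G.map_comp, ← assoc s₁ t₁ r,
      IsIso.hom_inv_id]
  have k₂ : inv (G.map s₂) = G.map (t₂ ≫ r) ≫ inv (G.map ((s₁ ≫ t₁) ≫ r)) := by
    rw [← cancel_epi (G.map s₂), IsIso.hom_inv_id, ← assoc, ← G.map_comp, ← assoc s₂ t₂ r]
    simp [hst']
  rw [k₁, k₂, ← assoc, ← assoc, ← G.map_comp, ← G.map_comp, reassoc_of% hft']

variable {X : C} (hX : Q X)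

/-- the component of the colimit cocone -/
noncomputable def leg (T : CostructuredArrow L (L.obj X)) : G.obj T.left ⟶ G.obj X :=
  have := hG _ hX (exists_rep L W Q hres T.hom).choose_spec.choose_spec.choose_spec.2.1
    (exists_rep L W Q hres T.hom).choose_spec.choose_spec.choose_spec.1
  G.map (exists_rep L W Q hres T.hom).choose_spec.choose ≫
    inv (G.map (exists_rep L W Q hres T.hom).choose_spec.choose_spec.choose)

lemma leg_eq (T : CostructuredArrow L (L.obj X)) {X₁ : C} (f : T.left ⟶ X₁) (s : X ⟶ X₁) (hs : W s)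
    (hX₁ : Q X₁) (h : T.hom ≫ L.map s = L.map f) [IsIso (G.map s)] :
    leg L G W Q hres hG hX T = G.map f ≫ inv (G.map s) := by
  have hc := (exists_rep L W Q hres T.hom).choose_spec.choose_spec.choose_spec
  have := hG _ hX hc.2.1 hc.1
  exact rep_unique L G W Q hres hG hX _ _ hc.1 hc.2.1 hc.2.2 f s hs hX₁ h

/-- the colimit cocone -/
noncomputable def cocone : Cocone (CostructuredArrow.proj L (L.obj X) ⋙ G) where
  pt := G.obj X
  ι :=
    { app := fun T => leg L G W Q hres hG hX T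
      naturality := fun T T' g => by
        obtain ⟨X₁, f, s, hs, hX₁, h⟩ := exists_rep L W Q hres T'.hom
        have := hG s hX hX₁ hs
        have h' : T.hom ≫ L.map s = L.map (g.left ≫ f) := by
          rw [← CostructuredArrow.w g, assoc, h, L.map_comp]
        change G.map g.left ≫ leg L G W Q hres hG hX T' = leg L G W Q hres hG hX T ≫ 𝟙 _
        rw [leg_eq L G W Q hres hG hX T' f s hs hX₁ h,
          leg_eq L G W Q hres hG hX T (g.left ≫ f) s hs hX₁ h', comp_id, G.map_comp, assoc] }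

lemma leg_self : leg L G W Q hres hG hX (CostructuredArrow.mk (𝟙 (L.obj X))) = 𝟙 _ := by
  have : IsIso (G.map (𝟙 X)) := hG _ hX hX (W.id_mem X)
  refine (leg_eq L G W Q hres hG hX (CostructuredArrow.mk (𝟙 (L.obj X))) (𝟙 X) (𝟙 X) (W.id_mem X) hX ?_).trans
    (IsIso.hom_inv_id _)
  exact id_comp _

/-- it is a colimit -/
noncomputable def isColimit : IsColimit (cocone L G W Q hres hG hX) where
  desc c := c.ι.app (CostructuredArrow.mk (𝟙 (L.obj X)))
  fac c T := by
    obtain ⟨X₁, f, s, hs, hX₁, h⟩ := exists_rep L W Q hres T.hom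
    have := hG s hX hX₁ hs
    have := Localization.inverts L W _ hs
    change leg L G W Q hres hG hX T ≫ _ = _
    rw [leg_eq L G W Q hres hG hX T f s hs hX₁ h, assoc]
    let T₁ : CostructuredArrow L (L.obj X) := CostructuredArrow.mk (inv (L.map s))
    let a : T ⟶ T₁ := CostructuredArrow.homMk f (by
      change L.map f ≫ inv (L.map s) = T.hom
      rw [← h, assoc, IsIso.hom_inv_id, comp_id])
    let b : CostructuredArrow.mk (𝟙 (L.obj X)) ⟶ T₁ :=
      CostructuredArrow.homMk s (IsIso.hom_inv_id (L.map s))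
    have ha : G.map f ≫ c.ι.app T₁ = c.ι.app T := c.w a
    have hb : G.map s ≫ c.ι.app T₁ = c.ι.app (CostructuredArrow.mk (𝟙 (L.obj X))) := c.w b
    rw [← hb, IsIso.inv_hom_id_assoc, ha]
  uniq c m hm := by
    have h : leg L G W Q hres hG hX (CostructuredArrow.mk (𝟙 (L.obj X))) ≫ m = _ :=
      hm (CostructuredArrow.mk (𝟙 (L.obj X)))
    rw [leg_self, id_comp] at h
    exact h

include hres hG in
theorem hasPointwiseRightDerivedFunctor : G.HasPointwiseRightDerivedFunctor W := by
  intro Y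
  obtain ⟨X, s, hs, hX⟩ := hres Y
  rw [G.hasPointwiseRightDerivedFunctorAt_iff_of_mem W s hs,
    G.hasPointwiseRightDerivedFunctorAt_iff W.Q W]
  exact ⟨_, isColimit W.Q G W Q hres hG hX⟩

include hres hG hX in
theorem isIso_unit (RG : D ⥤ H) (α : G ⟶ L ⋙ RG) [RG.IsRightDerivedFunctor α W] :
    IsIso (α.app X) := by
  have := hasPointwiseRightDerivedFunctor G W Q hres hG
  have h := (RG.isPointwiseLeftKanExtensionOfHasPointwiseRightDerivedFunctor α W) (L.obj X)
  let T : CostructuredArrow L (L.obj X) := CostructuredArrow.mk (𝟙 (L.obj X))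
  have e : (cocone L G W Q hres hG hX).ι.app T = 𝟙 _ := leg_self L G W Q hres hG hX
  have e' := (isColimit L G W Q hres hG hX).comp_coconePointUniqueUpToIso_hom h T
  rw [e] at e'
  have e'' : ((isColimit L G W Q hres hG hX).coconePointUniqueUpToIso h).hom = α.app X := by
    refine (id_comp _).symm.trans (e'.trans ?_)
    change α.app X ≫ RG.map (𝟙 _) = α.app X
    rw [CategoryTheory.Functor.map_id]
    exact comp_id _
  rw [← e'']
  infer_instance

end General

end Groth.Agent.CohDer42.DerivedByClass
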