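import Mathlib.CategoryTheory.Abelian.GrothendieckCategory.Subobject
import Mathlib.CategoryTheory.Limits.Shapes.FiniteProducts
import Mathlib.CategoryTheory.Limits.Preserves.Filtered
import Mathlib.CategoryTheory.Adjunction.FullyFaithful
import Mathlib.CategoryTheory.Functor.ReflectsIso.Balanced
import Groth.Agent.AR46.Elem

/-!
# Descent of AB5, generators and noetherian generators along faithful exact left adjoints
-/

universe w v u₁ u₂

open CategoryTheory Category Limits

set_option autoImplicit false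
set_option maxHeartbeats 400000
set_option linter.unusedSectionVars false
set_option backward.isDefEq.respectTransparency false

namespace Groth.Agent.CohDer42

attribute [local instance] IsFiltered.isConnected

section Core

variable {A : Type u₁} [Category.{w} A] [Abelian A] [HasColimitsOfSize.{w, w} A]
  {B : Type u₂} [Category.{w} B] [Abelian B]
  {F : A ⥤ B} {G : B ⥤ A} (adj : F ⊣ G) [F.Additive] [F.Faithful]
  [PreservesFiniteLimits F] [PreservesFiniteColimits F] [PreservesFilteredColimitsOfSize.{w, w} G]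

include adj in
lemma ab5_of_faithful [HasColimitsOfSize.{w, w} B] [AB5OfSize.{w, w} B] : AB5OfSize.{w, w} A :=
  ⟨fun J _ _ => by
    have := adj.leftAdjoint_preservesColimits
    have : F.ReflectsIsomorphisms := inferInstance
    have : ReflectsFiniteLimits F :=
      ⟨fun K _ _ => reflectsLimitsOfShape_of_reflectsIsomorphisms⟩
    exact HasExactColimitsOfShape.domain_of_functor J F⟩

lemma exists_nonzero_comp [HasColimitsOfSize.{w, w} B] [AB5OfSize.{w, w} B]
    {a a' : A} (f : a ⟶ a') {J : Type w} [SmallCategory J] [IsFiltered J] {b : J ⥤ B}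
    (c : Cocone b) (hc : IsColimit c) (e : F.obj a ⟶ c.pt)
    (h : ∀ j, pullback.fst ((adj.unit.app a) ≫ G.map e) (G.map (c.ι.app j)) ≫ f = 0) : f = 0 := by
  have := ab5_of_faithful adj
  let m := (adj.unit.app a) ≫ G.map e
  let q : b ⋙ G ⟶ (Functor.const J).obj (G.obj c.pt) :=
    { app := fun j => G.map (c.ι.app j)
      naturality := fun i j g => by simp [← Functor.map_comp] }
  let p : (Functor.const J).obj a ⟶ (Functor.const J).obj (G.obj c.pt) := (Functor.const J).map m
  have hGc : IsColimit (G.mapCocone c) := isColimitOfPreserves G hc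
  have hq : IsIso (colim.map q) := by
    let u := IsColimit.coconePointUniqueUpToIso (colimit.isColimit (b ⋙ G)) hGc
    let v := IsColimit.coconePointUniqueUpToIso
      (colimit.isColimit ((Functor.const J).obj (G.obj c.pt))) (isColimitConstCocone J (G.obj c.pt))
    have : colim.map q = u.hom ≫ v.inv := by
      rw [Iso.eq_comp_inv]
      refine colimit.hom_ext fun j => ?_
      have h₁ := IsColimit.comp_coconePointUniqueUpToIso_hom
        (colimit.isColimit (b ⋙ G)) hGc j
      have h₂ := IsColimit.comp_coconePointUniqueUpToIso_hom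
        (colimit.isColimit ((Functor.const J).obj (G.obj c.pt))) (isColimitConstCocone J (G.obj c.pt)) j
      simp only [colimit.cocone_ι] at h₁ h₂
      dsimp [u, v]
      change colimit.ι (b ⋙ G) j ≫ colimMap q ≫ _ = _
      erw [colimit.ι_map_assoc, h₂, h₁]
      simp [q]
    rw [this]
    infer_instance
  have hpb := (IsPullback.of_hasPullback p q).map colim
  have : IsIso (colim.map (pullback.fst p q)) := hpb.isIso_fst_of_isIso
  let f' : (Functor.const J).obj a ⟶ (Functor.const J).obj a' := (Functor.const J).map f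
  have hz : pullback.fst p q ≫ f' = 0 := by
    ext j
    have e₁ := (IsPullback.of_hasPullback p q).map ((evaluation J A).obj j)
    obtain ⟨t, ht₁, -⟩ : ∃ t : (pullback p q).obj j ⟶ pullback m (G.map (c.ι.app j)),
        t ≫ pullback.fst _ _ = (pullback.fst p q).app j ∧ True :=
      ⟨pullback.lift _ _ e₁.w, pullback.lift_fst _ _ _, trivial⟩
    simp only [NatTrans.comp_app, ← ht₁, assoc, Limits.zero_app]
    change t ≫ pullback.fst m _ ≫ f = 0
    rw [h, comp_zero]
  have h0 : colim.map f' = 0 := by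
    rw [← cancel_epi (colim.map (pullback.fst p q)), ← Functor.map_comp, hz, Functor.map_zero,
      comp_zero]
  obtain ⟨j⟩ : Nonempty J := IsFiltered.nonempty
  have h1 := colimit.ι_map f' j
  erw [h0, comp_zero] at h1
  have h2 : f ≫ colimit.ι ((Functor.const J).obj a') j = 0 := h1.symm
  have h3 := h2 =≫ colimit.desc _ (constCocone J a')
  simpa using h3

/-- the map `F (a ×_{GFa} G b) → b` -/
noncomputable def toB {a : A} {b : B} (i : b ⟶ F.obj a) :
    F.obj (pullback (adj.unit.app a) (G.map i)) ⟶ b :=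
  F.map (pullback.snd _ _) ≫ adj.counit.app b

lemma toB_comp {a : A} {b : B} (i : b ⟶ F.obj a) :
    toB adj i ≫ i = F.map (pullback.fst (adj.unit.app a) (G.map i)) := by
  rw [toB, assoc, ← adj.counit_naturality, ← F.map_comp_assoc, ← pullback.condition,
    F.map_comp_assoc, adj.left_triangle_components a]
  exact comp_id _

lemma mono_toB {a : A} {b : B} (i : b ⟶ F.obj a) [Mono i] : Mono (toB adj i) := by
  have : G.PreservesMonomorphisms := G.preservesMonomorphisms_of_adjunction adj
  have : Mono (toB adj i ≫ i) := by rw [toB_comp]; infer_instance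
  exact mono_of_mono (toB adj i) i

include adj in
lemma mono_unit (a : A) : Mono (adj.unit.app a) := inferInstance

include adj in
lemma le_of_map_le {a : A} {s s' : Subobject a}
    (hle : Subobject.mk (F.map s.arrow) ≤ Subobject.mk (F.map s'.arrow)) : s ≤ s' := by
  refine Subobject.le_of_factors ?_
  refine (Subobject.factors_iff _ _).2 ?_
  have h0 : s.arrow ≫ cokernel.π s'.arrow = 0 := by
    apply F.map_injective
    rw [F.map_comp, F.map_zero, ← Subobject.ofMkLEMk_comp hle, assoc, ← F.map_comp,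
      cokernel.condition, F.map_zero, comp_zero]
  exact ⟨(ShortComplex.exact_cokernel s'.arrow).lift s.arrow h0,
    (ShortComplex.exact_cokernel s'.arrow).lift_f _ _⟩

include adj in
lemma wellPowered_of_faithful [WellPowered.{w} B] : WellPowered.{w} A where
  subobject_small a := small_of_injective (β := Subobject (F.obj a))
    (f := fun s : Subobject a => Subobject.mk (F.map s.arrow))
    (fun _ _ hs => le_antisymm (le_of_map_le adj hs.le) (le_of_map_le adj hs.ge))

include adj in
lemma isNoetherianObject_of_map (a : A) [IsNoetherianObject (F.obj a)] : IsNoetherianObject a := by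
  rw [isNoetherianObject_iff_monotone_chain_condition]
  intro f
  have hm : Monotone fun n => Subobject.mk (F.map (f n).arrow) := fun m n h =>
    Subobject.mk_le_mk_of_comm (F.map (Subobject.ofLE _ _ (f.2 h)))
      (by rw [← F.map_comp, Subobject.ofLE_arrow])
  obtain ⟨n, hn⟩ := monotone_chain_condition_of_isNoetherianObject
    (⟨_, hm⟩ : ℕ →o Subobject (F.obj a))
  exact ⟨n, fun m h => le_antisymm (f.2 h) (le_of_map_le adj (hn m h).ge)⟩

include adj in
/-- a noetherian object has noetherian image -/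
lemma exists_iso_of_noetherian [HasColimitsOfSize.{w, w} B] [AB5OfSize.{w, w} B] (a : A)
    [IsNoetherianObject a] {J : Type w} [SmallCategory J] [IsFiltered J] {b : J ⥤ B}
    (c : Cocone b) (hc : IsColimit c) (e : c.pt ≅ F.obj a) (hm : ∀ j, Mono (c.ι.app j)) :
    ∃ j, Nonempty (b.obj j ≅ F.obj a) := by
  have : G.PreservesMonomorphisms := G.preservesMonomorphisms_of_adjunction adj
  have : ∀ j, Mono (c.ι.app j) := hm
  let m := adj.unit.app a ≫ G.map e.inv
  let Aj : J → Subobject a := fun j => Subobject.mk (pullback.fst m (G.map (c.ι.app j)))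
  have hA : ∀ {i j : J} (g : i ⟶ j), Aj i ≤ Aj j := fun {i j} g =>
    Subobject.mk_le_mk_of_comm (pullback.lift (pullback.fst _ _) (pullback.snd _ _ ≫ G.map (b.map g))
      (by rw [assoc, ← G.map_comp, c.w, pullback.condition])) (pullback.lift_fst _ _ _)
  obtain ⟨j₁⟩ : Nonempty J := IsFiltered.nonempty
  obtain ⟨S, ⟨j₀, rfl⟩, hmax⟩ := (wellFounded_gt (α := Subobject a)).has_min (Set.range Aj)
    ⟨_, j₁, rfl⟩
  have hall : ∀ j, Aj j ≤ Aj j₀ := fun j => by
    refine (hA (IsFiltered.leftToMax j j₀)).trans ?_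
    rcases (hA (IsFiltered.rightToMax j j₀)).lt_or_eq with h | h
    · exact absurd h (hmax _ ⟨_, rfl⟩)
    · exact h.ge
  have h0 : cokernel.π (pullback.fst m (G.map (c.ι.app j₀))) = 0 :=
    exists_nonzero_comp adj _ c hc e.inv fun j => by
      change pullback.fst m _ ≫ _ = 0
      rw [← Subobject.ofMkLEMk_comp (hall j), assoc, cokernel.condition, comp_zero]
  have : Epi (pullback.fst m (G.map (c.ι.app j₀))) := Abelian.epi_of_cokernel_π_eq_zero _ h0
  have hfac : (F.map (pullback.snd m (G.map (c.ι.app j₀))) ≫ adj.counit.app _) ≫ c.ι.app j₀ =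
      F.map (pullback.fst m (G.map (c.ι.app j₀))) ≫ e.inv := by
    have hn : adj.counit.app (b.obj j₀) ≫ c.ι.app j₀ =
        F.map (G.map (c.ι.app j₀)) ≫ adj.counit.app c.pt := (adj.counit_naturality (c.ι.app j₀)).symm
    rw [assoc, hn, ← F.map_comp_assoc]
    erw [← pullback.condition]
    simp [m]
  have : Epi (c.ι.app j₀) := epi_of_epi_fac hfac
  have : IsIso (c.ι.app j₀) := isIso_of_mono_of_epi _
  exact ⟨j₀, ⟨asIso (c.ι.app j₀) ≪≫ e⟩⟩

include adj in
/-- separating family: subobjects of `G b` -/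
lemma separating_of_union {κ : Type w} (b₀ : κ → B) [HasColimitsOfSize.{w, w} B] [AB5OfSize.{w, w} B]
    [WellPowered.{w} B] (P : B → Prop) (hP : ∀ {X Y : B} (i : X ⟶ Y), Mono i → P Y → P X)
    (hb₀ : ∀ k, P (b₀ k))
    (hU : ∀ X : B, ∃ (J : Type w) (_ : SmallCategory J) (_ : IsFiltered J) (b : J ⥤ B) (c : Cocone b)
      (_ : IsColimit c) (e : c.pt ≅ X), (∀ j, Mono (c.ι.app j)) ∧ ∀ j, ∃ k, Nonempty (b.obj j ≅ b₀ k)) :
    ∃ (μ : Type w) (t : μ → A), (∀ k, P (F.obj (t k))) ∧
      ∀ ⦃X Y : A⦄ (f g : X ⟶ Y), (∀ (k : μ) (h : t k ⟶ X), h ≫ f = h ≫ g) → f = g := by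
  have := wellPowered_of_faithful adj
  let μ := {x : Σ k : κ, Shrink.{w} (Subobject (G.obj (b₀ k))) //
    P (F.obj (((equivShrink.{w} (Subobject (G.obj (b₀ x.1)))).symm x.2 : Subobject _) : A))}
  refine ⟨μ, fun x => (((equivShrink.{w} (Subobject (G.obj (b₀ x.1.1)))).symm x.1.2 : Subobject _) : A), fun x => x.2, fun X Y f g h => ?_⟩
  rw [← sub_eq_zero]
  obtain ⟨J, _, _, b, c, hc, e, hm, hb⟩ := hU (F.obj X)
  have : ∀ j, Mono (c.ι.app j) := hm
  refine exists_nonzero_comp adj (f - g) c hc e.inv fun j => ?_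
  obtain ⟨k, ⟨u⟩⟩ := hb j
  let i : b₀ k ⟶ F.obj X := u.inv ≫ c.ι.app j ≫ e.hom
  have : G.PreservesMonomorphisms := G.preservesMonomorphisms_of_adjunction adj
  have : Mono (adj.unit.app X) := mono_unit adj X
  let s : Subobject (G.obj (b₀ k)) := Subobject.mk (pullback.snd (adj.unit.app X) (G.map i))
  have := mono_toB adj i
  have hs : P (F.obj (s : A)) :=
    hP (F.map (Subobject.underlyingIso _).hom ≫ toB adj i) inferInstance (hb₀ k)
  have hk : ∀ l : (((equivShrink.{w} (Subobject (G.obj (b₀ k)))).symm (equivShrink.{w} _ s) : Subobject _) : A) ⟶ X, l ≫ f = l ≫ g :=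
    h ⟨⟨k, equivShrink.{w} _ s⟩, by simpa using hs⟩
  rw [Equiv.symm_apply_apply] at hk
  have h' : pullback.fst (adj.unit.app X) (G.map i) ≫ (f - g) = 0 := by
    have := hk ((Subobject.underlyingIso _).hom ≫ pullback.fst _ _)
    rw [assoc, assoc, cancel_epi] at this
    rw [Preadditive.comp_sub, this, sub_self]
  obtain ⟨t, ht⟩ : ∃ t : pullback (adj.unit.app X ≫ G.map e.inv) (G.map (c.ι.app j)) ⟶
      pullback (adj.unit.app X) (G.map i),
      t ≫ pullback.fst _ _ = pullback.fst (adj.unit.app X ≫ G.map e.inv) (G.map (c.ι.app j)) :=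
    ⟨pullback.lift (pullback.fst _ _) (pullback.snd _ _ ≫ G.map u.hom) (by
      rw [assoc, ← G.map_comp, Iso.hom_inv_id_assoc, G.map_comp, ← pullback.condition_assoc,
        assoc, ← G.map_comp, e.inv_hom_id, G.map_id]
      exact congrArg _ (comp_id _).symm), pullback.lift_fst _ _ _⟩
  rw [← ht, assoc, h', comp_zero]

section Union

variable [IsGrothendieckAbelian.{w} B] {ι : Type w} (s : ι → B)

lemma exists_colimit_of_monoOver {X : B} {J : Type w} [SmallCategory J] [IsFiltered J]
    (M : J ⥤ MonoOver X)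
    (h : ∀ ⦃Y : B⦄ (g : X ⟶ Y), (∀ j, (M.obj j).obj.hom ≫ g = 0) → g = 0) :
    ∃ (c : Cocone (M ⋙ MonoOver.forget _ ⋙ Over.forget _)) (_ : IsColimit c) (_ : c.pt ≅ X),
      ∀ j, Mono (c.ι.app j) := by
  let W := M ⋙ MonoOver.forget _ ⋙ Over.forget _
  let c₀ : Cocone W := Cocone.mk X
    { app := fun j => (M.obj j).obj.hom
      naturality := fun i j g => by
        dsimp [W, MonoOver.forget]
        simpa using MonoOver.w (M.map g) }
  let f : colimit W ⟶ X := colimit.desc W c₀
  have hf : ∀ j, colimit.ι W j ≫ f = (M.obj j).obj.hom := fun j => colimit.ι_desc c₀ j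
  have : Mono f := IsGrothendieckAbelian.mono_of_isColimit_monoOver M (colimit.isColimit _) f hf
  have : Epi f := Preadditive.epi_of_cancel_zero _ fun g hg => h g fun j => by
    rw [← hf, assoc, hg, comp_zero]
  have : IsIso f := isIso_of_mono_of_epi f
  refine ⟨colimit.cocone W, colimit.isColimit W, asIso f, fun j => ?_⟩
  have : Mono (colimit.ι W j ≫ f) := by rw [hf]; infer_instance
  exact mono_of_mono (colimit.ι W j) f

/-- the map from a finite sum to `X` -/
noncomputable def finDesc {X : B} (S : Finset (Σ i, s i ⟶ X)) : (∐ fun t : S => s t.1.1) ⟶ X :=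
  Sigma.desc fun t => t.1.2

/-- image of a finite sum -/
noncomputable def finImage {X : B} (S : Finset (Σ i, s i ⟶ X)) : Subobject X :=
  imageSubobject (finDesc s S)

lemma finImage_mono {X : B} : Monotone (finImage s (X := X)) := fun S T hST => by
  refine imageSubobject_le _ (Sigma.desc fun t => Sigma.ι (fun t : T => s t.1.1) ⟨t.1, hST t.2⟩ ≫
    factorThruImageSubobject (finDesc s T)) ?_
  refine Sigma.hom_ext _ _ fun t => ?_
  simp [finDesc, finImage]

lemma eq_zero_of_finImage {X Y : B} (g : X ⟶ Y) (S : Finset (Σ i, s i ⟶ X)) (t : S)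
    (hg : (finImage s S).arrow ≫ g = 0) : t.1.2 ≫ g = 0 := by
  have e₁ : Sigma.ι (fun t : S => s t.1.1) t ≫ finDesc s S = t.1.2 := Sigma.ι_desc _ _
  have e₂ : factorThruImageSubobject (finDesc s S) ≫ (finImage s S).arrow = finDesc s S :=
    imageSubobject_arrow_comp _
  rw [← e₁, ← e₂, assoc, assoc, hg, comp_zero, comp_zero]

/-- the functor of images of finite sums -/
noncomputable def finImageFunctor (X : B) : Finset (Σ i, s i ⟶ X) ⥤ MonoOver X where
  obj S := MonoOver.mk (finImage s S).arrow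
  map g := MonoOver.homMk (Subobject.ofLE _ _ (finImage_mono s g.le)) (Subobject.ofLE_arrow _)
  map_id _ := Subsingleton.elim _ _
  map_comp _ _ := Subsingleton.elim _ _

/-- every object is a filtered union of images of finite sums of the separating family -/
lemma exists_union (hsep : ∀ ⦃X Y : B⦄ (f g : X ⟶ Y), (∀ (i : ι) (h : s i ⟶ X), h ≫ f = h ≫ g) → f = g)
    (P : B → Prop) (hP : ∀ {X Y : B} (p : X ⟶ Y), Epi p → P X → P Y)
    (hfin : ∀ (T : Type w) [Finite T] (x : T → ι), P (∐ fun t => s (x t))) (X : B) :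
    ∃ (J : Type w) (_ : SmallCategory J) (_ : IsFiltered J) (b : J ⥤ B) (c : Cocone b)
      (_ : IsColimit c) (_ : c.pt ≅ X), (∀ j, Mono (c.ι.app j)) ∧ ∀ j, P (b.obj j) := by
  classical
  have key : ∀ ⦃Y : B⦄ (g : X ⟶ Y),
      (∀ S, ((finImageFunctor s X).obj S).obj.hom ≫ g = 0) → g = 0 := by
    intro Y g hg
    refine hsep _ _ fun i h => ?_
    rw [comp_zero]
    let S : Finset (Σ i, s i ⟶ X) := {⟨i, h⟩}
    have hS := hg S
    exact eq_zero_of_finImage s g S ⟨⟨i, h⟩, Finset.mem_singleton_self _⟩ hS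
  obtain ⟨c, hc, e, hm⟩ := exists_colimit_of_monoOver (finImageFunctor s X) key
  refine ⟨_, inferInstance, inferInstance, _, c, hc, e, hm, fun S => ?_⟩
  have h1 := hP (factorThruImageSubobject (finDesc s S)) inferInstance (hfin S fun t => t.1.1)
  exact h1

noncomputable def isKernelSubobject {Y Z : B} (q : Y ⟶ Z) : IsLimit (KernelFork.ofι (kernelSubobject q).arrow
      (kernelSubobject_arrow_comp q)) :=
  IsLimit.ofIsoLimit (kernelIsKernel q) (Fork.ext (kernelSubobjectIso q).symm (by simp))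

include s in
/-- a small family of representatives of quotients of finite sums -/
lemma exists_small_quotients :
    ∃ (κ : Type w) (b₀ : κ → B), (∀ k, ∃ (n : ℕ) (x : Fin n → ι) (p : (∐ fun t => s (x t)) ⟶ b₀ k), Epi p) ∧
      ∀ (X : B), (∃ (T : Type w) (_ : Finite T) (x : T → ι) (p : (∐ fun t => s (x t)) ⟶ X), Epi p) →
        ∃ k, Nonempty (X ≅ b₀ k) := by
  refine ⟨Σ (n : ℕ) (x : Fin n → ι), Shrink.{w} (Subobject (∐ fun t => s (x t))),
    fun k => cokernel ((equivShrink _).symm k.2.2).arrow,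
    fun k => ⟨k.1, k.2.1, cokernel.π _, inferInstance⟩, ?_⟩
  rintro X ⟨T, hT, x, p, hp⟩
  obtain ⟨n, ⟨e⟩⟩ := Finite.exists_equiv_fin T
  let x' : Fin n → ι := x ∘ e.symm
  let q : (∐ fun t => s (x' t)) ⟶ X := Sigma.desc fun t => Sigma.ι (fun t => s (x t)) (e.symm t) ≫ p
  have : Epi q := by
    refine Preadditive.epi_of_cancel_zero _ fun g hg => ?_
    rw [← cancel_epi p, comp_zero]
    refine Sigma.hom_ext _ _ fun t => ?_
    obtain ⟨t, rfl⟩ := e.symm.surjective t
    have := congrArg (Sigma.ι (fun t => s (x' t)) t ≫ ·) hg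
    simpa [q] using this
  refine ⟨⟨n, x', equivShrink _ (kernelSubobject q)⟩, ⟨?_⟩⟩
  dsimp only
  rw [Equiv.symm_apply_apply]
  exact (IsColimit.coconePointUniqueUpToIso
    (Abelian.epiIsCokernelOfKernel (KernelFork.ofι (kernelSubobject q).arrow
      (kernelSubobject_arrow_comp q)) (isKernelSubobject q))
    (cokernelIsCokernel (kernelSubobject q).arrow) :)

end Union

end Core

section Fin

lemma prop_finite_coproduct {B : Type u₂} [Category.{w} B] [Abelian B] [HasFiniteCoproducts B] (P : B → Prop)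
    (hz : ∀ X : B, IsZero X → P X)
    (hext : ∀ S : ShortComplex B, S.ShortExact → P S.X₁ → P S.X₃ → P S.X₂) :
    ∀ (n : ℕ) (x : Fin n → B), (∀ t, P (x t)) → P (∐ x)
  | 0, x, _ => hz _ ((IsZero.iff_id_eq_zero _).2 (Sigma.hom_ext _ _ fun t => t.elim0))
  | n + 1, x, hx => by
    let f : (∐ fun t : Fin n => x t.castSucc) ⟶ ∐ x := Sigma.desc fun t => Sigma.ι x t.castSucc
    let g : ∐ x ⟶ x (Fin.last n) :=
      Sigma.desc (Fin.lastCases (motive := fun t => x t ⟶ x (Fin.last n)) (𝟙 _) (fun _ => 0))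
    let r : ∐ x ⟶ (∐ fun t : Fin n => x t.castSucc) :=
      Sigma.desc (Fin.lastCases (motive := fun t => x t ⟶ (∐ fun t : Fin n => x t.castSucc))
        0 (fun t => Sigma.ι (fun t : Fin n => x t.castSucc) t))
    have hfg : f ≫ g = 0 := Sigma.hom_ext _ _ fun t => by simp [f, g]
    have hfr : f ≫ r = 𝟙 _ := Sigma.hom_ext _ _ fun t => by simp [f, r]
    have hs : Sigma.ι x (Fin.last n) ≫ g = 𝟙 _ := by simp [g]
    have hid : r ≫ f + g ≫ Sigma.ι x (Fin.last n) = 𝟙 _ := Sigma.hom_ext _ _ fun t => by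
      induction t using Fin.lastCases with
      | last => simp [r, g]
      | cast t => simp [r, g, f]
    let sp : (ShortComplex.mk f g hfg).Splitting :=
      { r := r, s := Sigma.ι x (Fin.last n), f_r := hfr, s_g := hs, id := hid }
    exact hext _ sp.shortExact
      (prop_finite_coproduct P hz hext n _ fun t => hx _) (hx _)

lemma isSeparator_sigma {B : Type u₂} [Category.{w} B] [Preadditive B] {ι : Type w} (s : ι → B)
    [HasCoproduct s]
    (hsep : ∀ ⦃X Y : B⦄ (f g : X ⟶ Y), (∀ (i : ι) (h : s i ⟶ X), h ≫ f = h ≫ g) → f = g) :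
    IsSeparator (∐ s) := by
  classical
  rw [isSeparator_def]
  intro X Y f g h
  refine hsep f g fun i k => ?_
  let d : ∐ s ⟶ X := Sigma.desc fun j => if e : j = i then eqToHom (by rw [e]) ≫ k else 0
  have hd : Sigma.ι s i ≫ d = k := by simp [d]
  rw [← hd, assoc, assoc, h]

end Fin

section Main

variable {A : Type u₁} [Category.{w} A] [Abelian A] [HasColimitsOfSize.{w, w} A]
  {B : Type u₂} [Category.{w} B] [Abelian B] [IsGrothendieckAbelian.{w} B]
  {F : A ⥤ B} {G : B ⥤ A} (adj : F ⊣ G) [F.Additive] [F.Faithful]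
  [PreservesFiniteLimits F] [PreservesFiniteColimits F] [PreservesFilteredColimitsOfSize.{w, w} G]
  {ι : Type w} (s : ι → B)
  (hsep : ∀ ⦃X Y : B⦄ (f g : X ⟶ Y), (∀ (i : ι) (h : s i ⟶ X), h ≫ f = h ≫ g) → f = g)
  (P : B → Prop) (hsub : ∀ {X Y : B} (i : X ⟶ Y), Mono i → P Y → P X)
  (hquot : ∀ {X Y : B} (p : X ⟶ Y), Epi p → P X → P Y)
  (hfin : ∀ (n : ℕ) (x : Fin n → ι), P (∐ fun t => s (x t)))

include adj hsep hsub hquot hfin in
theorem exists_separating_family :
    ∃ (μ : Type w) (t : μ → A), (∀ k, P (F.obj (t k))) ∧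
      ∀ ⦃X Y : A⦄ (f g : X ⟶ Y), (∀ (k : μ) (h : t k ⟶ X), h ≫ f = h ≫ g) → f = g := by
  obtain ⟨κ, b₀, hb, hcov⟩ := exists_small_quotients s
  refine separating_of_union adj b₀ P hsub (fun k => ?_) fun X => ?_
  · obtain ⟨n, x, p, hp⟩ := hb k
    exact hquot p hp (hfin n x)
  · obtain ⟨J, i₁, i₂, b, c, hc, e, hm, hQ⟩ := exists_union s hsep
      (fun Y => ∃ (T : Type w) (_ : Finite T) (x : T → ι) (p : (∐ fun t => s (x t)) ⟶ Y), Epi p)
      (fun {Y Z} p hp ⟨T, hT, x, q, hq⟩ => ⟨T, hT, x, q ≫ p, epi_comp' hq hp⟩)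
      (fun T hT x => ⟨T, hT, x, 𝟙 _, inferInstance⟩) X
    exact ⟨J, i₁, i₂, b, c, hc, e, hm, fun j => hcov _ (hQ j)⟩

include adj hsep hsub hquot hfin in
theorem prop_map_of_noetherian (a : A) [IsNoetherianObject a] : P (F.obj a) := by
  obtain ⟨κ, b₀, hb, hcov⟩ := exists_small_quotients s
  obtain ⟨J, i₁, i₂, b, c, hc, e, hm, hQ⟩ := exists_union s hsep
      (fun Y => ∃ (T : Type w) (_ : Finite T) (x : T → ι) (p : (∐ fun t => s (x t)) ⟶ Y), Epi p)
      (fun {Y Z} p hp ⟨T, hT, x, q, hq⟩ => ⟨T, hT, x, q ≫ p, epi_comp' hq hp⟩)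
      (fun T hT x => ⟨T, hT, x, 𝟙 _, inferInstance⟩) (F.obj a)
  obtain ⟨j, ⟨u⟩⟩ := exists_iso_of_noetherian adj a c hc e hm
  obtain ⟨k, ⟨v⟩⟩ := hcov _ (hQ j)
  obtain ⟨n, x, p, hp⟩ := hb k
  exact hsub (u.inv ≫ v.hom) inferInstance (hquot p hp (hfin n x))

include adj in
theorem isGrothendieckAbelian_of_faithful : IsGrothendieckAbelian.{w} A := by
  have := ab5_of_faithful adj
  obtain ⟨μ, t, -, ht⟩ := exists_separating_family adj (fun _ : PUnit.{w+1} => separator B)
    (fun X Y f g h => (isSeparator_def _).1 (isSeparator_separator B) f g fun k => h PUnit.unit k)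
    (fun _ => True) (fun _ _ _ => trivial) (fun _ _ _ => trivial) (fun _ _ => trivial)
  exact { ab5OfSize := this, hasSeparator := ⟨⟨∐ t, isSeparator_sigma t ht⟩⟩ }

end Main

end Groth.Agent.CohDer42
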