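import Mathlib.Algebra.Homology.Refinements
import Mathlib.Algebra.Homology.QuasiIso
import Mathlib.Algebra.Homology.HomologicalComplexLimits
import Mathlib.Algebra.Homology.Augment
import Mathlib.Algebra.Homology.Single
import Mathlib.CategoryTheory.Limits.Constructions.EventuallyConstant
import Mathlib.CategoryTheory.Functor.OfSequence
import Mathlib.Algebra.Homology.ShortComplex.ShortExact
import Mathlib.CategoryTheory.ObjectProperty.Basic
import Mathlib.Data.ENat.Basic
import Mathlib.CategoryTheory.Abelian.Exact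

/-!
# Resolutions of unbounded complexes by dimension shifting
-/

universe v u

open CategoryTheory Category Limits HomologicalComplex

set_option autoImplicit false
set_option linter.unusedSectionVars false
set_option backward.isDefEq.respectTransparency false

namespace Groth.Agent.CohDer42.DimShift

variable {A : Type u} [Category.{v} A] [Abelian A]

/-- a choice of embeddings -/
structure Emb (A : Type u) [Category.{v} A] where
  Y : A → A
  u : ∀ X, X ⟶ Y X
  mono : ∀ X, Mono (u X)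

variable (E : Emb A) (K : CochainComplex A ℤ)

/-- the relation defining the next complex -/
noncomputable def rel (n : ℤ) : K.X (n - 1) ⟶ E.Y (K.X (n - 1)) ⊞ E.Y (K.X n) :=
  biprod.lift (-(E.u _)) (K.d (n - 1) n ≫ E.u _)

lemma mono_rel (n : ℤ) : Mono (rel E K n) := by
  have := E.mono (K.X (n - 1))
  have : Mono (-(E.u (K.X (n - 1)))) := by
    rw [Preadditive.mono_iff_cancel_zero]
    intro T g hg
    rw [Preadditive.comp_neg, neg_eq_zero] at hg
    exact zero_of_comp_mono _ hg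
  exact mono_of_mono_fac (show rel E K n ≫ biprod.fst = -(E.u _) by simp [rel])

lemma Yeq {i j : ℤ} (h : i = j - 1) : E.Y (K.X i) = E.Y (K.X (j - 1)) := by rw [h]

/-- the transition between consecutive terms -/
noncomputable def θ (i j : ℤ) : E.Y (K.X i) ⟶ cokernel (rel E K j) :=
  if h : i = j - 1 then eqToHom (Yeq E K h) ≫ biprod.inl ≫ cokernel.π (rel E K j) else 0

lemma θ_self (j : ℤ) : θ E K (j - 1) j = biprod.inl ≫ cokernel.π (rel E K j) := by
  simp [θ]

lemma rel_π (j : ℤ) :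
    (K.d (j - 1) j ≫ E.u _) ≫ biprod.inr ≫ cokernel.π (rel E K j) =
      E.u _ ≫ biprod.inl ≫ cokernel.π (rel E K j) := by
  have h := cokernel.condition (rel E K j)
  simp only [rel, biprod.lift_eq, Preadditive.add_comp, Preadditive.neg_comp, assoc] at h
  rw [neg_add_eq_zero] at h
  simp only [assoc, rel]
  exact h.symm

lemma d_u_θ (k i j : ℤ) : K.d k i ≫ E.u (K.X i) ≫ θ E K i j = 0 := by
  by_cases h : i = j - 1
  · subst h
    rw [θ_self, ← rel_π]
    simp
  · simp [θ, dif_neg h]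

/-- the next complex -/
noncomputable def next : CochainComplex A ℤ where
  X n := cokernel (rel E K n)
  d i j := cokernel.desc _ (biprod.snd ≫ θ E K i j) (by simp [rel, d_u_θ])
  shape i j h := by
    have h' : ¬ i = j - 1 := fun h' => h (show i + 1 = j by omega)
    rw [← cancel_epi (cokernel.π (rel E K i))]
    simp [θ, dif_neg h']
  d_comp_d' i j k hij _ := by
    obtain rfl : i + 1 = j := hij
    rw [← cancel_epi (cokernel.π (rel E K i))]
    simp only [cokernel.π_desc_assoc, comp_zero, assoc]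
    obtain ⟨m, rfl⟩ : ∃ m, i = m - 1 := ⟨i + 1, by omega⟩
    by_cases hm : m - 1 = m - 1 + 1 - 1
    · simp [θ, dif_pos hm]
    · omega

lemma π_next_d (i j : ℤ) :
    cokernel.π (rel E K i) ≫ (next E K).d i j = biprod.snd ≫ θ E K i j :=
  cokernel.π_desc _ _ _

/-- the map to the next complex -/
noncomputable def α : K ⟶ next E K where
  f n := E.u (K.X n) ≫ biprod.inr ≫ cokernel.π (rel E K n)
  comm' i j hij := by
    obtain rfl : i = j - 1 := by change i + 1 = j at hij; omega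
    rw [assoc, assoc, π_next_d, biprod.inr_snd_assoc, θ_self, ← rel_π, assoc]

lemma α_f (n : ℤ) : (α E K).f n = E.u (K.X n) ≫ biprod.inr ≫ cokernel.π (rel E K n) := rfl

lemma exists_rep {T : A} {n : ℤ} (y : T ⟶ (next E K).X n) :
    ∃ (T' : A) (π : T' ⟶ T) (_ : Epi π) (a : T' ⟶ E.Y (K.X (n - 1))) (b : T' ⟶ E.Y (K.X n)),
      π ≫ y = (a ≫ biprod.inl + b ≫ biprod.inr) ≫ cokernel.π (rel E K n) := by
  obtain ⟨T', π, hπ, c, hc⟩ := surjective_up_to_refinements_of_epi (cokernel.π (rel E K n)) y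
  refine ⟨T', π, hπ, c ≫ biprod.fst, c ≫ biprod.snd, hc.trans ?_⟩
  congr 1
  simp only [assoc, ← Preadditive.comp_add, biprod.total, comp_id]

lemma comp_next_d {T : A} (j : ℤ) (a : T ⟶ E.Y (K.X (j - 1 - 1))) (b : T ⟶ E.Y (K.X (j - 1))) :
    ((a ≫ biprod.inl + b ≫ biprod.inr) ≫ cokernel.π (rel E K (j - 1))) ≫ (next E K).d (j - 1) j =
      (b ≫ biprod.inl) ≫ cokernel.π (rel E K j) := by
  rw [assoc, π_next_d, θ_self, Preadditive.add_comp]
  simp

lemma exists_rel_of_eq_zero {T : A} {j : ℤ} (c : T ⟶ E.Y (K.X (j - 1)) ⊞ E.Y (K.X j))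
    (hc : c ≫ cokernel.π (rel E K j) = 0) :
    ∃ (T' : A) (π : T' ⟶ T) (_ : Epi π) (k : T' ⟶ K.X (j - 1)),
      π ≫ c ≫ biprod.fst = -(k ≫ E.u _) ∧ π ≫ c ≫ biprod.snd = k ≫ K.d (j - 1) j ≫ E.u _ := by
  obtain ⟨T', π, hπ, k, hk⟩ := (ShortComplex.exact_cokernel (rel E K j)).exact_up_to_refinements c hc
  refine ⟨T', π, hπ, k, ?_, ?_⟩
  · have := congrArg (· ≫ biprod.fst) hk
    simpa [rel] using this
  · have := congrArg (· ≫ biprod.snd) hk
    simpa [rel] using this

theorem quasiIso_α : QuasiIso (α E K) := by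
  rw [quasiIso_iff]
  intro m
  rw [quasiIsoAt_iff_isIso_homologyMap]
  have : Epi (homologyMap (α E K) m) := by
    obtain ⟨m', rfl⟩ : ∃ m', m = m' - 1 := ⟨m + 1, by omega⟩
    rw [epi_homologyMap_iff_up_to_refinements _ (m' - 1 - 1) (m' - 1) m' (by simp) (by simp)]
    intro T y hy
    obtain ⟨T₁, π₁, _, a, b, hab⟩ := exists_rep E K y
    have h0 : (b ≫ biprod.inl) ≫ cokernel.π (rel E K m') = 0 := by
      rw [← comp_next_d E K m' a b, ← hab, assoc, hy, comp_zero]
    obtain ⟨T₂, π₂, _, k, hk₁, hk₂⟩ := exists_rel_of_eq_zero E K _ h0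
    simp only [assoc, biprod.inl_fst, biprod.inl_snd, comp_id, comp_zero] at hk₁ hk₂
    have := E.mono (K.X m')
    have hkd : k ≫ K.d (m' - 1) m' = 0 := zero_of_comp_mono (E.u (K.X m')) (by rw [assoc, ← hk₂])
    refine ⟨T₂, π₂ ≫ π₁, inferInstance, -k, by rw [Preadditive.neg_comp, hkd, neg_zero],
      (0 : T₂ ⟶ E.Y (K.X (m' - 1 - 1 - 1))) ≫ biprod.inl ≫ cokernel.π (rel E K (m' - 1 - 1)) +
        (π₂ ≫ a) ≫ biprod.inr ≫ cokernel.π (rel E K (m' - 1 - 1)), ?_⟩
    have e : (m' - 1 - 1 : ℤ) = (m' - 1) - 1 := rfl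
    rw [assoc, hab]
    simp only [zero_comp, zero_add, α_f, assoc, π_next_d, biprod.inr_snd_assoc, θ_self,
      Preadditive.neg_comp, Preadditive.comp_add, Preadditive.add_comp]
    rw [reassoc_of% hk₁, Preadditive.neg_comp, assoc]
    abel
  have : Mono (homologyMap (α E K) m) := by
    rw [mono_homologyMap_iff_up_to_refinements _ (m - 1) m (m + 1) (by simp) (by simp)]
    intro T x hx y hy
    obtain ⟨T₁, π₁, _, a, b, hab⟩ := exists_rep E K y
    have h0 : ((π₁ ≫ x ≫ E.u _) ≫ biprod.inr - b ≫ biprod.inl) ≫ cokernel.π (rel E K m) = 0 := by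
      have h := congrArg (π₁ ≫ ·) hy
      simp only [α_f] at h
      rw [← assoc π₁ y, hab, comp_next_d] at h
      rw [Preadditive.sub_comp, ← h]
      simp
    obtain ⟨T₂, π₂, _, k, -, hk₂⟩ := exists_rel_of_eq_zero E K _ h0
    have := E.mono (K.X m)
    refine ⟨T₂, π₂ ≫ π₁, inferInstance, k, ?_⟩
    rw [← cancel_mono (E.u (K.X m))]
    simpa [Preadditive.sub_comp, Preadditive.comp_sub] using hk₂
  exact isIso_of_mono_of_epi _

lemma isIso_α_f (n : ℤ) [IsIso (E.u (K.X (n - 1)))] [IsIso (E.u (K.X n))] : IsIso ((α E K).f n) := by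
  let g : (next E K).X n ⟶ K.X n := cokernel.desc (rel E K n)
    (biprod.desc (inv (E.u _) ≫ K.d (n - 1) n) (inv (E.u _))) (by simp [rel])
  refine ⟨g, by simp [α_f, g], ?_⟩
  change g ≫ (α E K).f n = 𝟙 (cokernel (rel E K n))
  rw [← cancel_epi (cokernel.π (rel E K n))]
  apply biprod.hom_ext'
  · simp only [g, α_f, cokernel.π_desc_assoc, biprod.inl_desc_assoc, assoc]
    have h := rel_π E K n
    simp only [assoc] at h
    rw [h, IsIso.inv_hom_id_assoc]
    exact congrArg (biprod.inl ≫ ·) (comp_id _).symm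
  · simp only [g, α_f, cokernel.π_desc_assoc, biprod.inr_desc_assoc, IsIso.inv_hom_id_assoc]
    exact congrArg (biprod.inr ≫ ·) (comp_id _).symm

/-- the stages -/
noncomputable def stage : ℕ → CochainComplex A ℤ
  | 0 => K
  | k + 1 => next E (stage k)

/-- the transition maps -/
noncomputable def stageMap (k : ℕ) : stage E K k ⟶ stage E K (k + 1) := α E (stage E K k)

lemma exists_qis_stage (k : ℕ) : ∃ f : K ⟶ stage E K k, QuasiIso f := by
  induction k with
  | zero => exact ⟨𝟙 K, (inferInstance : QuasiIso (𝟙 K))⟩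
  | succ k ih =>
    obtain ⟨f, _⟩ := ih
    have := quasiIso_α E (stage E K k)
    exact ⟨f ≫ α E (stage E K k), (inferInstance : QuasiIso (f ≫ α E (stage E K k)))⟩

/-- the short exact sequence defining the next terms -/
noncomputable def relSC (n : ℤ) : ShortComplex A :=
  ShortComplex.mk (rel E K n) (cokernel.π _) (cokernel.condition _)

lemma shortExact_relSC (n : ℤ) : (relSC E K n).ShortExact :=
  { exact := ShortComplex.exact_cokernel _, mono_f := mono_rel E K n,
    epi_g := inferInstanceAs (Epi (cokernel.π (rel E K n))) }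

section Dim

variable (d : A → ℕ∞) (hY : ∀ X, d (E.Y X) = 0)
  (h2 : ∀ X Y : A, d (X ⊞ Y) ≤ max (d X) (d Y))
  (h3 : ∀ S : ShortComplex A, S.ShortExact → d S.X₃ ≤ max (d S.X₁ - 1) (d S.X₂))

include hY h2 h3

lemma d_stage_le (k : ℕ) (n : ℤ) : d ((stage E K k).X n) ≤ d (K.X (n - k)) - k := by
  induction k generalizing n with
  | zero => simp [stage]
  | succ k ih =>
    have h := h3 _ (shortExact_relSC E (stage E K k) n)
    have h0 : d (E.Y ((stage E K k).X (n - 1)) ⊞ E.Y ((stage E K k).X n)) = 0 :=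
      le_antisymm ((h2 _ _).trans (by rw [hY, hY]; simp)) zero_le
    change d (cokernel (rel E (stage E K k) n)) ≤ _
    refine h.trans ?_
    change max (d ((stage E K k).X (n - 1)) - 1) (d (_ ⊞ _)) ≤ _
    rw [h0, max_eq_left zero_le]
    refine (tsub_le_tsub_right (ih (n - 1)) 1).trans ?_
    rw [tsub_tsub, show n - 1 - (k : ℤ) = n - ((k + 1 : ℕ) : ℤ) by push_cast; omega]
    push_cast
    exact le_rfl

theorem exists_resolution_of_bound (hid : ∀ X, d X = 0 → IsIso (E.u X))
    (hK : ∀ m : ℤ, ∃ N : ℤ, ∀ n : ℤ, n ≤ N → ∃ k : ℕ, d (K.X n) = k ∧ n + k ≤ m) :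
    ∃ (L : CochainComplex A ℤ) (f : K ⟶ L), QuasiIso f ∧ ∀ n, d (L.X n) = 0 ∨
      ∃ k, d ((stage E K k).X n) = 0 ∧ Nonempty ((stage E K k).X n ≅ L.X n) := by
  have hz : ∀ n : ℤ, ∃ k₀ : ℕ, ∀ k, k₀ ≤ k → d ((stage E K k).X n) = 0 := by
    intro n
    obtain ⟨N, hN⟩ := hK n
    refine ⟨(n - N).toNat, fun k hk => le_antisymm ((d_stage_le E K d hY h2 h3 k n).trans ?_) zero_le⟩
    obtain ⟨j, hj, hjn⟩ := hN (n - k) (by omega)
    rw [hj, nonpos_iff_eq_zero, tsub_eq_zero_iff_le]
    exact_mod_cast (show j ≤ k by omega)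
  choose k₀ hk₀ using hz
  let F := Functor.ofSequence (stageMap E K)
  let k₁ : ℤ → ℕ := fun n => max (k₀ (n - 1)) (k₀ n)
  have hev : ∀ n, (F ⋙ HomologicalComplex.eval A _ n).IsEventuallyConstantFrom (k₁ n) := by
    intro n j φ
    obtain ⟨t, rfl⟩ := Nat.exists_eq_add_of_le (leOfHom φ)
    induction t with
    | zero =>
      obtain rfl : φ = 𝟙 _ := Subsingleton.elim _ _
      rw [CategoryTheory.Functor.map_id]
      infer_instance
    | succ t ih =>
      have hs : IsIso ((F ⋙ HomologicalComplex.eval A _ n).map (homOfLE (Nat.le_add_right (k₁ n + t) 1))) := by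
        change IsIso ((F.map (homOfLE (Nat.le_add_right (k₁ n + t) 1))).f n)
        rw [Functor.ofSequence_map_homOfLE_succ]
        have h1 := le_max_left (k₀ (n - 1)) (k₀ n)
        have h2' := le_max_right (k₀ (n - 1)) (k₀ n)
        have : IsIso (E.u ((stage E K (k₁ n + t)).X (n - 1))) :=
          hid _ (hk₀ _ _ (by simp only [k₁]; omega))
        have : IsIso (E.u ((stage E K (k₁ n + t)).X n)) := hid _ (hk₀ _ _ (by simp only [k₁]; omega))
        exact isIso_α_f E (stage E K (k₁ n + t)) n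
      have := ih (homOfLE (Nat.le_add_right _ t))
      obtain rfl : φ = homOfLE (Nat.le_add_right (k₁ n) t) ≫
        homOfLE (Nat.le_add_right (k₁ n + t) 1) := Subsingleton.elim _ _
      rw [Functor.map_comp]
      infer_instance
  have : ∀ n, HasColimit (F ⋙ HomologicalComplex.eval A (ComplexShape.up ℤ) n) := fun n =>
    (hev n).hasColimit
  let c := coconeOfHasColimitEval F
  have hiso : ∀ n k, k₁ n ≤ k → IsIso ((c.ι.app k).f n) := fun n k hk =>
    ((hev n).postcomp (homOfLE hk)).isIso_ι_of_isColimit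
      (colimit.isColimit (F ⋙ HomologicalComplex.eval A (ComplexShape.up ℤ) n))
  refine ⟨c.pt, c.ι.app 0, ⟨fun n => ?_⟩, fun n => Or.inr ⟨k₁ n, hk₀ n _ (le_max_right _ _), ?_⟩⟩
  · let k := max (k₁ (n - 1)) (max (k₁ n) (k₁ (n + 1)))
    have hq : ∀ j, QuasiIso (F.map (homOfLE (Nat.zero_le j))) := fun j => by
      induction j with
      | zero =>
        rw [show homOfLE (Nat.zero_le 0) = 𝟙 0 from rfl, CategoryTheory.Functor.map_id]
        infer_instance
      | succ j ih =>
        rw [show homOfLE (Nat.zero_le (j + 1)) = homOfLE (Nat.zero_le j) ≫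
          homOfLE (Nat.le_add_right j 1) from rfl, Functor.map_comp,
          Functor.ofSequence_map_homOfLE_succ]
        have : QuasiIso (stageMap E K j) := quasiIso_α E (stage E K j)
        infer_instance
    have := hq k
    have hqa : QuasiIsoAt (c.ι.app k) n := by
      rw [quasiIsoAt_iff' _ (n - 1) n (n + 1) (by simp) (by simp)]
      let φ := (shortComplexFunctor' A (ComplexShape.up ℤ) (n - 1) n (n + 1)).map (c.ι.app k)
      have : IsIso φ.τ₁ := hiso (n - 1) k (by simp only [k]; omega)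
      have : IsIso φ.τ₂ := hiso n k (by simp only [k]; omega)
      have : IsIso φ.τ₃ := hiso (n + 1) k (by simp only [k]; omega)
      exact ShortComplex.quasiIso_of_epi_of_isIso_of_mono φ
    rw [← c.w (homOfLE (Nat.zero_le k))]
    infer_instance
  · exact ⟨@asIso _ _ _ _ _ (hiso n (k₁ n) le_rfl)⟩

end Dim

section Class

variable (P : ObjectProperty A)

/-- `k`-th images of objects of `P` -/
def R : ℕ → A → Prop
  | 0, _ => True
  | k + 1, Z => ∃ S : ShortComplex A, S.ShortExact ∧ P S.X₂ ∧ Nonempty (S.X₃ ≅ Z) ∧ R k S.X₁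

lemma R_stage (hY : ∀ X, P (E.Y X)) (hsum : ∀ X Y, P X → P Y → P (X ⊞ Y)) (k : ℕ) (n : ℤ) :
    R P k ((stage E K k).X n) := by
  induction k generalizing n with
  | zero => trivial
  | succ k ih =>
    exact ⟨relSC E (stage E K k) n, shortExact_relSC E _ n, hsum _ _ (hY _) (hY _), ⟨Iso.refl _⟩, ih _⟩

/-- tails of a resolution -/
structure Tail (Z W : A) (m : ℕ) where
  C : CochainComplex A ℕ
  exAt : ∀ i, 1 ≤ i → i ≤ m → C.ExactAt i
  isZero : ∀ i, m < i → IsZero (C.X i)
  epi : 1 ≤ m → Epi (C.d (m - 1) m)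
  prop : ∀ i, i < m → P (C.X i)
  iso : Nonempty (C.X m ≅ W)
  ι : Z ⟶ C.X 0
  mono : Mono ι
  w : ι ≫ C.d 0 1 = 0
  ex : (ShortComplex.mk ι (C.d 0 1) w).Exact

lemma nonempty_tail_cons {S : ShortComplex A} (hS : S.ShortExact) (hP : P S.X₂) {W : A} {m : ℕ}
    (T : Tail P S.X₃ W m) : Nonempty (Tail P S.X₁ W (m + 1)) := by
  have := hS.mono_f
  have := hS.epi_g
  have := T.mono
  let f := S.g ≫ T.ι
  have hw : f ≫ T.C.d 0 1 = 0 := by simp [f, T.w]
  let C' := T.C.augment f hw
  refine ⟨{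
    C := C', exAt := ?_, isZero := ?_, epi := ?_, prop := ?_, iso := ?_, ι := S.f,
    mono := inferInstance, w := (S.zero_assoc _).trans zero_comp, ex := ?_ }⟩
  · intro i hi him
    obtain ⟨j, rfl⟩ : ∃ j, i = j + 1 := ⟨i - 1, by omega⟩
    rcases j with _ | j
    · rw [exactAt_iff' _ 0 1 2 (by simp) (by simp), ShortComplex.exact_iff_exact_up_to_refinements]
      intro T' x hx
      obtain ⟨T₁, π₁, _, z, hz⟩ := T.ex.exact_up_to_refinements x hx
      obtain ⟨T₂, π₂, _, y, hy⟩ := surjective_up_to_refinements_of_epi S.g z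
      refine ⟨T₂, π₂ ≫ π₁, inferInstance, y, ?_⟩
      change (π₂ ≫ π₁) ≫ x = y ≫ S.g ≫ T.ι
      rw [assoc, hz, reassoc_of% hy]
    · rw [exactAt_iff' _ (j + 1) (j + 2) (j + 3) (by simp) (by simp)]
      have h := T.exAt (j + 1) (by omega) (by omega)
      rw [exactAt_iff' _ j (j + 1) (j + 2) (by simp) (by simp)] at h
      exact h
  · intro i hi
    obtain ⟨j, rfl⟩ : ∃ j, i = j + 1 := ⟨i - 1, by omega⟩
    exact T.isZero j (by omega)
  · intro _
    rcases m with _ | m
    · change Epi f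
      have hd : T.C.d 0 1 = 0 := (T.isZero 1 Nat.zero_lt_one).eq_of_tgt _ _
      have : Epi T.ι := T.ex.epi_f hd
      exact epi_comp _ _
    · exact T.epi (by omega)
  · intro i hi
    rcases i with _ | i
    · exact hP
    · exact T.prop i (by omega)
  · exact T.iso
  · rw [ShortComplex.exact_iff_exact_up_to_refinements]
    intro T' x hx
    exact hS.exact.exact_up_to_refinements x ((cancel_mono T.ι).1
      ((assoc _ _ _).trans (hx.trans zero_comp.symm)))

lemma exists_tail : ∀ (k : ℕ) (Z : A), R P k Z → ∀ {W : A} {m : ℕ}, Tail P Z W m →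
    ∃ Z', Nonempty (Tail P Z' W (k + m))
  | 0, Z, _, W, m, T => ⟨Z, ⟨(Nat.zero_add m).symm ▸ T⟩⟩
  | k + 1, Z, ⟨S, hS, hP, ⟨e⟩, hR⟩, W, m, T => by
    have := T.mono
    have hw : (e.hom ≫ T.ι) ≫ T.C.d 0 1 = 0 := by rw [assoc, T.w, comp_zero]
    let T' : Tail P S.X₃ W m :=
      { T with
        ι := e.hom ≫ T.ι
        mono := inferInstance
        w := hw
        ex := ShortComplex.exact_of_iso (ShortComplex.isoMk (S₁ := ShortComplex.mk T.ι _ T.w)
          (S₂ := ShortComplex.mk (e.hom ≫ T.ι) _ hw) e.symm (Iso.refl _) (Iso.refl _) (by simp) (by simp)) T.ex }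
    obtain ⟨T''⟩ := nonempty_tail_cons P hS hP T'
    obtain ⟨Z', hZ'⟩ := exists_tail k S.X₁ hR T''
    exact ⟨Z', by rwa [show k + 1 + m = k + (m + 1) by omega]⟩

lemma nonempty_tail_base (Z : A) : Nonempty (Tail P Z Z 0) := by
  let C := (CochainComplex.single₀ A).obj Z
  have hz : ∀ i, 0 < i → IsZero (C.X i) := fun i hi =>
    HomologicalComplex.isZero_single_obj_X _ _ _ _ (by omega)
  let e : C.X 0 ≅ Z := HomologicalComplex.singleObjXSelf (ComplexShape.up ℕ) 0 Z
  have hd : C.d 0 1 = 0 := (hz 1 Nat.zero_lt_one).eq_of_tgt _ _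
  exact ⟨{
    C := C, exAt := fun i h1 h2 => by omega, isZero := hz, epi := fun h => by omega,
    prop := fun i hi => by omega, iso := ⟨e⟩, ι := e.inv, mono := inferInstance,
    w := by rw [hd, comp_zero],
    ex := (ShortComplex.exact_iff_epi _ hd).2 (show Epi e.inv from inferInstance) }⟩

theorem exists_resolution_of_class [P.IsClosedUnderIsomorphisms] (hY : ∀ X, P (E.Y X))
    (hsum : ∀ X Y, P X → P Y → P (X ⊞ Y)) (n : ℕ)
    (h3 : ∀ K : CochainComplex A ℕ, (∀ i : ℕ, 1 ≤ i → i ≤ n → K.ExactAt i) → (∀ i : ℕ, n < i → IsZero (K.X i)) →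
      Epi (K.d (n - 1) n) → (∀ i : ℕ, i < n → P (K.X i)) → P (K.X n)) (hn : 1 ≤ n) :
    ∃ (L : CochainComplex A ℤ) (f : K ⟶ L), QuasiIso f ∧ ∀ i, P (L.X i) := by
  obtain ⟨f, hf⟩ := exists_qis_stage E K n
  refine ⟨_, f, hf, fun i => ?_⟩
  obtain ⟨T₀⟩ := nonempty_tail_base P ((stage E K n).X i)
  obtain ⟨Z', ⟨T⟩⟩ := exists_tail P n _ (R_stage E K P hY hsum n i) T₀
  exact P.prop_of_iso T.iso.some (h3 T.C T.exAt T.isZero (T.epi hn) T.prop)

end Class

end Groth.Agent.CohDer42.DimShift
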