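import Mathlib.Algebra.Homology.DerivedCategory.Ext.ExactSequences
import Mathlib.Algebra.Homology.DerivedCategory.Fractions
import Mathlib.Algebra.Homology.DerivedCategory.FullyFaithful

/-!
# Ext classes of positive degree are killed by epimorphisms
-/

universe w v u

open CategoryTheory Category Limits DerivedCategory Abelian

set_option autoImplicit false
set_option backward.isDefEq.respectTransparency false

namespace Groth.Agent.CohDer42

variable {A : Type u} [Category.{v} A] [Abelian A]

lemma exists_epi_kill_hom [HasDerivedCategory.{w} A] {X Y : A} (m : ℤ) (hm : m ≠ 0)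
    (φ : (singleFunctor A 0).obj X ⟶ (singleFunctor A m).obj Y) :
    ∃ (X' : A) (p : X' ⟶ X), Epi p ∧ (singleFunctor A 0).map p ≫ φ = 0 := by
  obtain ⟨L, _, s, _, g, hφ⟩ := right_fac_of_isStrictlyLE
    (X := (CochainComplex.singleFunctor A 0).obj X)
    (Y := (CochainComplex.singleFunctor A m).obj Y) φ 0
  let ι : (CochainComplex.singleFunctor A 0).obj (L.X 0) ⟶ L :=
    HomologicalComplex.mkHomFromSingle (𝟙 _) (fun k hk => by
      rw [id_comp]
      refine IsZero.eq_of_tgt (L.isZero_of_isStrictlyLE 0 k ?_) _ _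
      simp at hk; lia)
  let p : L.X 0 ⟶ X := (CochainComplex.singleFunctor A 0).preimage (ι ≫ s)
  have hp : (CochainComplex.singleFunctor A 0).map p = ι ≫ s := Functor.map_preimage _ _
  have hι : (CochainComplex.singleFunctor A 0).obj (L.X 0) = (HomologicalComplex.single A _ 0).obj (L.X 0) :=
    rfl
  refine ⟨_, p, ⟨fun {W} a b hab => ?_⟩, ?_⟩
  · rw [← sub_eq_zero]
    apply (singleFunctor A 0).map_injective
    rw [Functor.map_zero]
    change Q.map ((CochainComplex.singleFunctor A 0).map (a - b)) = 0
    rw [← cancel_epi (Q.map s), comp_zero, ← Functor.map_comp]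
    have h0 : p ≫ (a - b) = 0 := by rw [Preadditive.comp_sub, hab, sub_self]
    have h1 := congrArg (fun f => ((CochainComplex.singleFunctor A 0).map f).f 0) h0
    simp only [Functor.map_comp, Functor.map_zero] at h1
    rw [hp] at h1
    have h2 : s ≫ (CochainComplex.singleFunctor A 0).map (a - b) = 0 := by
      apply HomologicalComplex.to_single_hom_ext
      have : IsIso (ι.f 0) := by
        simp only [ι, HomologicalComplex.mkHomFromSingle_f]
        infer_instance
      rw [← cancel_epi (ι.f 0)]
      simpa using h1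
    rw [h2, Functor.map_zero]
  · change Q.map ((CochainComplex.singleFunctor A 0).map p) ≫ φ = 0
    rw [hp, hφ, Functor.map_comp, assoc, IsIso.hom_inv_id_assoc, ← Functor.map_comp]
    have : ι ≫ g = 0 := by
      apply HomologicalComplex.to_single_hom_ext
      exact IsZero.eq_of_src (HomologicalComplex.isZero_single_obj_X _ _ _ _ hm) _ _
    rw [this, Functor.map_zero]

/-- effaceability of Ext classes of positive degree -/
theorem exists_epi_kill_ext [HasExt.{w} A] {X Y : A} {n : ℕ} (x : Ext X Y (n + 1)) :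
    ∃ (X' : A) (p : X' ⟶ X), Epi p ∧ (Ext.mk₀ p).comp x (zero_add (n + 1)) = 0 := by
  let := HasDerivedCategory.standard A
  let e := ((singleFunctors A).shiftIso ((n + 1 : ℕ) : ℤ) (-((n + 1 : ℕ) : ℤ)) 0 (by simp)).app Y
  obtain ⟨X', p, hp, h⟩ := exists_epi_kill_hom (-((n + 1 : ℕ) : ℤ)) (by lia) (x.hom ≫ e.hom)
  refine ⟨X', p, hp, ?_⟩
  ext
  simp only [Ext.comp_hom, Ext.mk₀_hom, ShiftedHom.mk₀_comp, Ext.zero_hom]
  rw [← cancel_mono e.hom, assoc, zero_comp]
  exact h

/-- vanishing of Ext in one degree propagates to higher degrees -/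
theorem ext_eq_zero_of_le [HasExt.{w} A] (p : ℕ) (h : ∀ (B C : A) (x : Ext B C p), x = 0) :
    ∀ (k : ℕ) (B C : A) (x : Ext B C (p + k)), x = 0
  | 0, B, C, x => h B C x
  | k + 1, B, C, x => by
    obtain ⟨B', q, hq, hx⟩ := exists_epi_kill_ext (n := p + k) x
    have hS : (ShortComplex.mk (kernel.ι q) q (kernel.condition q)).ShortExact :=
      { exact := ShortComplex.exact_kernel q }
    obtain ⟨y, hy⟩ := Ext.contravariant_sequence_exact₃ hS C x hx (n₀ := p + k) (by lia)
    rw [← hy, ext_eq_zero_of_le p h k _ _ y, Ext.comp_zero]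

end Groth.Agent.CohDer42
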