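import Groth.Agent.CohDer42.FunCatInj
import Groth.Prelude.Def_SpSeq
import Mathlib.Algebra.Homology.HomotopyCategory.DegreewiseSplit
import Mathlib.Algebra.Homology.HomologySequenceLemmas
import Mathlib.Algebra.Homology.HomologicalComplexAbelian

/-!
# Filtered K-injective resolutions
-/

universe v u

open CategoryTheory Category Limits Opposite SpSeq

set_option autoImplicit false
set_option linter.unusedSectionVars false
set_option backward.isDefEq.respectTransparency false

namespace Groth.Agent.CohDer42.FilKInj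

variable {A : Type u} [Category.{v} A] [Abelian A]

lemma injective_cokernel {X Y : A} (f : X ⟶ Y) [Mono f] [Injective X] [Injective Y] :
    Injective (cokernel f) :=
  Retract.injective (Y := Y)
    { i := cokernel.desc f (𝟙 Y - Injective.factorThru (𝟙 X) f ≫ f) (by simp)
      r := cokernel.π f
      retract := by rw [← cancel_epi (cokernel.π f)]; simp }

lemma injective_of_splitting {S : ShortComplex A} (s : S.Splitting) [Injective S.X₂] :
    Injective S.X₁ :=
  Retract.injective (Y := S.X₂) { i := S.f, r := s.r, retract := s.f_r }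

section KInj

variable (S : ShortComplex (CochainComplex A ℤ))
  (σ : ∀ n, (S.map (HomologicalComplex.eval A _ n)).Splitting)

lemma dist : CochainComplex.trianglehOfDegreewiseSplit S σ ∈
    Pretriangulated.distinguishedTriangles :=
  (HomotopyCategory.distinguished_iff_iso_trianglehOfDegreewiseSplit _).2 ⟨S, σ, ⟨Iso.refl _⟩⟩

include σ in
lemma isKInjective_X₁ [S.X₂.IsKInjective] [S.X₃.IsKInjective] : S.X₁.IsKInjective :=
  (CochainComplex.isKInjective_iff_rightOrthogonal _).2
    (ObjectProperty.ext_of_isTriangulatedClosed₁ _ _ (dist S σ)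
      (CochainComplex.IsKInjective.rightOrthogonal S.X₂)
      (CochainComplex.IsKInjective.rightOrthogonal S.X₃))

include σ in
lemma isKInjective_X₃ [S.X₁.IsKInjective] [S.X₂.IsKInjective] : S.X₃.IsKInjective :=
  (CochainComplex.isKInjective_iff_rightOrthogonal _).2
    (ObjectProperty.ext_of_isTriangulatedClosed₃ _ _ (dist S σ)
      (CochainComplex.IsKInjective.rightOrthogonal S.X₁)
      (CochainComplex.IsKInjective.rightOrthogonal S.X₂))

end KInj

/-- The short complex of a monomorphism and its cokernel. -/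
noncomputable abbrev cokSC {C : Type*} [Category C] [Abelian C] {X Y : C} (f : X ⟶ Y) :
    ShortComplex C :=
  ShortComplex.mk f (cokernel.π f) (cokernel.condition f)

lemma cokSC_shortExact {C : Type*} [Category C] [Abelian C] {X Y : C} (f : X ⟶ Y) [Mono f] :
    (cokSC f).ShortExact where
  exact := ShortComplex.exact_of_g_is_cokernel _ (cokernelIsCokernel f)

/-- The short complex of the kernel subobject of an epimorphism. -/
noncomputable abbrev kerSC {C : Type*} [Category C] [Abelian C] {X Y : C} (f : X ⟶ Y) :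
    ShortComplex C :=
  ShortComplex.mk (kernelSubobject f).arrow f (kernelSubobject_arrow_comp f)

lemma kerSC_shortExact {C : Type*} [Category C] [Abelian C] {X Y : C} (f : X ⟶ Y) [Epi f] :
    (kerSC f).ShortExact where
  exact := (ShortComplex.exact_iff_of_iso (ShortComplex.isoMk (S₁ := kerSC f)
    (S₂ := ShortComplex.mk (kernel.ι f) f (kernel.condition f))
    (kernelSubobjectIso f) (Iso.refl _) (Iso.refl _) (by simp) (by simp))).2
      (ShortComplex.exact_of_f_is_kernel _ (kernelIsKernel f))

lemma isKInjective_cokernel {X Y : CochainComplex A ℤ} (f : X ⟶ Y) [Mono f]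
    [X.IsKInjective] [Y.IsKInjective] (hX : ∀ n, Injective (X.X n)) :
    (cokernel f).IsKInjective := by
  have : (cokSC f).X₁.IsKInjective := ‹X.IsKInjective›
  have : (cokSC f).X₂.IsKInjective := ‹Y.IsKInjective›
  exact isKInjective_X₃ (cokSC f) fun n => by
    have : Injective ((cokSC f).map (HomologicalComplex.eval A _ n)).X₁ := hX n
    exact ((cokSC_shortExact f).map_of_exact (HomologicalComplex.eval A _ n)).splittingOfInjective

lemma quasiIso_τ₁ {S₁ S₂ : ShortComplex (CochainComplex A ℤ)} (φ : S₁ ⟶ S₂)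
    (hS₁ : S₁.ShortExact) (hS₂ : S₂.ShortExact) (h₂ : QuasiIso φ.τ₂) (h₃ : QuasiIso φ.τ₃) :
    QuasiIso φ.τ₁ := by
  rw [quasiIso_iff]
  intro i
  rw [quasiIsoAt_iff_isIso_homologyMap]
  have i₁ : Epi (HomologicalComplex.homologyMap φ.τ₂ (i - 1)) := inferInstance
  have i₂ : IsIso (HomologicalComplex.homologyMap φ.τ₃ (i - 1)) := inferInstance
  have i₃ : IsIso (HomologicalComplex.homologyMap φ.τ₂ i) := inferInstance
  have i₄ : Mono (HomologicalComplex.homologyMap φ.τ₃ i) := inferInstance
  exact Abelian.isIso_of_epi_of_isIso_of_isIso_of_mono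
    (R₁ := ComposableArrows.δ₀Functor.obj (HomologicalComplex.HomologySequence.composableArrows₅
      hS₁ (i - 1) i (by simp)))
    (R₂ := ComposableArrows.δ₀Functor.obj (HomologicalComplex.HomologySequence.composableArrows₅
      hS₂ (i - 1) i (by simp)))
    (ComposableArrows.exact_iff_δ₀ _ |>.1
      (HomologicalComplex.HomologySequence.composableArrows₅_exact hS₁ (i - 1) i (by simp))).2
    (ComposableArrows.exact_iff_δ₀ _ |>.1
      (HomologicalComplex.HomologySequence.composableArrows₅_exact hS₂ (i - 1) i (by simp))).2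
    (ComposableArrows.δ₀Functor.map
      (HomologicalComplex.HomologySequence.mapComposableArrows₅ φ hS₁ hS₂ (i - 1) i (by simp)))
    i₁ i₂ i₃ i₄

/-- The index category: `WithTop ℤ`. -/
abbrev P : Type v := ULift.{v} (WithTop ℤ)

section Tower

variable (K : FilCx A)

/-- The filtration extended by `⊥` at `⊤`. -/
noncomputable def F (x : WithTop ℤ) : Subobject K.obj :=
  WithTop.recTopCoe ⊥ K.fil x

lemma F_anti : Antitone (F K) := by
  intro x y h
  induction y using WithTop.recTopCoe with
  | top => exact bot_le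
  | coe q =>
    induction x using WithTop.recTopCoe with
    | top => exact absurd (le_antisymm le_top h) WithTop.coe_ne_top
    | coe p => exact K.anti (WithTop.coe_le_coe.1 h)

/-- The tower of quotients `x ↦ K / F x`. -/
noncomputable def tower : P.{v}ᵒᵖ ⥤ CochainComplex A ℤ where
  obj x := cokernel (F K x.unop.down).arrow
  map {x y} h := cokernel.desc _ (cokernel.π (F K y.unop.down).arrow) (by
    rw [← Subobject.ofLE_arrow (F_anti K (@leOfHom P.{v} _ _ _ h.unop)), assoc, cokernel.condition, comp_zero])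
  map_id x := by
    rw [← cancel_epi (cokernel.π (F K x.unop.down).arrow)]
    simp
  map_comp {x y z} f g := by
    rw [← cancel_epi (cokernel.π (F K x.unop.down).arrow)]
    simp

/-- The tower as a complex of diagrams. -/
noncomputable def towerCx : CochainComplex (P.{v}ᵒᵖ ⥤ A) ℤ where
  X n := tower K ⋙ HomologicalComplex.eval A _ n
  d i j :=
    { app := fun x => ((tower K).obj x).d i j
      naturality := fun x y h => (((tower K).map h).comm i j) }
  shape i j h := by ext x; exact ((tower K).obj x).shape i j h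
  d_comp_d' i j k _ _ := by ext x; exact ((tower K).obj x).d_comp_d i j k

end Tower

variable [IsGrothendieckAbelian.{v} A]

/-- A filtered K-injective resolution. -/
theorem exists_resolution (K : FilCx A) :
    ∃ (J : FilCx A) (j : K ⟶ J),
      (∀ n, Injective (J.obj.X n)) ∧ J.obj.IsKInjective ∧
      (∀ p n, Injective ((J.step p).X n)) ∧ (∀ p, (J.step p).IsKInjective) ∧
      QuasiIso j.hom ∧
      ∀ p : ℤ, ∃ jp : K.step p ⟶ J.step p,
        jp ≫ (J.fil p).arrow = (K.fil p).arrow ≫ j.hom ∧ QuasiIso jp := by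
  obtain ⟨I, s, hIK, hII, hs⟩ := FunCatInj.exists_resolution (towerCx K)
  let G : P.{v}ᵒᵖ ⥤ CochainComplex A ℤ := I.asFunctor
  have hK' : ∀ t, (G.obj t).IsKInjective := fun t => FunCatInj.isKInjective_eval I t
  have hI' : ∀ t n, Injective ((G.obj t).X n) := fun t n => FunCatInj.injective_obj (I.X n) t
  let σ : ∀ t : P.{v}ᵒᵖ, (tower K).obj t ⟶ G.obj t := fun t =>
    { f := fun n => (s.f n).app t
      comm' := fun i j _ => NatTrans.congr_app (s.comm i j) t }
  have hσ : ∀ {x y} (h : x ⟶ y), (tower K).map h ≫ σ y = σ x ≫ G.map h := fun h => by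
    ext n; exact (s.f n).naturality h
  have hσq : ∀ t, QuasiIso (σ t) := fun t => hs t
  let top : P.{v}ᵒᵖ := op ⟨⊤⟩
  let lev : ℤ → P.{v}ᵒᵖ := fun p => op ⟨(p : WithTop ℤ)⟩
  let rr : ∀ p, top ⟶ lev p := fun p => (homOfLE (show (ULift.up (p : WithTop ℤ) : P.{v}) ≤ ⟨⊤⟩ from le_top (a := (p : WithTop ℤ)))).op
  let fil : ℤ → Subobject (G.obj top) := fun p => kernelSubobject (G.map (rr p))
  have anti : Antitone fil := fun p q h => by
    let t : lev q ⟶ lev p := (homOfLE (show (ULift.up (p : WithTop ℤ) : P.{v}) ≤ ⟨(q : WithTop ℤ)⟩ from (WithTop.coe_le_coe.2 h : (p : WithTop ℤ) ≤ q))).op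
    have e : G.map (rr p) = G.map (rr q) ≫ G.map t := by
      rw [← G.map_comp]; congr 1
    change kernelSubobject _ ≤ kernelSubobject _
    rw [e]
    exact kernelSubobject_comp_le _ _
  let J : FilCx A := ⟨G.obj top, fil, anti⟩
  let j₀ : K.obj ⟶ G.obj top := cokernel.π (F K ⊤).arrow ≫ σ top
  have hj₀ : QuasiIso j₀ := by
    have : (F K ⊤).arrow = 0 := Subobject.bot_arrow
    have : IsIso (cokernel.π (F K ⊤).arrow) :=
      ⟨cokernel.desc _ (𝟙 _) (by simp [this]), by simp,
        by rw [← cancel_epi (cokernel.π (F K ⊤).arrow)]; simp⟩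
    have := hσq top
    infer_instance
  have hcomm : ∀ p, j₀ ≫ G.map (rr p) = cokernel.π (K.fil p).arrow ≫ σ (lev p) := fun p => by
    rw [assoc, ← hσ, ← assoc]
    congr 1
    exact cokernel.π_desc _ _ _
  have hzero : ∀ p, ((K.fil p).arrow ≫ j₀) ≫ G.map (rr p) = 0 := fun p => by
    rw [assoc, hcomm, ← assoc, cokernel.condition, zero_comp]
  let jp : ∀ p, K.step p ⟶ J.step p := fun p =>
    factorThruKernelSubobject _ _ (hzero p)
  have hjp : ∀ p, jp p ≫ (J.fil p).arrow = (K.fil p).arrow ≫ j₀ := fun p =>
    factorThruKernelSubobject_comp_arrow _ _ _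
  let j : K ⟶ J := ⟨j₀, fun p => Subobject.le_of_comm
    ((Subobject.isPullback j₀ (J.fil p)).lift (jp p) (K.fil p).arrow (hjp p))
    ((Subobject.isPullback j₀ (J.fil p)).lift_snd _ _ _)⟩
  have hsplit : ∀ p n, IsSplitEpi ((G.map (rr p)).f n) := fun p n =>
    FunCatInj.isSplitEpi_map (I.X n) (rr p)
  have hepi : ∀ p, Epi (G.map (rr p)) := fun p => by
    have : ∀ n, Epi ((G.map (rr p)).f n) := fun n => by have := hsplit p n; infer_instance
    exact HomologicalComplex.epi_of_epi_f _ this
  let spl : ∀ p n, ((kerSC (G.map (rr p))).map (HomologicalComplex.eval A _ n)).Splitting :=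
    fun p n =>
      haveI := hepi p
      haveI := hsplit p n
      ShortComplex.Splitting.ofExactOfSection _
        ((kerSC_shortExact (G.map (rr p))).map_of_exact (HomologicalComplex.eval A _ n)).exact
        (section_ ((G.map (rr p)).f n)) (IsSplitEpi.id _)
        ((kerSC_shortExact (G.map (rr p))).map_of_exact (HomologicalComplex.eval A _ n)).mono_f
  refine ⟨J, j, hI' top, hK' top, fun p n => ?_, fun p => ?_, hj₀, fun p => ⟨jp p, hjp p, ?_⟩⟩
  · have : Injective ((kerSC (G.map (rr p))).map (HomologicalComplex.eval A _ n)).X₂ := hI' top n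
    exact injective_of_splitting (spl p n)
  · have : (kerSC (G.map (rr p))).X₂.IsKInjective := hK' top
    have : (kerSC (G.map (rr p))).X₃.IsKInjective := hK' (lev p)
    exact isKInjective_X₁ _ (spl p)
  · have := hepi p
    exact quasiIso_τ₁ (S₁ := cokSC (K.fil p).arrow) (S₂ := kerSC (G.map (rr p)))
      { τ₁ := jp p, τ₂ := j₀, τ₃ := σ (lev p), comm₁₂ := hjp p, comm₂₃ := hcomm p }
      (cokSC_shortExact _) (kerSC_shortExact _) hj₀ (hσq _)

end Groth.Agent.CohDer42.FilKInj
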