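import Groth.Agent.CohDer42.RightDer
import Groth.Agent.CohDer42.DimShift
import Groth.Agent.CohDer42.DerivedByClass
import Mathlib.CategoryTheory.Abelian.RightDerived
import Mathlib.Algebra.Homology.DerivedCategory.ExactFunctor

/-!
# Right derived functors of functors of finite cohomological dimension
-/

universe w w' v v' u u'

open CategoryTheory Category Limits HomologicalComplex
open scoped ZeroObject

set_option autoImplicit false
set_option linter.unusedSectionVars false
set_option backward.isDefEq.respectTransparency false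

namespace Groth.Agent.CohDer42.FiniteDim

variable {A : Type u} [Category.{v} A] [Abelian A]

/-- the short complex of cycles -/
noncomputable def cycSC {ι : Type*} {c : ComplexShape ι} (M : HomologicalComplex A c) (i j : ι) :
    ShortComplex A :=
  ShortComplex.mk (M.iCycles i) (M.toCycles i j)
    (by rw [← cancel_mono (M.iCycles j), assoc, toCycles_i, iCycles_d, zero_comp])

lemma shortExact_cycSC {ι : Type*} {c : ComplexShape ι} (M : HomologicalComplex A c) (i j : ι)
    (hj : c.prev j = i) (hi : c.next i = j) (h : M.ExactAt j) : (cycSC M i j).ShortExact := by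
  have he : Epi (M.toCycles i j) := by
    refine Preadditive.epi_of_cancel_zero _ fun {T} g hg => ?_
    obtain ⟨l, hl⟩ := CokernelCofork.IsColimit.desc' (M.homologyIsCokernel i j hj) g hg
    rw [← hl]
    change M.homologyπ j ≫ l = 0
    rw [((exactAt_iff_isZero_homology _ _).1 h).eq_of_src l 0, comp_zero]
  have : Mono (cycSC M i j).f := inferInstanceAs (Mono (M.iCycles i))
  refine { exact := ?_, epi_g := he, mono_f := this }
  refine ShortComplex.exact_of_f_is_kernel _ ?_
  refine KernelFork.IsLimit.ofι' _ _ fun {T} x hx => ?_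
  have hx' : x ≫ M.toCycles i j = 0 := hx
  exact ⟨M.liftCycles x j hi (by
    rw [← M.toCycles_i i j, reassoc_of% hx', zero_comp]), M.liftCycles_i _ _ _ _⟩

lemma acyclic_map_of_shortExact {B : Type u'} [Category.{v'} B] [Abelian B] (F : A ⥤ B) [F.Additive]
    (M : CochainComplex A ℤ) (hS : ∀ n, ((cycSC M n (n + 1)).map F).ShortExact) :
    ((F.mapHomologicalComplex (ComplexShape.up ℤ)).obj M).Acyclic := by
  intro n
  rw [exactAt_iff' _ (n - 1) n (n + 1) (by simp) (by simp)]
  let T := ShortComplex.mk (F.map (M.toCycles (n - 1) n) ≫ F.map (M.iCycles n))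
    (F.map (M.toCycles n (n + 1)))
    (by rw [assoc, ← F.map_comp (M.iCycles n),
      show M.iCycles n ≫ M.toCycles n (n + 1) = 0 from (cycSC M n (n + 1)).zero, F.map_zero, comp_zero])
  have hT : T.Exact := by
    have he : Epi (F.map (M.toCycles (n - 1) n)) := by
      have h := (hS (n - 1)).epi_g
      change Epi (F.map (M.toCycles (n - 1) (n - 1 + 1))) at h
      rwa [sub_add_cancel] at h
    let φ : T ⟶ (cycSC M n (n + 1)).map F :=
      { τ₁ := F.map (M.toCycles (n - 1) n), τ₂ := 𝟙 _, τ₃ := 𝟙 _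
        comm₁₂ := by simp [T, cycSC]
        comm₂₃ := by simp [T, cycSC] }
    have : Epi φ.τ₁ := he
    have : IsIso φ.τ₂ := inferInstanceAs (IsIso (𝟙 _))
    have : Mono φ.τ₃ := inferInstanceAs (Mono (𝟙 _))
    exact (ShortComplex.exact_iff_of_epi_of_isIso_of_mono φ).2 (hS n).exact
  let ψ : T ⟶ ((F.mapHomologicalComplex (ComplexShape.up ℤ)).obj M).sc' (n - 1) n (n + 1) :=
    { τ₁ := 𝟙 _, τ₂ := 𝟙 _, τ₃ := F.map (M.iCycles (n + 1))
      comm₁₂ := by
        simp only [id_comp, comp_id, T]
        exact (congrArg F.map (M.toCycles_i (n - 1) n)).symm.trans (F.map_comp _ _)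
      comm₂₃ := by
        simp only [id_comp, T]
        exact ((F.map_comp _ _).symm.trans (congrArg F.map (M.toCycles_i n (n + 1)))).symm }
  have : Epi ψ.τ₁ := inferInstanceAs (Epi (𝟙 _))
  have : IsIso ψ.τ₂ := inferInstanceAs (IsIso (𝟙 _))
  have : Mono ψ.τ₃ := (hS (n + 1)).mono_f
  exact (ShortComplex.exact_iff_of_epi_of_isIso_of_mono ψ).1 hT

lemma enoughInjectives [HasInjectiveResolutions A] : EnoughInjectives A := by
  refine ⟨fun X => ?_⟩
  obtain ⟨R⟩ := HasInjectiveResolution.out (Z := X)
  exact ⟨⟨_, R.injective 0, R.ι.f 0, (inferInstance : Mono (R.ι.f 0))⟩⟩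

variable [EnoughInjectives A] {B : Type u'} [Category.{v'} B] [Abelian B] (F : A ⥤ B) [F.Additive]

/-- acyclic objects -/
def Ac : ObjectProperty A := fun X => ∀ i : ℕ, 0 < i → IsZero ((F.rightDerived i).obj X)

instance : (Ac F).IsClosedUnderIsomorphisms :=
  ⟨fun e h i hi => (h i hi).of_iso ((F.rightDerived i).mapIso e.symm)⟩

lemma ac_injective (X : A) [Injective X] : Ac F X := fun i hi => by
  obtain ⟨j, rfl⟩ : ∃ j, i = j + 1 := ⟨i - 1, by omega⟩
  exact F.isZero_rightDerived_obj_injective_succ j X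

lemma exists_mono_ac (X : A) : ∃ (Y : A) (i : X ⟶ Y), Ac F Y ∧ Mono i :=
  ⟨_, Injective.ι X, ac_injective F _, inferInstance⟩

/-- dimension shift along a short exact sequence -/
lemma isZero_rightDerived_X₃ {S : ShortComplex A} (hS : S.ShortExact) (j : ℕ)
    (h₁ : IsZero ((F.rightDerived (j + 1)).obj S.X₁)) (h₂ : IsZero ((F.rightDerived j).obj S.X₂)) :
    IsZero ((F.rightDerived j).obj S.X₃) := by
  obtain ⟨Δ⟩ := RD97.nonempty_derivedLES F
  exact (Δ.exact₃ S hS j (j + 1) rfl).isZero_X₂ (h₂.eq_of_src _ _) (h₁.eq_of_tgt _ _)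

variable (n : ℕ) (hn : ∀ X : A, IsZero ((F.rightDerived n).obj X))
include hn

lemma isZero_rightDerived_of_le (j : ℕ) (hj : n ≤ j) (X : A) : IsZero ((F.rightDerived j).obj X) := by
  obtain ⟨Δ⟩ := RD97.nonempty_derivedLES F
  induction hj generalizing X with
  | refl => exact hn X
  | step h ih =>
    rename_i j
    let S := ShortComplex.mk (Injective.ι X) (cokernel.π _) (cokernel.condition _)
    have hS : S.ShortExact := { exact := ShortComplex.exact_cokernel _ }
    exact (Δ.exact₁ S hS j (j + 1) rfl).isZero_X₂ ((ih S.X₃).eq_of_src _ _)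
      ((F.isZero_rightDerived_obj_injective_succ j (Injective.under X)).eq_of_tgt _ _)

lemma ac_of_exact (K : CochainComplex A ℕ) (m : ℕ) (hm : n ≤ m)
    (hex : ∀ i : ℕ, 1 ≤ i → i ≤ m → K.ExactAt i) (hz : ∀ i : ℕ, m < i → IsZero (K.X i))
    (hK : ∀ i : ℕ, i < m → Ac F (K.X i)) : Ac F (K.X m) := by
  have key : ∀ k, k ≤ m → ∀ j, 0 < j → n ≤ j + k → IsZero ((F.rightDerived j).obj (K.cycles k)) := by
    intro k
    induction k with
    | zero => exact fun _ j _ hj => isZero_rightDerived_of_le F n hn j hj _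
    | succ k ih =>
      intro hk j hj hjk
      exact isZero_rightDerived_X₃ F
        (shortExact_cycSC K k (k + 1) (by simp) (by simp) (hex (k + 1) (by omega) hk)) j
        (ih (by omega) (j + 1) (by omega) (by omega)) (hK k (by omega) j hj)
  have hd : K.d m (m + 1) = 0 := (hz (m + 1) (by omega)).eq_of_tgt _ _
  have := K.isIso_iCycles m (m + 1) (by simp) hd
  intro j hj
  exact (key m le_rfl j hj (by omega)).of_iso ((F.rightDerived j).mapIso (asIso (K.iCycles m)).symm)

lemma ac_cycles (M : CochainComplex A ℤ) (hM : M.Acyclic) (hX : ∀ i, Ac F (M.X i)) (i : ℤ) :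
    Ac F (M.cycles i) := by
  have key : ∀ (k : ℕ) (i : ℤ) (j : ℕ), 0 < j → n ≤ j + k → IsZero ((F.rightDerived j).obj (M.cycles i)) := by
    intro k
    induction k with
    | zero => exact fun i j _ hj => isZero_rightDerived_of_le F n hn j hj _
    | succ k ih =>
      intro i j hj hjk
      obtain ⟨i', rfl⟩ : ∃ i', i = i' + 1 := ⟨i - 1, by omega⟩
      exact isZero_rightDerived_X₃ F
        (shortExact_cycSC M i' (i' + 1) (by simp) (by simp) (hM _)) j
        (ih i' (j + 1) (by omega) (by omega)) (hX i' j hj)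
  exact fun j hj => key n i j hj (by omega)

variable [PreservesFiniteLimits F]

theorem acyclic_map (M : CochainComplex A ℤ) (hM : M.Acyclic) (hX : ∀ i, Ac F (M.X i)) :
    ((F.mapHomologicalComplex (ComplexShape.up ℤ)).obj M).Acyclic :=
  acyclic_map_of_shortExact F M fun i =>
    (((acyclic_two_of_three F _ (shortExact_cycSC M i (i + 1) (by simp) (by simp) (hM _))).1
      (ac_cycles F n hn M hM hX i)).2.2)

omit hn in
lemma ac_biprod (X Y : A) (hX : Ac F X) (hY : Ac F Y) : Ac F (X ⊞ Y) :=
  (((acyclic_two_of_three F _ (ShortComplex.Splitting.ofHasBinaryBiproduct X Y).shortExact).1 hX).1 hY)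

lemma exists_resolution (X : CochainComplex A ℤ) :
    ∃ (L : CochainComplex A ℤ) (f : X ⟶ L), QuasiIso f ∧ ∀ i, Ac F (L.X i) := by
  choose Y ι hY hι using exists_mono_ac F
  exact DimShift.exists_resolution_of_class ⟨Y, ι, hι⟩ X (Ac F) hY (ac_biprod F) (n + 1)
    (fun K hex hz _ hK => ac_of_exact F n hn K (n + 1) (by omega) hex hz hK) (by omega)

/-- objects of the homotopy category with acyclic terms -/
def AcK : HomotopyCategory A (ComplexShape.up ℤ) → Prop := fun X => ∀ i, Ac F (X.as.X i)

lemma exists_resolutionK (X : HomotopyCategory A (ComplexShape.up ℤ)) :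
    ∃ (X' : HomotopyCategory A (ComplexShape.up ℤ)) (s : X ⟶ X'),
      HomotopyCategory.quasiIso A (ComplexShape.up ℤ) s ∧ AcK F X' := by
  obtain ⟨K, rfl⟩ := HomotopyCategory.quotient_obj_surjective X
  obtain ⟨L, f, hf, hL⟩ := exists_resolution F n hn K
  exact ⟨_, (HomotopyCategory.quotient A (ComplexShape.up ℤ)).map f,
    (HomotopyCategory.quotient_map_mem_quasiIso_iff _).2 ((HomologicalComplex.mem_quasiIso_iff _).2 hf), hL⟩

variable [HasDerivedCategory.{w} A] [HasDerivedCategory.{w'} B]

lemma isIso_map ⦃X Y : HomotopyCategory A (ComplexShape.up ℤ)⦄ (f : X ⟶ Y) (hX : AcK F X) (hY : AcK F Y)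
    (hf : HomotopyCategory.quasiIso A (ComplexShape.up ℤ) f) :
    IsIso ((F.mapHomotopyCategory (ComplexShape.up ℤ) ⋙ DerivedCategory.Qh).map f) := by
  obtain ⟨K, rfl⟩ := HomotopyCategory.quotient_obj_surjective X
  obtain ⟨L, rfl⟩ := HomotopyCategory.quotient_obj_surjective Y
  obtain ⟨φ, rfl⟩ := (HomotopyCategory.quotient A (ComplexShape.up ℤ)).map_surjective f
  let M := CochainComplex.mappingCone φ
  have hMX : ∀ i, Ac F (M.X i) := fun i =>
    (Ac F).prop_of_iso (HomologicalComplex.homotopyCofiber.XIsoBiprod φ i (i + 1) rfl).symm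
      (ac_biprod F _ _ (hX _) (hY _))
  have hT := HomotopyCategory.mappingCone_triangleh_distinguished φ
  have hMac : M.Acyclic := by
    refine (HomotopyCategory.quotient_obj_mem_subcategoryAcyclic_iff_acyclic _).1 ?_
    refine ((HomotopyCategory.subcategoryAcyclic A).trW_iff_of_distinguished _ hT).1 ?_
    rwa [← HomotopyCategory.quasiIso_eq_trW_subcategoryAcyclic]
  have hq : HomotopyCategory.quasiIso B (ComplexShape.up ℤ)
      ((F.mapHomotopyCategory (ComplexShape.up ℤ)).map ((HomotopyCategory.quotient A (ComplexShape.up ℤ)).map φ)) := by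
    rw [HomotopyCategory.quasiIso_eq_trW_subcategoryAcyclic]
    refine ((HomotopyCategory.subcategoryAcyclic B).trW_iff_of_distinguished _
      ((F.mapHomotopyCategory (ComplexShape.up ℤ)).map_distinguished _ hT)).2 ?_
    exact (HomotopyCategory.quotient_obj_mem_subcategoryAcyclic_iff_acyclic _).2
      (acyclic_map F n hn M hMac hMX)
  exact Localization.inverts DerivedCategory.Qh (HomotopyCategory.quasiIso B (ComplexShape.up ℤ)) _ hq

omit hn in
lemma hasLeftCalculusOfFractions :
    (HomotopyCategory.quasiIso A (ComplexShape.up ℤ)).HasLeftCalculusOfFractions := by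
  rw [HomotopyCategory.quasiIso_eq_trW_subcategoryAcyclic]
  infer_instance

theorem hasRightDerivedFunctor :
    (F.mapHomotopyCategory (ComplexShape.up ℤ) ⋙ DerivedCategory.Qh).HasRightDerivedFunctor
      (HomotopyCategory.quasiIso A (ComplexShape.up ℤ)) := by
  have := hasLeftCalculusOfFractions (A := A)
  have := DerivedByClass.hasPointwiseRightDerivedFunctor
    (F.mapHomotopyCategory (ComplexShape.up ℤ) ⋙ DerivedCategory.Qh)
    (HomotopyCategory.quasiIso A (ComplexShape.up ℤ)) (AcK F) (exists_resolutionK F n hn) (isIso_map F n hn)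
  infer_instance

theorem isIso_totalRightDerivedUnit
    [(F.mapHomotopyCategory (ComplexShape.up ℤ) ⋙ DerivedCategory.Qh).HasRightDerivedFunctor
      (HomotopyCategory.quasiIso A (ComplexShape.up ℤ))]
    (K : CochainComplex A ℤ) (hK : ∀ i, Ac F (K.X i)) :
    IsIso (((F.mapHomotopyCategory (ComplexShape.up ℤ) ⋙ DerivedCategory.Qh).totalRightDerivedUnit DerivedCategory.Qh
      (HomotopyCategory.quasiIso A (ComplexShape.up ℤ))).app ((HomotopyCategory.quotient A (ComplexShape.up ℤ)).obj K)) := by
  have := hasLeftCalculusOfFractions (A := A)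
  exact DerivedByClass.isIso_unit DerivedCategory.Qh _ (HomotopyCategory.quasiIso A (ComplexShape.up ℤ)) (AcK F)
    (exists_resolutionK F n hn) (isIso_map F n hn) hK _ _

end Groth.Agent.CohDer42.FiniteDim
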