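import Groth.Agent.DerAdj43.Basic
import Groth.Agent.CohDer42.KInj
import Mathlib.CategoryTheory.Adjunction.Evaluation
import Mathlib.CategoryTheory.Adjunction.Additive
import Mathlib.CategoryTheory.Abelian.FunctorCategory
import Mathlib.CategoryTheory.Abelian.GrothendieckAxioms.FunctorCategory
import Mathlib.CategoryTheory.Generator.Presheaf
import Mathlib.Algebra.Homology.Functor
import Mathlib.Algebra.Homology.ShortComplex.ExactFunctor

/-!
# Injective objects and K-injective complexes in categories of diagrams on thin categories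
-/

universe v u

open CategoryTheory Category Limits

set_option autoImplicit false
set_option linter.unusedSectionVars false
set_option backward.isDefEq.respectTransparency false

namespace Groth.Agent.CohDer42.FunCatInj

variable {C : Type v} [SmallCategory C] [Quiver.IsThin C]
  {A : Type u} [Category.{v} A] [Abelian A] [IsGrothendieckAbelian.{v} A]

instance hasSums (a b : C) : HasCoproductsOfShape (a ⟶ b) A := inferInstance

lemma preservesFiniteLimits_evL (c : C) : PreservesFiniteLimits (evaluationLeftAdjoint A c) := by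
  let L := evaluationLeftAdjoint A c
  let adj : L ⊣ (evaluation C A).obj c := evaluationAdjunctionRight A c
  have : PreservesColimitsOfSize.{0, 0} L := adj.leftAdjoint_preservesColimits
  have : L.Additive := adj.left_adjoint_additive
  have : L.PreservesMonomorphisms := ⟨fun {X Y} f _ => by
    have : ∀ t, Mono ((L.map f).app t) := fun t => by
      have e : (L.map f).app t = Limits.Sigma.map fun _ => f := Sigma.hom_ext _ _ fun g => by simp [L]
      rw [e]
      exact MorphismProperty.colimMap (W := MorphismProperty.monomorphisms A) _ (fun _ => (inferInstance : Mono f))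
    exact NatTrans.mono_of_mono_app _⟩
  have : L.PreservesHomology := L.preservesHomology_of_preservesMonos_and_cokernels
  exact L.preservesFiniteLimits_of_preservesHomology

lemma injective_obj (J : C ⥤ A) [Injective J] (c : C) : Injective (J.obj c) := by
  have := preservesFiniteLimits_evL (A := A) c
  exact (evaluationAdjunctionRight A c).map_injective J inferInstance

lemma isKInjective_eval (J : CochainComplex (C ⥤ A) ℤ) [J.IsKInjective] (c : C) :
    CochainComplex.IsKInjective ((((evaluation C A).obj c).mapHomologicalComplex (ComplexShape.up ℤ)).obj J) := by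
  have := preservesFiniteLimits_evL (A := A) c
  let adj : evaluationLeftAdjoint A c ⊣ (evaluation C A).obj c := evaluationAdjunctionRight A c
  have : (evaluationLeftAdjoint A c).Additive := adj.left_adjoint_additive
  have : PreservesColimitsOfSize.{0, 0} (evaluationLeftAdjoint A c) := adj.leftAdjoint_preservesColimits
  let adjC := DerAdj43.complexAdj adj (ComplexShape.up ℤ)
  refine ⟨fun {M} f hM => ?_⟩
  have hLM : (((evaluationLeftAdjoint A c).mapHomologicalComplex (ComplexShape.up ℤ)).obj M).Acyclic :=
    fun i => ShortComplex.Exact.map (hM i) (evaluationLeftAdjoint A c)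
  let h := CochainComplex.IsKInjective.homotopyZero ((adjC.homEquiv M J).symm f) hLM
  have e : f = adjC.unit.app M ≫
      (((evaluation C A).obj c).mapHomologicalComplex (ComplexShape.up ℤ)).map ((adjC.homEquiv M J).symm f) :=
    (((adjC.homEquiv M J).apply_symm_apply f).symm).trans (adjC.homEquiv_unit _ _ _)
  exact ⟨(Homotopy.ofEq e).trans (((((evaluation C A).obj c).mapHomotopy h).compLeft (adjC.unit.app M)).trans
    (Homotopy.ofEq (by rw [Functor.map_zero, comp_zero])))⟩

lemma isSplitEpi_map (J : C ⥤ A) [Injective J] {a b : C} (h : a ⟶ b) : IsSplitEpi (J.map h) := by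
  classical
  let Z := J.obj b
  let La := (evaluationLeftAdjoint A a).obj Z
  let Lb := (evaluationLeftAdjoint A b).obj Z
  let τ : Lb ⟶ La :=
    { app := fun t => Sigma.desc fun g => Sigma.ι (fun _ : a ⟶ t => Z) (h ≫ g)
      naturality := fun t t' φ => Sigma.hom_ext _ _ fun g => by simp [La, Lb] }
  have : ∀ t, Mono (τ.app t) := fun t => by
    suffices e : τ.app t ≫ (Sigma.desc fun k =>
        if hk : ∃ g : b ⟶ t, h ≫ g = k then Sigma.ι (fun _ : b ⟶ t => Z) hk.choose else 0) = 𝟙 _ from
      mono_of_mono_fac e
    refine Sigma.hom_ext _ _ fun g => ?_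
    simp only [τ, Sigma.ι_desc_assoc, Sigma.ι_desc, comp_id]
    rw [dif_pos ⟨g, rfl⟩, Subsingleton.elim (Exists.choose _) g]
    exact (comp_id _).symm
  have : Mono τ := NatTrans.mono_of_mono_app τ
  let g₀ : Lb ⟶ J :=
    { app := fun t => Sigma.desc fun g => J.map g
      naturality := fun t t' φ => Sigma.hom_ext _ _ fun g => by simp [Lb] }
  let g' : La ⟶ J := Injective.factorThru g₀ τ
  refine IsSplitEpi.mk' ⟨Sigma.ι (fun _ : a ⟶ a => Z) (𝟙 a) ≫ g'.app a, ?_⟩
  have hn : La.map h ≫ g'.app b = g'.app a ≫ J.map h := g'.naturality h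
  have hb : τ.app b ≫ g'.app b = g₀.app b := by
    rw [← NatTrans.comp_app, Injective.comp_factorThru]
  rw [assoc, ← hn]
  have := congrArg (Sigma.ι (fun _ : b ⟶ b => Z) (𝟙 b) ≫ ·) hb
  simp only [τ, g₀, Sigma.ι_desc_assoc, Sigma.ι_desc, CategoryTheory.Functor.map_id, comp_id] at this
  simpa [La] using this

theorem exists_resolution {P : Type v} [SmallCategory P] (K : CochainComplex (Pᵒᵖ ⥤ A) ℤ) :
    ∃ (J : CochainComplex (Pᵒᵖ ⥤ A) ℤ) (s : K ⟶ J), J.IsKInjective ∧ (∀ n, Injective (J.X n)) ∧
      ∀ t, QuasiIso ((((evaluation Pᵒᵖ A).obj t).mapHomologicalComplex (ComplexShape.up ℤ)).map s) := by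
  have : AB5OfSize.{v, v} (Pᵒᵖ ⥤ A) := ⟨fun J _ _ => inferInstance⟩
  have : IsGrothendieckAbelian.{v} (Pᵒᵖ ⥤ A) := { }
  obtain ⟨J, s, hJ, hs, -, hi⟩ := exists_kinjective_resolution K
  exact ⟨J, s, hJ, hi, (HomologicalComplex.quasiIso_iff_evaluation s).1 hs⟩

end Groth.Agent.CohDer42.FunCatInj
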