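import Groth.Agent.CohDer42.GrothColim
import Groth.Agent.CohDer42.DimShift
import Mathlib.CategoryTheory.Abelian.GrothendieckCategory.EnoughInjectives
import Mathlib.Algebra.Homology.HomotopyCategory.MappingCone
import Mathlib.Algebra.Homology.DerivedCategory.Basic

/-!
# Functorial constructions on complexes in Grothendieck abelian categories
-/

universe v u

open CategoryTheory Category Limits HomologicalComplex
open scoped ZeroObject

set_option autoImplicit false
set_option linter.unusedSectionVars false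
set_option backward.isDefEq.respectTransparency false

namespace Groth.Agent.CohDer42.FunctorN

variable {A : Type u} [Category.{v} A] [Abelian A] [IsGrothendieckAbelian.{v} A]

section Kill

variable {ι : Type v} (K : ι → CochainComplex A ℤ)

/-- all maps from the `K i` -/
abbrev Idx (M : CochainComplex A ℤ) : Type v := Σ i : ι, (K i ⟶ M)

/-- the evaluation map -/
noncomputable def ev (M : CochainComplex A ℤ) : (∐ fun x : Idx K M => K x.1) ⟶ M :=
  Sigma.desc fun x => x.2

/-- the inclusion in cones -/
noncomputable def inC (M : CochainComplex A ℤ) :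
    (∐ fun x : Idx K M => K x.1) ⟶ ∐ fun x : Idx K M => CochainComplex.mappingCone (𝟙 (K x.1)) :=
  Limits.Sigma.map fun x => CochainComplex.mappingCone.inr (𝟙 (K x.1))

lemma sigma_ι_congr {M : CochainComplex A ℤ} {i : ι} (F₀ : ι → CochainComplex A ℤ)
    {w w' : K i ⟶ M} (h : w' = w) {T : CochainComplex A ℤ} (q : (∐ fun x : Idx K M => F₀ x.1) ⟶ T) :
    Sigma.ι (fun x : Idx K M => F₀ x.1) ⟨i, w'⟩ ≫ q = Sigma.ι (fun x : Idx K M => F₀ x.1) ⟨i, w⟩ ≫ q := by
  subst h; rfl

/-- the enlargement -/
noncomputable def N : CochainComplex A ℤ ⥤ CochainComplex A ℤ where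
  obj M := pushout (ev K M) (inC K M)
  map {M M'} f := pushout.map _ _ _ _ f
    (Sigma.desc fun x => Sigma.ι (fun x : Idx K M' => CochainComplex.mappingCone (𝟙 (K x.1))) ⟨x.1, x.2 ≫ f⟩)
    (Sigma.desc fun x => Sigma.ι (fun x : Idx K M' => K x.1) ⟨x.1, x.2 ≫ f⟩)
    (by apply Sigma.hom_ext; intro x; simp [ev])
    (by apply Sigma.hom_ext; intro x; simp [inC])
  map_id M := by
    apply pushout.hom_ext
    · simp
    · rw [pushout.map, pushout.inr_desc]
      apply Sigma.hom_ext
      rintro ⟨i, w⟩
      simp only [Sigma.ι_desc_assoc, comp_id]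
      exact sigma_ι_congr K (fun i => CochainComplex.mappingCone (𝟙 (K i))) (comp_id w) _
  map_comp {M M' M''} f g := by
    apply pushout.hom_ext
    · simp
    · simp only [pushout.map, pushout.inr_desc, pushout.inr_desc_assoc, assoc]
      apply Sigma.hom_ext
      rintro ⟨i, w⟩
      simp only [Sigma.ι_desc_assoc]
      exact sigma_ι_congr K (fun i => CochainComplex.mappingCone (𝟙 (K i))) (assoc w f g).symm _

/-- the natural map -/
noncomputable def j : 𝟭 _ ⟶ N K where
  app M := pushout.inl (ev K M) (inC K M)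
  naturality M M' f := by
    exact (pushout.inl_desc _ _ _).symm

lemma acyclic_cone_id (L : CochainComplex A ℤ) : (CochainComplex.mappingCone (𝟙 L)).Acyclic := by
  refine (HomotopyCategory.quotient_obj_mem_subcategoryAcyclic_iff_acyclic _).1 ?_
  refine ((HomotopyCategory.subcategoryAcyclic A).trW_iff_of_distinguished _
    (HomotopyCategory.mappingCone_triangleh_distinguished (𝟙 L))).1 ?_
  rw [← HomotopyCategory.quasiIso_eq_trW_subcategoryAcyclic]
  exact (HomotopyCategory.quotient_map_mem_quasiIso_iff _).2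
    ((HomologicalComplex.mem_quasiIso_iff _).2 (inferInstance : QuasiIso (𝟙 L)))

lemma qisMono_inr {L : CochainComplex A ℤ} (hL : ∀ n, IsZero (L.homology n)) :
    qisMono (CochainComplex.mappingCone.inr (𝟙 L)) := by
  have : ∀ n, Mono ((CochainComplex.mappingCone.inr (𝟙 L)).f n) := fun n =>
    mono_of_mono_fac (CochainComplex.mappingCone.inr_f_snd_v (𝟙 L) n)
  refine ⟨HomologicalComplex.mono_of_mono_f _ inferInstance, ⟨fun n => ?_⟩⟩
  rw [quasiIsoAt_iff_exactAt _ _ ((exactAt_iff_isZero_homology _ _).2 (hL n))]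
  exact acyclic_cone_id L n

theorem spec (hK : ∀ i (n : ℤ), IsZero ((K i).homology n)) (M : CochainComplex A ℤ) :
    (∀ n : ℤ, Mono (((j K).app M).f n)) ∧ QuasiIso ((j K).app M) ∧
      ∀ (i : ι) (w : K i ⟶ M), Nonempty (Homotopy (w ≫ (j K).app M) 0) := by
  have hc : qisMono (inC K M) :=
    MorphismProperty.colimMap _ (fun x => qisMono_inr (hK x.as.1))
  have hj : qisMono ((j K).app M) :=
    MorphismProperty.of_isPushout (IsPushout.of_hasPushout (ev K M) (inC K M)) hc
  refine ⟨fun n => ?_, hj.2, fun i w => ?_⟩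
  · have := hj.1
    exact inferInstanceAs (Mono ((HomologicalComplex.eval A (ComplexShape.up ℤ) n).map ((j K).app M)))
  · let G : CochainComplex.mappingCone (𝟙 (K i)) ⟶ (N K).obj M :=
      Sigma.ι (fun x : Idx K M => CochainComplex.mappingCone (𝟙 (K x.1))) ⟨i, w⟩ ≫ pushout.inr (ev K M) (inC K M)
    have e : w ≫ (j K).app M = (𝟙 (K i) ≫ CochainComplex.mappingCone.inr (𝟙 (K i))) ≫ G := by
      have h := congrArg (Sigma.ι (fun x : Idx K M => K x.1) ⟨i, w⟩ ≫ ·)
        (pushout.condition (f := ev K M) (g := inC K M))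
      simp only [ev, inC, Sigma.ι_desc_assoc, Sigma.ι_map_assoc] at h
      rw [id_comp]
      exact h
    refine ⟨(Homotopy.ofEq e).trans ?_⟩
    exact ((HomologicalComplex.homotopyCofiber.inrCompHomotopy (𝟙 (K i))
      (fun n => ⟨n - 1, sub_add_cancel n 1⟩)).compRight G).trans (Homotopy.ofEq zero_comp)

end Kill

section Inj

/-- morphisms to zero -/
noncomputable def toZero : A ⥤ Arrow A where
  obj X := Arrow.mk (0 : X ⟶ 0)
  map g := Arrow.homMk g (𝟙 _) (by simp)

/-- a functorial factorisation -/
noncomputable def fac : MorphismProperty.FunctorialFactorizationData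
    (MorphismProperty.monomorphisms A) (MorphismProperty.monomorphisms A).rlp :=
  MorphismProperty.functorialFactorizationData _ _

/-- functorial injective -/
noncomputable def T : A ⥤ A := toZero ⋙ (fac (A := A)).Z

/-- functorial embedding -/
noncomputable def η : 𝟭 A ⟶ T (A := A) := Functor.whiskerLeft toZero (fac (A := A)).i

lemma mono_η (X : A) : Mono ((η (A := A)).app X) := (fac (A := A)).hi _

lemma injective_T (X : A) : Injective ((T (A := A)).obj X) := by
  refine (injective_iff_rlp_monomorphisms_zero _).2 ?_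
  exact cast (congrArg (fun q => (MorphismProperty.monomorphisms A).rlp q)
    ((isZero_zero A).eq_of_tgt _ _)) ((fac (A := A)).hp (toZero.obj X))

variable (A) in
/-- the embedding data -/
@[reducible] noncomputable def emb : DimShift.Emb A := ⟨fun X => (T (A := A)).obj X, fun X => η.app X, mono_η⟩

lemma η_nat {X Y : A} (g : X ⟶ Y) : g ≫ (η (A := A)).app Y = η.app X ≫ (T (A := A)).map g :=
  (η (A := A)).naturality g

/-- components of the functor -/
noncomputable def nMapF {K L : CochainComplex A ℤ} (f : K ⟶ L) (n : ℤ) :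
    (DimShift.next (emb A) K).X n ⟶ (DimShift.next (emb A) L).X n :=
  cokernel.map _ _ (f.f (n - 1)) (biprod.map ((T (A := A)).map (f.f (n - 1))) ((T (A := A)).map (f.f n)))
    (by
      apply biprod.hom_ext
      · simp [DimShift.rel, emb, η_nat]
      · simp only [DimShift.rel, emb, assoc, biprod.map_snd, biprod.lift_snd_assoc, biprod.lift_snd]
        rw [← η_nat, ← assoc, ← f.comm, assoc])

/-- functoriality -/
noncomputable def nMap {K L : CochainComplex A ℤ} (f : K ⟶ L) :
    DimShift.next (emb A) K ⟶ DimShift.next (emb A) L where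
  f := nMapF f
  comm' i j hij := by
    obtain rfl : i = j - 1 := by change i + 1 = j at hij; omega
    rw [← cancel_epi (cokernel.π (DimShift.rel (emb A) K (j - 1)))]
    rw [reassoc_of% DimShift.π_next_d]
    simp only [nMapF, cokernel.map]
    rw [cokernel.π_desc_assoc, assoc, DimShift.π_next_d, biprod.map_snd_assoc, DimShift.θ_self,
      DimShift.θ_self]
    refine congrArg (biprod.snd ≫ ·) ?_
    erw [assoc, cokernel.π_desc, biprod.inl_map_assoc]

/-- the functor -/
noncomputable def NI : CochainComplex A ℤ ⥤ CochainComplex A ℤ where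
  obj K := DimShift.next (emb A) K
  map f := nMap f
  map_id K := by
    ext n
    rw [← cancel_epi (cokernel.π (DimShift.rel (emb A) K n))]
    change cokernel.π _ ≫ nMapF _ _ = _
    simp only [nMapF, cokernel.map, cokernel.π_desc, HomologicalComplex.id_f]
    rw [CategoryTheory.Functor.map_id, CategoryTheory.Functor.map_id]
    have : biprod.map (𝟙 ((T (A := A)).obj (K.X (n - 1)))) (𝟙 ((T (A := A)).obj (K.X n))) = 𝟙 _ := by
      apply biprod.hom_ext <;> simp
    rw [this, id_comp]
    exact (comp_id _).symm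
  map_comp {K L M} f g := by
    ext n
    rw [← cancel_epi (cokernel.π (DimShift.rel (emb A) K n))]
    change cokernel.π _ ≫ nMapF _ _ = cokernel.π _ ≫ nMapF f n ≫ nMapF g n
    simp only [nMapF, cokernel.map, cokernel.π_desc, cokernel.π_desc_assoc, HomologicalComplex.comp_f,
      assoc, Functor.map_comp]
    rw [← assoc]
    congr 1
    apply biprod.hom_ext <;> simp

/-- the natural map -/
noncomputable def jI : 𝟭 _ ⟶ NI (A := A) where
  app K := DimShift.α (emb A) K
  naturality K L f := by
    ext n
    change f.f n ≫ (DimShift.α (emb A) L).f n = (DimShift.α (emb A) K).f n ≫ nMapF f n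
    simp only [DimShift.α_f, nMapF, cokernel.map, assoc, cokernel.π_desc, biprod.inr_map_assoc]
    exact (reassoc_of% (η_nat (f.f n))) _

lemma mono_inr_π (K : CochainComplex A ℤ) (n : ℤ) :
    Mono (biprod.inr ≫ cokernel.π (DimShift.rel (emb A) K n)) := by
  rw [Preadditive.mono_iff_cancel_zero]
  intro W y hy
  obtain ⟨W', π, hπ, k, hk₁, hk₂⟩ :=
    DimShift.exists_rel_of_eq_zero (emb A) K (y ≫ biprod.inr) ((assoc _ _ _).trans hy)
  simp only [assoc, biprod.inr_fst, biprod.inr_snd, comp_zero, comp_id] at hk₁ hk₂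
  have := mono_η (K.X (n - 1))
  have hk : k = 0 := zero_of_comp_mono ((η (A := A)).app (K.X (n - 1))) (neg_eq_zero.1 hk₁.symm)
  rw [hk, zero_comp] at hk₂
  exact zero_of_epi_comp π hk₂

theorem spec_inj (M : CochainComplex A ℤ) :
    (∀ n : ℤ, Mono ((jI.app M).f n)) ∧ QuasiIso (jI.app M) ∧
      ∀ n : ℤ, ∃ (I : A) (_ : Injective I) (a : M.X n ⟶ I) (b : I ⟶ (NI.obj M).X n),
        Mono b ∧ a ≫ b = (jI.app M).f n := by
  refine ⟨fun n => ?_, DimShift.quasiIso_α (emb A) M, fun n =>
    ⟨_, injective_T (M.X n), η.app (M.X n), biprod.inr ≫ cokernel.π (DimShift.rel (emb A) M n),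
      mono_inr_π M n, rfl⟩⟩
  have := mono_η (M.X n)
  have := mono_inr_π M n
  exact mono_comp ((η (A := A)).app (M.X n)) _

end Inj

end Groth.Agent.CohDer42.FunctorN
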