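import Groth.Agent.CohDer42.Res
import Mathlib.Algebra.Homology.GrothendieckAbelian
import Mathlib.CategoryTheory.Abelian.GrothendieckAxioms.Colim
import Mathlib.CategoryTheory.Abelian.GrothendieckCategory.Basic
import Mathlib.CategoryTheory.MorphismProperty.TransfiniteComposition
import Mathlib.CategoryTheory.Abelian.FunctorCategory
import Mathlib.Algebra.Homology.HomologicalComplexLimits

/-!
# Monomorphisms which are quasi-isomorphisms, and colimits
-/

universe w w' v u

open CategoryTheory Category Limits HomologicalComplex

set_option autoImplicit false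
set_option linter.unusedSectionVars false
set_option backward.isDefEq.respectTransparency false

namespace Groth.Agent.CohDer42

variable {A : Type u} [Category.{v} A] [Abelian A]

lemma exact_of_evaluation {J : Type w} [Category.{w'} J] (S : ShortComplex (J ⥤ A))
    (h : ∀ j, (S.map ((evaluation J A).obj j)).Exact) : S.Exact := by
  rw [ShortComplex.exact_iff_isZero_homology]
  refine Functor.isZero _ (fun j => ?_)
  exact ((ShortComplex.exact_iff_isZero_homology _).1 (h j)).of_iso
    (S.mapHomologyIso ((evaluation J A).obj j)).symm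

section Colim

variable {J : Type w} [Category.{w'} J] [HasColimitsOfShape J A] [HasExactColimitsOfShape J A]

/-- a colimit of complexes is acyclic in degree `n` if all the coprojections vanish in homology -/
lemma isZero_homology_of_colimit {U : J ⥤ CochainComplex A ℤ} {c : Cocone U} (hc : IsColimit c)
    (n : ℤ) (h : ∀ j, homologyMap (c.ι.app j) n = 0) : IsZero (c.pt.homology n) := by
  let Z : J ⥤ A := U ⋙ cyclesFunctor A _ n
  let f₁ : Z ⟶ U ⋙ eval A _ n :=
    { app := fun j => (U.obj j).iCycles n
      naturality := fun j j' g => cyclesMap_i _ _ }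
  let g₁ : U ⋙ eval A _ n ⟶ U ⋙ eval A _ (n + 1) :=
    { app := fun j => (U.obj j).d n (n + 1)
      naturality := fun j j' g => (U.map g).comm n (n + 1) }
  have hfg : f₁ ≫ g₁ = 0 := by
    ext j
    exact (U.obj j).iCycles_d n (n + 1)
  have hS : (ShortComplex.mk f₁ g₁ hfg).Exact := exact_of_evaluation _ (fun j => by
    rw [ShortComplex.exact_iff_exact_up_to_refinements]
    intro T x hx
    exact ⟨T, 𝟙 T, inferInstance, (U.obj j).liftCycles x (n + 1) (by simp) hx, by
      change 𝟙 T ≫ x = (U.obj j).liftCycles x (n + 1) _ hx ≫ (U.obj j).iCycles n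
      rw [liftCycles_i, id_comp]⟩)
  let y : colimit Z ⟶ c.pt.cycles n := colimit.desc Z ((cyclesFunctor A _ n).mapCocone c)
  have hex := colim.exact_mapShortComplex hS (colimit.isColimit Z)
    (isColimitOfPreserves (eval A _ n) hc) (isColimitOfPreserves (eval A _ (n + 1)) hc)
    (y ≫ c.pt.iCycles n) (c.pt.d n (n + 1))
    (fun j => by
      change colimit.ι Z j ≫ y ≫ c.pt.iCycles n = (U.obj j).iCycles n ≫ (c.ι.app j).f n
      rw [colimit.ι_desc_assoc]
      exact cyclesMap_i (c.ι.app j) n)
    (fun j => (c.ι.app j).comm n (n + 1))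
  obtain ⟨T, π, hπ, x, hx⟩ := hex.exact_up_to_refinements (c.pt.iCycles n) (iCycles_d _ _ _)
  have hy : y ≫ c.pt.homologyπ n = 0 := colimit.hom_ext (fun j => by
    rw [colimit.ι_desc_assoc, comp_zero]
    change cyclesMap (c.ι.app j) n ≫ c.pt.homologyπ n = 0
    exact (homologyπ_naturality (c.ι.app j) n).symm.trans (by rw [h j]; exact comp_zero))
  have h0 : π = (x : T ⟶ colimit Z) ≫ y := by
    rw [← cancel_mono (c.pt.iCycles n), assoc]
    exact hx
  rw [IsZero.iff_id_eq_zero, ← cancel_epi (c.pt.homologyπ n), ← cancel_epi π, comp_id, comp_zero,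
    comp_zero, h0, assoc, hy, comp_zero]

end Colim

/-- monomorphisms of complexes which are quasi-isomorphisms -/
def qisMono : MorphismProperty (CochainComplex A ℤ) := fun _ _ f => Mono f ∧ QuasiIso f

instance : (qisMono (A := A)).IsMultiplicative where
  id_mem _ := ⟨inferInstance, inferInstance⟩
  comp_mem _ _ hf hg := by
    obtain ⟨_, _⟩ := hf
    obtain ⟨_, _⟩ := hg
    exact ⟨inferInstance, inferInstance⟩

instance : (qisMono (A := A)).RespectsIso := by
  refine MorphismProperty.RespectsIso.mk _ (fun e f hf => ?_) (fun e f hf => ?_) <;>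
  · obtain ⟨_, _⟩ := hf
    exact ⟨inferInstance, inferInstance⟩

instance : (qisMono (A := A)).IsStableUnderCobaseChange where
  of_isPushout sq hl := by
    obtain ⟨_, _⟩ := hl
    exact mono_quasiIso_of_isPushout sq.flip

instance : (qisMono (A := A)).IsStableUnderRetracts where
  of_retract {X Y Z W f g} h hg := by
    refine ⟨MorphismProperty.IsStableUnderRetracts.of_retract
      (P := MorphismProperty.monomorphisms _) h hg.1, ?_⟩
    exact (mem_quasiIso_iff f).1 (MorphismProperty.IsStableUnderRetracts.of_retract
      (P := HomologicalComplex.quasiIso A (ComplexShape.up ℤ)) h ((mem_quasiIso_iff g).2 hg.2))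

lemma acyclic_cokernel {K L : CochainComplex A ℤ} {f : K ⟶ L} (hf : qisMono f) :
    (cokernel f).Acyclic := by
  obtain ⟨_, _⟩ := hf
  exact (shortExact_cokernel f).acyclic_X₃ (by dsimp; infer_instance)

instance isStableUnderColimitsOfShape_qisMono {J : Type w} [Category.{w'} J]
    [HasColimitsOfShape J A] [HasExactColimitsOfShape J A]
    [HasColimitsOfShape J (CochainComplex A ℤ)] [HasExactColimitsOfShape J (CochainComplex A ℤ)] :
    (qisMono (A := A)).IsStableUnderColimitsOfShape J where
  condition X₁ X₂ c₁ c₂ hc₁ hc₂ f hf φ hφ := by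
    have hm : ∀ j, Mono (f.app j) := fun j => (hf j).1
    have : Mono f := NatTrans.mono_of_mono_app f
    have : Mono φ := colim.map_mono' f hc₁ hc₂ φ (by simp [hφ])
    let S := ShortComplex.mk f (cokernel.π f) (cokernel.condition f)
    have hS : S.ShortExact := { exact := ShortComplex.exact_cokernel f }
    have hj : ∀ j, ((cokernel f).obj j).Acyclic := fun j => by
      have h := hS.map_of_exact ((evaluation J (CochainComplex A ℤ)).obj j)
      exact h.acyclic_X₃ (hf j).2
    let c₃ := colimit.cocone (cokernel f)
    let g : c₂.pt ⟶ c₃.pt := hc₂.desc ((Cocone.precompose (cokernel.π f)).obj c₃)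
    have hg : ∀ j, c₂.ι.app j ≫ g = (cokernel.π f).app j ≫ c₃.ι.app j := fun j => hc₂.fac _ j
    have hex := colim.exact_mapShortComplex (S := S) hS.exact hc₁ hc₂ (colimit.isColimit (cokernel f))
      φ g (fun j => by simp [hφ, S]) hg
    have : Epi g := colim.map_epi' (cokernel.π f) c₂ (colimit.isColimit _) g hg
    have hac : c₃.pt.Acyclic := fun n => (exactAt_iff_isZero_homology _ n).2
      (isZero_homology_of_colimit (colimit.isColimit (cokernel f)) n (fun j =>
        ((exactAt_iff_isZero_homology _ n).1 (hj j n)).eq_of_src _ _))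
    exact ⟨inferInstance, quasiIso_of_shortExact
      ({ exact := hex, mono_f := inferInstanceAs (Mono φ), epi_g := inferInstanceAs (Epi g) }) hac⟩

variable [IsGrothendieckAbelian.{v} A]

instance : IsGrothendieckAbelian.{v} (CochainComplex A ℤ) :=
  HomologicalComplex.isGrothendieckAbelian A _

instance : MorphismProperty.IsStableUnderFilteredColimits.{v, v} (qisMono (A := A)) where
  isStableUnderColimitsOfShape J _ _ := inferInstance

instance : MorphismProperty.IsStableUnderCoproducts.{v} (qisMono (A := A)) where
  isStableUnderCoproductsOfShape J :=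
    inferInstanceAs ((qisMono (A := A)).IsStableUnderColimitsOfShape (Discrete J))

instance : MorphismProperty.IsStableUnderTransfiniteComposition.{v} (qisMono (A := A)) :=
  inferInstance

end Groth.Agent.CohDer42
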