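import Groth.Agent.CohDer42.SeqColim
import Groth.Prelude.Def_DerLim
import Groth.Agent.CohDer42.Classical
import Mathlib.CategoryTheory.Triangulated.HomologicalFunctor
import Mathlib.CategoryTheory.Limits.Preserves.Shapes.Products
import Mathlib.Algebra.Homology.DerivedCategory.ShortExact
import Mathlib.CategoryTheory.Triangulated.Pretriangulated
import Mathlib.Algebra.BigOperators.Intervals
import Mathlib.Algebra.Order.BigOperators.Group.LocallyFinite

/-!
# Homotopy colimits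
-/

universe w v v' u u'

open CategoryTheory Category Limits Pretriangulated Preadditive

set_option autoImplicit false
set_option linter.unusedSectionVars false
set_option backward.isDefEq.respectTransparency false

namespace Groth.Agent.CohDer42.Hocolim

section Comparison

variable {D : Type u} [Category.{v} D] [Preadditive D] {E : Type u'} [Category.{v'} E] [Preadditive E]
  (G : D ⥤ E) [G.Additive] (K : ℕ → D) (f : ∀ n, K n ⟶ K (n + 1))
  [HasCoproduct K] [HasCoproduct fun n => G.obj (K n)]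

lemma sigmaComparison_oneSub :
    sigmaComparison G K ≫ G.map (𝟙 (∐ K) - DerLim.shiftMap K f) =
      (𝟙 _ - DerLim.shiftMap (fun n => G.obj (K n)) (fun n => G.map (f n))) ≫ sigmaComparison G K :=
  Sigma.hom_ext _ _ fun n => by
    rw [ι_comp_sigmaComparison_assoc, ← G.map_comp, Preadditive.comp_sub, comp_id, G.map_sub,
      DerLim.shiftMap, Sigma.ι_desc, G.map_comp, Preadditive.sub_comp, id_comp, Preadditive.comp_sub,
      DerLim.shiftMap, Sigma.ι_desc_assoc, ι_comp_sigmaComparison, assoc, ι_comp_sigmaComparison]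

end Comparison

section Homological

variable {D : Type u} [Category.{v} D] [Preadditive D] [HasZeroObject D] [HasShift D ℤ]
  [∀ n : ℤ, (shiftFunctor D n).Additive] [Pretriangulated D] [HasColimitsOfShape (Discrete ℕ) D]
  {A : Type u'} [Category.{v'} A] [Abelian A] [HasColimitsOfShape ℕ A] [HasExactColimitsOfShape ℕ A]

lemma hasCoproduct_obj (G : D ⥤ A) [PreservesColimitsOfShape (Discrete ℕ) G] (K : ℕ → D) :
    HasCoproduct fun n => G.obj (K n) :=
  ⟨⟨⟨_, isColimitCofanMkObjOfIsColimit G _ _ (coproductIsCoproduct K)⟩⟩⟩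

lemma mono_map_oneSub (G : D ⥤ A) [G.Additive] [PreservesColimitsOfShape (Discrete ℕ) G]
    (K : ℕ → D) (f : ∀ n, K n ⟶ K (n + 1)) : Mono (G.map (𝟙 (∐ K) - DerLim.shiftMap K f)) := by
  have := hasCoproduct_obj G K
  let S := Functor.ofSequence (fun n => G.map (f n))
  have hS : HasCoproduct S.obj := this
  have hm : Mono (𝟙 (∐ fun n => G.obj (K n)) -
      DerLim.shiftMap (fun n => G.obj (K n)) (fun n => G.map (f n))) := by
    have h := SeqColim.mono_oneSub S
    have e : (fun n => SeqColim.fm S n) = fun n => G.map (f n) :=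
      funext fun n => Functor.ofSequence_map_homOfLE_succ _ n
    rw [SeqColim.oneSub, show SeqColim.fm S = fun n => G.map (f n) from e] at h
    exact h
  have e := sigmaComparison_oneSub G K f
  rw [← IsIso.eq_inv_comp] at e
  rw [e]
  infer_instance

theorem exists_iso (H : D ⥤ A) [H.IsHomological] [PreservesColimitsOfShape (Discrete ℕ) H]
    (K : ℕ → D) (f : ∀ n, K n ⟶ K (n + 1)) (L : D) (i : ∀ n, K n ⟶ L)
    (hL : DerLim.IsHocolim K f L i) :
    ∃ e : colimit (Functor.ofSequence (fun n => H.map (f n))) ≅ H.obj L,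
      ∀ n : ℕ, colimit.ι (Functor.ofSequence (fun n => H.map (f n))) n ≫ e.hom = H.map (i n) := by
  obtain ⟨c, hT⟩ := hL
  have := hasCoproduct_obj H K
  let S := Functor.ofSequence (fun n => H.map (f n))
  have hS : HasCoproduct S.obj := this
  have hfm : SeqColim.fm S = fun n => H.map (f n) :=
    funext fun n => Functor.ofSequence_map_homOfLE_succ _ n
  let T := Triangle.mk (𝟙 (∐ K) - DerLim.shiftMap K f) (Sigma.desc i) c
  have h12 : H.map T.mor₁ ≫ H.map T.mor₂ = 0 := by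
    rw [← H.map_comp, comp_distTriang_mor_zero₁₂ T hT, H.map_zero]
  have h23 : H.map T.mor₂ ≫ H.map T.mor₃ = 0 := by
    rw [← H.map_comp, comp_distTriang_mor_zero₂₃ T hT, H.map_zero]
  have h31 : H.map T.mor₃ ≫ H.map (T.mor₁⟦(1 : ℤ)⟧') = 0 := by
    rw [← H.map_comp, comp_distTriang_mor_zero₃₁ T hT, H.map_zero]
  have hmono : Mono (H.map (T.mor₁⟦(1 : ℤ)⟧')) := by
    exact mono_map_oneSub (shiftFunctor D (1 : ℤ) ⋙ H) K f
  have h3 : H.map T.mor₃ = 0 := zero_of_comp_mono _ h31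
  have hepi : Epi (H.map T.mor₂) :=
    (H.map_distinguished_exact T.rotate (rot_of_distTriang _ hT)).epi_f h3
  have hex : (ShortComplex.mk _ _ h12).Exact := H.map_distinguished_exact T hT
  have hs : SeqColim.oneSub S ≫ sigmaComparison H K = sigmaComparison H K ≫ H.map T.mor₁ := by
    rw [SeqColim.oneSub, hfm]
    exact (sigmaComparison_oneSub H K f).symm
  let π := sigmaComparison H K ≫ H.map T.mor₂
  have hπ : ∀ n, Sigma.ι S.obj n ≫ π = H.map (i n) := fun n => by
    change Sigma.ι (fun n => H.obj (K n)) n ≫ _ = _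
    rw [ι_comp_sigmaComparison_assoc, ← H.map_comp]
    exact congrArg H.map (Sigma.ι_desc _ _)
  have w : SeqColim.oneSub S ≫ π = 0 := by
    change SeqColim.oneSub S ≫ sigmaComparison H K ≫ H.map T.mor₂ = 0
    rw [← assoc, hs, assoc, h12, comp_zero]
  have h1 := SeqColim.shortExact S
  have hepi' : Epi π := epi_comp _ _
  have h2 : (ShortComplex.mk _ _ w).Exact :=
    (ShortComplex.exact_iff_of_iso (ShortComplex.isoMk (S₁ := ShortComplex.mk (SeqColim.oneSub S) π w)
      (S₂ := ShortComplex.mk _ _ h12) (asIso (sigmaComparison H K)) (asIso (sigmaComparison H K))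
      (Iso.refl _) hs.symm (by simp [π]))).2 hex
  have : Epi (ShortComplex.mk _ _ w).g := hepi'
  have : Epi (ShortComplex.mk _ _ (SeqColim.oneSub_proj S)).g := h1.epi_g
  refine ⟨h1.exact.gIsCokernel.coconePointUniqueUpToIso h2.gIsCokernel, fun n => ?_⟩
  have h := h1.exact.gIsCokernel.comp_coconePointUniqueUpToIso_hom h2.gIsCokernel WalkingParallelPair.one
  change SeqColim.proj S ≫ _ = π at h
  exact (Sigma.ι_desc_assoc _ _ _).symm.trans ((Sigma.ι S.obj n ≫= h).trans (hπ n))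

end Homological

section Derived

open DerivedCategory

variable {A : Type u} [Category.{v} A] [Abelian A] [HasDerivedCategory.{w} A]
    [HasColimitsOfShape ℕ A] [HasExactColimitsOfShape ℕ A]

theorem isHocolim_colimit (L : ℕ ⥤ CochainComplex A ℤ) [HasCoproduct L.obj]
    [PreservesColimit (Discrete.functor L.obj) (DerivedCategory.Q (C := A))]
    [HasCoproduct (fun n => Q.obj (L.obj n))] :
    DerLim.IsHocolim (fun n => Q.obj (L.obj n)) (fun n => Q.map (L.map (homOfLE (Nat.le_succ n))))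
      (Q.obj (colimit L)) (fun n => Q.map (colimit.ι L n)) := by
  have := SeqColim.stable_cochainComplex (C := A)
  have hS := SeqColim.shortExact L
  let e := asIso (sigmaComparison (DerivedCategory.Q (C := A)) L.obj)
  refine ⟨triangleOfSESδ hS ≫ e.inv⟦(1 : ℤ)⟧', isomorphic_distinguished _ (triangleOfSES_distinguished hS) _ ?_⟩
  refine Triangle.isoMk _ _ e e (Iso.refl _) ?_ ?_ ?_
  · exact (sigmaComparison_oneSub (DerivedCategory.Q (C := A)) L.obj _).symm
  · refine Sigma.hom_ext _ _ fun n => ?_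
    change Sigma.ι (fun n => Q.obj (L.obj n)) n ≫ Sigma.desc _ ≫ 𝟙 _ = Sigma.ι (fun n => Q.obj (L.obj n)) n ≫ sigmaComparison _ _ ≫ Q.map (SeqColim.proj L)
    rw [comp_id, Sigma.ι_desc, ι_comp_sigmaComparison_assoc, ← Functor.map_comp]
    exact congrArg Q.map (Sigma.ι_desc _ _).symm
  · change (triangleOfSESδ hS ≫ e.inv⟦(1 : ℤ)⟧') ≫ e.hom⟦(1 : ℤ)⟧' = 𝟙 _ ≫ triangleOfSESδ hS
    rw [assoc, ← Functor.map_comp, Iso.inv_hom_id, CategoryTheory.Functor.map_id, id_comp, comp_id]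

end Derived

section Subsequence

variable {D : Type u} [Category.{v} D] [Preadditive D] [HasZeroObject D] [HasShift D ℤ]
  [∀ n : ℤ, (shiftFunctor D n).Additive] [Pretriangulated D]
  (F : ℕ ⥤ D) (n : ℕ → ℕ) (hn : StrictMono n)
  [HasCoproduct (fun m : ℕ => F.obj m)] [HasCoproduct (fun i : ℕ => F.obj (n i))]

/-- transition composed with an inclusion -/
noncomputable def str (m t : ℕ) : F.obj m ⟶ ∐ (fun m : ℕ => F.obj m) :=
  if h : m ≤ t then F.map (homOfLE h) ≫ Sigma.ι (fun m : ℕ => F.obj m) t else 0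

lemma map_str {m t : ℕ} (k : ℕ) (h : m ≤ k) (h' : k ≤ t) :
    F.map (homOfLE h) ≫ str F k t = str F m t := by
  rw [str, str, dif_pos h', dif_pos (h.trans h'), ← F.map_comp_assoc]
  rfl

lemma str_self (m : ℕ) : str F m m = Sigma.ι (fun m : ℕ => F.obj m) m := by
  simp [str]

lemma map_map_eq {a b c : ℕ} (h : a ≤ b) (h' : b ≤ c) :
    F.map (homOfLE h) ≫ F.map (homOfLE h') = F.map (homOfLE (h.trans h')) := by
  rw [← F.map_comp]; rfl

/-- the stage of the subsequence above `m` -/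
def idx (m : ℕ) : ℕ := Nat.find (⟨m, hn.id_le m⟩ : ∃ j, m ≤ n j)

lemma le_idx (m : ℕ) : m ≤ n (idx n hn m) := Nat.find_spec (⟨m, hn.id_le m⟩ : ∃ j, m ≤ n j)

lemma idx_le {m j : ℕ} (h : m ≤ n j) : idx n hn m ≤ j :=
  Nat.find_min' (⟨m, hn.id_le m⟩ : ∃ j, m ≤ n j) h

lemma idx_self (j : ℕ) : idx n hn (n j) = j :=
  le_antisymm (idx_le n hn le_rfl) (hn.le_iff_le.1 (le_idx n hn (n j)))

lemma idx_succ_of_ne {m : ℕ} (h : ∀ j, n j ≠ m) : idx n hn (m + 1) = idx n hn m := by
  refine le_antisymm (idx_le n hn ?_) (idx_le n hn ((Nat.le_succ m).trans (le_idx n hn (m + 1))))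
  exact lt_of_le_of_ne (le_idx n hn m) (fun e => h _ e.symm)

lemma idx_succ_self (j : ℕ) : idx n hn (n j + 1) = j + 1 := by
  refine le_antisymm (idx_le n hn (hn (Nat.lt_succ_self j))) ?_
  by_contra h
  have := le_idx n hn (n j + 1)
  have := hn.monotone (show idx n hn (n j + 1) ≤ j by omega)
  omega

/-- back to the subsequence -/
noncomputable def pm (m j : ℕ) : F.obj m ⟶ ∐ (fun i : ℕ => F.obj (n i)) :=
  if h : m ≤ n j then F.map (homOfLE h) ≫ Sigma.ι (fun i : ℕ => F.obj (n i)) j else 0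

lemma map_pm {m j : ℕ} (k : ℕ) (h : m ≤ k) (h' : k ≤ n j) :
    F.map (homOfLE h) ≫ pm F n k j = pm F n m j := by
  rw [pm, pm, dif_pos h', dif_pos (h.trans h'), ← F.map_comp_assoc]
  rfl

lemma pm_self (j : ℕ) : pm F n (n j) j = Sigma.ι (fun i : ℕ => F.obj (n i)) j := by
  simp [pm]

include hn in
theorem exists_iso_subsequence (L : D) (ι : ∀ m : ℕ, F.obj m ⟶ L)
    (hL : DerLim.IsHocolim (fun m : ℕ => F.obj m) (fun m : ℕ => F.map (homOfLE (Nat.le_succ m))) L ι)
    (L' : D) (ι' : ∀ i : ℕ, F.obj (n i) ⟶ L')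
    (hL' : DerLim.IsHocolim (fun i : ℕ => F.obj (n i))
      (fun i : ℕ => F.map (homOfLE (hn.monotone (Nat.le_succ i)))) L' ι') :
    ∃ e : L' ≅ L, ∀ i : ℕ, ι' i ≫ e.hom = ι (n i) := by
  classical
  obtain ⟨c, hT⟩ := hL
  obtain ⟨c', hT'⟩ := hL'
  let K := ∐ (fun m : ℕ => F.obj m)
  let K' := ∐ (fun i : ℕ => F.obj (n i))
  let dK : K ⟶ K := 𝟙 K - DerLim.shiftMap (fun m : ℕ => F.obj m) (fun m : ℕ => F.map (homOfLE (Nat.le_succ m)))
  let T := Triangle.mk dK (Sigma.desc ι) c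
  let dK' : K' ⟶ K' := 𝟙 K' - DerLim.shiftMap (fun i : ℕ => F.obj (n i)) (fun i : ℕ => F.map (homOfLE (hn.monotone (Nat.le_succ i))))
  let T' := Triangle.mk dK' (Sigma.desc ι') c'
  have hdT : ∀ m, Sigma.ι (fun m : ℕ => F.obj m) m ≫ dK =
      str F m m - str F m (m + 1) := fun m => by
    simp [dK, K, DerLim.shiftMap, Preadditive.comp_sub, str]
  have hdT' : ∀ i, Sigma.ι (fun i : ℕ => F.obj (n i)) i ≫ dK' =
      pm F n (n i) i - pm F n (n i) (i + 1) := fun i => by
    simp [dK', K', DerLim.shiftMap, Preadditive.comp_sub, pm, hn.monotone (Nat.le_succ i)]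
  have hιT : ∀ m, ι m = F.map (homOfLE (Nat.le_succ m)) ≫ ι (m + 1) := fun m => by
    have h0 : dK ≫ Sigma.desc ι = 0 := comp_distTriang_mor_zero₁₂ T hT
    have h := Sigma.ι (fun m : ℕ => F.obj m) m ≫= h0
    rw [← assoc, hdT, comp_zero, Preadditive.sub_comp, sub_eq_zero, str_self, str,
      dif_pos (Nat.le_succ m), assoc] at h
    simpa using h
  have hιle : ∀ (m k : ℕ) (h : m ≤ k), F.map (homOfLE h) ≫ ι k = ι m := by
    intro m k h
    induction h with
    | refl => simp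
    | @step k h ih => rw [← map_map_eq F h (Nat.le_succ k), assoc, ← hιT, ih]
  let a : K' ⟶ K := Sigma.desc fun i => ∑ t ∈ Finset.Ico (n i) (n (i + 1)), str F (n i) t
  let b : K' ⟶ K := Sigma.desc fun i => str F (n i) (n i)
  let p : K ⟶ K' := Sigma.desc fun m => pm F n m (idx n hn m)
  let q : K ⟶ K' := Sigma.desc fun m =>
    if n (idx n hn m) = m then pm F n m (idx n hn m) else 0
  have htel : ∀ (i e : ℕ), n i ≤ e →
      (∑ t ∈ Finset.Ico (n i) e, str F (n i) t) ≫ dK = str F (n i) (n i) - str F (n i) e := by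
    intro i e he
    induction he with
    | refl => simp
    | @step k hk ih =>
      rw [Finset.sum_Ico_succ_top hk, Preadditive.add_comp, ih]
      have : str F (n i) k ≫ dK = str F (n i) k - str F (n i) (k + 1) := by
        have e : str F (n i) k = F.map (homOfLE hk) ≫ Sigma.ι (fun m : ℕ => F.obj m) k := dif_pos hk
        conv_lhs => rw [e, assoc, hdT]
        rw [Preadditive.comp_sub, map_str F k hk le_rfl, map_str F k hk (Nat.le_succ k)]
      rw [this]; abel
  have hab : dK' ≫ b = a ≫ dK := Sigma.hom_ext _ _ fun i => by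
    rw [← assoc, hdT', Preadditive.sub_comp, ← assoc, Sigma.ι_desc, htel i _ (hn.monotone (Nat.le_succ i))]
    simp [pm, b, hn.monotone (Nat.le_succ i), map_str]
  have hpq : dK ≫ p = q ≫ dK' := Sigma.hom_ext _ _ fun m => by
    rw [← assoc, hdT, Preadditive.sub_comp, ← assoc, Sigma.ι_desc]
    simp only [str, le_refl, dif_pos, Nat.le_succ, assoc, Sigma.ι_desc, p]
    rw [map_pm F n (m + 1) (Nat.le_succ m) (le_idx n hn (m + 1))]
    simp only [homOfLE_refl, CategoryTheory.Functor.map_id, id_comp]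
    by_cases h : ∃ j, n j = m
    · obtain ⟨j, rfl⟩ := h
      rw [idx_succ_self, idx_self, if_pos rfl, pm_self]
      simpa [pm_self] using (hdT' j).symm
    · push_neg at h
      rw [idx_succ_of_ne n hn h, if_neg (h _), zero_comp, sub_self]
  have hbp : b ≫ p = 𝟙 K' := Sigma.hom_ext _ _ fun i => by
    simp [b, p, K, K', str_self, idx_self, pm_self]
  have haq : a ≫ q = 𝟙 K' := Sigma.hom_ext _ _ fun i => by
    rw [Sigma.ι_desc_assoc, Preadditive.sum_comp, comp_id, Finset.sum_eq_single (n i)]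
    · simp [str_self, q, idx_self, pm_self]
    · intro t ht htn
      simp only [Finset.mem_Ico] at ht
      simp only [str, dif_pos ht.1, assoc, q, Sigma.ι_desc]
      rw [if_neg, comp_zero]
      intro e
      have hle : idx n hn t ≤ i + 1 := idx_le n hn ht.2.le
      rcases lt_trichotomy (idx n hn t) i with hlt | heq | hgt
      · have := hn hlt; omega
      · rw [heq] at e; exact htn e.symm
      · have he : idx n hn t = i + 1 := by omega
        rw [he] at e
        omega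
    · intro h
      exact absurd (Finset.mem_Ico.2 ⟨le_rfl, hn (Nat.lt_succ_self i)⟩) h
  -- `qa` is homotopic to the identity
  let hh : K ⟶ K := Sigma.desc fun m => -∑ t ∈ Finset.Ico m (n (idx n hn m)), str F m t
  have hqa : dK ≫ hh = q ≫ a - 𝟙 K := Sigma.hom_ext _ _ fun m => by
    rw [← assoc, hdT, Preadditive.sub_comp, Preadditive.comp_sub, ← assoc, Sigma.ι_desc, comp_id]
    simp only [str, le_refl, dif_pos, Nat.le_succ, assoc, Sigma.ι_desc, hh]
    simp only [homOfLE_refl, CategoryTheory.Functor.map_id, id_comp, Preadditive.comp_neg,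
      Preadditive.comp_sum]
    have e1 : ∀ t ∈ Finset.Ico (m + 1) (n (idx n hn (m + 1))),
        F.map (homOfLE (Nat.le_succ m)) ≫ str F (m + 1) t = str F m t := fun t ht =>
      map_str F (m + 1) (Nat.le_succ m) (Finset.mem_Ico.1 ht).1
    change -∑ t ∈ Finset.Ico m (n (idx n hn m)), str F m t -
      -∑ t ∈ Finset.Ico (m + 1) (n (idx n hn (m + 1))), F.map (homOfLE (Nat.le_succ m)) ≫ str F (m + 1) t = _
    rw [Finset.sum_congr rfl e1]
    by_cases h : ∃ j, n j = m
    · obtain ⟨j, rfl⟩ := h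
      rw [idx_succ_self, idx_self, if_pos rfl, pm_self, Finset.Ico_self, Finset.sum_empty]
      simp only [a, Sigma.ι_desc]
      rw [Finset.sum_eq_sum_Ico_succ_bot (hn (Nat.lt_succ_self j)), str_self]
      simp
    · push_neg at h
      rw [idx_succ_of_ne n hn h, if_neg (h _), zero_comp,
        Finset.sum_eq_sum_Ico_succ_bot (lt_of_le_of_ne (le_idx n hn m) fun e => h _ e.symm), str_self]
      simp
  obtain ⟨u, hu₂, hu₃⟩ := complete_distinguished_triangle_morphism T' T hT' hT a b hab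
  obtain ⟨d, hd₂, hd₃⟩ := complete_distinguished_triangle_morphism T T' hT hT' q p hpq
  change L' ⟶ L at u
  change L ⟶ L' at d
  change Sigma.desc ι' ≫ u = b ≫ Sigma.desc ι at hu₂
  change c' ≫ a⟦(1 : ℤ)⟧' = u ≫ c at hu₃
  change Sigma.desc ι ≫ d = p ≫ Sigma.desc ι' at hd₂
  change c ≫ q⟦(1 : ℤ)⟧' = d ≫ c' at hd₃
  have hι' : ∀ i, ι' i ≫ u = ι (n i) := fun i => by
    have := Sigma.ι (fun i : ℕ => F.obj (n i)) i ≫= hu₂
    simpa [b, str_self] using this
  let φ : T' ⟶ T' :=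
    { hom₁ := 𝟙 _, hom₂ := 𝟙 _, hom₃ := u ≫ d
      comm₁ := by simp
      comm₂ := by
        change Sigma.desc ι' ≫ u ≫ d = 𝟙 _ ≫ Sigma.desc ι'
        rw [reassoc_of% hu₂, hd₂, reassoc_of% hbp, id_comp]
      comm₃ := by
        change c' ≫ (𝟙 K')⟦(1 : ℤ)⟧' = (u ≫ d) ≫ c'
        rw [assoc, ← hd₃, ← reassoc_of% hu₃, ← Functor.map_comp, haq] }
  have : IsIso (u ≫ d) := isIso₃_of_isIso₁₂ φ hT' hT'
    (inferInstanceAs (IsIso (𝟙 _))) (inferInstanceAs (IsIso (𝟙 _)))
  have hdu : IsIso (d ≫ u) := by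
    let δ := d ≫ u - 𝟙 L
    have h1 : Sigma.desc ι ≫ δ = 0 := Sigma.hom_ext _ _ fun m => by
      simp only [δ, Sigma.ι_desc_assoc, Preadditive.comp_sub, comp_id, comp_zero]
      have := Sigma.ι (fun m : ℕ => F.obj m) m ≫= hd₂
      simp only [Sigma.ι_desc_assoc, p, pm, dif_pos (le_idx n hn m), assoc, Sigma.ι_desc] at this
      rw [← assoc, this, assoc, hι', hιle, sub_eq_zero]
      exact (Sigma.ι_desc _ _).symm
    obtain ⟨e, he⟩ := Triangle.yoneda_exact₃ T hT δ h1
    have h2 : δ ≫ c = 0 := by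
      have hz : c ≫ dK⟦(1 : ℤ)⟧' = 0 := comp_distTriang_mor_zero₃₁ T hT
      simp only [δ, Preadditive.sub_comp, id_comp, assoc, ← hu₃]
      rw [← reassoc_of% hd₃, ← Functor.map_comp,
        show q ≫ a = dK ≫ hh + 𝟙 K by rw [hqa, sub_add_cancel], Functor.map_add,
        Preadditive.comp_add, CategoryTheory.Functor.map_id, Functor.map_comp, reassoc_of% hz, zero_comp,
        zero_add]
      exact sub_eq_zero.2 (comp_id c)
    have h3 : δ ≫ δ = 0 := by
      conv_lhs => arg 2; rw [he]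
      change δ ≫ c ≫ e = 0
      rw [reassoc_of% h2, zero_comp]
    have hδ : d ≫ u = 𝟙 L + δ := by simp [δ]
    rw [hδ]
    exact ⟨𝟙 L - δ, by simp [Preadditive.add_comp, Preadditive.comp_sub, h3],
      by simp [Preadditive.sub_comp, Preadditive.comp_add, h3]⟩
  have : IsSplitEpi u := IsSplitEpi.mk' ⟨inv (d ≫ u) ≫ d, (assoc _ _ _).trans (IsIso.inv_hom_id _)⟩
  have : IsSplitMono u := IsSplitMono.mk' ⟨d ≫ inv (u ≫ d), (assoc _ _ _).symm.trans (IsIso.hom_inv_id _)⟩
  have : IsIso u := isIso_of_mono_of_isSplitEpi u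
  exact ⟨asIso u, hι'⟩

end Subsequence

section Presentation

variable {D : Type u} [Category.{v} D] [Preadditive D] [HasZeroObject D] [HasShift D ℤ]
  [∀ n : ℤ, (shiftFunctor D n).Additive] [Pretriangulated D] [IsTriangulated D] [HasCoproducts.{v} D]
  [HasColimitsOfShape (Discrete ℕ) D] {ι : Type v} (E : ι → D)

/-- sums of shifts of the generators -/
def IsSumShift (X : D) : Prop :=
  ∃ (κ : Type v) (a : κ → ι) (m : κ → ℤ),
    Nonempty (X ≅ ∐ (fun k => (shiftFunctor D (m k)).obj (E (a k))))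

/-- an object over `X` -/
structure Node (X : D) where
  K : D
  π : K ⟶ X

lemma exists_next {X : D} (N : Node X) :
    ∃ (N' : Node X) (f : N.K ⟶ N'.K), f ≫ N'.π = N.π ∧
      (∀ (i : ι) (m : ℤ) (u : (E i)⟦m⟧ ⟶ N.K), u ≫ N.π = 0 → u ≫ f = 0) ∧
      ∃ (κ : Type v) (a : κ → ι) (m : κ → ℤ) (y : (∐ fun k => (shiftFunctor D (m k)).obj (E (a k))) ⟶ N.K)
        (z : N'.K ⟶ (shiftFunctor D (1 : ℤ)).obj (∐ fun k => (shiftFunctor D (m k)).obj (E (a k)))),
        Triangle.mk y f z ∈ distinguishedTriangles := by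
  let κ := Σ i : ι, Σ m : ULift.{v} ℤ, {u : (E i)⟦m.down⟧ ⟶ N.K // u ≫ N.π = 0}
  let y : (∐ fun k : κ => (E k.1)⟦k.2.1.down⟧) ⟶ N.K := Sigma.desc fun k => k.2.2.1
  obtain ⟨K', f, z, hT⟩ := distinguished_cocone_triangle y
  obtain ⟨π', hπ'⟩ : ∃ π' : K' ⟶ X, N.π = f ≫ π' :=
    Triangle.yoneda_exact₂ _ hT N.π (Sigma.hom_ext _ _ fun k => by simp [y, k.2.2.2])
  refine ⟨⟨K', π'⟩, f, hπ'.symm, fun i m u hu => ?_, κ, _, _, y, z, hT⟩
  have h : y ≫ f = 0 := comp_distTriang_mor_zero₁₂ _ hT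
  have := Sigma.ι (fun k : κ => (E k.1)⟦k.2.1.down⟧) ⟨i, ⟨m⟩, u, hu⟩ ≫= h
  simpa [y] using this

theorem exists_presentation (hc : ∀ i, CohDer.IsCompactObject (E i)) (hg : CohDer.Generates E) (X : D) :
    ∃ (K : ℕ → D) (f : ∀ n, K n ⟶ K (n + 1)) (i : ∀ n, K n ⟶ X),
      DerLim.IsHocolim K f X i ∧
      (∃ (κ : Type v) (a : κ → ι) (m : κ → ℤ), Nonempty (K 0 ≅ ∐ (fun k => (shiftFunctor D (m k)).obj (E (a k))))) ∧
      ∀ n, ∃ (κ : Type v) (a : κ → ι) (m : κ → ℤ) (y : (∐ fun k => (shiftFunctor D (m k)).obj (E (a k))) ⟶ K n)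
        (z : K (n + 1) ⟶ (shiftFunctor D (1 : ℤ)).obj (∐ fun k => (shiftFunctor D (m k)).obj (E (a k)))),
        Triangle.mk y (f n) z ∈ distinguishedTriangles := by
  let κ₀ := Σ i : ι, Σ m : ULift.{v} ℤ, (E i)⟦m.down⟧ ⟶ X
  let N₀ : Node X := ⟨∐ fun k : κ₀ => (E k.1)⟦k.2.1.down⟧, Sigma.desc fun k => k.2.2⟩
  choose next f hf hkill hstep using fun N : Node X => exists_next E N
  let N : ℕ → Node X := Nat.rec N₀ (fun _ M => next M)
  let K : ℕ → D := fun n => (N n).K
  let g : ∀ n, K n ⟶ K (n + 1) := fun n => f (N n)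
  have hg' : ∀ n, g n ≫ (N (n + 1)).π = (N n).π := fun n => hf (N n)
  have hkill' : ∀ n (i : ι) (m : ℤ) (u : (E i)⟦m⟧ ⟶ K n), u ≫ (N n).π = 0 → u ≫ g n = 0 :=
    fun n => hkill (N n)
  obtain ⟨L, π, δ, hT⟩ := distinguished_cocone_triangle (𝟙 (∐ K) - DerLim.shiftMap K g)
  obtain ⟨c, hcπ⟩ : ∃ c : L ⟶ X, Sigma.desc (fun n => (N n).π) = π ≫ c :=
    Triangle.yoneda_exact₂ _ hT _ (Sigma.hom_ext _ _ fun n => by
      simp only [Triangle.mk_mor₁, Preadditive.sub_comp, Preadditive.comp_sub, id_comp, comp_zero,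
        DerLim.shiftMap, Sigma.ι_desc_assoc, assoc, Sigma.ι_desc, hg', sub_self]
      erw [id_comp, Sigma.ι_desc, sub_self])
  have hdπ : (𝟙 (∐ K) - DerLim.shiftMap K g) ≫ π = 0 := comp_distTriang_mor_zero₁₂ _ hT
  have hπ : ∀ n, Sigma.ι K n ≫ π = g n ≫ Sigma.ι K (n + 1) ≫ π := fun n => by
    have := Sigma.ι K n ≫= hdπ
    rw [Preadditive.sub_comp, id_comp, Preadditive.comp_sub, comp_zero, sub_eq_zero,
      DerLim.shiftMap, Sigma.ι_desc_assoc, assoc] at this
    exact this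
  have hbij : ∀ (i : ι) (m : ℤ), Function.Bijective (fun u : (E i)⟦m⟧ ⟶ L => u ≫ c) := by
    intro i m
    constructor
    · suffices ∀ u : (E i)⟦m⟧ ⟶ L, u ≫ c = 0 → u = 0 from
        fun a b h => sub_eq_zero.1 (this _ (by rw [Preadditive.sub_comp]; exact sub_eq_zero.2 h))
      intro u hu
      have hcomp := isCompactObject_shift (hc i) m
      have hδ : u ≫ δ = 0 := by
        refine eq_zero_of_shift_comp (T := Triangle.mk (𝟙 (∐ K) - DerLim.shiftMap K g) π δ) 1
          (fun v hv => ?_) _ ?_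
        · exact tower_inj (isCompactObject_shift hcomp _) K g v hv
        · exact (assoc _ _ _).trans ((congrArg (u ≫ ·) (comp_distTriang_mor_zero₃₁ _ hT)).trans comp_zero)
      obtain ⟨v, rfl⟩ : ∃ v : (E i)⟦m⟧ ⟶ ∐ K, u = v ≫ π := Triangle.coyoneda_exact₃ _ hT u hδ
      obtain ⟨k, w, hw⟩ := tower_normal_form hcomp K g π hπ v
      rw [hw] at hu ⊢
      have hwπ : w ≫ (N k).π = 0 := by
        have := Sigma.ι K k ≫= hcπ
        rw [Sigma.ι_desc] at this
        simpa [this, assoc] using hu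
      rw [hπ k, reassoc_of% (hkill' k i m w hwπ), zero_comp]
    · intro v
      refine ⟨Sigma.ι (fun k : κ₀ => (E k.1)⟦k.2.1.down⟧) ⟨i, ⟨m⟩, v⟩ ≫ Sigma.ι K 0 ≫ π, ?_⟩
      have := Sigma.ι K 0 ≫= hcπ
      rw [Sigma.ι_desc] at this
      simp only [assoc, ← this]
      exact Sigma.ι_desc (f := fun k : κ₀ => (E k.1)⟦k.2.1.down⟧) (fun k => k.2.2) ⟨i, ⟨m⟩, v⟩
  have : IsIso c := by
    obtain ⟨C, p, e, hC⟩ := distinguished_cocone_triangle c
    refine (Triangle.isZero₃_iff_isIso₁ _ hC).1 ?_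
    have key : ∀ (i : ι) (m : ℤ) (x : (E i)⟦m⟧ ⟶ C), x = 0 := fun i m x => by
      have he : x ≫ e = 0 := by
        refine eq_zero_of_shift_comp (T := Triangle.mk c p e) 1 (fun v hv => ?_) _ ?_
        · let σ := (shiftFunctorAdd' D m (-1) (m + -1) rfl).app (E i)
          exact (cancel_epi σ.hom).1 ((hbij i (m + -1)).1 (show (σ.hom ≫ v) ≫ c = (σ.hom ≫ 0) ≫ c by
            rw [assoc]; erw [hv]; simp))
        · exact (assoc _ _ _).trans ((congrArg (x ≫ ·) (comp_distTriang_mor_zero₃₁ _ hC)).trans comp_zero)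
      obtain ⟨y, rfl⟩ : ∃ y : (E i)⟦m⟧ ⟶ X, x = y ≫ p := Triangle.coyoneda_exact₃ _ hC x he
      obtain ⟨z, rfl⟩ := (hbij i m).2 y
      have h0 : c ≫ p = 0 := comp_distTriang_mor_zero₁₂ _ hC
      simp [assoc, h0]
    refine hg C fun i m φ => ?_
    let adj := (shiftEquiv D m).symm.toAdjunction
    have := key i (-m) ((adj.homEquiv _ _).symm φ)
    rw [← (adj.homEquiv (E i) C).apply_symm_apply φ]
    exact (congrArg (adj.homEquiv (E i) C) this).trans (by
      rw [Adjunction.homEquiv_unit]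
      simp only [Functor.map_zero, comp_zero])
  refine ⟨K, g, fun n => (N n).π, ⟨inv c ≫ δ, isomorphic_distinguished _ hT _ ?_⟩,
    ⟨κ₀, _, _, ⟨Iso.refl _⟩⟩, fun n => hstep (N n)⟩
  exact Triangle.isoMk _ _ (Iso.refl _) (Iso.refl _) (asIso c).symm (by simp) (by simp [hcπ]; exact hcπ) (by simp)

end Presentation

end Groth.Agent.CohDer42.Hocolim
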