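import Groth.Agent.CohDer42.Tower
import Mathlib.CategoryTheory.Preadditive.Injective.Basic
import Mathlib.CategoryTheory.Preadditive.Projective.Basic

/-!
# Resolutions of short exact sequences of complexes
-/

universe v u

open CategoryTheory Category Limits HomologicalComplex

set_option autoImplicit false
set_option linter.unusedSectionVars false
set_option backward.isDefEq.respectTransparency false

namespace Groth.Agent.CohDer42

variable {A : Type u} [Category.{v} A] [Abelian A]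
  (S : ShortComplex (CochainComplex A ℤ)) (hS : S.ShortExact) (n : ℤ)

include hS in
lemma exists_injective_horseshoe [EnoughInjectives A]
    [S.X₁.IsStrictlyGE n] [S.X₂.IsStrictlyGE n] [S.X₃.IsStrictlyGE n] :
    ∃ (T : ShortComplex (CochainComplex A ℤ)) (φ : S ⟶ T), T.ShortExact ∧
      T.X₁.IsStrictlyGE n ∧ T.X₂.IsStrictlyGE n ∧ T.X₃.IsStrictlyGE n ∧
      (∀ k : ℤ, Injective (T.X₁.X k) ∧ Injective (T.X₂.X k) ∧ Injective (T.X₃.X k)) ∧
      QuasiIso φ.τ₁ ∧ QuasiIso φ.τ₂ ∧ QuasiIso φ.τ₃ := by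
  have hI : ∀ X : A, ∃ (Y : A) (ι : X ⟶ Y), Injective Y ∧ Mono ι := fun X =>
    ⟨Injective.under X, Injective.ι X, inferInstance, inferInstance⟩
  have hI0 : ∃ Z : A, IsZero Z ∧ Injective Z :=
    ⟨_, Limits.isZero_zero A, ⟨fun _ _ _ => ⟨0, (Limits.isZero_zero A).eq_of_tgt _ _⟩⟩⟩
  have := hS.mono_f
  have := hS.epi_g
  obtain ⟨I₁, a, h₁, hI₁, ham, haq⟩ := exists_resolution (fun X => Injective X) hI S.X₁ hI0 n
  have : Mono a := mono_of_mono_f _ ham
  have sq : IsPushout S.f a (pushout.inl _ _) (pushout.inr _ _) := IsPushout.of_hasPushout S.f a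
  obtain ⟨hm, hq⟩ := mono_quasiIso_of_isPushout sq.flip
  have : (pushout S.f a).IsStrictlyGE n := by
    rw [CochainComplex.isStrictlyGE_iff]
    intro i hi
    have sqi := sq.map (eval A (ComplexShape.up ℤ) i)
    rw [IsZero.iff_id_eq_zero]
    exact sqi.hom_ext ((S.X₂.isZero_of_isStrictlyGE n i hi).eq_of_src _ _)
      ((I₁.isZero_of_isStrictlyGE n i hi).eq_of_src _ _)
  obtain ⟨I₂, b, h₂, hI₂, hbm, hbq⟩ := exists_resolution (fun X => Injective X) hI (pushout S.f a) hI0 n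
  have : Mono b := mono_of_mono_f _ hbm
  let F : I₁ ⟶ I₂ := pushout.inr S.f a ≫ b
  have hT : (ShortComplex.mk F (cokernel.π F) (cokernel.condition F)).ShortExact :=
    { exact := ShortComplex.exact_cokernel F }
  have h3 : S.f ≫ pushout.inl S.f a ≫ b ≫ cokernel.π F = 0 := by
    rw [reassoc_of% sq.w]
    exact (congrArg (a ≫ ·) ((assoc _ _ _).symm.trans (cokernel.condition F))).trans comp_zero
  let φ : S ⟶ ShortComplex.mk F (cokernel.π F) (cokernel.condition F) :=
    ShortComplex.homMk a (pushout.inl S.f a ≫ b)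
      (hS.exact.desc (pushout.inl S.f a ≫ b ≫ cokernel.π F) h3)
      (by
        dsimp [F]
        rw [← assoc S.f, sq.w, assoc])
      (by
        dsimp
        rw [hS.exact.g_desc, assoc])
  have hτ₂ : QuasiIso φ.τ₂ := inferInstanceAs (QuasiIso (pushout.inl S.f a ≫ b))
  have hsplit : ∀ i, Injective ((cokernel F).X i) := fun i => by
    have := hI₁ i
    have := hI₂ i
    have hi := hT.map_of_exact (eval A (ComplexShape.up ℤ) i)
    have : Mono (F.f i) := hi.mono_f
    let r : I₂.X i ⟶ I₁.X i := Injective.factorThru (𝟙 _) (F.f i)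
    have spl := ShortComplex.Splitting.ofExactOfRetraction _ hi.exact r
      (Injective.comp_factorThru (𝟙 _) (F.f i)) hi.epi_g
    exact Retract.injective (Y := I₂.X i) ⟨spl.s, (cokernel.π F).f i, spl.s_g⟩
  refine ⟨_, φ, hT, h₁, h₂, ?_, fun k => ⟨hI₁ k, hI₂ k, hsplit k⟩, haq, hτ₂,
    HomologySequence.quasiIso_τ₃ φ hS hT haq hτ₂⟩
  rw [CochainComplex.isStrictlyGE_iff]
  intro i hi
  rw [IsZero.iff_id_eq_zero, ← cancel_epi ((cokernel.π F).f i)]
  exact (I₂.isZero_of_isStrictlyGE n i hi).eq_of_src _ _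

include hS in
lemma exists_projective_horseshoe [EnoughProjectives A]
    [S.X₁.IsStrictlyLE n] [S.X₂.IsStrictlyLE n] [S.X₃.IsStrictlyLE n] :
    ∃ (T : ShortComplex (CochainComplex A ℤ)) (φ : T ⟶ S), T.ShortExact ∧
      T.X₁.IsStrictlyLE n ∧ T.X₂.IsStrictlyLE n ∧ T.X₃.IsStrictlyLE n ∧
      (∀ k : ℤ, Projective (T.X₁.X k) ∧ Projective (T.X₂.X k) ∧ Projective (T.X₃.X k)) ∧
      QuasiIso φ.τ₁ ∧ QuasiIso φ.τ₂ ∧ QuasiIso φ.τ₃ := by
  have hP : ∀ X : A, ∃ (Y : A) (π : Y ⟶ X), Projective Y ∧ Epi π := fun X =>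
    ⟨Projective.over X, Projective.π X, inferInstance, inferInstance⟩
  have hP0 : ∃ Z : A, IsZero Z ∧ Projective Z :=
    ⟨_, Limits.isZero_zero A, ⟨fun _ _ _ => ⟨0, (Limits.isZero_zero A).eq_of_src _ _⟩⟩⟩
  have := hS.mono_f
  have := hS.epi_g
  obtain ⟨P₃, r, h₃, hP₃, hre, hrq⟩ := exists_left_resolution (fun X => Projective X) hP0 hP S.X₃ n
  have : Epi r := epi_of_epi_f _ hre
  have sq : IsPullback (pullback.fst S.g r) (pullback.snd _ _) S.g r := IsPullback.of_hasPullback S.g r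
  obtain ⟨he, hq⟩ := epi_quasiIso_of_isPullback sq
  have : (pullback S.g r).IsStrictlyLE n := by
    rw [CochainComplex.isStrictlyLE_iff]
    intro i hi
    have sqi := sq.map (eval A (ComplexShape.up ℤ) i)
    rw [IsZero.iff_id_eq_zero]
    exact sqi.hom_ext ((S.X₂.isZero_of_isStrictlyLE n i hi).eq_of_tgt _ _)
      ((P₃.isZero_of_isStrictlyLE n i hi).eq_of_tgt _ _)
  obtain ⟨P₂, q, h₂, hP₂, hqe, hqq⟩ :=
    exists_left_resolution (fun X => Projective X) hP0 hP (pullback S.g r) n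
  have : Epi q := epi_of_epi_f _ hqe
  have : Epi (pullback.snd S.g r) := inferInstance
  let j : S.X₁ ⟶ pullback S.g r := sq.lift S.f 0 (by simp)
  have hj₁ : j ≫ pullback.fst _ _ = S.f := sq.lift_fst _ _ _
  have hj₂ : j ≫ pullback.snd _ _ = 0 := sq.lift_snd _ _ _
  have : Mono j := mono_of_mono_fac hj₁
  have sq₁ : IsPullback (pullback.snd q j) (pullback.fst q j) j q :=
    (IsPullback.of_hasPullback q j).flip
  obtain ⟨hk, hk'⟩ := epi_quasiIso_of_isPullback sq₁
  have hz : pullback.fst q j ≫ (q ≫ pullback.snd S.g r) = 0 := by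
    rw [← assoc, ← sq₁.w, assoc, hj₂, comp_zero]
  let T := ShortComplex.mk _ _ hz
  have : Mono (pullback.fst q j) := inferInstance
  have hTe : T.Exact := by
    refine T.exact_of_f_is_kernel (KernelFork.IsLimit.ofι' _ _ (fun {W} x hx => ?_))
    have hx' : x ≫ q ≫ pullback.snd S.g r = 0 := hx
    have h0 : (x ≫ q ≫ pullback.fst S.g r) ≫ S.g = 0 := by
      rw [assoc, assoc, sq.w, reassoc_of% hx', zero_comp]
    refine ⟨sq₁.lift (hS.exact.lift (x ≫ q ≫ pullback.fst S.g r) h0) x ?_, sq₁.lift_snd _ _ _⟩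
    refine sq.hom_ext ?_ ?_
    · rw [assoc, hj₁, hS.exact.lift_f, assoc]
    · rw [assoc, hj₂, comp_zero, assoc, hx']
  have hT : T.ShortExact :=
    { exact := hTe
      mono_f := inferInstanceAs (Mono (pullback.fst q j))
      epi_g := inferInstanceAs (Epi (q ≫ pullback.snd S.g r)) }
  let φ : T ⟶ S := ShortComplex.homMk (pullback.snd q j) (q ≫ pullback.fst S.g r) r
    (by
      dsimp [T]
      rw [← hj₁, reassoc_of% sq₁.w])
    (by
      dsimp [T]
      rw [assoc, assoc, sq.w])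
  have hsplit : ∀ i, Projective (T.X₁.X i) := fun i => by
    have := hP₃ i
    have := hP₂ i
    have hi := hT.map_of_exact (eval A (ComplexShape.up ℤ) i)
    have : Epi (T.g.f i) := hi.epi_g
    let s : T.X₃.X i ⟶ T.X₂.X i := Projective.factorThru (𝟙 (P₃.X i)) (T.g.f i)
    have spl := ShortComplex.Splitting.ofExactOfSection _ hi.exact s
      (Projective.factorThru_comp (𝟙 (P₃.X i)) (T.g.f i)) hi.mono_f
    exact Retract.projective (Y := P₂.X i) ⟨T.f.f i, spl.r, spl.f_r⟩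
  refine ⟨T, φ, hT, ?_, h₂, h₃, fun k => ⟨hsplit k, hP₂ k, hP₃ k⟩, hk',
    inferInstanceAs (QuasiIso (q ≫ pullback.fst S.g r)), hrq⟩
  rw [CochainComplex.isStrictlyLE_iff]
  intro i hi
  rw [IsZero.iff_id_eq_zero, ← cancel_mono (T.f.f i)]
  exact (P₂.isZero_of_isStrictlyLE n i hi).eq_of_tgt _ _

end Groth.Agent.CohDer42
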