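import Mathlib.CategoryTheory.Triangulated.Opposite.Pretriangulated
import Mathlib.CategoryTheory.Idempotents.Basic
import Mathlib.CategoryTheory.Limits.Opposites
import Groth.Agent.CohDer42.TriBasic

/-!
# Idempotent completeness from countable coproducts
-/

universe v u

open CategoryTheory Category Limits Pretriangulated Preadditive
open CategoryTheory.Pretriangulated.Opposite

set_option autoImplicit false
set_option linter.unusedSectionVars false

namespace Groth.Agent.CohDer42

variable {D : Type u} [Category.{v} D] [Preadditive D] [HasZeroObject D] [HasShift D ℤ]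
  [∀ n : ℤ, (shiftFunctor D n).Additive] [Pretriangulated D]

lemma isIdempotentComplete_of_countable_coproducts [HasColimitsOfShape (Discrete ℕ) D] :
    IsIdempotentComplete D := by
  refine ⟨fun X e he => ?_⟩
  let S := ∐ fun _ : ℕ => X
  let d : S ⟶ S := Sigma.desc fun n =>
    Sigma.ι (fun _ : ℕ => X) n - e ≫ Sigma.ι (fun _ : ℕ => X) (n + 1)
  let r : S ⟶ S := Sigma.desc fun n =>
    Sigma.ι (fun _ : ℕ => X) n - e ≫ Sigma.ι (fun _ : ℕ => X) n -
      ∑ k ∈ Finset.range n, e ≫ Sigma.ι (fun _ : ℕ => X) k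
  have hr : d ≫ r = 𝟙 _ := by
    apply Sigma.hom_ext
    intro n
    simp only [d, r, Sigma.ι_desc_assoc, sub_comp, assoc, Sigma.ι_desc, comp_id, comp_sub,
      comp_sum, reassoc_of% he, he, sub_self, zero_sub, Finset.sum_range_succ, comp_neg, comp_add]
    rw [comp_id]
    abel
  obtain ⟨Y, π, δ, hT⟩ := distinguished_cocone_triangle d
  have hδ : δ = 0 := by
    have h : δ ≫ (shiftFunctor D (1 : ℤ)).map d = 0 := comp_distTriang_mor_zero₃₁ _ hT
    have h' := h =≫ (shiftFunctor D (1 : ℤ)).map r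
    rw [assoc, ← Functor.map_comp, hr, CategoryTheory.Functor.map_id, zero_comp] at h'
    exact (comp_id δ).symm.trans h'
  have : Epi π := Triangle.epi₂ (T := Triangle.mk d π δ) hT hδ
  have hdπ : d ≫ π = 0 := comp_distTriang_mor_zero₁₂ _ hT
  obtain ⟨i, hi⟩ : ∃ i : Y ⟶ X, Sigma.desc (fun _ => e) = π ≫ i :=
    Triangle.yoneda_exact₂ _ hT _ (by
      change d ≫ Sigma.desc (fun _ => e) = 0
      apply Sigma.hom_ext
      intro n
      simp [d, sub_comp, he])
  have hstep : ∀ n, Sigma.ι (fun _ : ℕ => X) n ≫ π = e ≫ Sigma.ι (fun _ : ℕ => X) (n + 1) ≫ π := fun n => by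
    have := Sigma.ι (fun _ : ℕ => X) n ≫= hdπ
    simp only [d, Sigma.ι_desc_assoc, sub_comp, assoc, comp_zero, sub_eq_zero] at this
    exact this
  have hconst : ∀ n, Sigma.ι (fun _ : ℕ => X) n ≫ π = Sigma.ι (fun _ : ℕ => X) 0 ≫ π := by
    intro n
    induction n with
    | zero => rfl
    | succ n ih =>
      have h1 : e ≫ Sigma.ι (fun _ : ℕ => X) (n + 1) ≫ π = Sigma.ι (fun _ : ℕ => X) (n + 1) ≫ π := by
        rw [hstep (n + 1), reassoc_of% he]
      rw [← ih, hstep n, h1]
  refine ⟨Y, i, Sigma.ι (fun _ : ℕ => X) 0 ≫ π, ?_, ?_⟩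
  · rw [← cancel_epi π, ← assoc, ← hi, comp_id]
    apply Sigma.hom_ext
    intro n
    simp only [Sigma.ι_desc_assoc]
    rw [hconst n, hstep 0, reassoc_of% he, ← hstep 0]
  · rw [assoc, ← hi, Sigma.ι_desc]

lemma isIdempotentComplete_of_countable_products [HasLimitsOfShape (Discrete ℕ) D] :
    IsIdempotentComplete D := by
  have : HasLimitsOfShape (Discrete ℕ)ᵒᵖ D :=
    hasLimitsOfShape_of_equivalence (Discrete.opposite ℕ).symm
  have : HasColimitsOfShape (Discrete ℕ) Dᵒᵖ := inferInstance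
  exact (Idempotents.isIdempotentComplete_iff_opposite (C := D)).1
    isIdempotentComplete_of_countable_coproducts

end Groth.Agent.CohDer42
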