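import Groth.Agent.CohDer42.BddInj
import Mathlib.CategoryTheory.Abelian.GrothendieckCategory.EnoughInjectives

/-!
# Injective amplitude
-/

universe w v u

open CategoryTheory Category Limits Pretriangulated DerivedCategory CochainComplex.HomComplex

set_option autoImplicit false
set_option linter.unusedSectionVars false
set_option backward.isDefEq.respectTransparency false

namespace Groth.Agent.CohDer42.InjAmp

variable {A : Type u} [Category.{v} A] [Abelian A] [HasDerivedCategory.{w} A]

lemma hom_eq_zero_of_kInjective (I : CochainComplex A ℤ) [I.IsKInjective] (Y : A) (i : ℤ)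
    (hI : IsZero (I.X i)) (φ : (DerivedCategory.singleFunctor A 0).obj Y ⟶ (Q.obj I)⟦i⟧) : φ = 0 := by
  let eS := (singleFunctorIsoCompQ A 0).app Y
  let eQ := quotientCompQhIso A
  obtain ⟨ψ, hψ⟩ := (CochainComplex.IsKInjective.Qh_map_bijective
    ((HomotopyCategory.quotient A (ComplexShape.up ℤ)).obj ((CochainComplex.singleFunctor A 0).obj Y))
    (I⟦i⟧)).2 (eQ.hom.app _ ≫ eS.inv ≫ φ ≫ (Q.commShiftIso i).inv.app I ≫ eQ.inv.app _)
  obtain ⟨f, rfl⟩ := (HomotopyCategory.quotient A (ComplexShape.up ℤ)).map_surjective ψ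
  have hf : f = 0 := by
    apply HomologicalComplex.from_single_hom_ext
    have hz : IsZero (I.X (0 + i)) := by rwa [zero_add]
    exact hz.eq_of_tgt _ _
  rw [hf, Functor.map_zero, Functor.map_zero] at hψ
  replace hψ := hψ.symm
  rwa [Preadditive.IsIso.comp_left_eq_zero, Preadditive.IsIso.comp_left_eq_zero,
    Preadditive.IsIso.comp_right_eq_zero] at hψ

lemma exactAt_of_hom_eq_zero (K : CochainComplex A ℤ) (i : ℤ)
    (h : ∀ (Y : A) (φ : (DerivedCategory.singleFunctor A 0).obj Y ⟶ (Q.obj K)⟦i⟧), φ = 0) :
    K.ExactAt i := by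
  rw [HomologicalComplex.exactAt_iff_isZero_homology, IsZero.iff_id_eq_zero,
    ← cancel_epi (K.homologyπ i), comp_id, comp_zero]
  let z := HomologicalComplex.mkHomFromSingle (c := ComplexShape.up ℤ) (K := K) (K.iCycles i)
    (fun j _ => K.iCycles_d i j)
  have hz : Q.map z = 0 := by
    let e := ((DerivedCategory.singleFunctors A).shiftIso i 0 i (add_zero i)).app (K.cycles i)
    let eS := (singleFunctorIsoCompQ A i).app (K.cycles i)
    have h0 := h (K.cycles i) (e.inv ≫ (eS.hom ≫ Q.map z)⟦i⟧')
    rw [Preadditive.IsIso.comp_left_eq_zero, Functor.map_eq_zero_iff,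
      Preadditive.IsIso.comp_left_eq_zero] at h0
    exact h0
  have hH : HomologicalComplex.homologyMap z i = 0 := by
    have := congrArg (homologyFunctor A i).map hz
    rw [Functor.map_zero] at this
    have e := (homologyFunctorFactors A i).hom.naturality z
    simp only [Functor.comp_map] at e
    rw [this, zero_comp, eq_comm, Preadditive.IsIso.comp_left_eq_zero] at e
    exact e
  have hc : (HomologicalComplex.singleObjCyclesSelfIso (ComplexShape.up ℤ) i (K.cycles i)).inv ≫
      HomologicalComplex.cyclesMap z i = 𝟙 _ := by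
    rw [← cancel_mono (K.iCycles i), assoc, HomologicalComplex.cyclesMap_i,
      HomologicalComplex.singleObjCyclesSelfIso_inv_iCycles_assoc, id_comp]
    simp [z]
  rw [← id_comp (K.homologyπ i), ← hc, assoc, ← HomologicalComplex.homologyπ_naturality, hH,
    comp_zero, comp_zero]

theorem extVanishing_iff [EnoughInjectives A] (X : DerivedCategory A) (a b : ℤ) :
    (∀ (F : A) (i : ℤ), (i < a ∨ b < i) →
        ∀ φ : (DerivedCategory.singleFunctor A 0).obj F ⟶ X⟦i⟧, φ = 0) ↔
      ∃ I : CochainComplex A ℤ, (∀ i, Injective (I.X i)) ∧ (∀ i, (i < a ∨ b < i) → IsZero (I.X i)) ∧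
        Nonempty (Q.obj I ≅ X) := by
  constructor
  · intro h
    have hGE : TStructure.t.IsGE X a := by
      let eK := Q.objObjPreimageIso X
      have : (Q.objPreimage X).IsGE a := by
        rw [CochainComplex.isGE_iff]
        intro i hi
        refine exactAt_of_hom_eq_zero _ i fun Y φ => ?_
        rw [← cancel_mono ((shiftFunctor (DerivedCategory A) i).map eK.hom), zero_comp]
        exact h Y i (Or.inl hi) _
      have : (Q.obj (Q.objPreimage X)).IsGE a := (isGE_Q_obj_iff _ a).2 inferInstance
      exact TStructure.t.isGE_of_iso eK a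
    obtain ⟨K, _, ⟨e⟩⟩ := exists_iso_Q_obj_of_isGE X a
    obtain ⟨J, q, _, hJ, _⟩ :=
      CochainComplex.Plus.modelCategoryQuillen.exists_quasiIso_injective K a
    have := CochainComplex.isKInjective_of_injective J a
    let eJ : X ≅ Q.obj J := e ≪≫ asIso (Q.map q)
    have hn : ExtVanishAbove (Q.obj J) b :=
      extVanishAbove_of_iso eJ fun Y i hi => h Y i (Or.inr hi)
    have hle : J.IsLE b := by
      rw [CochainComplex.isLE_iff]
      intro i hi
      rw [HomologicalComplex.exactAt_iff' J (i - 1) i (i + 1) (by simp) (by simp)]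
      rw [ShortComplex.exact_iff_exact_up_to_refinements]
      intro T x hx
      obtain ⟨g, hg⟩ := exists_lift_cycle J (show b < i by omega) hn x hx
      exact ⟨T, 𝟙 T, inferInstance, g, by simpa using hg.symm⟩
    have hinj : Injective (J.cycles b) := by
      obtain ⟨s, hs⟩ := exists_lift_cycle J (show b < b + 1 by omega) hn (J.iCycles (b + 1))
        (J.iCycles_d (b + 1) (b + 1 + 1))
      let T : J.X (b + 1 - 1) ⟶ J.cycles (b + 1) := J.toCycles (b + 1 - 1) (b + 1)
      have hs' : s ≫ T = 𝟙 _ := by
        rw [← cancel_mono (J.iCycles (b + 1)), assoc, J.toCycles_i, hs, id_comp]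
      have hb : b = b + 1 - 1 := by omega
      let f : J.cycles b ⟶ J.X (b + 1 - 1) := J.iCycles b ≫ (HomologicalComplex.XIsoOfEq J hb).hom
      have hf : f ≫ T = 0 := by
        rw [← cancel_mono (J.iCycles (b + 1)), assoc, J.toCycles_i, zero_comp]
        simp [f]
      have hp : (𝟙 _ - T ≫ s) ≫ (HomologicalComplex.XIsoOfEq J hb).inv ≫ J.d b (b + 1) = 0 := by
        rw [HomologicalComplex.XIsoOfEq_inv_comp_d, Preadditive.sub_comp, assoc, hs, id_comp,
          J.toCycles_i, sub_self]
      exact Retract.injective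
        { i := f
          r := J.liftCycles ((𝟙 _ - T ≫ s) ≫ (HomologicalComplex.XIsoOfEq J hb).inv) (b + 1) (by simp)
            ((assoc _ _ _).trans hp)
          retract := by
            rw [← cancel_mono (J.iCycles b), assoc, J.liftCycles_i, ← assoc, Preadditive.comp_sub,
              comp_id, reassoc_of% hf, zero_comp, sub_zero, id_comp]
            simp [f] }
    refine ⟨J.truncLE b, fun n => ?_, fun n hn' => ?_,
      ⟨(eJ ≪≫ (asIso (Q.map (J.ιTruncLE b))).symm).symm⟩⟩
    · rcases lt_trichotomy n b with hlt | rfl | hgt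
      · exact Injective.of_iso (J.truncLEXIso b n hlt).symm inferInstance
      · exact Injective.of_iso (J.truncLEXIsoCycles n).symm hinj
      · exact ((J.truncLE b).isZero_of_isStrictlyLE b n hgt).injective
    · by_cases hgt : b < n
      · exact (J.truncLE b).isZero_of_isStrictlyLE b n hgt
      · obtain hlt | hlt := hn'
        · obtain h' | rfl := lt_or_eq_of_le (not_lt.1 hgt)
          · exact (J.isZero_of_isStrictlyGE a n hlt).of_iso (J.truncLEXIso b n h')
          · refine IsZero.of_iso ?_ (J.truncLEXIsoCycles n)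
            rw [IsZero.iff_id_eq_zero, ← cancel_mono (J.iCycles n)]
            exact (J.isZero_of_isStrictlyGE a n hlt).eq_of_tgt _ _
        · exact absurd hlt hgt
  · rintro ⟨I, hI, hz, ⟨e⟩⟩ F i hi φ
    have : I.IsStrictlyGE a := by
      rw [CochainComplex.isStrictlyGE_iff]
      exact fun j hj => hz j (Or.inl hj)
    have := CochainComplex.isKInjective_of_injective I a
    rw [← cancel_mono ((shiftFunctor (DerivedCategory A) i).map e.inv), zero_comp]
    exact hom_eq_zero_of_kInjective I F i (hz i hi) _

end Groth.Agent.CohDer42.InjAmp
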