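import Mathlib.CategoryTheory.Abelian.GrothendieckCategory.EnoughInjectives

/-!
# Functorial injective embeddings in Grothendieck abelian categories
-/

universe w v u

open CategoryTheory Category Limits MorphismProperty
open scoped ZeroObject

set_option autoImplicit false

namespace Groth.Agent.CohDer42

variable (C : Type u) [Category.{v} C] [Abelian C] [IsGrothendieckAbelian.{w} C]

theorem exists_functorial_injective_embedding :
    ∃ (J : C ⥤ C) (j : 𝟭 C ⟶ J), ∀ X, Injective (J.obj X) ∧ Mono (j.app X) := by
  let D := functorialFactorizationData (monomorphisms C) (monomorphisms C).rlp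
  let a : C ⥤ Arrow C :=
    { obj := fun X => Arrow.mk (0 : X ⟶ 0)
      map := fun f => Arrow.homMk f (𝟙 _) }
  refine ⟨a ⋙ D.Z, { app := fun X => D.i.app (a.obj X), naturality := fun X Y f => ?_ },
    fun X => ⟨?_, D.hi (a.obj X)⟩⟩
  · exact D.i.naturality (a.map f)
  · have hp := D.hp (a.obj X)
    rw [(isZero_zero C).eq_of_tgt (D.p.app (a.obj X)) 0] at hp
    rw [injective_iff_rlp_monomorphisms_zero]
    exact hp

end Groth.Agent.CohDer42
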