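import Mathlib.CategoryTheory.Localization.CalculusOfFractions
import Mathlib.Algebra.Homology.Additive

/-!
# Lifting complexes along localization functors with calculus of fractions
-/

universe v v' u u'

open CategoryTheory Category Limits

set_option autoImplicit false
set_option linter.unusedSectionVars false
set_option backward.isDefEq.respectTransparency false

namespace Groth.Agent.CohDer42.LiftCx

variable {A : Type u} [Category.{v} A] [Preadditive A] {B : Type u'} [Category.{v'} B] [Preadditive B]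
  (L : A ⥤ B) [L.Additive] (W : MorphismProperty A) [L.IsLocalization W]
  [W.HasLeftCalculusOfFractions] [W.HasRightCalculusOfFractions] (X : CochainComplex B ℤ)

/-- a lift of one differential -/
structure Pair (i j : ℤ) where
  s : A
  t : A
  δ : s ⟶ t
  es : L.obj s ≅ X.X i
  et : L.obj t ≅ X.X j
  comm : L.map δ ≫ et.hom = es.hom ≫ X.d i j

include W in
lemma nonempty_pair (i j : ℤ) : Nonempty (Pair L X i j) := by
  have := Localization.essSurj L W
  let ei := L.objObjPreimageIso (X.X i)
  let ej := L.objObjPreimageIso (X.X j)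
  obtain ⟨φ, hφ⟩ := Localization.exists_rightFraction L W (ei.hom ≫ X.d i j ≫ ej.inv)
  exact ⟨⟨φ.X', L.objPreimage (X.X j), φ.f, Localization.isoOfHom L W φ.s φ.hs ≪≫ ei, ej, by
    rw [← φ.map_s_comp_map L (Localization.inverts L W), ← hφ]
    simp⟩⟩

include W in
lemma exists_down (h i j : ℤ) (p : Pair L X i j) :
    ∃ (c : A) (δ : c ⟶ p.s) (e : L.obj c ≅ X.X h),
      L.map δ ≫ p.es.hom = e.hom ≫ X.d h i ∧ δ ≫ p.δ = 0 := by
  have := Localization.essSurj L W
  let eh := L.objObjPreimageIso (X.X h)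
  obtain ⟨φ, hφ⟩ := Localization.exists_rightFraction L W (eh.hom ≫ X.d h i ≫ p.es.inv)
  have hf : L.map φ.f ≫ p.es.hom = L.map φ.s ≫ eh.hom ≫ X.d h i := by
    rw [← φ.map_s_comp_map L (Localization.inverts L W), ← hφ]
    simp
  have hz : L.map (φ.f ≫ p.δ) = L.map (0 : φ.X' ⟶ p.t) := by
    rw [L.map_zero, ← cancel_mono p.et.hom, zero_comp, L.map_comp, assoc, p.comm, reassoc_of% hf,
      X.d_comp_d, comp_zero, comp_zero]
  obtain ⟨c, s, hs, hc⟩ := (MorphismProperty.map_eq_iff_precomp L W _ _).1 hz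
  rw [comp_zero] at hc
  refine ⟨c, s ≫ φ.f, Localization.isoOfHom L W s hs ≪≫ Localization.isoOfHom L W φ.s φ.hs ≪≫ eh, ?_,
    by rw [assoc, hc]⟩
  simp only [Iso.trans_hom, Localization.isoOfHom_hom, assoc, L.map_comp]
  rw [hf]

include W in
lemma exists_up (i j k : ℤ) (p : Pair L X i j) :
    ∃ (c : A) (δ : p.t ⟶ c) (e : L.obj c ≅ X.X k),
      L.map δ ≫ e.hom = p.et.hom ≫ X.d j k ∧ p.δ ≫ δ = 0 := by
  have := Localization.essSurj L W
  let ek := L.objObjPreimageIso (X.X k)
  obtain ⟨φ, hφ⟩ := Localization.exists_leftFraction L W (p.et.hom ≫ X.d j k ≫ ek.inv)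
  have hf : L.map φ.f = p.et.hom ≫ X.d j k ≫ ek.inv ≫ L.map φ.s := by
    rw [← φ.map_comp_map_s L (Localization.inverts L W), ← hφ]
    simp
  have hz : L.map (p.δ ≫ φ.f) = L.map (0 : p.s ⟶ φ.Y') := by
    rw [L.map_zero, L.map_comp, hf, reassoc_of% p.comm, reassoc_of% (X.d_comp_d i j k), zero_comp,
      comp_zero]
  obtain ⟨c, s, hs, hc⟩ := (MorphismProperty.map_eq_iff_postcomp L W _ _).1 hz
  rw [zero_comp] at hc
  refine ⟨c, φ.f ≫ s, (Localization.isoOfHom L W s hs).symm ≪≫
    (Localization.isoOfHom L W φ.s φ.hs).symm ≪≫ ek, ?_, by rw [← assoc, hc]⟩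
  simp only [Iso.trans_hom, Iso.symm_hom, assoc, L.map_comp, Localization.isoOfHom_hom_inv_id_assoc]
  rw [hf]
  simp

/-- the next lift below -/
noncomputable def down (h i j : ℤ) (p : Pair L X i j) : Pair L X h i where
  s := (exists_down L W X h i j p).choose
  t := p.s
  δ := (exists_down L W X h i j p).choose_spec.choose
  es := (exists_down L W X h i j p).choose_spec.choose_spec.choose
  et := p.es
  comm := (exists_down L W X h i j p).choose_spec.choose_spec.choose_spec.1

lemma down_comp (h i j : ℤ) (p : Pair L X i j) : (down L W X h i j p).δ ≫ p.δ = 0 :=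
  (exists_down L W X h i j p).choose_spec.choose_spec.choose_spec.2

/-- the next lift above -/
noncomputable def up (i j k : ℤ) (p : Pair L X i j) : Pair L X j k where
  s := p.t
  t := (exists_up L W X i j k p).choose
  δ := (exists_up L W X i j k p).choose_spec.choose
  es := p.et
  et := (exists_up L W X i j k p).choose_spec.choose_spec.choose
  comm := (exists_up L W X i j k p).choose_spec.choose_spec.choose_spec.1

lemma up_comp (i j k : ℤ) (p : Pair L X i j) : p.δ ≫ (up L W X i j k p).δ = 0 :=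
  (exists_up L W X i j k p).choose_spec.choose_spec.choose_spec.2

/-- lifts in negative degrees -/
noncomputable def neg : ∀ k : ℕ, Pair L X (Int.negSucc (k + 1)) (Int.negSucc k)
  | 0 => down L W X (Int.negSucc 1) (Int.negSucc 0) (Int.ofNat 0) (nonempty_pair L W X _ _).some
  | k + 1 => down L W X (Int.negSucc (k + 2)) (Int.negSucc (k + 1)) (Int.negSucc k) (neg k)

/-- lifts in nonnegative degrees -/
noncomputable def pos : ∀ k : ℕ, Pair L X (Int.ofNat k) (Int.ofNat (k + 1))
  | 0 => up L W X (Int.negSucc 0) (Int.ofNat 0) (Int.ofNat 1) (nonempty_pair L W X _ _).some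
  | k + 1 => up L W X (Int.ofNat k) (Int.ofNat (k + 1)) (Int.ofNat (k + 2)) (pos k)

/-- the terms of the lift -/
noncomputable def ob : ℤ → A
  | Int.ofNat k => (pos L W X k).s
  | Int.negSucc k => (neg L W X k).t

/-- the differentials of the lift -/
noncomputable def diff : ∀ n : ℤ, ob L W X n ⟶ ob L W X (n + 1)
  | Int.ofNat k => (pos L W X k).δ
  | Int.negSucc 0 => (nonempty_pair L W X (Int.negSucc 0) (Int.ofNat 0)).some.δ
  | Int.negSucc (k + 1) => (neg L W X k).δ

lemma diff_diff : ∀ n : ℤ, diff L W X n ≫ diff L W X (n + 1) = 0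
  | Int.ofNat k => up_comp L W X (Int.ofNat k) (Int.ofNat (k + 1)) (Int.ofNat (k + 2)) (pos L W X k)
  | Int.negSucc 0 => up_comp L W X (Int.negSucc 0) (Int.ofNat 0) (Int.ofNat 1) _
  | Int.negSucc 1 => down_comp L W X (Int.negSucc 1) (Int.negSucc 0) (Int.ofNat 0) _
  | Int.negSucc (k + 2) => down_comp L W X (Int.negSucc (k + 2)) (Int.negSucc (k + 1)) (Int.negSucc k) _

/-- the components of the comparison -/
noncomputable def cmp : ∀ n : ℤ, L.obj (ob L W X n) ≅ X.X n
  | Int.ofNat k => (pos L W X k).es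
  | Int.negSucc k => (neg L W X k).et

lemma cmp_comm : ∀ n : ℤ, L.map (diff L W X n) ≫ (cmp L W X (n + 1)).hom = (cmp L W X n).hom ≫ X.d n (n + 1)
  | Int.ofNat k => (pos L W X k).comm
  | Int.negSucc 0 => (nonempty_pair L W X (Int.negSucc 0) (Int.ofNat 0)).some.comm
  | Int.negSucc (k + 1) => (neg L W X k).comm

include W in
theorem exists_lift :
    ∃ M : CochainComplex A ℤ, Nonempty ((L.mapHomologicalComplex (ComplexShape.up ℤ)).obj M ≅ X) := by
  refine ⟨CochainComplex.of (ob L W X) (diff L W X) (diff_diff L W X),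
    ⟨HomologicalComplex.Hom.isoOfComponents (cmp L W X) fun i j hij => ?_⟩⟩
  obtain rfl : i + 1 = j := hij
  refine (cmp_comm L W X i).symm.trans ?_
  exact congrArg (fun t => L.map t ≫ (cmp L W X (i + 1)).hom)
    (show diff L W X i = (CochainComplex.of (ob L W X) (diff L W X) (diff_diff L W X)).d i (i + 1) by simp)

end Groth.Agent.CohDer42.LiftCx
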