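import Mathlib.Algebra.Homology.HomotopyCategory.KInjective
import Mathlib.Algebra.Homology.HomologicalComplexLimits
import Mathlib.CategoryTheory.Functor.OfSequence

/-!
# Limits of towers of K-injective complexes
-/

universe v u

open CategoryTheory Category Limits CochainComplex.HomComplex Opposite

set_option autoImplicit false
set_option backward.isDefEq.respectTransparency false

namespace Groth.Agent.CohDer42

variable {A : Type u} [Category.{v} A] [Abelian A]

/-- lifting a cochain along a termwise split epimorphism -/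
lemma cochain_lift {K L M : CochainComplex A ℤ} (p : L ⟶ M) (hp : ∀ m, IsSplitEpi (p.f m)) {n : ℤ}
    (z : Cochain K M n) : ∃ z' : Cochain K L n, z'.comp (Cochain.ofHom p) (add_zero n) = z :=
  ⟨Cochain.mk fun a b h => z.v a b h ≫ (hp b).exists_splitEpi.some.section_, by
    ext a b h
    simp [SplitEpi.id]⟩

lemma step_homotopy {K L M : CochainComplex A ℤ} (p : L ⟶ M) (hp : ∀ m, IsSplitEpi (p.f m))
    (hK : K.Acyclic) [L.IsKInjective] [M.IsKInjective] (f : K ⟶ L) (z : Cochain K M (-1))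
    (hz : δ (-1) 0 z = Cochain.ofHom (f ≫ p)) :
    ∃ w : Cochain K L (-1), δ (-1) 0 w = Cochain.ofHom f ∧
      w.comp (Cochain.ofHom p) (add_zero (-1)) = z := by
  obtain ⟨h, hh⟩ := Cochain.equivHomotopy f 0 (CochainComplex.IsKInjective.homotopyZero f hK)
  rw [Cochain.ofHom_zero, add_zero] at hh
  let e : Cochain K M (-1) := h.comp (Cochain.ofHom p) (add_zero (-1)) - z
  have he : δ (-1) 0 e = 0 := by
    rw [δ_sub, δ_comp_ofHom, ← hh, hz, Cochain.ofHom_comp, sub_self]
  obtain ⟨α, hα⟩ := CochainComplex.IsKInjective.eq_δ_of_cocycle (L := M)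
    (Cocycle.mk e 0 (by simp) he) hK (-2) (by simp)
  obtain ⟨α', hα'⟩ := cochain_lift p hp α
  refine ⟨h - δ (-2) (-1) α', ?_, ?_⟩
  · rw [δ_sub, δ_δ, sub_zero, hh]
  · rw [Cochain.sub_comp, ← δ_comp_ofHom, hα', hα]
    change _ - (h.comp (Cochain.ofHom p) (add_zero (-1)) - z) = z
    abel

lemma succ_homotopies {K : CochainComplex A ℤ} (I : ℕᵒᵖ ⥤ CochainComplex A ℤ)
    (h1 : ∀ n : ℕ, (I.obj (op n)).IsKInjective)
    (h2 : ∀ (n : ℕ) (m : ℤ), IsSplitEpi ((I.map (homOfLE (Nat.le_succ n)).op).f m))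
    (hK : K.Acyclic) (f : ∀ n, K ⟶ I.obj (op n))
    (hf : ∀ n, f (n + 1) ≫ I.map (homOfLE (Nat.le_succ n)).op = f n) :
    ∃ w : ∀ n, Cochain K (I.obj (op n)) (-1), (∀ n, δ (-1) 0 (w n) = Cochain.ofHom (f n)) ∧
      ∀ n, (w (n + 1)).comp (Cochain.ofHom (I.map (homOfLE (Nat.le_succ n)).op)) (add_zero (-1)) = w n := by
  have base : ∃ w : Cochain K (I.obj (op 0)) (-1), δ (-1) 0 w = Cochain.ofHom (f 0) := by
    have := h1 0
    obtain ⟨h, hh⟩ := Cochain.equivHomotopy (f 0) 0 (CochainComplex.IsKInjective.homotopyZero _ hK)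
    rw [Cochain.ofHom_zero, add_zero] at hh
    exact ⟨h, hh.symm⟩
  have step : ∀ (n : ℕ) (z : {z : Cochain K (I.obj (op n)) (-1) // δ (-1) 0 z = Cochain.ofHom (f n)}),
      ∃ w : {w : Cochain K (I.obj (op (n + 1))) (-1) // δ (-1) 0 w = Cochain.ofHom (f (n + 1))},
        w.1.comp (Cochain.ofHom (I.map (homOfLE (Nat.le_succ n)).op)) (add_zero (-1)) = z.1 := by
    intro n z
    have := h1 n
    have := h1 (n + 1)
    obtain ⟨w, hw, hw'⟩ := step_homotopy (I.map (homOfLE (Nat.le_succ n)).op) (h2 n) hK (f (n + 1))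
      z.1 (by rw [hf]; exact z.2)
    exact ⟨⟨w, hw⟩, hw'⟩
  choose g hg using step
  let w : ∀ n, {z : Cochain K (I.obj (op n)) (-1) // δ (-1) 0 z = Cochain.ofHom (f n)} :=
    fun n => Nat.rec ⟨base.choose, base.choose_spec⟩ g n
  exact ⟨fun n => (w n).1, fun n => (w n).2, fun n => hg n (w n)⟩

/-- a limit of a tower of K-injectives with termwise split transition maps is K-injective -/
theorem isKInjective_of_isLimit [HasLimitsOfShape ℕᵒᵖ A] {I : ℕᵒᵖ ⥤ CochainComplex A ℤ}
    (h1 : ∀ n : ℕ, (I.obj (op n)).IsKInjective)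
    (h2 : ∀ (n : ℕ) (m : ℤ), IsSplitEpi ((I.map (homOfLE (Nat.le_succ n)).op).f m))
    {c : Cone I} (hc : IsLimit c) : c.pt.IsKInjective where
  nonempty_homotopy_zero {K} f hK := by
    obtain ⟨w, hw, hw'⟩ := succ_homotopies I h1 h2 hK (fun n => f ≫ c.π.app (op n))
      (fun n => by rw [assoc, c.w])
    let hev := fun q : ℤ => isLimitOfPreserves (HomologicalComplex.eval A (ComplexShape.up ℤ) q) hc
    let leg : ∀ (p q : ℤ) (h : p + (-1) = q),
        Cone (I ⋙ HomologicalComplex.eval A (ComplexShape.up ℤ) q) := fun p q h =>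
      { pt := K.X p
        π := NatTrans.ofOpSequence (fun n => (w n).v p q h) (fun n => by
          have := Cochain.congr_v (hw' n) p q h
          rw [Cochain.comp_zero_cochain_v, Cochain.ofHom_v] at this
          simpa using this.symm) }
    let W : Cochain K c.pt (-1) := Cochain.mk fun p q h => (hev q).lift (leg p q h)
    have hW : ∀ n, W.comp (Cochain.ofHom (c.π.app (op n))) (add_zero (-1)) = w n := fun n => by
      ext p q h
      rw [Cochain.comp_zero_cochain_v, Cochain.ofHom_v]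
      exact (hev q).fac (leg p q h) (op n)
    have hδ : Cochain.ofHom f = δ (-1) 0 W + Cochain.ofHom 0 := by
      rw [Cochain.ofHom_zero, add_zero]
      ext p
      refine (hev p).hom_ext fun ⟨n⟩ => ?_
      have := Cochain.congr_v (hw n) p p (add_zero p)
      rw [← hW n, δ_comp_ofHom, Cochain.comp_zero_cochain_v, Cochain.ofHom_v, Cochain.ofHom_v] at this
      simpa using this.symm
    exact ⟨(Cochain.equivHomotopy f 0).symm ⟨W, hδ⟩⟩

end Groth.Agent.CohDer42
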