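import Mathlib.CategoryTheory.Localization.CalculusOfFractions
import Mathlib.CategoryTheory.ObjectProperty.FullSubcategory

/-!
# Localization of a full subcategory which has enough resolutions
-/

universe v v' u u'

open CategoryTheory Category

set_option autoImplicit false
set_option backward.isDefEq.respectTransparency false

namespace Groth.Agent.CohDer42

variable {D : Type u} [Category.{v} D] (P : ObjectProperty D) (S : MorphismProperty D)
  [S.HasRightCalculusOfFractions]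
  (hP : ∀ X : D, ∃ (X' : D) (s : X' ⟶ X), P X' ∧ S s)

include hP in
lemma hasRightCalculusOfFractions_inverseImage :
    (S.inverseImage P.ι).HasRightCalculusOfFractions where
  exists_rightFraction X Y φ := by
    let φD : S.LeftFraction X.obj Y.obj := ⟨φ.f.hom, φ.s.hom, φ.hs⟩
    obtain ⟨ψ, hψ⟩ := φD.exists_rightFraction
    obtain ⟨X', r, hX', hr⟩ := hP ψ.X'
    refine ⟨⟨(ObjectProperty.homMk (r ≫ ψ.s) : (⟨X', hX'⟩ : P.FullSubcategory) ⟶ X),
      S.comp_mem _ _ hr ψ.hs, ObjectProperty.homMk (r ≫ ψ.f)⟩, ?_⟩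
    refine ObjectProperty.hom_ext _ ?_
    change (r ≫ ψ.s) ≫ φ.f.hom = (r ≫ ψ.f) ≫ φ.s.hom
    rw [assoc, assoc]
    exact congrArg (r ≫ ·) hψ
  ext X Y Y' f₁ f₂ s hs eq := by
    obtain ⟨X₀, t, ht, h⟩ := MorphismProperty.HasRightCalculusOfFractions.ext f₁.hom f₂.hom s.hom hs
      (congrArg (fun k => k.hom) eq)
    obtain ⟨X', r, hX', hr⟩ := hP X₀
    refine ⟨⟨X', hX'⟩, ObjectProperty.homMk (r ≫ t), S.comp_mem _ _ hr ht, ObjectProperty.hom_ext _ ?_⟩
    change (r ≫ t) ≫ f₁.hom = (r ≫ t) ≫ f₂.hom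
    rw [assoc, assoc, h]

variable {E : Type u'} [Category.{v'} E] (Q : D ⥤ E) [Q.IsLocalization S]

include hP in
theorem isLocalization_ι_comp : (P.ι ⋙ Q).IsLocalization (S.inverseImage P.ι) := by
  have hR := hasRightCalculusOfFractions_inverseImage P S hP
  let S' := S.inverseImage P.ι
  have hinv : S'.IsInvertedBy (P.ι ⋙ Q) := fun _ _ f hf => Localization.inverts Q S f.hom hf
  let F := Localization.Construction.lift (P.ι ⋙ Q) hinv
  have hL : ∀ {X Y : P.FullSubcategory} (f : X ⟶ Y), S' f → IsIso (S'.Q.map f) :=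
    fun f hf => Localization.inverts S'.Q S' f hf
  have hF : ∀ {X Y : P.FullSubcategory} (f : X ⟶ Y), F.map (S'.Q.map f) = Q.map f.hom := by
    intro X Y f
    exact (Functor.congr_hom (Localization.Construction.fac (P.ι ⋙ Q) hinv) f).trans
      ((id_comp _).trans (comp_id _))
  have faithful : F.Faithful := ⟨fun {A B} a b h => by
    obtain ⟨X, rfl⟩ := (Localization.Construction.objEquiv S').surjective A
    obtain ⟨Y, rfl⟩ := (Localization.Construction.objEquiv S').surjective B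
    change S'.Q.obj X ⟶ S'.Q.obj Y at a b
    obtain ⟨φ, hφ⟩ := Localization.exists_rightFraction S'.Q S' a
    obtain ⟨φ', hφ'⟩ := Localization.exists_rightFraction S'.Q S' b
    obtain ⟨ψ, hψ⟩ := (MorphismProperty.LeftFraction.mk φ.s φ'.s φ'.hs).exists_rightFraction
    dsimp at ψ hψ
    have e₁ : S'.Q.map (ψ.s ≫ φ.s) ≫ a = S'.Q.map (ψ.s ≫ φ.f) := by
      rw [hφ, Functor.map_comp, assoc, MorphismProperty.RightFraction.map_s_comp_map, Functor.map_comp]
    have e₂ : S'.Q.map (ψ.s ≫ φ.s) ≫ b = S'.Q.map (ψ.f ≫ φ'.f) := by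
      rw [hψ, hφ', Functor.map_comp, assoc, MorphismProperty.RightFraction.map_s_comp_map, Functor.map_comp]
    have e : Q.map (ψ.s ≫ φ.f).hom = Q.map (ψ.f ≫ φ'.f).hom := by
      exact (hF _).symm.trans ((congrArg F.map e₁.symm).trans ((F.map_comp _ _).trans
        ((congrArg (F.map (S'.Q.map (ψ.s ≫ φ.s)) ≫ ·) h).trans
          ((F.map_comp _ _).symm.trans ((congrArg F.map e₂).trans (hF _))))))
    obtain ⟨X₀, t, ht, h₀⟩ := (MorphismProperty.map_eq_iff_precomp Q S _ _).1 e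
    obtain ⟨X', r, hX', hr⟩ := hP X₀
    have h₁ : (ObjectProperty.homMk (r ≫ t) : (⟨X', hX'⟩ : P.FullSubcategory) ⟶ _) ≫ (ψ.s ≫ φ.f) =
        ObjectProperty.homMk (r ≫ t) ≫ (ψ.f ≫ φ'.f) := by
      refine ObjectProperty.hom_ext _ ?_
      change (r ≫ t) ≫ (ψ.s ≫ φ.f).hom = (r ≫ t) ≫ (ψ.f ≫ φ'.f).hom
      rw [assoc, assoc, h₀]
    have := hL (ObjectProperty.homMk (r ≫ t) : (⟨X', hX'⟩ : P.FullSubcategory) ⟶ _)
      (S.comp_mem _ _ hr ht)
    have h₂ : S'.Q.map (ψ.s ≫ φ.f) = S'.Q.map (ψ.f ≫ φ'.f) := by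
      have h' := (S'.Q.map_comp _ _).symm.trans ((congrArg S'.Q.map h₁).trans (S'.Q.map_comp _ _))
      exact (cancel_epi _).1 h'
    have := hL (ψ.s ≫ φ.s) (S'.comp_mem _ _ ψ.hs φ.hs)
    exact (cancel_epi (S'.Q.map (ψ.s ≫ φ.s))).1 (e₁.trans (h₂.trans e₂.symm))⟩
  have full : F.Full := ⟨fun {A B} a => by
    obtain ⟨X, rfl⟩ := (Localization.Construction.objEquiv S').surjective A
    obtain ⟨Y, rfl⟩ := (Localization.Construction.objEquiv S').surjective B
    change Q.obj X.obj ⟶ Q.obj Y.obj at a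
    obtain ⟨φ, hφ⟩ := Localization.exists_rightFraction Q S a
    obtain ⟨X', r, hX', hr⟩ := hP φ.X'
    let s' : (⟨X', hX'⟩ : P.FullSubcategory) ⟶ X := ObjectProperty.homMk (r ≫ φ.s)
    let f' : (⟨X', hX'⟩ : P.FullSubcategory) ⟶ Y := ObjectProperty.homMk (r ≫ φ.f)
    have hs' : S' s' := S.comp_mem _ _ hr φ.hs
    have := hL s' hs'
    refine ⟨inv (S'.Q.map s') ≫ S'.Q.map f', ?_⟩
    rw [Functor.map_comp, Functor.map_inv, IsIso.inv_comp_eq, hF, hF]
    change Q.map (r ≫ φ.f) = Q.map (r ≫ φ.s) ≫ a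
    rw [hφ, Functor.map_comp, Functor.map_comp, assoc, MorphismProperty.RightFraction.map_s_comp_map]⟩
  have essSurj : F.EssSurj := ⟨fun Z => by
    have := Localization.essSurj Q S
    obtain ⟨X', r, hX', hr⟩ := hP (Q.objPreimage Z)
    have := Localization.inverts Q S r hr
    exact ⟨S'.Q.obj ⟨X', hX'⟩, ⟨asIso (Q.map r) ≪≫ Q.objObjPreimageIso Z⟩⟩⟩
  exact ⟨hinv, { }⟩

end Groth.Agent.CohDer42
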