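import Mathlib.CategoryTheory.Localization.Triangulated
import Mathlib.CategoryTheory.Localization.CalculusOfFractions.Preadditive
import Mathlib.CategoryTheory.Triangulated.Subcategory
import Groth.Agent.CohDer42.TriBasic

/-!
# Zero objects in localizations of pretriangulated categories
-/

universe v' v u' u

open CategoryTheory Category Limits Pretriangulated Preadditive
open scoped ZeroObject

set_option autoImplicit false
set_option linter.unusedSectionVars false
set_option backward.isDefEq.respectTransparency false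

namespace Groth.Agent.CohDer42

variable {D : Type u} [Category.{v} D] [Preadditive D] [HasZeroObject D] [HasShift D ℤ]
  [∀ n : ℤ, (shiftFunctor D n).Additive] [Pretriangulated D]
  (S : MorphismProperty D) [S.HasLeftCalculusOfFractions] [S.HasRightCalculusOfFractions]
  [S.IsCompatibleWithTriangulation]
  {E : Type u'} [Category.{v'} E] (Q : D ⥤ E) [Q.IsLocalization S]

omit [Preadditive D] [HasZeroObject D] [HasShift D ℤ] [∀ n : ℤ, (shiftFunctor D n).Additive]
  [Pretriangulated D] [S.HasLeftCalculusOfFractions] [S.HasRightCalculusOfFractions]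
  [S.IsCompatibleWithTriangulation] [Q.IsLocalization S] in
/-- an equivalence sends zero objects to zero objects, with no zero morphisms assumed -/
lemma isZero_map_of_equivalence {A : Type*} [Category A] {B : Type*} [Category B] (e : A ≌ B)
    {X : A} (h : IsZero X) : IsZero (e.functor.obj X) :=
  ⟨fun Y => ⟨{ default := (e.toAdjunction.homEquiv X Y).symm (h.to_ _)
               uniq := fun f => (e.toAdjunction.homEquiv X Y).injective
                ((h.eq_of_src _ _).trans ((e.toAdjunction.homEquiv X Y).apply_symm_apply _).symm) }⟩,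
   fun Y => ⟨{ default := (e.symm.toAdjunction.homEquiv Y X) (h.from_ _)
               uniq := fun f => (e.symm.toAdjunction.homEquiv Y X).symm.injective
                ((h.eq_of_tgt _ _).trans ((e.symm.toAdjunction.homEquiv Y X).symm_apply_apply _).symm) }⟩⟩

lemma isZero_localization_iff (Z : D) : IsZero (Q.obj Z) ↔ IsZero (S.Q.obj Z) := by
  let e := Localization.compEquivalenceFromModelInverseIso Q S
  let E' := Localization.equivalenceFromModel Q S
  constructor
  · intro h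
    exact (isZero_map_of_equivalence E'.symm h).of_iso (e.app Z).symm
  · intro h
    exact (isZero_map_of_equivalence E' (h.of_iso (e.app Z))).of_iso (E'.counitIso.app (Q.obj Z)).symm

lemma isIso_localization_iff {X Y : D} (f : X ⟶ Y) : IsIso (Q.map f) ↔ IsIso (S.Q.map f) := by
  let e := Localization.compEquivalenceFromModelInverseIso Q S
  rw [← isIso_iff_of_reflects_iso (Q.map f) (Localization.equivalenceFromModel Q S).inverse]
  exact NatIso.isIso_map_iff e f

lemma localization_isZero_tfae (Z : D) :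
    (IsZero (Q.obj Z) ↔ ∃ Z' : D, S (0 : Z ⟶ Z')) ∧
    (IsZero (Q.obj Z) ↔ ∃ Z' : D, S (0 : Z' ⟶ Z)) ∧
    (IsZero (Q.obj Z) ↔ ∃ (Z' X Y : D) (f : X ⟶ Y) (g : Y ⟶ Z ⊞ Z') (h : Z ⊞ Z' ⟶ X⟦(1 : ℤ)⟧),
      Triangle.mk f g h ∈ distinguishedTriangles ∧ S f) := by
  rw [isZero_localization_iff S Q]
  have hz : IsZero (S.Q.obj (0 : D)) := S.Q.map_isZero (isZero_zero D)
  have h1 : IsZero (S.Q.obj Z) → ∃ Z' : D, S (0 : Z ⟶ Z') := fun h => by
    obtain ⟨Z', s, hs, he⟩ := (MorphismProperty.map_eq_iff_postcomp S.Q S (𝟙 Z) 0).1 (h.eq_of_src _ _)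
    rw [id_comp, zero_comp] at he
    exact ⟨Z', he ▸ hs⟩
  have h1' : (∃ Z' : D, S (0 : Z ⟶ Z')) → IsZero (S.Q.obj Z) := fun ⟨Z', hs⟩ => by
    have := Localization.inverts S.Q S _ hs
    rw [Functor.map_zero] at this
    rw [IsZero.iff_id_eq_zero, ← cancel_mono (0 : S.Q.obj Z ⟶ S.Q.obj Z')]
    simp
  refine ⟨⟨h1, h1'⟩, ⟨fun h => ?_, fun ⟨Z', hs⟩ => ?_⟩, ⟨fun h => ?_, ?_⟩⟩
  · obtain ⟨Z', s, hs, he⟩ := (MorphismProperty.map_eq_iff_precomp S.Q S (𝟙 Z) 0).1 (h.eq_of_src _ _)
    rw [comp_id, comp_zero] at he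
    exact ⟨Z', he ▸ hs⟩
  · have := Localization.inverts S.Q S _ hs
    rw [Functor.map_zero] at this
    rw [IsZero.iff_id_eq_zero, ← cancel_epi (0 : S.Q.obj Z' ⟶ S.Q.obj Z)]
    simp
  · obtain ⟨Z', hs⟩ := h1 h
    have hs' : S ((shiftFunctor D (-1 : ℤ)).map (0 : Z ⟶ Z')) := (S.shift hs (-1 : ℤ))
    obtain ⟨C, g, k, hT⟩ := distinguished_cocone_triangle ((shiftFunctor D (-1 : ℤ)).map (0 : Z ⟶ Z'))
    obtain ⟨e, -, -⟩ := exists_iso_binaryBiproduct_of_distTriang _ (rot_of_distTriang _ hT) (by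
      change -((shiftFunctor D (-1 : ℤ)).map (0 : Z ⟶ Z'))⟦(1 : ℤ)⟧' = 0
      simp)
    change C ≅ Z'⟦(-1 : ℤ)⟧ ⊞ (Z⟦(-1 : ℤ)⟧)⟦(1 : ℤ)⟧ at e
    let e' : Z ⊞ Z'⟦(-1 : ℤ)⟧ ≅ C :=
      biprod.braiding _ _ ≪≫ biprod.mapIso (Iso.refl _)
        ((shiftFunctorCompIsoId D (-1 : ℤ) 1 (neg_add_cancel 1)).app Z).symm ≪≫ e.symm
    refine ⟨_, _, _, (shiftFunctor D (-1 : ℤ)).map (0 : Z ⟶ Z'), g ≫ e'.inv, e'.hom ≫ k,
      isomorphic_distinguished _ hT _ ?_, hs'⟩
    exact Triangle.isoMk _ _ (Iso.refl _) (Iso.refl _) e' (by simp) (by simp) (by simp)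
  · rintro ⟨Z', X, Y, f, g, h, hT, hf⟩
    obtain ⟨c, hc, -, -⟩ := MorphismProperty.compatible_with_triangulation (W := S)
      (Triangle.mk f g h) (contractibleTriangle Y) hT (contractible_distinguished Y)
      f (𝟙 Y) hf (mem_of_isIso S (𝟙 Y)) (by simp)
    change Z ⊞ Z' ⟶ 0 at c
    have : IsIso (S.Q.map c) := Localization.inverts S.Q S _ hc
    have hzz : IsZero (S.Q.obj (Z ⊞ Z')) := hz.of_iso (asIso (S.Q.map c))
    have : Mono (S.Q.map (biprod.inl : Z ⟶ Z ⊞ Z')) := inferInstance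
    exact IsZero.of_mono (S.Q.map (biprod.inl : Z ⟶ Z ⊞ Z')) hzz

include S in
lemma trW_kernel_iff {X Y : D} (f : X ⟶ Y) :
    ObjectProperty.trW (fun Z : D => IsZero (Q.obj Z)) f ↔ IsIso (Q.map f) := by
  rw [isIso_localization_iff S Q]
  constructor
  · rintro ⟨Z, g, h, hT, hZ⟩
    exact (Triangle.isZero₃_iff_isIso₁ _ (S.Q.map_distinguished _ hT)).1
      ((isZero_localization_iff S Q Z).1 hZ)
  · intro hf
    obtain ⟨Z, g, h, hT⟩ := distinguished_cocone_triangle f
    exact ⟨Z, g, h, hT, (isZero_localization_iff S Q Z).2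
      ((Triangle.isZero₃_iff_isIso₁ _ (S.Q.map_distinguished _ hT)).2 hf)⟩

end Groth.Agent.CohDer42
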