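import Mathlib.CategoryTheory.Triangulated.Orthogonal
import Groth.Agent.CohDer42.TriBasic

/-!
# Orthogonal decompositions in pretriangulated categories
-/

universe v u

open CategoryTheory Category Limits Pretriangulated Preadditive
open scoped ZeroObject

set_option autoImplicit false
set_option backward.isDefEq.respectTransparency false
set_option linter.unusedSectionVars false

namespace Groth.Agent.CohDer42

variable {D : Type u} [Category.{v} D] [Preadditive D] [HasZeroObject D] [HasShift D ℤ]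
  [∀ n : ℤ, (shiftFunctor D n).Additive] [Pretriangulated D]

lemma rightOrthogonal_third_iff (P : ObjectProperty D) [P.IsStableUnderShift ℤ] (T : Triangle D)
    (hT : T ∈ distTriang D) :
    P.rightOrthogonal T.obj₃ ↔ ∀ A : D, P A → Function.Bijective (fun u : A ⟶ T.obj₁ => u ≫ T.mor₁) := by
  constructor
  · intro hZ A hA
    refine ⟨fun u₁ u₂ h => ?_, fun w => ?_⟩
    · have h' : (u₁ - u₂) ≫ T.mor₁ = 0 := by rw [sub_comp, sub_eq_zero]; exact h
      obtain ⟨g, hg⟩ := T.invRotate.coyoneda_exact₂ (inv_rot_of_distTriang _ hT) (u₁ - u₂) h'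
      have : g = 0 := P.rightOrthogonal.le_shift (-1 : ℤ) _ hZ g hA
      rw [this, zero_comp] at hg
      exact sub_eq_zero.1 hg
    · obtain ⟨u, hu⟩ := T.coyoneda_exact₂ hT w (hZ (w ≫ T.mor₂) hA)
      exact ⟨u, hu.symm⟩
  · intro H A f hA
    have h0 : f ≫ T.mor₃ = 0 := by
      refine eq_zero_of_shift_comp (T := T) 1 (fun u hu => ?_) _ ?_
      · exact (H _ (P.le_shift (-1 : ℤ) _ hA)).1 (hu.trans zero_comp.symm)
      · rw [assoc, comp_distTriang_mor_zero₃₁ _ hT, comp_zero]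
    obtain ⟨g, hg⟩ := T.coyoneda_exact₃ hT f h0
    obtain ⟨u, hu⟩ := (H A hA).2 g
    dsimp only at hu
    rw [hg, ← hu, assoc, comp_distTriang_mor_zero₁₂ _ hT, comp_zero]

lemma leftOrthogonal_first_iff (P : ObjectProperty D) [P.IsStableUnderShift ℤ] (T : Triangle D)
    (hT : T ∈ distTriang D) :
    P.leftOrthogonal T.obj₁ ↔ ∀ B : D, P B → Function.Bijective (fun u : T.obj₃ ⟶ B => T.mor₂ ≫ u) := by
  constructor
  · intro hX B hB
    refine ⟨fun u₁ u₂ h => ?_, fun w => ?_⟩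
    · have h' : T.mor₂ ≫ (u₁ - u₂) = 0 := by rw [comp_sub, sub_eq_zero]; exact h
      obtain ⟨g, hg⟩ := T.yoneda_exact₃ hT (u₁ - u₂) h'
      have : g = 0 := P.leftOrthogonal.le_shift (1 : ℤ) _ hX g hB
      rw [this, comp_zero] at hg
      exact sub_eq_zero.1 hg
    · obtain ⟨u, hu⟩ := T.yoneda_exact₂ hT w (hX (T.mor₁ ≫ w) hB)
      exact ⟨u, hu.symm⟩
  · intro H B f hB
    have key : ∀ g : (T.obj₁)⟦(1 : ℤ)⟧ ⟶ B⟦(1 : ℤ)⟧, T.mor₃ ≫ g = 0 → g = 0 := fun g hg => by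
      obtain ⟨k, hk⟩ := T.rotate.yoneda_exact₃ (rot_of_distTriang _ hT) g hg
      let F := shiftFunctor D (1 : ℤ)
      let k' : T.obj₂ ⟶ B := F.preimage k
      obtain ⟨u, hu⟩ := (H B hB).2 k'
      dsimp only at hu
      have hk' : g = -(F.map (T.mor₁ ≫ k')) := by
        rw [F.map_comp, F.map_preimage]
        exact hk.trans (neg_comp _ _)
      rw [hk', ← hu, ← assoc, comp_distTriang_mor_zero₁₂ _ hT, zero_comp, Functor.map_zero, neg_zero]
    have h0 : T.mor₃ ≫ f⟦(1 : ℤ)⟧' = 0 := by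
      refine (H _ (P.le_shift (1 : ℤ) _ hB)).1 ?_
      dsimp only
      rw [← assoc, comp_distTriang_mor_zero₂₃ _ hT, zero_comp, comp_zero]
    apply (shiftFunctor D (1 : ℤ)).map_injective
    rw [key _ h0, Functor.map_zero]

lemma bijective_comp_shift_of (P : ObjectProperty D) [P.IsStableUnderShift ℤ] {X Y : D} (a : X ⟶ Y)
    (n : ℤ) (h : ∀ C, P C → Function.Bijective (fun u : C ⟶ X => u ≫ a)) (C : D) (hC : P C) :
    Function.Bijective (fun u : C ⟶ X⟦n⟧ => u ≫ a⟦n⟧') := by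
  let adj := (shiftEquiv D n).symm.toAdjunction
  have hb := h _ (P.le_shift (-n) _ hC)
  have : (fun u : C ⟶ X⟦n⟧ => u ≫ a⟦n⟧') =
      (adj.homEquiv C Y) ∘ (fun u : C⟦-n⟧ ⟶ X => u ≫ a) ∘ (adj.homEquiv C X).symm := by
    funext u
    change _ = adj.homEquiv C Y ((adj.homEquiv C X).symm u ≫ a)
    rw [adj.homEquiv_naturality_right, Equiv.apply_symm_apply]
    rfl
  rw [this]
  exact (adj.homEquiv C Y).bijective.comp (hb.comp (adj.homEquiv C X).symm.bijective)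

lemma bijective_shift_comp_of (P : ObjectProperty D) [P.IsStableUnderShift ℤ] {X Y : D} (a : X ⟶ Y)
    (n : ℤ) (h : ∀ C, P C → Function.Bijective (fun u : Y ⟶ C => a ≫ u)) (C : D) (hC : P C) :
    Function.Bijective (fun u : Y⟦n⟧ ⟶ C => a⟦n⟧' ≫ u) := by
  let adj := (shiftEquiv D n).toAdjunction
  have hb := h _ (P.le_shift (-n) _ hC)
  have : (fun u : Y⟦n⟧ ⟶ C => a⟦n⟧' ≫ u) =
      (adj.homEquiv X C).symm ∘ (fun u : Y ⟶ C⟦-n⟧ => a ≫ u) ∘ (adj.homEquiv Y C) := by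
    funext u
    change _ = (adj.homEquiv X C).symm (a ≫ adj.homEquiv Y C u)
    rw [adj.homEquiv_naturality_left_symm, Equiv.symm_apply_apply]
    rfl
  rw [this]
  exact (adj.homEquiv X C).symm.bijective.comp (hb.comp (adj.homEquiv Y C).bijective)

/-- objects admitting a decomposition by a triangle with first term in `P` and third term in its
right orthogonal -/
def rightDecomposable (P : ObjectProperty D) : ObjectProperty D := fun X =>
  ∃ (A B : D) (f : A ⟶ X) (g : X ⟶ B) (h : B ⟶ A⟦(1 : ℤ)⟧),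
    Triangle.mk f g h ∈ distTriang D ∧ P A ∧ P.rightOrthogonal B

lemma rightDecomposable_iff (P : ObjectProperty D) [P.IsStableUnderShift ℤ] (X : D) :
    rightDecomposable P X ↔ ∃ (A : D) (f : A ⟶ X), P A ∧
      ∀ C, P C → Function.Bijective (fun u : C ⟶ A => u ≫ f) := by
  constructor
  · rintro ⟨A, B, f, g, h, hT, hA, hB⟩
    exact ⟨A, f, hA, (rightOrthogonal_third_iff P _ hT).1 hB⟩
  · rintro ⟨A, f, hA, hf⟩
    obtain ⟨B, g, h, hT⟩ := distinguished_cocone_triangle f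
    exact ⟨A, B, f, g, h, hT, hA, (rightOrthogonal_third_iff P _ hT).2 hf⟩

lemma rightDecomposition_isTriangulated (P : ObjectProperty D) [P.IsTriangulated] :
    (rightDecomposable P).IsTriangulated := by
  have : (rightDecomposable P).IsClosedUnderIsomorphisms := ⟨fun {X Y} e hX => by
    rw [rightDecomposable_iff] at hX ⊢
    obtain ⟨A, f, hA, hf⟩ := hX
    refine ⟨A, f ≫ e.hom, hA, fun C hC => ⟨fun u₁ u₂ h => (hf C hC).1 ?_, fun w => ?_⟩⟩
    · dsimp only at h ⊢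
      rw [← cancel_mono e.hom, assoc, assoc]
      exact h
    · obtain ⟨u, hu⟩ := (hf C hC).2 (w ≫ e.inv)
      dsimp only at hu ⊢
      exact ⟨u, by rw [← assoc, hu, assoc, e.inv_hom_id, comp_id]⟩⟩
  have : (rightDecomposable P).ContainsZero := by
    obtain ⟨Z, hZ, hPZ⟩ := P.exists_prop_of_containsZero
    exact ⟨Z, hZ, (rightDecomposable_iff P Z).2 ⟨Z, 𝟙 Z, hPZ, fun C _ =>
      ⟨fun u₁ u₂ _ => hZ.eq_of_tgt _ _, fun w => ⟨w, comp_id w⟩⟩⟩⟩
  have : (rightDecomposable P).IsStableUnderShift ℤ := ⟨fun n => ⟨fun X hX => by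
    rw [rightDecomposable_iff] at hX
    obtain ⟨A, f, hA, hf⟩ := hX
    exact (rightDecomposable_iff P _).2 ⟨A⟦n⟧, f⟦n⟧', P.le_shift n _ hA,
      bijective_comp_shift_of P f n hf⟩⟩⟩
  have : (rightDecomposable P).IsTriangulatedClosed₂ := by
    refine ObjectProperty.IsTriangulatedClosed₂.mk' fun T hT h₁ h₃ => ?_
    rw [rightDecomposable_iff] at h₁ h₃ ⊢
    obtain ⟨A₁, a₁, hA₁, b₁⟩ := h₁
    obtain ⟨A₃, a₃, hA₃, b₃⟩ := h₃
    have b₁' := bijective_comp_shift_of P a₁ 1 b₁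
    have b₃' := bijective_comp_shift_of P a₃ (-1) b₃
    obtain ⟨δ, hδ⟩ := (b₁' A₃ hA₃).2 (a₃ ≫ T.mor₃)
    dsimp only at hδ
    obtain ⟨A₂', m₁', m₂', hA⟩ := distinguished_cocone_triangle₂ δ
    obtain ⟨A₂, hA₂, ⟨e⟩⟩ := P.ext_of_isTriangulatedClosed₂' _ hA hA₁ hA₃
    let S : Triangle D := Triangle.mk (m₁' ≫ e.hom) (e.inv ≫ m₂') δ
    have hS : S ∈ distTriang D := isomorphic_distinguished _ hA _
      (Triangle.isoMk _ _ (Iso.refl _) e.symm (Iso.refl _)
        (by simp [S]) (by simp [S]) (by simp [S]))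
    obtain ⟨a₂, hm₁, hm₂⟩ := complete_distinguished_triangle_morphism₂ S T hS hT a₁ a₃ hδ
    refine ⟨A₂, a₂, hA₂, fun C hC => ⟨?_, ?_⟩⟩
    · suffices ∀ u : C ⟶ A₂, u ≫ a₂ = 0 → u = 0 from
        fun u₁ u₂ h => sub_eq_zero.1 (this _ (by rw [sub_comp, sub_eq_zero]; exact h))
      intro u hu
      have h2 : u ≫ S.mor₂ = 0 := by
        refine (b₃ C hC).1 ?_
        dsimp only
        rw [assoc, hm₂, reassoc_of% hu, zero_comp, zero_comp]
      obtain ⟨t, rfl⟩ := S.coyoneda_exact₂ hS u h2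
      change C ⟶ A₁ at t
      have ht : (t ≫ a₁) ≫ T.mor₁ = 0 := by
        rw [assoc, ← hm₁, ← assoc]
        exact hu
      obtain ⟨s, hs⟩ := T.invRotate.coyoneda_exact₂ (inv_rot_of_distTriang _ hT) (t ≫ a₁) ht
      obtain ⟨s', hs'⟩ := (b₃' C hC).2 s
      dsimp only at hs'
      have hw := ((invRotate D).map (Triangle.homMk S T a₁ a₂ a₃ hm₁ hm₂ hδ)).comm₁
      change S.invRotate.mor₁ ≫ a₁ = a₃⟦(-1 : ℤ)⟧' ≫ T.invRotate.mor₁ at hw
      have : t = s' ≫ S.invRotate.mor₁ := by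
        refine (b₁ C hC).1 ?_
        dsimp only
        rw [assoc, hw, ← assoc, hs']
        exact hs
      rw [this, assoc]
      have h0 : S.invRotate.mor₁ ≫ S.mor₁ = 0 :=
        comp_distTriang_mor_zero₁₂ _ (inv_rot_of_distTriang _ hS)
      rw [h0, comp_zero]
    · intro w
      obtain ⟨s, hs⟩ := (b₃ C hC).2 (w ≫ T.mor₂)
      dsimp only at hs
      have h3 : s ≫ δ = 0 := by
        refine (b₁' C hC).1 ?_
        dsimp only
        rw [assoc, hδ, reassoc_of% hs, comp_distTriang_mor_zero₂₃ _ hT, comp_zero, zero_comp]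
      obtain ⟨u₀, hu₀⟩ := S.coyoneda_exact₃ hS s h3
      obtain ⟨t', ht'⟩ := T.coyoneda_exact₂ hT (w - u₀ ≫ a₂) (by
        rw [sub_comp, assoc, ← hm₂, ← assoc, ← hu₀, hs, sub_self])
      obtain ⟨t, ht⟩ := (b₁ C hC).2 t'
      dsimp only at ht
      refine ⟨u₀ + t ≫ S.mor₁, ?_⟩
      change (u₀ + t ≫ S.mor₁) ≫ a₂ = w
      rw [add_comp, assoc, hm₁, ← assoc, ht, ← ht', add_sub_cancel]
  exact { }

/-- objects admitting a decomposition by a triangle with third term in `P` and first term in its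
left orthogonal -/
def leftDecomposable (P : ObjectProperty D) : ObjectProperty D := fun X =>
  ∃ (A Y : D) (f : A ⟶ X) (g : X ⟶ Y) (h : Y ⟶ A⟦(1 : ℤ)⟧),
    Triangle.mk f g h ∈ distTriang D ∧ P Y ∧ P.leftOrthogonal A

lemma leftDecomposable_iff (P : ObjectProperty D) [P.IsStableUnderShift ℤ] (X : D) :
    leftDecomposable P X ↔ ∃ (Y : D) (g : X ⟶ Y), P Y ∧
      ∀ C, P C → Function.Bijective (fun u : Y ⟶ C => g ≫ u) := by
  constructor
  · rintro ⟨A, Y, f, g, h, hT, hY, hA⟩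
    exact ⟨Y, g, hY, (leftOrthogonal_first_iff P _ hT).1 hA⟩
  · rintro ⟨Y, g, hY, hg⟩
    obtain ⟨A, f, h, hT⟩ := distinguished_cocone_triangle₁ g
    exact ⟨A, Y, f, g, h, hT, hY, (leftOrthogonal_first_iff P _ hT).2 hg⟩

lemma leftDecomposition_isTriangulated (P : ObjectProperty D) [P.IsTriangulated] :
    (leftDecomposable P).IsTriangulated := by
  have : (leftDecomposable P).IsClosedUnderIsomorphisms := ⟨fun {X Y} e hX => by
    rw [leftDecomposable_iff] at hX ⊢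
    obtain ⟨A, g, hA, hg⟩ := hX
    refine ⟨A, e.inv ≫ g, hA, fun C hC => ⟨fun u₁ u₂ h => (hg C hC).1 ?_, fun w => ?_⟩⟩
    · dsimp only at h ⊢
      rw [← cancel_epi e.inv, ← assoc, ← assoc]
      exact h
    · obtain ⟨u, hu⟩ := (hg C hC).2 (e.hom ≫ w)
      dsimp only at hu ⊢
      exact ⟨u, by rw [assoc, hu, e.inv_hom_id_assoc]⟩⟩
  have : (leftDecomposable P).ContainsZero := by
    obtain ⟨Z, hZ, hPZ⟩ := P.exists_prop_of_containsZero
    exact ⟨Z, hZ, (leftDecomposable_iff P Z).2 ⟨Z, 𝟙 Z, hPZ, fun C _ =>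
      ⟨fun u₁ u₂ _ => hZ.eq_of_src _ _, fun w => ⟨w, id_comp w⟩⟩⟩⟩
  have : (leftDecomposable P).IsStableUnderShift ℤ := ⟨fun n => ⟨fun X hX => by
    rw [leftDecomposable_iff] at hX
    obtain ⟨A, g, hA, hg⟩ := hX
    exact (leftDecomposable_iff P _).2 ⟨A⟦n⟧, g⟦n⟧', P.le_shift n _ hA,
      bijective_shift_comp_of P g n hg⟩⟩⟩
  have : (leftDecomposable P).IsTriangulatedClosed₂ := by
    refine ObjectProperty.IsTriangulatedClosed₂.mk' fun T hT h₁ h₃ => ?_
    rw [leftDecomposable_iff] at h₁ h₃ ⊢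
    obtain ⟨A₁, a₁, hA₁, b₁⟩ := h₁
    obtain ⟨A₃, a₃, hA₃, b₃⟩ := h₃
    have b₁' := bijective_shift_comp_of P a₁ 1 b₁
    have b₃' := bijective_shift_comp_of P a₃ (-1) b₃
    obtain ⟨δ, hδ⟩ := (b₃ (A₁⟦(1 : ℤ)⟧) (P.le_shift (1 : ℤ) _ hA₁)).2 (T.mor₃ ≫ a₁⟦(1 : ℤ)⟧')
    dsimp only at hδ
    obtain ⟨A₂', m₁', m₂', hA⟩ := distinguished_cocone_triangle₂ δ
    obtain ⟨A₂, hA₂, ⟨e⟩⟩ := P.ext_of_isTriangulatedClosed₂' _ hA hA₁ hA₃
    let S : Triangle D := Triangle.mk (m₁' ≫ e.hom) (e.inv ≫ m₂') δ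
    have hS : S ∈ distTriang D := isomorphic_distinguished _ hA _
      (Triangle.isoMk _ _ (Iso.refl _) e.symm (Iso.refl _)
        (by simp [S]) (by simp [S]) (by simp [S]))
    obtain ⟨a₂, hm₁, hm₂⟩ := complete_distinguished_triangle_morphism₂ T S hT hS a₁ a₃ hδ.symm
    change T.obj₂ ⟶ A₂ at a₂
    refine ⟨A₂, a₂, hA₂, fun C hC => ⟨?_, ?_⟩⟩
    · suffices ∀ u : A₂ ⟶ C, a₂ ≫ u = 0 → u = 0 from
        fun u₁ u₂ h => sub_eq_zero.1 (this _ (by rw [comp_sub, sub_eq_zero]; exact h))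
      intro u hu
      have h2 : S.mor₁ ≫ u = 0 := by
        refine (b₁ C hC).1 ?_
        dsimp only
        rw [← assoc, ← hm₁, assoc, hu, comp_zero, comp_zero]
      obtain ⟨t, rfl⟩ := S.yoneda_exact₂ hS u h2
      change A₃ ⟶ C at t
      have ht : T.mor₂ ≫ (a₃ ≫ t) = 0 := by
        rw [← assoc, hm₂, assoc]
        exact hu
      obtain ⟨s, hs⟩ := T.yoneda_exact₃ hT (a₃ ≫ t) ht
      obtain ⟨s', hs'⟩ := (b₁' C hC).2 s
      dsimp only at hs'
      have : t = δ ≫ s' := by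
        refine (b₃ C hC).1 ?_
        dsimp only
        rw [hs, ← hs', ← assoc, ← hδ, assoc]
      rw [this, ← assoc]
      have h0 : S.mor₂ ≫ δ = 0 := comp_distTriang_mor_zero₂₃ _ hS
      rw [h0, zero_comp]
    · intro w
      obtain ⟨s, hs⟩ := (b₁ C hC).2 (T.mor₁ ≫ w)
      dsimp only at hs
      have h3 : S.invRotate.mor₁ ≫ s = 0 := by
        refine (b₃' C hC).1 ?_
        dsimp only
        have hw := ((invRotate D).map (Triangle.homMk T S a₁ a₂ a₃ hm₁ hm₂ hδ.symm)).comm₁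
        change T.invRotate.mor₁ ≫ a₁ = a₃⟦(-1 : ℤ)⟧' ≫ S.invRotate.mor₁ at hw
        rw [← assoc, ← hw, assoc, hs, ← assoc, comp_zero]
        erw [comp_distTriang_mor_zero₁₂ _ (inv_rot_of_distTriang _ hT)]
        exact zero_comp
      obtain ⟨u₀, hu₀⟩ := S.invRotate.yoneda_exact₂ (inv_rot_of_distTriang _ hS) s h3
      change A₂ ⟶ C at u₀
      change s = S.mor₁ ≫ u₀ at hu₀
      obtain ⟨t', ht'⟩ := T.yoneda_exact₂ hT (w - a₂ ≫ u₀) (by
        rw [comp_sub, ← assoc, hm₁, assoc, ← hu₀, hs, sub_self])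
      obtain ⟨t, ht⟩ := (b₃ C hC).2 t'
      dsimp only at ht
      let v' : A₂ ⟶ C := S.mor₂ ≫ t
      refine ⟨u₀ + v', ?_⟩
      change a₂ ≫ (u₀ + v') = w
      dsimp only [v']
      rw [comp_add, ← assoc, ← hm₂, assoc, ht, ← ht', add_sub_cancel]
  exact { }

end Groth.Agent.CohDer42
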