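import Mathlib.CategoryTheory.Triangulated.Triangulated
import Mathlib.Algebra.Homology.HomologicalComplex
import Groth.Agent.CohDer42.TriBasic

/-!
# Postnikov systems in triangulated categories
-/

universe v u

open CategoryTheory Category Limits Pretriangulated Preadditive
open scoped ZeroObject

set_option autoImplicit false
set_option linter.unusedSectionVars false

namespace Groth.Agent.CohDer42

variable {D : Type u} [Category.{v} D] [Preadditive D] [HasZeroObject D] [HasShift D ℤ]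
  [∀ n : ℤ, (shiftFunctor D n).Additive] [Pretriangulated D]

/-- all maps between two objects vanish -/
def HomZero (A B : D) : Prop := ∀ u : A ⟶ B, u = 0

lemma HomZero.of_iso {A B A' B' : D} (h : HomZero A B) (e : A ≅ A') (e' : B ≅ B') : HomZero A' B' :=
  fun u => by
    rw [← cancel_epi e.hom, ← cancel_mono e'.inv, assoc, h (e.hom ≫ u ≫ e'.inv), comp_zero, zero_comp]

lemma HomZero.shift {A B : D} {p q r : ℤ} (hr : p + q = r) (h : HomZero (A⟦p⟧) B) :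
    HomZero (A⟦r⟧) (B⟦q⟧) := fun u => by
  let e := (shiftFunctorAdd' D p q r hr).app A
  obtain ⟨w, hw⟩ := (shiftFunctor D q).map_surjective (e.inv ≫ u)
  rw [h w, Functor.map_zero] at hw
  rw [← cancel_epi e.inv, ← hw, comp_zero]

lemma HomZero.shift₀ {A B : D} (h : HomZero A B) (q : ℤ) : HomZero (A⟦q⟧) (B⟦q⟧) :=
  (h.of_iso ((shiftFunctorZero D ℤ).app A).symm (Iso.refl B)).shift (zero_add q)

lemma HomZero.shift_target {A B : D} {p q : ℤ} (hr : p + q = 0) (h : HomZero (A⟦p⟧) B) :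
    HomZero A (B⟦q⟧) :=
  (h.shift hr).of_iso ((shiftFunctorZero D ℤ).app A) (Iso.refl _)

lemma HomZero.shift_source {A B : D} {p q : ℤ} (hr : p + q = 0) (h : HomZero A (B⟦p⟧)) :
    HomZero (A⟦q⟧) B :=
  (h.shift₀ q).of_iso (Iso.refl _) ((shiftFunctorCompIsoId D p q hr).app B)

lemma HomZero.mid_target {W : D} {T : Triangle D} (hT : T ∈ distTriang D) (h₁ : HomZero W T.obj₁)
    (h₃ : HomZero W T.obj₃) : HomZero W T.obj₂ := fun u => by
  obtain ⟨w, rfl⟩ := T.coyoneda_exact₂ hT u (h₃ _)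
  rw [h₁ w, zero_comp]

lemma HomZero.mid_source {W : D} {T : Triangle D} (hT : T ∈ distTriang D) (h₁ : HomZero T.obj₁ W)
    (h₃ : HomZero T.obj₃ W) : HomZero T.obj₂ W := fun u => by
  obtain ⟨w, rfl⟩ := T.yoneda_exact₂ hT u (h₁ _)
  rw [h₃ w, comp_zero]

variable {n : ℕ} {X X' : ChainComplex D ℕ}

section System

variable {Y : ℕ → D} {a : ∀ k, Y k ⟶ X'.X k} {b : ∀ k, X'.X (k + 1) ⟶ Y k}
  {c : ∀ k, Y k ⟶ (Y (k + 1))⟦(1 : ℤ)⟧}

lemma cancel_a {k : ℕ} (hT : Triangle.mk (a (k + 1)) (b k) (c k) ∈ distTriang D) {W : D}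
    (h : HomZero (W⟦(1 : ℤ)⟧) (Y k)) (f : W ⟶ Y (k + 1)) (hf : f ≫ a (k + 1) = 0) : f = 0 := by
  obtain ⟨w, rfl⟩ := (Triangle.mk (a (k + 1)) (b k) (c k)).invRotate.coyoneda_exact₂
    (inv_rot_of_distTriang _ hT) f hf
  have h' : HomZero W ((Y k)⟦(-1 : ℤ)⟧) := h.shift_target (by omega)
  rw [h' w]
  exact zero_comp

lemma vanishing_Y (h0 : IsIso (a 0))
    (hP : ∀ k, k < n → Triangle.mk (a (k + 1)) (b k) (c k) ∈ distTriang D)
    (hX : ∀ i j : ℕ, j + 1 < i → i ≤ n → HomZero ((X.X i)⟦(i : ℤ) - j - 1⟧) (X'.X j)) :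
    ∀ j i : ℕ, j + 1 < i → i ≤ n → HomZero ((X.X i)⟦(i : ℤ) - j - 1⟧) (Y j) := by
  intro j
  induction j with
  | zero => exact fun i h1 h2 => (hX i 0 h1 h2).of_iso (Iso.refl _) (asIso (a 0)).symm
  | succ j ih =>
    intro i h1 h2
    have hT := hP j (by omega)
    refine HomZero.mid_target (T := (Triangle.mk (a (j + 1)) (b j) (c j)).invRotate)
      (inv_rot_of_distTriang _ hT) ?_ (hX i (j + 1) h1 h2)
    exact (ih i (by omega) h2).shift (q := -1) (by push_cast; omega)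

end System

lemma exists_system (X : ChainComplex D ℕ) (n : ℕ)
    (hX : ∀ i j : ℕ, j + 2 < i → i ≤ n → HomZero ((X.X i)⟦(i : ℤ) - j - 2⟧) (X.X j)) :
    ∃ (Y : ℕ → D) (a : ∀ k, Y k ⟶ X.X k) (b : ∀ k, X.X (k + 1) ⟶ Y k)
      (c : ∀ k, Y k ⟶ (Y (k + 1))⟦(1 : ℤ)⟧),
      IsIso (a 0) ∧ ∀ k, k < n →
        Triangle.mk (a (k + 1)) (b k) (c k) ∈ distTriang D ∧ b k ≫ a k = X.d (k + 1) k := by
  classical
  let Good : ∀ k, (Σ Y : D, (Y ⟶ X.X k)) → Prop := fun k p =>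
    (∀ i, k + 2 < i → i ≤ n → HomZero ((X.X i)⟦(i : ℤ) - k - 2⟧) p.1) ∧
      (k + 1 ≤ n → ∃ b : X.X (k + 1) ⟶ p.1, b ≫ p.2 = X.d (k + 1) k) ∧
      (k + 2 ≤ n → ∀ f : X.X (k + 2) ⟶ p.1, f ≫ p.2 = 0 → f = 0)
  have hzero : Good 0 ⟨X.X 0, 𝟙 _⟩ :=
    ⟨fun i h1 h2 => hX i 0 h1 h2, fun _ => ⟨X.d 1 0, comp_id _⟩, fun _ f hf => by simpa using hf⟩
  let St := fun k => {p : Σ Y : D, (Y ⟶ X.X k) // k ≤ n → Good k p}
  have hstep : ∀ (k : ℕ) (p : St k), ∃ (q : St (k + 1)) (b : X.X (k + 1) ⟶ p.1.1)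
      (c : p.1.1 ⟶ (q.1.1)⟦(1 : ℤ)⟧), k < n →
        Triangle.mk q.1.2 b c ∈ distTriang D ∧ b ≫ p.1.2 = X.d (k + 1) k := by
    rintro k ⟨⟨Y, a⟩, hp⟩
    by_cases hk : k < n
    · obtain ⟨hv, hb, hinj⟩ := hp hk.le
      obtain ⟨b, hb⟩ := hb hk
      obtain ⟨Y', a', c, hT⟩ := distinguished_cocone_triangle₁ b
      refine ⟨⟨⟨Y', a'⟩, fun _ => ⟨fun i h1 h2 => ?_, fun h => ?_, fun h f hf => ?_⟩⟩, b, c,
        fun _ => ⟨hT, hb⟩⟩
      · exact HomZero.mid_target (T := (Triangle.mk a' b c).invRotate) (inv_rot_of_distTriang _ hT)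
          ((hv i (by omega) h2).shift (q := -1) (by push_cast; omega)) (hX i (k + 1) h1 h2)
      · have h0 : X.d (k + 1 + 1) (k + 1) ≫ b = 0 := hinj h _ (by
          rw [assoc, hb, X.d_comp_d])
        obtain ⟨b', hb'⟩ := Triangle.coyoneda_exact₂ _ hT _ h0
        exact ⟨b', hb'.symm⟩
      · obtain ⟨w, rfl⟩ := (Triangle.mk a' b c).invRotate.coyoneda_exact₂
          (inv_rot_of_distTriang _ hT) f hf
        have h' : HomZero (X.X (k + 1 + 2)) (Y⟦(-1 : ℤ)⟧) :=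
          (hv (k + 1 + 2) (by omega) h).shift_target (by push_cast; omega)
        rw [h' w]
        exact zero_comp
    · exact ⟨⟨⟨X.X (k + 1), 𝟙 _⟩, fun h => absurd h (by omega)⟩, 0, 0, fun h => absurd h hk⟩
  choose nxt bb cc hbc using hstep
  let S : ∀ k, St k := fun k => Nat.rec ⟨⟨X.X 0, 𝟙 _⟩, fun _ => hzero⟩ (fun k p => nxt k p) k
  exact ⟨fun k => (S k).1.1, fun k => (S k).1.2, fun k => bb k (S k), fun k => cc k (S k),
    inferInstanceAs (IsIso (𝟙 _)), fun k hk => hbc k (S k) hk⟩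

section Morphism

variable (φ : X ⟶ X')
  {Y : ℕ → D} {a : ∀ k, Y k ⟶ X.X k} {b : ∀ k, X.X (k + 1) ⟶ Y k}
  {c : ∀ k, Y k ⟶ (Y (k + 1))⟦(1 : ℤ)⟧}
  {qY : ℕ → D} {qa : ∀ k, qY k ⟶ X'.X k} {qb : ∀ k, X'.X (k + 1) ⟶ qY k}
  {qc : ∀ k, qY k ⟶ (qY (k + 1))⟦(1 : ℤ)⟧}
  (h0 : IsIso (a 0))
  (hP : ∀ k, k < n → Triangle.mk (a (k + 1)) (b k) (c k) ∈ distTriang D ∧ b k ≫ a k = X.d (k + 1) k)
  (qh0 : IsIso (qa 0))
  (qhP : ∀ k, k < n →
    Triangle.mk (qa (k + 1)) (qb k) (qc k) ∈ distTriang D ∧ qb k ≫ qa k = X'.d (k + 1) k)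

include hP qh0 qhP in
lemma exists_morphism
    (hX : ∀ i j : ℕ, j + 1 < i → i ≤ n → HomZero ((X.X i)⟦(i : ℤ) - j - 1⟧) (X'.X j)) :
    ∃ y : ∀ k, Y k ⟶ qY k,
      (∀ k, k ≤ n → y k ≫ qa k = a k ≫ φ.f k) ∧
      (∀ k, k < n → b k ≫ y k = φ.f (k + 1) ≫ qb k ∧ c k ≫ (y (k + 1))⟦(1 : ℤ)⟧' = y k ≫ qc k) := by
  classical
  let Good : ∀ k, (Y k ⟶ qY k) → Prop := fun k y =>
    y ≫ qa k = a k ≫ φ.f k ∧ (k < n → b k ≫ y = φ.f (k + 1) ≫ qb k)
  have hcomm : ∀ k (y : Y k ⟶ qY k), y ≫ qa k = a k ≫ φ.f k → k < n →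
      (b k ≫ y - φ.f (k + 1) ≫ qb k) ≫ qa k = 0 := fun k y hy hk => by
    rw [sub_comp, assoc, hy, assoc, (qhP k hk).2, ← assoc, (hP k hk).2, φ.comm, sub_self]
  let St := fun k => {y : Y k ⟶ qY k // k ≤ n → Good k y}
  have hzero : Good 0 (a 0 ≫ φ.f 0 ≫ inv (qa 0)) := by
    have h1 : (a 0 ≫ φ.f 0 ≫ inv (qa 0)) ≫ qa 0 = a 0 ≫ φ.f 0 := by simp
    refine ⟨h1, fun hk => sub_eq_zero.1 ?_⟩
    rw [← cancel_mono (qa 0), zero_comp]
    exact hcomm 0 _ h1 hk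
  have hstep : ∀ (k : ℕ) (y : St k), ∃ y' : St (k + 1), k < n →
      c k ≫ (y'.1)⟦(1 : ℤ)⟧' = y.1 ≫ qc k := by
    rintro k ⟨y, hy⟩
    by_cases hk : k < n
    · obtain ⟨h1, h2⟩ := hy hk.le
      obtain ⟨y', h3, h4⟩ := complete_distinguished_triangle_morphism₁ _ _ (hP k hk).1 (qhP k hk).1
        (φ.f (k + 1)) y (h2 hk)
      change Y (k + 1) ⟶ qY (k + 1) at y'
      have h5 : y' ≫ qa (k + 1) = a (k + 1) ≫ φ.f (k + 1) := h3.symm
      refine ⟨⟨y', fun _ => ⟨h5, fun hk' => sub_eq_zero.1 ?_⟩⟩, fun _ => h4⟩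
      refine cancel_a (qhP k hk).1 ?_ _ (hcomm (k + 1) y' h5 hk')
      have := vanishing_Y (X := X) qh0 (fun m hm => (qhP m hm).1) hX k (k + 2) (by omega) (by omega)
      refine this.of_iso ((shiftFunctorAdd' D _ _ _ (show (0 : ℤ) + 1 = ((k + 2 : ℕ) : ℤ) - k - 1 by
        push_cast; omega)).app _ ≪≫ (shiftFunctor D (1 : ℤ)).mapIso ((shiftFunctorZero D ℤ).app _))
        (Iso.refl _)
    · exact ⟨⟨0, fun h => absurd h (by omega)⟩, fun h => absurd h hk⟩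
  choose nxt hnxt using hstep
  let S : ∀ k, St k := fun k => Nat.rec ⟨_, fun _ => hzero⟩ (fun k p => nxt k p) k
  exact ⟨fun k => (S k).1, fun k hk => ((S k).2 hk).1,
    fun k hk => ⟨((S k).2 hk.le).2 hk, hnxt k (S k) hk⟩⟩

variable (y z : ∀ k, Y k ⟶ qY k)
  (hy : (∀ k, k ≤ n → y k ≫ qa k = a k ≫ φ.f k) ∧
    (∀ k, k < n → b k ≫ y k = φ.f (k + 1) ≫ qb k ∧ c k ≫ (y (k + 1))⟦(1 : ℤ)⟧' = y k ≫ qc k))
  (hz : (∀ k, k ≤ n → z k ≫ qa k = a k ≫ φ.f k) ∧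
    (∀ k, k < n → b k ≫ z k = φ.f (k + 1) ≫ qb k ∧ c k ≫ (z (k + 1))⟦(1 : ℤ)⟧' = z k ≫ qc k))

include h0 hP qh0 qhP hy hz in
lemma unique_top
    (hv : ∀ i : ℕ, 1 ≤ i → i ≤ n → HomZero ((X.X i)⟦(i : ℤ)⟧) ((qY n)⟦(n : ℤ)⟧)) :
    y n = z n := by
  let W := (qY n)⟦(n : ℤ)⟧
  have key : ∀ k, k ≤ n → ∀ q : (qY k)⟦(k : ℤ)⟧ ⟶ W, (y k - z k)⟦(k : ℤ)⟧' ≫ q = 0 := by
    intro k
    induction k with
    | zero =>
      intro _ q
      have : y 0 = z 0 := by rw [← cancel_mono (qa 0), hy.1 0 (by omega), hz.1 0 (by omega)]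
      rw [this, sub_self, Functor.map_zero, zero_comp]
    | succ k ih =>
      intro hk q
      have hk' : k < n := by omega
      let t := y (k + 1) - z (k + 1)
      let e := shiftFunctorAdd' D (1 : ℤ) (k : ℤ) ((k + 1 : ℕ) : ℤ) (by push_cast; omega)
      let p : ((qY (k + 1))⟦(1 : ℤ)⟧)⟦(k : ℤ)⟧ ⟶ W := e.inv.app (qY (k + 1)) ≫ q
      let v₀ : ((Y (k + 1))⟦(1 : ℤ)⟧)⟦(k : ℤ)⟧ ⟶ W := (t⟦(1 : ℤ)⟧')⟦(k : ℤ)⟧' ≫ p
      suffices hv₀ : v₀ = 0 by
        have hnat := e.inv.naturality t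
        change (t⟦(1 : ℤ)⟧')⟦(k : ℤ)⟧' ≫ e.inv.app (qY (k + 1)) =
          e.inv.app (Y (k + 1)) ≫ t⟦((k + 1 : ℕ) : ℤ)⟧' at hnat
        rw [← cancel_epi (e.inv.app (Y (k + 1))), comp_zero, ← assoc, ← hnat, assoc]
        exact hv₀
      have hct : c k ≫ t⟦(1 : ℤ)⟧' = (y k - z k) ≫ qc k := by
        rw [Functor.map_sub, comp_sub, (hy.2 k hk').2, (hz.2 k hk').2, sub_comp]
      have hcv : (c k)⟦(k : ℤ)⟧' ≫ v₀ = 0 := by
        simp only [v₀, ← assoc, ← Functor.map_comp, hct]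
        rw [Functor.map_comp, assoc]
        exact ih hk'.le _
      let T' := (Triangle.shiftFunctor D (k : ℤ)).obj (Triangle.mk (a (k + 1)) (b k) (c k)).rotate
      have hcv' : ((k : ℤ).negOnePow • (c k)⟦(k : ℤ)⟧') ≫ v₀ = 0 := by
        rw [Linear.units_smul_comp, hcv, smul_zero]
      obtain ⟨w, hw⟩ := T'.yoneda_exact₃
        (Triangle.shift_distinguished _ (rot_of_distTriang _ (hP k hk').1) (k : ℤ)) v₀ hcv'
      have hw0 : HomZero (((X.X (k + 1))⟦(k : ℤ)⟧)⟦(1 : ℤ)⟧) W :=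
        (hv (k + 1) (by omega) hk).of_iso
          ((shiftFunctorAdd' D (k : ℤ) 1 ((k + 1 : ℕ) : ℤ) (by push_cast; omega)).app _) (Iso.refl _)
      rw [hw, hw0 w]
      exact comp_zero
  have h := key n le_rfl (𝟙 _)
  rw [comp_id, Functor.map_sub, sub_eq_zero] at h
  exact (shiftFunctor D (n : ℤ)).map_injective h

include h0 hP qh0 qhP hy hz in
lemma unique
    (hv : ∀ i j : ℕ, 0 < i → i ≤ j → j ≤ n →
      HomZero ((X.X (j - i))⟦1 - (i : ℤ)⟧) (X'.X j) ∧ HomZero (X.X j) ((X'.X (j - i))⟦-(i : ℤ)⟧)) :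
    ∀ k, k ≤ n → y k = z k := by
  have hA : ∀ k m : ℕ, k + m + 1 ≤ n → HomZero ((Y k)⟦-(m : ℤ)⟧) (X'.X (k + m + 1)) := by
    intro k
    induction k with
    | zero =>
      intro m hm
      have := (hv (m + 1) (0 + m + 1) (by omega) (by omega) hm).1
      rw [show 0 + m + 1 - (m + 1) = 0 from by omega,
        show (1 : ℤ) - ((m + 1 : ℕ) : ℤ) = -(m : ℤ) from by push_cast; omega] at this
      exact this.of_iso ((shiftFunctor D _).mapIso (asIso (a 0)).symm) (Iso.refl _)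
    | succ k ih =>
      intro m hm
      have hT := (hP k (by omega)).1
      have h1 := ih (m + 1) (by omega)
      rw [show k + (m + 1) + 1 = k + 1 + m + 1 from by omega] at h1
      have h3 := (hv (m + 1) (k + 1 + m + 1) (by omega) (by omega) hm).1
      rw [show k + 1 + m + 1 - (m + 1) = k + 1 from by omega,
        show (1 : ℤ) - ((m + 1 : ℕ) : ℤ) = -(m : ℤ) from by push_cast; omega] at h3
      have hT' := Triangle.shift_distinguished _ (inv_rot_of_distTriang _ hT) (-(m : ℤ))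
      refine HomZero.mid_source hT' ?_ h3
      exact h1.of_iso ((shiftFunctorAdd' D (-1 : ℤ) (-(m : ℤ)) _ (by push_cast; omega)).app _)
        (Iso.refl _)
  have hB : ∀ k m : ℕ, k + m + 1 ≤ n → HomZero (X.X (k + m + 1)) ((qY k)⟦-((m + 1 : ℕ) : ℤ)⟧) := by
    intro k
    induction k with
    | zero =>
      intro m hm
      have := (hv (m + 1) (0 + m + 1) (by omega) (by omega) hm).2
      rw [show 0 + m + 1 - (m + 1) = 0 from by omega] at this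
      exact this.of_iso (Iso.refl _) ((shiftFunctor D _).mapIso (asIso (qa 0)).symm)
    | succ k ih =>
      intro m hm
      have hT := (qhP k (by omega)).1
      have h1 := ih (m + 1) (by omega)
      rw [show k + (m + 1) + 1 = k + 1 + m + 1 from by omega] at h1
      have h3 := (hv (m + 1) (k + 1 + m + 1) (by omega) (by omega) hm).2
      rw [show k + 1 + m + 1 - (m + 1) = k + 1 from by omega] at h3
      have hT' := Triangle.shift_distinguished _ (inv_rot_of_distTriang _ hT) (-((m + 1 : ℕ) : ℤ))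
      refine HomZero.mid_target hT' ?_ h3
      exact h1.of_iso (Iso.refl _)
        ((shiftFunctorAdd' D (-1 : ℤ) (-((m + 1 : ℕ) : ℤ)) _ (by push_cast; omega)).app _)
  intro k
  induction k with
  | zero => intro _; rw [← cancel_mono (qa 0), hy.1 0 (by omega), hz.1 0 (by omega)]
  | succ k ih =>
    intro hk
    have hk' : k < n := by omega
    rw [← sub_eq_zero]
    let t := y (k + 1) - z (k + 1)
    change t = 0
    have hct : c k ≫ t⟦(1 : ℤ)⟧' = 0 := by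
      rw [Functor.map_sub, comp_sub, (hy.2 k hk').2, (hz.2 k hk').2, ih hk'.le, sub_self]
    obtain ⟨w, hw⟩ := (Triangle.mk (a (k + 1)) (b k) (c k)).rotate.yoneda_exact₃
      (rot_of_distTriang _ (hP k hk').1) _ hct
    change (X.X (k + 1))⟦(1 : ℤ)⟧ ⟶ (qY (k + 1))⟦(1 : ℤ)⟧ at w
    obtain ⟨u, hu⟩ := (shiftFunctor D (1 : ℤ)).map_surjective w
    have ht : t = -(a (k + 1) ≫ u) := by
      apply (shiftFunctor D (1 : ℤ)).map_injective
      rw [Functor.map_neg, Functor.map_comp, hu, hw]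
      exact neg_comp _ _
    have htq : t ≫ qa (k + 1) = 0 := by
      rw [sub_comp, hy.1 (k + 1) hk, hz.1 (k + 1) hk, sub_self]
    have huq : u ≫ qa (k + 1) = 0 := by
      have h1 : a (k + 1) ≫ (u ≫ qa (k + 1)) = 0 := by
        rw [ht, neg_comp, assoc, neg_eq_zero] at htq
        exact htq
      obtain ⟨w', hw'⟩ := Triangle.yoneda_exact₂ _ (hP k hk').1 _ h1
      have := hA k 0 (by omega)
      have h2 : HomZero (Y k) (X'.X (k + 1)) := this.of_iso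
        ((shiftFunctorZero' D (-((0 : ℕ) : ℤ)) (by simp)).app _) (Iso.refl _)
      rw [hw', h2 w']
      exact comp_zero
    have hu0 : u = 0 := by
      obtain ⟨w', hw'⟩ := (Triangle.mk (qa (k + 1)) (qb k) (qc k)).invRotate.coyoneda_exact₂
        (inv_rot_of_distTriang _ (qhP k hk').1) u huq
      have h2 : HomZero (X.X (k + 1)) ((qY k)⟦(-1 : ℤ)⟧) :=
        (hB k 0 (by omega)).of_iso (Iso.refl _) (eqToIso (by norm_num))
      rw [hw', h2 w']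
      exact zero_comp
    rw [ht, hu0, comp_zero, neg_zero]

end Morphism

end Groth.Agent.CohDer42
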