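import Groth.Prelude.Def_DerCA
import Groth.Agent.CohDer42.TriBasic
import Mathlib.CategoryTheory.Triangulated.Triangulated

/-!
# Inverse systems of distinguished triangles
-/

universe v u

open CategoryTheory Category Limits Pretriangulated Preadditive Opposite
open scoped ZeroObject

set_option autoImplicit false
set_option linter.unusedSectionVars false
set_option backward.isDefEq.respectTransparency false

namespace Groth.Agent.CohDer42

lemma ps_tr_comp {C : Type u} [Category.{v} C] (X : ARSys.PS C) {a b c : ℕ} (h : a ≤ b) (h' : b ≤ c) :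
    ARSys.tr X h' ≫ ARSys.tr X h = ARSys.tr X (h.trans h') := by
  rw [← X.map_comp]
  exact congrArg X.map (Subsingleton.elim _ _)

lemma ps_const_comp {C : Type u} [Category.{v} C] {X : ARSys.PS C} {A : C}
    (c : (Functor.const ℕᵒᵖ).obj A ⟶ X) {a b : ℕ} (h : a ≤ b) :
    c.app (op b) ≫ ARSys.tr X h = c.app (op a) :=
  (c.naturality (homOfLE h).op).symm.trans (id_comp _)

variable {D : Type u} [Category.{v} D] [Preadditive D] [HasZeroObject D] [HasShift D ℤ]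
  [∀ n : ℤ, (shiftFunctor D n).Additive] [Pretriangulated D]

variable {X Y Z : ARSys.PS D} (f : X ⟶ Y) (g : Y ⟶ Z) (h : Z ⟶ X ⋙ shiftFunctor D (1 : ℤ))
  (hT : ∀ n : ℕ, Triangle.mk (f.app (op n)) (g.app (op n)) (h.app (op n)) ∈ distTriang D)

/-- the morphism of triangles given by a transition map -/
def trTriangle {a b : ℕ} (hab : a ≤ b) :
    Triangle.mk (f.app (op b)) (g.app (op b)) (h.app (op b)) ⟶
      Triangle.mk (f.app (op a)) (g.app (op a)) (h.app (op a)) :=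
  Triangle.homMk _ _ (ARSys.tr X hab) (ARSys.tr Y hab) (ARSys.tr Z hab)
    (f.naturality (homOfLE hab).op).symm (g.naturality (homOfLE hab).op).symm
    (h.naturality (homOfLE hab).op).symm

include hT in
lemma isProIso_of_isProZero_third (hZ : DerCA.IsProZero Z) : DerCA.IsProIso f := by
  intro n
  obtain ⟨n₁, h₁, hz₁⟩ := hZ n
  obtain ⟨m, h₂, hz₂⟩ := hZ n₁
  have hg : ARSys.tr Y h₂ ≫ g.app (op n₁) = 0 := by
    rw [g.naturality (homOfLE h₂).op]
    exact (congrArg (g.app (op m) ≫ ·) hz₂).trans comp_zero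
  obtain ⟨b', hb'⟩ : ∃ b' : Y.obj (op m) ⟶ X.obj (op n₁), ARSys.tr Y h₂ = b' ≫ f.app (op n₁) :=
    Triangle.coyoneda_exact₂ _ (hT n₁) _ hg
  have hd : (f.app (op m) ≫ b' - ARSys.tr X h₂) ≫ f.app (op n₁) = 0 := by
    rw [sub_comp, assoc, ← hb', sub_eq_zero]
    exact (f.naturality (homOfLE h₂).op).symm
  obtain ⟨w, hw⟩ := (Triangle.mk (f.app (op n₁)) (g.app (op n₁)) (h.app (op n₁))).invRotate.coyoneda_exact₂
    (inv_rot_of_distTriang _ (hT n₁)) _ hd
  have hnat := ((invRotate D).map (trTriangle f g h h₁)).comm₁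
  change (Triangle.mk (f.app (op n₁)) (g.app (op n₁)) (h.app (op n₁))).invRotate.mor₁ ≫ ARSys.tr X h₁ =
    (ARSys.tr Z h₁)⟦(-1 : ℤ)⟧' ≫ _ at hnat
  rw [hz₁, Functor.map_zero, zero_comp] at hnat
  have key : (f.app (op m) ≫ b' - ARSys.tr X h₂) ≫ ARSys.tr X h₁ = 0 := by
    rw [hw, assoc]
    erw [hnat]
    exact comp_zero
  refine ⟨m, h₁.trans h₂, b' ≫ ARSys.tr X h₁, ?_, ?_⟩
  · rw [sub_comp, sub_eq_zero, assoc] at key
    rw [key, ps_tr_comp]
  · rw [assoc, f.naturality (homOfLE h₁).op, ← assoc, ← hb', ps_tr_comp]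

include hT in
lemma essConstant_middle {A C : D} (cA : (Functor.const ℕᵒᵖ).obj A ⟶ X)
    (cC : (Functor.const ℕᵒᵖ).obj C ⟶ Z) (hA : DerCA.IsEssConstant X A cA)
    (hC : DerCA.IsEssConstant Z C cC) :
    ∃ (B : D) (cB : (Functor.const ℕᵒᵖ).obj B ⟶ Y), DerCA.IsEssConstant Y B cB := by
  obtain ⟨iA, sA, hsA, hfA⟩ := hA
  obtain ⟨iC, sC, hsC, hfC⟩ := hC
  choose kA hiA hjA hkA using hfA
  choose kC hiC hjC hkC using hfC
  let i := max iA iC
  have hiA' : iA ≤ i := le_max_left _ _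
  have hiC' : iC ≤ i := le_max_right _ _
  let rA : ∀ {j : ℕ}, i ≤ j → (X.obj (op j) ⟶ A) := fun hj => ARSys.tr X (hiA'.trans hj) ≫ sA
  let rC : ∀ {j : ℕ}, i ≤ j → (Z.obj (op j) ⟶ C) := fun hj => ARSys.tr Z (hiC'.trans hj) ≫ sC
  have hA1 : ∀ {j : ℕ} (hj : i ≤ j), cA.app (op j) ≫ rA hj = 𝟙 A := fun hj => by
    simp only [rA, ← assoc]
    rw [ps_const_comp]
    exact hsA
  have hC1 : ∀ {j : ℕ} (hj : i ≤ j), cC.app (op j) ≫ rC hj = 𝟙 C := fun hj => by
    simp only [rC, ← assoc]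
    rw [ps_const_comp]
    exact hsC
  have hAf : ∀ (j : ℕ) {k : ℕ} (hk : kA j ≤ k) (hik : i ≤ k),
      ARSys.tr X ((hjA j).trans hk) = rA hik ≫ cA.app (op j) := fun j k hk hik => by
    rw [← ps_tr_comp X (hjA j) hk, hkA j, ← assoc, ps_tr_comp, assoc]
  have hCf : ∀ (j : ℕ) {k : ℕ} (hk : kC j ≤ k) (hik : i ≤ k),
      ARSys.tr Z ((hjC j).trans hk) = rC hik ≫ cC.app (op j) := fun j k hk hik => by
    rw [← ps_tr_comp Z (hjC j) hk, hkC j, ← assoc, ps_tr_comp, assoc]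
  let δ : C ⟶ A⟦(1 : ℤ)⟧ := cC.app (op i) ≫ h.app (op i) ≫ (rA le_rfl)⟦(1 : ℤ)⟧'
  have hδ : ∀ j, δ ≫ (cA.app (op j))⟦(1 : ℤ)⟧' = cC.app (op j) ≫ h.app (op j) := by
    intro j
    let k := max i (kA j)
    have e1 : cC.app (op i) ≫ h.app (op i) =
        (cC.app (op k) ≫ h.app (op k)) ≫ (ARSys.tr X (le_max_left i (kA j)))⟦(1 : ℤ)⟧' := by
      rw [assoc]
      erw [← h.naturality (homOfLE (le_max_left i (kA j))).op]
      rw [← assoc, ps_const_comp cC]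
    have e2 : cC.app (op j) ≫ h.app (op j) =
        (cC.app (op k) ≫ h.app (op k)) ≫ (ARSys.tr X ((hjA j).trans (le_max_right i (kA j))))⟦(1 : ℤ)⟧' := by
      rw [assoc]
      erw [← h.naturality (homOfLE ((hjA j).trans (le_max_right i (kA j)))).op]
      rw [← assoc, ps_const_comp cC]
    rw [e2, hAf j (le_max_right _ _) (le_max_left _ _)]
    simp only [δ, assoc]
    rw [reassoc_of% e1]
    simp only [rA, assoc, ← Functor.map_comp]
    rw [← assoc (ARSys.tr X (le_max_left i (kA j))), ps_tr_comp]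
  obtain ⟨B, ι, π, hB⟩ := distinguished_cocone_triangle₂ δ
  have hex : ∀ j, ∃ ψ : B ⟶ Y.obj (op j), ι ≫ ψ = cA.app (op j) ≫ f.app (op j) ∧
      π ≫ cC.app (op j) = ψ ≫ g.app (op j) := fun j =>
    complete_distinguished_triangle_morphism₂ _ _ hB (hT j) (cA.app (op j)) (cC.app (op j)) (hδ j)
  choose ψ hψ₁ hψ₂ using hex
  let k₀ := max i (max (kC i) (kA i))
  have hik₀ : i ≤ k₀ := le_max_left _ _
  obtain ⟨r, hr₁, hr₂⟩ := complete_distinguished_triangle_morphism₂ _ _ (hT k₀) hB (rA hik₀) (rC hik₀) (by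
    change h.app (op k₀) ≫ (rA hik₀)⟦(1 : ℤ)⟧' = rC hik₀ ≫ δ
    have hz := hCf i (k := k₀) ((le_max_left _ _).trans (le_max_right _ _)) hik₀
    simp only [δ]
    rw [← assoc (rC hik₀), ← hz, ← assoc]
    rw [show Z.map (homOfLE ((hjC i).trans ((le_max_left _ _).trans (le_max_right _ _)))).op ≫
        h.app (op i) = h.app (op k₀) ≫ (ARSys.tr X hik₀)⟦(1 : ℤ)⟧' from h.naturality _]
    rw [assoc, ← Functor.map_comp]
    simp only [rA, ← assoc, ps_tr_comp])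
  change Y.obj (op k₀) ⟶ B at r
  replace hr₁ : f.app (op k₀) ≫ r = rA hik₀ ≫ ι := hr₁
  replace hr₂ : g.app (op k₀) ≫ rC hik₀ = r ≫ π := hr₂
  let R : ∀ {j : ℕ}, k₀ ≤ j → (Y.obj (op j) ⟶ B) := fun hj => ARSys.tr Y hj ≫ r
  have hR₁ : ∀ {j : ℕ} (hj : k₀ ≤ j), f.app (op j) ≫ R hj = rA (hik₀.trans hj) ≫ ι := fun {j} hj => by
    change f.app (op j) ≫ Y.map _ ≫ r = _
    rw [← assoc, ← f.naturality, assoc]
    exact (congrArg (X.map (homOfLE hj).op ≫ ·) hr₁).trans (by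
      simp only [rA, ← assoc]
      rw [ps_tr_comp])
  have hR₂ : ∀ {j : ℕ} (hj : k₀ ≤ j), R hj ≫ π = g.app (op j) ≫ rC (hik₀.trans hj) := fun {j} hj => by
    change (Y.map _ ≫ r) ≫ π = _
    rw [assoc]
    refine (congrArg (Y.map (homOfLE hj).op ≫ ·) hr₂.symm).trans ?_
    change Y.map _ ≫ g.app (op k₀) ≫ rC hik₀ = _
    rw [← assoc, g.naturality, assoc]
    simp only [rC, ← assoc, ps_tr_comp]
  have hφ : ∀ {j : ℕ} (hj : k₀ ≤ j), IsIso (ψ j ≫ R hj) := fun {j} hj => by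
    let S := Triangle.mk ι π δ
    have h1 : ι ≫ ψ j ≫ R hj = ι := by
      rw [← assoc]
      erw [hψ₁ j]
      change (cA.app (op j) ≫ f.app (op j)) ≫ R hj = ι
      rw [assoc, hR₁, ← assoc, hA1 (hik₀.trans hj)]
      exact id_comp _
    have h2 : (ψ j ≫ R hj) ≫ π = π := by
      rw [assoc, hR₂, ← assoc]
      erw [← hψ₂ j]
      change (π ≫ cC.app (op j)) ≫ rC (hik₀.trans hj) = π
      rw [assoc, hC1 (hik₀.trans hj)]
      exact comp_id _
    let Φ : S ⟶ S := Triangle.homMk S S (𝟙 A) (ψ j ≫ R hj) (𝟙 C)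
      (h1.trans (id_comp _).symm) ((comp_id _).trans h2.symm) (by
        change δ ≫ (shiftFunctor D (1 : ℤ)).map (𝟙 A) = 𝟙 C ≫ δ
        rw [CategoryTheory.Functor.map_id]
        exact (comp_id _).trans (id_comp _).symm)
    have e1 : IsIso Φ.hom₁ := (inferInstance : IsIso (𝟙 A))
    have e3 : IsIso Φ.hom₃ := (inferInstance : IsIso (𝟙 C))
    exact isIso₂_of_isIso₁₃ Φ hB hB e1 e3
  let K : ℕ → ℕ := fun n => max k₀ (max (kA n) n)
  let M : ℕ → ℕ := fun n => max (K n) (kC (K n))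
  have hKn : ∀ n, n ≤ K n := fun n => (le_max_right _ _).trans (le_max_right _ _)
  have hMn : ∀ n, n ≤ M n := fun n => (hKn n).trans (le_max_left _ _)
  have hk₀M : ∀ n, k₀ ≤ M n := fun n => (le_max_left _ _).trans (le_max_left _ _)
  have hvan : ∀ n {W : D} (u : W ⟶ Y.obj (op (M n))),
      u ≫ R (hk₀M n) = 0 → u ≫ ARSys.tr Y (hMn n) = 0 := by
    intro n W u hu
    have hKM : K n ≤ M n := le_max_left _ _
    have h1 : (u ≫ g.app (op (M n))) ≫ rC (hik₀.trans (hk₀M n)) = 0 := by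
      rw [assoc, ← hR₂ (hk₀M n), reassoc_of% hu, zero_comp]
    have h2 : (u ≫ ARSys.tr Y hKM) ≫ g.app (op (K n)) = 0 := by
      rw [assoc, g.naturality]
      change u ≫ g.app (op (M n)) ≫ ARSys.tr Z ((hjC (K n)).trans (le_max_right _ _)) = 0
      rw [hCf (K n) (le_max_right _ _) (hik₀.trans (hk₀M n)), ← assoc, ← assoc, h1, zero_comp]
    obtain ⟨v, hv⟩ : ∃ v : W ⟶ X.obj (op (K n)), u ≫ ARSys.tr Y hKM = v ≫ f.app (op (K n)) :=
      Triangle.coyoneda_exact₂ _ (hT (K n)) _ h2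
    have hk₀K : k₀ ≤ K n := le_max_left _ _
    have h3 : v ≫ rA (hik₀.trans hk₀K) ≫ ι = 0 := by
      rw [← hR₁ hk₀K, ← assoc, ← hv, assoc]
      simp only [R, ← assoc (ARSys.tr Y hKM), ps_tr_comp]
      exact hu
    calc u ≫ ARSys.tr Y (hMn n) = (v ≫ f.app (op (K n))) ≫ ARSys.tr Y (hKn n) := by
          rw [← hv, assoc, ps_tr_comp]
      _ = v ≫ ARSys.tr X (hKn n) ≫ f.app (op n) := by
          rw [assoc]
          exact congrArg (v ≫ ·) (f.naturality _).symm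
      _ = v ≫ rA (hik₀.trans hk₀K) ≫ cA.app (op n) ≫ f.app (op n) := by
          rw [show ARSys.tr X (hKn n) = rA (hik₀.trans hk₀K) ≫ cA.app (op n) from
            hAf n ((le_max_left _ _).trans (le_max_right _ _)) (hik₀.trans hk₀K), assoc]
      _ = (v ≫ rA (hik₀.trans hk₀K) ≫ ι) ≫ ψ n := by
          simp only [assoc]
          exact congrArg (fun q => v ≫ rA (hik₀.trans hk₀K) ≫ q) (hψ₁ n).symm
      _ = 0 := by rw [h3, zero_comp]
  let c : ∀ n, B ⟶ Y.obj (op n) := fun n =>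
    (have := hφ (hk₀M n); inv (ψ (M n) ≫ R (hk₀M n))) ≫ ψ (M n) ≫ ARSys.tr Y (hMn n)
  have hfac : ∀ n, ARSys.tr Y (hMn n) = R (hk₀M n) ≫ c n := fun n => by
    have := hφ (hk₀M n)
    have h0 := hvan n (𝟙 _ - R (hk₀M n) ≫ inv (ψ (M n) ≫ R (hk₀M n)) ≫ ψ (M n))
      (by
        rw [sub_comp, id_comp]
        refine sub_eq_zero.2 (Eq.symm ?_)
        refine ((assoc _ _ _).trans (congrArg (R (hk₀M n) ≫ ·) (assoc _ _ _))).trans ?_
        exact (congrArg (R (hk₀M n) ≫ ·) (IsIso.inv_hom_id _)).trans (comp_id _))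
    rw [sub_comp, id_comp, sub_eq_zero] at h0
    refine h0.trans ?_
    simp only [c, assoc]
  have hfac' : ∀ n {m : ℕ} (hm : M n ≤ m),
      ARSys.tr Y ((hMn n).trans hm) = R ((hk₀M n).trans hm) ≫ c n := fun n m hm => by
    rw [← ps_tr_comp Y (hMn n) hm, hfac, ← assoc]
    simp only [R, ← assoc, ps_tr_comp]
  have hepi : ∀ {m : ℕ} (hm : k₀ ≤ m) {W : D} (a b : B ⟶ W), R hm ≫ a = R hm ≫ b → a = b := by
    intro m hm W a b hab
    have := hφ hm
    rw [← cancel_epi (ψ m ≫ R hm)]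
    exact (assoc _ _ _).trans ((congrArg (ψ m ≫ ·) hab).trans (assoc _ _ _).symm)
  refine ⟨B, { app := fun n => c n.unop, naturality := ?_ }, k₀, r, ?_, fun j => ?_⟩
  · rintro ⟨n⟩ ⟨n'⟩ ⟨⟨⟨hle⟩⟩⟩
    change 𝟙 B ≫ c n' = c n ≫ ARSys.tr Y hle
    rw [id_comp]
    refine hepi (m := max (M n) (M n')) ((hk₀M n).trans (le_max_left _ _)) _ _ ?_
    rw [← hfac' n' (le_max_right _ _), ← assoc, ← hfac' n (le_max_left _ _), ps_tr_comp]
  · change c k₀ ≫ r = 𝟙 B
    refine hepi (hk₀M k₀) _ _ ?_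
    rw [comp_id, ← assoc, ← hfac]
  · refine ⟨max k₀ (M j), le_max_left _ _, (hMn j).trans (le_max_right _ _), ?_⟩
    change _ = ARSys.tr Y _ ≫ r ≫ c j
    rw [← assoc]
    exact hfac' j (le_max_right _ _)

omit f g h in
lemma essConstant_decomposition {X : ARSys.PS D} {A : D} (c : (Functor.const ℕᵒᵖ).obj A ⟶ X)
    (hX : DerCA.IsEssConstant X A c) :
    ∃ (i : ℕ) (Z : ℕ → D) (e : ∀ j : ℕ, X.obj (op (i + j)) ≅ A ⊞ Z j)
      (z : ∀ j k : ℕ, j ≤ k → (Z k ⟶ Z j)),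
      (∀ j : ℕ, c.app (op (i + j)) ≫ (e j).hom = biprod.inl) ∧
      (∀ (j k : ℕ) (hjk : j ≤ k), (e k).inv ≫ ARSys.tr X (Nat.add_le_add_left hjk i) =
        biprod.map (𝟙 A) (z j k hjk) ≫ (e j).inv) ∧
      (∀ j : ℕ, ∃ (k : ℕ) (hjk : j ≤ k), z j k hjk = 0) := by
  obtain ⟨i, s, hs, hf⟩ := hX
  let σ : ∀ j, X.obj (op (i + j)) ⟶ A := fun j => ARSys.tr X (Nat.le_add_right i j) ≫ s
  have hσ : ∀ j, c.app (op (i + j)) ≫ σ j = 𝟙 A := fun j => by
    simp only [σ, ← assoc]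
    rw [ps_const_comp]
    exact hs
  have hex : ∀ j, ∃ (Z : D) (e : X.obj (op (i + j)) ≅ A ⊞ Z),
      c.app (op (i + j)) ≫ e.hom = biprod.inl ∧ e.hom ≫ biprod.fst = σ j := by
    intro j
    let cj : A ⟶ X.obj (op (i + j)) := c.app (op (i + j))
    obtain ⟨Z, p, δ, hT⟩ := distinguished_cocone_triangle cj
    have : IsSplitMono cj := IsSplitMono.mk' ⟨σ j, hσ j⟩
    have hδ : δ = 0 := Triangle.mor₃_eq_zero_of_mono₁ (Triangle.mk cj p δ) hT (inferInstanceAs (Mono cj))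
    obtain ⟨e₀, he₁, he₂⟩ := exists_iso_binaryBiproduct_of_distTriang _ hT hδ
    change X.obj (op (i + j)) ≅ A ⊞ Z at e₀
    change cj ≫ e₀.hom = biprod.inl at he₁
    have hcj : biprod.inl ≫ e₀.inv = cj := by rw [← he₁, assoc, e₀.hom_inv_id, comp_id]
    let t : Z ⟶ A := biprod.inr ≫ e₀.inv ≫ σ j
    let u : A ⊞ Z ≅ A ⊞ Z :=
      { hom := biprod.lift (biprod.fst + biprod.snd ≫ t) biprod.snd
        inv := biprod.lift (biprod.fst - biprod.snd ≫ t) biprod.snd }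
    refine ⟨Z, e₀ ≪≫ u, ?_, ?_⟩
    · rw [Iso.trans_hom, reassoc_of% he₁]
      ext <;> simp [u]
    · rw [Iso.trans_hom, assoc, ← cancel_epi e₀.inv, e₀.inv_hom_id_assoc]
      ext
      · simp only [u, biprod.lift_fst, comp_add, biprod.inl_fst, biprod.inl_snd_assoc, zero_comp, add_zero]
        rw [reassoc_of% hcj]
        exact (hσ j).symm
      · simp [u, t]
  choose Z e he₁ he₂ using hex
  have hinl : ∀ j, biprod.inl ≫ (e j).inv = c.app (op (i + j)) := fun j =>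
    (Iso.comp_inv_eq _).2 (he₁ j).symm
  refine ⟨i, Z, e, fun j k hjk => biprod.inr ≫ (e k).inv ≫
    ARSys.tr X (Nat.add_le_add_left hjk i) ≫ (e j).hom ≫ biprod.snd, he₁, fun j k hjk => ?_, fun j => ?_⟩
  · rw [← cancel_mono (e j).hom, assoc, assoc, (e j).inv_hom_id, comp_id]
    apply biprod.hom_ext'
    · rw [reassoc_of% (hinl k)]
      erw [reassoc_of% (ps_const_comp c (Nat.add_le_add_left hjk i))]
      rw [he₁]
      simp
    · apply biprod.hom_ext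
      · simp only [assoc, biprod.map_fst, comp_id, biprod.inr_fst]
        rw [he₂]
        simp only [σ, ← assoc (ARSys.tr X (Nat.add_le_add_left hjk i)), ps_tr_comp]
        change biprod.inr ≫ (e k).inv ≫ σ k = 0
        rw [← he₂ k, (e k).inv_hom_id_assoc, biprod.inr_fst]
      · simp
  · obtain ⟨k, hik, hjk, hk⟩ := hf (i + j)
    obtain ⟨k', rfl⟩ := Nat.exists_eq_add_of_le hik
    refine ⟨k', Nat.le_of_add_le_add_left hjk, ?_⟩
    change biprod.inr ≫ (e k').inv ≫ ARSys.tr X hjk ≫ _ = 0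
    rw [hk, ← assoc (ARSys.tr X hik)]
    change biprod.inr ≫ (e k').inv ≫ (σ k' ≫ c.app (op (i + j))) ≫ _ = 0
    rw [← he₂ k', assoc, assoc, (e k').inv_hom_id_assoc, biprod.inr_fst_assoc, zero_comp]

end Groth.Agent.CohDer42
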