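import Groth.Agent.CohDer42.ProSys
import Groth.Agent.DC43.Trunc

/-!
# Inverse systems in derived categories, truncations
-/

universe w v' u' v u

open CategoryTheory Category Limits Pretriangulated Preadditive Opposite

set_option autoImplicit false
set_option linter.unusedSectionVars false
set_option backward.isDefEq.respectTransparency false

namespace Groth.Agent.CohDer42.ProTrunc

section Tri

variable {D : Type u} [Category.{v} D] [Preadditive D] [HasZeroObject D] [HasShift D ℤ]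
  [∀ n : ℤ, (shiftFunctor D n).Additive] [Pretriangulated D]

/-- five lemma for pro-isomorphisms -/
theorem isProIso_middle {T T' : ℕᵒᵖ ⥤ Triangle D} (hT : ∀ n, T.obj n ∈ distTriang D)
    (hT' : ∀ n, T'.obj n ∈ distTriang D) (φ : T ⟶ T')
    (h₁ : DerCA.IsProIso (Functor.whiskerRight φ Triangle.π₁))
    (h₃ : DerCA.IsProIso (Functor.whiskerRight φ Triangle.π₃)) :
    DerCA.IsProIso (Functor.whiskerRight φ Triangle.π₂) := by
  let t : ∀ {n m : ℕ}, n ≤ m → (T.obj (op m) ⟶ T.obj (op n)) := fun h => T.map (homOfLE h).op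
  let t' : ∀ {n m : ℕ}, n ≤ m → (T'.obj (op m) ⟶ T'.obj (op n)) := fun h => T'.map (homOfLE h).op
  have ht : ∀ {a b c : ℕ} (h : a ≤ b) (h' : b ≤ c), t h' ≫ t h = t (h.trans h') :=
    fun h h' => by
      rw [← T.map_comp]; exact congrArg T.map (Subsingleton.elim _ _)
  have ht' : ∀ {a b c : ℕ} (h : a ≤ b) (h' : b ≤ c), t' h' ≫ t' h = t' (h.trans h') :=
    fun h h' => by
      rw [← T'.map_comp]; exact congrArg T'.map (Subsingleton.elim _ _)
  have hn : ∀ {n m : ℕ} (h : n ≤ m), t h ≫ φ.app (op n) = φ.app (op m) ≫ t' h :=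
    fun h => φ.naturality (homOfLE h).op
  have hn₁ : ∀ {n m : ℕ} (h : n ≤ m),
      (t h).hom₁ ≫ (φ.app (op n)).hom₁ = (φ.app (op m)).hom₁ ≫ (t' h).hom₁ :=
    fun h => congrArg TriangleMorphism.hom₁ (hn h)
  have hn₂ : ∀ {n m : ℕ} (h : n ≤ m),
      (t h).hom₂ ≫ (φ.app (op n)).hom₂ = (φ.app (op m)).hom₂ ≫ (t' h).hom₂ :=
    fun h => congrArg TriangleMorphism.hom₂ (hn h)
  have hn₃ : ∀ {n m : ℕ} (h : n ≤ m),
      (t h).hom₃ ≫ (φ.app (op n)).hom₃ = (φ.app (op m)).hom₃ ≫ (t' h).hom₃ :=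
    fun h => congrArg TriangleMorphism.hom₃ (hn h)
  have e₂ : ∀ {a b c : ℕ} (h : a ≤ b) (h' : b ≤ c), (t h').hom₂ ≫ (t h).hom₂ = (t (h.trans h')).hom₂ :=
    fun h h' => congrArg TriangleMorphism.hom₂ (ht h h')
  have e₂' : ∀ {a b c : ℕ} (h : a ≤ b) (h' : b ≤ c),
      (t' h').hom₂ ≫ (t' h).hom₂ = (t' (h.trans h')).hom₂ :=
    fun h h' => congrArg TriangleMorphism.hom₂ (ht' h h')
  have hA : ∀ n : ℕ, ∃ (m : ℕ) (h : n ≤ m) (b : (T'.obj (op m)).obj₁ ⟶ (T.obj (op n)).obj₁),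
      (φ.app (op m)).hom₁ ≫ b = (t h).hom₁ ∧ b ≫ (φ.app (op n)).hom₁ = (t' h).hom₁ := h₁
  have hC : ∀ n : ℕ, ∃ (m : ℕ) (h : n ≤ m) (b : (T'.obj (op m)).obj₃ ⟶ (T.obj (op n)).obj₃),
      (φ.app (op m)).hom₃ ≫ b = (t h).hom₃ ∧ b ≫ (φ.app (op n)).hom₃ = (t' h).hom₃ := h₃
  have right : ∀ n : ℕ, ∃ (m : ℕ) (h : n ≤ m) (b : (T'.obj (op m)).obj₂ ⟶ (T.obj (op n)).obj₂),
      b ≫ (φ.app (op n)).hom₂ = (t' h).hom₂ := by
    intro n
    obtain ⟨n₁, k₁, α₁, -, hα₁⟩ := hA n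
    obtain ⟨n₂, k₂, α₂, hα₂, -⟩ := hA n₁
    obtain ⟨n₃, k₃, γ, -, hγ⟩ := hC n₂
    let x := (T'.obj (op n₃)).mor₂ ≫ γ ≫ (t k₂).hom₃
    have hx : x ≫ (T.obj (op n₁)).mor₃ = 0 := by
      simp only [x, assoc]
      rw [← (t k₂).comm₃, ← hα₂, Functor.map_comp, reassoc_of% (φ.app (op n₂)).comm₃, reassoc_of% hγ,
        ← reassoc_of% (t' k₃).comm₃, reassoc_of% (comp_distTriang_mor_zero₂₃ _ (hT' (op n₃))),
        zero_comp]
    obtain ⟨u, hu⟩ := Triangle.coyoneda_exact₃ _ (hT (op n₁)) x hx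
    have hd : ((t' (k₂.trans k₃)).hom₂ - u ≫ (φ.app (op n₁)).hom₂) ≫ (T'.obj (op n₁)).mor₂ = 0 := by
      rw [sub_comp, assoc, ← (φ.app (op n₁)).comm₂, ← assoc, ← hu, sub_eq_zero]
      simp only [x, assoc]
      rw [hn₃ k₂, reassoc_of% hγ, ← e₂' k₂ k₃, assoc, ← (t' k₂).comm₂, ← reassoc_of% (t' k₃).comm₂]
    obtain ⟨v, hv⟩ := Triangle.coyoneda_exact₂ _ (hT' (op n₁)) _ hd
    refine ⟨n₃, k₁.trans (k₂.trans k₃), u ≫ (t k₁).hom₂ + v ≫ α₁ ≫ (T.obj (op n)).mor₁, ?_⟩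
    rw [add_comp, assoc, hn₂ k₁, assoc, assoc, (φ.app (op n)).comm₁, reassoc_of% hα₁,
      ← (t' k₁).comm₁, ← assoc v, ← hv, sub_comp, assoc, e₂']
    abel
  have left : ∀ n : ℕ, ∃ (m : ℕ) (h : n ≤ m) (b : (T'.obj (op m)).obj₂ ⟶ (T.obj (op n)).obj₂),
      (φ.app (op m)).hom₂ ≫ b = (t h).hom₂ := by
    intro n
    obtain ⟨n₁, k₁, α, hα, -⟩ := hA n
    obtain ⟨n₂, k₂, γ, -, hγ⟩ := hC n₁
    obtain ⟨n₃, k₃, γ', hγ', -⟩ := hC n₂
    let x := (t' k₂).hom₁ ≫ α ≫ (T.obj (op n)).mor₁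
    have hx : (T'.obj (op n₂)).invRotate.mor₁ ≫ x = 0 := by
      rw [← cancel_epi ((shiftFunctorCompIsoId D (1 : ℤ) (-1) (add_neg_cancel 1)).hom.app _),
        comp_zero]
      apply (shiftFunctor D (1 : ℤ)).map_injective
      obtain ⟨y, hy⟩ : ∃ y : (T'.obj (op n₂)).obj₃ ⟶ (T.obj (op n₁)).obj₃,
          (T'.obj (op n₂)).mor₃ ≫ ((t' k₂).hom₁)⟦(1 : ℤ)⟧' =
            y ≫ (T.obj (op n₁)).mor₃ ≫ ((φ.app (op n₁)).hom₁)⟦(1 : ℤ)⟧' := by
        refine ⟨γ, ?_⟩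
        rw [(φ.app (op n₁)).comm₃, reassoc_of% hγ, (t' k₂).comm₃]
      have hz : (T'.obj (op n₂)).mor₃ ≫ x⟦(1 : ℤ)⟧' = 0 := by
        simp only [x, Functor.map_comp]
        rw [reassoc_of% hy, ← Functor.map_comp_assoc, hα, ← Functor.map_comp, (t k₁).comm₁.symm,
          Functor.map_comp, reassoc_of% (comp_distTriang_mor_zero₃₁ _ (hT (op n₁))), zero_comp,
          comp_zero]
      simp only [Triangle.invRotate_mor₁, Functor.map_comp, Functor.map_neg, Functor.map_zero,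
        neg_comp, comp_neg, neg_eq_zero, assoc]
      rw [shift_neg_shift' ((T'.obj (op n₂)).mor₃) (1 : ℤ)]
      simp [shift_shiftFunctorCompIsoId_add_neg_cancel_hom_app, hz]
    obtain ⟨u, hu⟩ := Triangle.yoneda_exact₂ _ (inv_rot_of_distTriang _ (hT' (op n₂))) x hx
    change x = (T'.obj (op n₂)).mor₁ ≫ u at hu
    have hd : (T.obj (op n₂)).mor₁ ≫ ((φ.app (op n₂)).hom₂ ≫ u - (t (k₁.trans k₂)).hom₂) = 0 := by
      rw [comp_sub, (t (k₁.trans k₂)).comm₁, ← assoc, (φ.app (op n₂)).comm₁, assoc, ← hu, sub_eq_zero]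
      simp only [x]
      rw [← reassoc_of% hn₁ k₂, reassoc_of% hα, ← assoc]
      exact congrArg (· ≫ _) (congrArg TriangleMorphism.hom₁ (ht k₁ k₂))
    obtain ⟨w, hw⟩ := Triangle.yoneda_exact₂ _ (hT (op n₂)) _ hd
    refine ⟨n₃, (k₁.trans k₂).trans k₃, (t' k₃).hom₂ ≫ u - (T'.obj (op n₃)).mor₂ ≫ γ' ≫ w, ?_⟩
    rw [comp_sub, ← reassoc_of% hn₂ k₃, ← reassoc_of% (φ.app (op n₃)).comm₂, reassoc_of% hγ',
      reassoc_of% (t k₃).comm₂, ← hw, ← comp_sub, sub_sub_cancel, e₂]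
  intro n
  obtain ⟨n₁, k₁, β', hβ'⟩ := left n
  obtain ⟨n₂, k₂, β, hβ⟩ := right n₁
  refine ⟨n₂, k₁.trans k₂, (t' k₂).hom₂ ≫ β', ?_, ?_⟩
  · change (φ.app (op n₂)).hom₂ ≫ (t' k₂).hom₂ ≫ β' = (t (k₁.trans k₂)).hom₂
    rw [← reassoc_of% hn₂ k₂, hβ', e₂]
  · change ((t' k₂).hom₂ ≫ β') ≫ (φ.app (op n)).hom₂ = (t' (k₁.trans k₂)).hom₂
    rw [assoc, ← hβ, assoc, reassoc_of% hβ', hn₂ k₁, reassoc_of% hβ, e₂']

end Tri

section Transfer

variable {C : Type u} [Category.{v} C] {E : Type u'} [Category.{v'} E]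

lemma isProIso_whiskerRight_of_natIso {X Y : ARSys.PS C} (f : X ⟶ Y) {F G : C ⥤ E} (η : F ⟶ G)
    (hX : ∀ n, IsIso (η.app (X.obj n))) (hY : ∀ n, IsIso (η.app (Y.obj n)))
    (h : DerCA.IsProIso (Functor.whiskerRight f G)) : DerCA.IsProIso (Functor.whiskerRight f F) := by
  intro n
  obtain ⟨m, hm, b, h₁, h₂⟩ := h n
  have := hX (op n); have := hY (op n)
  replace h₁ : G.map (f.app (op m)) ≫ b = G.map (X.map (homOfLE hm).op) := h₁
  replace h₂ : b ≫ G.map (f.app (op n)) = G.map (Y.map (homOfLE hm).op) := h₂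
  refine ⟨m, hm, η.app _ ≫ b ≫ inv (η.app _), ?_, ?_⟩
  · change F.map (f.app (op m)) ≫ η.app _ ≫ b ≫ inv (η.app _) = F.map (X.map (homOfLE hm).op)
    rw [η.naturality_assoc, reassoc_of% h₁, ← η.naturality_assoc, IsIso.hom_inv_id, comp_id]
  · change (η.app _ ≫ b ≫ inv (η.app _)) ≫ F.map (f.app (op n)) = F.map (Y.map (homOfLE hm).op)
    rw [← cancel_mono (η.app _), assoc, assoc, assoc, η.naturality, IsIso.inv_hom_id_assoc, h₂,
      η.naturality]

lemma isProIso_of_isZero [HasZeroMorphisms C] {X Y : ARSys.PS C} (f : X ⟶ Y)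
    (hX : ∀ n, IsZero (X.obj n)) (hY : ∀ n, IsZero (Y.obj n)) : DerCA.IsProIso f :=
  fun n => ⟨n, le_rfl, 0, (hX _).eq_of_tgt _ _, (hY _).eq_of_tgt _ _⟩

lemma essConstant_of_natIso {X : ARSys.PS C} {F G : C ⥤ E} (η : F ⟶ G)
    (hX : ∀ n, IsIso (η.app (X.obj n)))
    (h : ∃ (B : E) (c : (Functor.const ℕᵒᵖ).obj B ⟶ X ⋙ G), DerCA.IsEssConstant (X ⋙ G) B c) :
    ∃ (B : E) (c : (Functor.const ℕᵒᵖ).obj B ⟶ X ⋙ F), DerCA.IsEssConstant (X ⋙ F) B c := by
  obtain ⟨B, c, i, s, hs, hc⟩ := h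
  let e : X ⋙ F ≅ X ⋙ G := @asIso _ _ _ _ (Functor.whiskerLeft X η)
    (@NatIso.isIso_of_isIso_app _ _ _ _ _ _ (Functor.whiskerLeft X η) fun n => hX n)
  refine ⟨B, c ≫ e.inv, i, e.hom.app (op i) ≫ s, ?_, fun j => ?_⟩
  · rw [NatTrans.comp_app, assoc, Iso.inv_hom_id_app_assoc, hs]
  · obtain ⟨k, hi, hj, hk⟩ := hc j
    refine ⟨k, hi, hj, ?_⟩
    rw [← cancel_mono (e.hom.app (op j))]
    change (X ⋙ F).map _ ≫ _ = _
    rw [e.hom.naturality, NatTrans.comp_app, assoc, assoc, assoc, assoc, Iso.inv_hom_id_app, comp_id]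
    refine (congrArg (e.hom.app (op k) ≫ ·) hk).trans ?_
    exact (reassoc_of% (e.hom.naturality (homOfLE hi).op)) (s ≫ c.app (op j)) |>.symm

lemma essConstant_of_isZero [HasZeroObject C] [HasZeroMorphisms C] (X : ARSys.PS C)
    (hX : ∀ n, IsZero (X.obj n)) :
    ∃ (B : C) (c : (Functor.const ℕᵒᵖ).obj B ⟶ X), DerCA.IsEssConstant X B c := by
  open scoped ZeroObject in
  exact ⟨0, { app := fun _ => 0
              naturality := fun _ _ _ => (hX _).eq_of_tgt _ _ }, 0, 0,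
    (isZero_zero C).eq_of_src _ _, fun j => ⟨j, Nat.zero_le _, le_rfl, (hX _).eq_of_tgt _ _⟩⟩

end Transfer

section Derived

variable {A : Type u} [Category.{v} A] [Abelian A] [HasDerivedCategory.{w} A]

open DerivedCategory

local notation "τ" => (DerivedCategory.TStructure.t (C := A))
local notation "H" => DerivedCategory.homologyFunctor A

lemma heart_faithful {X Y : DerivedCategory A} (n : ℤ) (hX₁ : X.IsGE n) (hX₂ : X.IsLE n)
    (hY₁ : Y.IsGE n) (hY₂ : Y.IsLE n) {f g : X ⟶ Y} (h : (H n).map f = (H n).map g) : f = g := by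
  rw [← sub_eq_zero]
  exact DC43.eq_zero_of_homology_eq_zero _ n hX₁ hX₂ hY₁ hY₂ (by rw [Functor.map_sub, h, sub_self])

lemma heart_full {X Y : DerivedCategory A} (n : ℤ) (hX₁ : X.IsGE n) (hX₂ : X.IsLE n)
    (hY₁ : Y.IsGE n) (hY₂ : Y.IsLE n) (g : (H n).obj X ⟶ (H n).obj Y) :
    ∃ f : X ⟶ Y, (H n).map f = g := by
  obtain ⟨M, ⟨eM⟩⟩ := exists_iso_singleFunctor_obj_of_isGE_of_isLE X n
  obtain ⟨N, ⟨eN⟩⟩ := exists_iso_singleFunctor_obj_of_isGE_of_isLE Y n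
  let Φ := singleFunctorCompHomologyFunctorIso A n
  refine ⟨eM.hom ≫ (singleFunctor A n).map
    (Φ.inv.app M ≫ (H n).map eM.inv ≫ g ≫ (H n).map eN.hom ≫ Φ.hom.app N) ≫ eN.inv, ?_⟩
  have h2 : (H n).map ((singleFunctor A n).map
      (Φ.inv.app M ≫ (H n).map eM.inv ≫ g ≫ (H n).map eN.hom ≫ Φ.hom.app N)) =
      (H n).map eM.inv ≫ g ≫ (H n).map eN.hom := by
    rw [← Functor.comp_map, ← cancel_mono (Φ.hom.app N)]
    refine (Φ.hom.naturality _).trans ?_
    simp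
  rw [Functor.map_comp, Functor.map_comp, h2]
  simp [← Functor.map_comp, ← Functor.map_comp_assoc]

lemma isProIso_heart {X Y : ARSys.PS (DerivedCategory A)} (f : X ⟶ Y) (q : ℤ)
    (hX : ∀ n, (X.obj n).IsGE q ∧ (X.obj n).IsLE q) (hY : ∀ n, (Y.obj n).IsGE q ∧ (Y.obj n).IsLE q)
    (h : DerCA.IsProIso (Functor.whiskerRight f (H q))) : DerCA.IsProIso f := by
  intro n
  obtain ⟨m, hm, b, h₁, h₂⟩ := h n
  obtain ⟨b', hb'⟩ := heart_full q (hY (op m)).1 (hY (op m)).2 (hX (op n)).1 (hX (op n)).2 b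
  refine ⟨m, hm, b', heart_faithful q (hX _).1 (hX _).2 (hX _).1 (hX _).2 ?_,
    heart_faithful q (hY _).1 (hY _).2 (hY _).1 (hY _).2 ?_⟩
  · rw [Functor.map_comp, hb']; exact h₁
  · rw [Functor.map_comp, hb']; exact h₂

lemma essConstant_heart (X : ARSys.PS (DerivedCategory A)) (q : ℤ)
    (hX : ∀ n, (X.obj n).IsGE q ∧ (X.obj n).IsLE q)
    (h : ∃ (B : A) (c : (Functor.const ℕᵒᵖ).obj B ⟶ X ⋙ H q), DerCA.IsEssConstant (X ⋙ H q) B c) :
    ∃ (L : DerivedCategory A) (c : (Functor.const ℕᵒᵖ).obj L ⟶ X), DerCA.IsEssConstant X L c := by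
  obtain ⟨B, c, i, s, hs, hc⟩ := h
  let L := (singleFunctor A q).obj B
  have hL : L.IsGE q ∧ L.IsLE q := ⟨inferInstance, inferInstance⟩
  let eB : (H q).obj L ≅ B := (singleFunctorCompHomologyFunctorIso A q).app B
  choose c' hc' using fun n => heart_full q hL.1 hL.2 (hX n).1 (hX n).2 (eB.hom ≫ c.app n)
  obtain ⟨s', hs'⟩ := heart_full q (hX (op i)).1 (hX (op i)).2 hL.1 hL.2 (s ≫ eB.inv)
  refine ⟨L, { app := c', naturality := fun n m g => ?_ }, i, s', ?_, fun j => ?_⟩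
  · refine heart_faithful q hL.1 hL.2 (hX m).1 (hX m).2 ?_
    change (H q).map (𝟙 L ≫ c' m) = (H q).map (c' n ≫ X.map g)
    rw [id_comp, Functor.map_comp, hc', hc', assoc]
    exact congrArg (eB.hom ≫ ·) ((id_comp _).symm.trans (c.naturality g))
  · refine heart_faithful q hL.1 hL.2 hL.1 hL.2 ?_
    change (H q).map (c' (op i) ≫ s') = (H q).map (𝟙 L)
    rw [Functor.map_comp, hc', hs', CategoryTheory.Functor.map_id, assoc, reassoc_of% hs]
    exact (congrArg (eB.hom ≫ ·) (id_comp eB.inv)).trans eB.hom_inv_id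
  · obtain ⟨k, hi, hj, hk⟩ := hc j
    refine ⟨k, hi, hj, heart_faithful q (hX _).1 (hX _).2 (hX _).1 (hX _).2 ?_⟩
    change (H q).map (X.map _) = _
    rw [Functor.map_comp, Functor.map_comp, hs', hc', assoc, Iso.inv_hom_id_assoc]
    exact hk

lemma isGE_succ {X : DerivedCategory A} (a : ℤ) :
    (((τ).truncGE (a + 1)).obj X).IsGE (a + 1) :=
  inferInstanceAs ((τ).IsGE (((τ).truncGE (a + 1)).obj X) (a + 1))

lemma heart_truncLT {X : DerivedCategory A} (a : ℤ) (hX : X.IsGE a) :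
    (((τ).truncLT (a + 1)).obj X).IsGE a ∧ (((τ).truncLT (a + 1)).obj X).IsLE a :=
  have : (τ).IsGE X a := hX
  ⟨inferInstanceAs ((τ).IsGE (((τ).truncLT (a + 1)).obj X) a),
    (τ).isLE_truncLT_obj _ _ _ le_rfl⟩

lemma isLE_truncGE {X : DerivedCategory A} (a : ℤ) (n : ℕ) (hX : X.IsLE (a + (n + 1 : ℕ) - 1)) :
    (((τ).truncGE (a + 1)).obj X).IsLE (a + 1 + n - 1) := by
  have : (τ).IsLE X (a + (n + 1 : ℕ) - 1) := hX
  have h : (τ).IsLE (((τ).truncGE (a + 1)).obj X) (a + (n + 1 : ℕ) - 1) := inferInstance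
  exact (τ).isLE_of_le _ (a + (n + 1 : ℕ) - 1) _ (by omega)

theorem isProIso_of_homology : ∀ (n : ℕ) (a : ℤ) {X Y : ARSys.PS (DerivedCategory A)} (f : X ⟶ Y),
    (∀ k, (X.obj k).IsGE a) → (∀ k, (X.obj k).IsLE (a + n - 1)) →
    (∀ k, (Y.obj k).IsGE a) → (∀ k, (Y.obj k).IsLE (a + n - 1)) →
    (∀ i, DerCA.IsProIso (Functor.whiskerRight f (H i))) → DerCA.IsProIso f
  | 0, a, X, Y, f, h1, h2, h3, h4, _ => by
    refine isProIso_of_isZero f (fun k => ?_) (fun k => ?_)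
    · exact @Triangulated.TStructure.isZero _ _ _ _ _ _ _ τ _ (a + (0 : ℕ) - 1) a (by omega) (h2 k) (h1 k)
    · exact @Triangulated.TStructure.isZero _ _ _ _ _ _ _ τ _ (a + (0 : ℕ) - 1) a (by omega) (h4 k) (h3 k)
  | n + 1, a, X, Y, f, h1, h2, h3, h4, hH => by
    refine isProIso_middle (T := X ⋙ (τ).triangleLTGE (a + 1)) (T' := Y ⋙ (τ).triangleLTGE (a + 1))
      (fun k => (τ).triangleLTGE_distinguished _ _) (fun k => (τ).triangleLTGE_distinguished _ _)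
      (Functor.whiskerRight f _) ?_ ?_
    · refine isProIso_heart (X := X ⋙ (τ).truncLT (a + 1)) (Y := Y ⋙ (τ).truncLT (a + 1))
        (Functor.whiskerRight f ((τ).truncLT (a + 1))) a (fun k => heart_truncLT a (h1 k))
        (fun k => heart_truncLT a (h3 k)) ?_
      exact isProIso_whiskerRight_of_natIso f (F := (τ).truncLT (a + 1) ⋙ H a)
        (Functor.whiskerRight ((τ).truncLTι (a + 1)) (H a))
        (fun k => DC43.isIso_homology_truncLTι _ _ _ (by omega))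
        (fun k => DC43.isIso_homology_truncLTι _ _ _ (by omega)) (hH a)
    · refine isProIso_of_homology n (a + 1) (X := X ⋙ (τ).truncGE (a + 1))
        (Y := Y ⋙ (τ).truncGE (a + 1)) (Functor.whiskerRight f ((τ).truncGE (a + 1)))
        (fun k => isGE_succ a) (fun k => isLE_truncGE a n (h2 k))
        (fun k => isGE_succ a) (fun k => isLE_truncGE a n (h4 k)) fun i => ?_
      by_cases hi : a + 1 ≤ i
      · intro n'
        have hπX : ∀ k, IsIso ((H i).map (((τ).truncGEπ (a + 1)).app (X.obj k))) := fun k =>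
          DC43.isIso_homology_truncGEπ _ _ _ hi
        have hπY : ∀ k, IsIso ((H i).map (((τ).truncGEπ (a + 1)).app (Y.obj k))) := fun k =>
          DC43.isIso_homology_truncGEπ _ _ _ hi
        obtain ⟨m, hm, b, e₁, e₂⟩ := hH i n'
        replace e₁ : (H i).map (f.app (op m)) ≫ b = (H i).map (X.map (homOfLE hm).op) := e₁
        replace e₂ : b ≫ (H i).map (f.app (op n')) = (H i).map (Y.map (homOfLE hm).op) := e₂
        refine ⟨m, hm, inv ((H i).map (((τ).truncGEπ (a + 1)).app (Y.obj (op m)))) ≫ b ≫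
          (H i).map (((τ).truncGEπ (a + 1)).app (X.obj (op n'))), ?_, ?_⟩
        · rw [← cancel_epi ((H i).map (((τ).truncGEπ (a + 1)).app (X.obj (op m))))]
          change _ ≫ (H i).map (((τ).truncGE (a + 1)).map (f.app (op m))) ≫ _ = _ ≫ (H i).map (((τ).truncGE (a + 1)).map _)
          rw [← Functor.map_comp_assoc, ← ((τ).truncGEπ (a + 1)).naturality, Functor.map_comp_assoc,
            Functor.id_map, IsIso.hom_inv_id_assoc, reassoc_of% e₁, ← Functor.map_comp, ← Functor.map_comp,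
            ← ((τ).truncGEπ (a + 1)).naturality]
          rfl
        · rw [← cancel_epi ((H i).map (((τ).truncGEπ (a + 1)).app (Y.obj (op m))))]
          change _ ≫ (_ ≫ b ≫ _) ≫ (H i).map (((τ).truncGE (a + 1)).map (f.app (op n'))) = _ ≫ (H i).map (((τ).truncGE (a + 1)).map _)
          simp only [assoc, IsIso.hom_inv_id_assoc]
          rw [← Functor.map_comp ((H i)) _ (((τ).truncGE (a + 1)).map (f.app (op n'))),
            ← ((τ).truncGEπ (a + 1)).naturality, Functor.map_comp, ← assoc b]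
          change (b ≫ (H i).map (f.app (op n'))) ≫ _ = _
          rw [e₂, ← Functor.map_comp, ← Functor.map_comp, ← ((τ).truncGEπ (a + 1)).naturality]
          rfl
      · exact isProIso_of_isZero _
          (fun k => @DerivedCategory.isZero_of_isGE _ _ _ _ _ (a + 1) i (by omega) (isGE_succ a))
          (fun k => @DerivedCategory.isZero_of_isGE _ _ _ _ _ (a + 1) i (by omega) (isGE_succ a))

theorem essConstant_of_homology : ∀ (n : ℕ) (a : ℤ) (X : ARSys.PS (DerivedCategory A)),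
    (∀ k, (X.obj k).IsGE a) → (∀ k, (X.obj k).IsLE (a + n - 1)) →
    (∀ i, ∃ (B : A) (c : (Functor.const ℕᵒᵖ).obj B ⟶ X ⋙ H i), DerCA.IsEssConstant (X ⋙ H i) B c) →
    ∃ (L : DerivedCategory A) (c : (Functor.const ℕᵒᵖ).obj L ⟶ X), DerCA.IsEssConstant X L c
  | 0, a, X, h1, h2, _ =>
    essConstant_of_isZero X fun k => @Triangulated.TStructure.isZero _ _ _ _ _ _ _ τ _ (a + (0 : ℕ) - 1) a (by omega) (h2 k) (h1 k)
  | n + 1, a, X, h1, h2, hH => by
    obtain ⟨L₁, c₁, hc₁⟩ := essConstant_heart (X ⋙ (τ).truncLT (a + 1)) a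
      (fun k => heart_truncLT a (h1 k))
      (essConstant_of_natIso (F := (τ).truncLT (a + 1) ⋙ H a)
        (Functor.whiskerRight ((τ).truncLTι (a + 1)) (H a))
        (fun k => DC43.isIso_homology_truncLTι _ _ _ (by omega)) (hH a))
    obtain ⟨L₃, c₃, hc₃⟩ := essConstant_of_homology n (a + 1) (X ⋙ (τ).truncGE (a + 1))
      (fun k => isGE_succ a) (fun k => isLE_truncGE a n (h2 k)) (fun i => by
        by_cases hi : a + 1 ≤ i
        · obtain ⟨B, c, j₀, s, hs, hc⟩ := hH i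
          let e : X ⋙ H i ≅ (X ⋙ (τ).truncGE (a + 1)) ⋙ H i := NatIso.ofComponents
            (fun k => @asIso _ _ _ _ ((H i).map (((τ).truncGEπ (a + 1)).app (X.obj k)))
              (DC43.isIso_homology_truncGEπ _ _ _ hi))
            (fun {k k'} g => by
              change (H i).map (X.map g) ≫ (H i).map _ = (H i).map _ ≫ (H i).map (((τ).truncGE (a + 1)).map (X.map g))
              rw [← Functor.map_comp, ← Functor.map_comp, ← ((τ).truncGEπ (a + 1)).naturality]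
              rfl)
          refine ⟨B, c ≫ e.hom, j₀, e.inv.app (op j₀) ≫ s, ?_, fun j => ?_⟩
          · rw [NatTrans.comp_app, assoc, Iso.hom_inv_id_app_assoc, hs]
          · obtain ⟨k, hi', hj, hk⟩ := hc j
            refine ⟨k, hi', hj, ?_⟩
            rw [← cancel_epi (e.hom.app (op k))]
            change e.hom.app (op k) ≫ ((X ⋙ (τ).truncGE (a + 1)) ⋙ H i).map (homOfLE hj).op =
              e.hom.app (op k) ≫ ((X ⋙ (τ).truncGE (a + 1)) ⋙ H i).map (homOfLE hi').op ≫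
                (e.inv.app (op j₀) ≫ s) ≫ c.app (op j) ≫ e.hom.app (op j)
            rw [← e.hom.naturality, ← e.hom.naturality_assoc]
            simp only [assoc, Iso.hom_inv_id_app_assoc]
            refine (congrArg (· ≫ e.hom.app (op j)) hk).trans ?_
            simp only [assoc]
        · exact essConstant_of_isZero _ fun k => @DerivedCategory.isZero_of_isGE _ _ _ _ _ (a + 1) i (by omega) (isGE_succ a))
    exact CohDer42.essConstant_middle
      (X := X ⋙ (τ).truncLT (a + 1)) (Y := X) (Z := X ⋙ (τ).truncGE (a + 1))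
      (Functor.whiskerLeft X ((τ).truncLTι (a + 1))) (Functor.whiskerLeft X ((τ).truncGEπ (a + 1)))
      (Functor.whiskerLeft X ((τ).truncGEδLT (a + 1)))
      (fun k => (τ).triangleLTGE_distinguished (a + 1) (X.obj (op k))) c₁ c₃ hc₁ hc₃

end Derived

end Groth.Agent.CohDer42.ProTrunc
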