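import Groth.Agent.RD97.LES
import Mathlib.Algebra.Homology.ShortComplex.ExactFunctor

/-!
# Basic properties of right derived functors
-/

universe v v' u u'

open CategoryTheory Category Limits

set_option autoImplicit false
set_option linter.unusedSectionVars false
set_option backward.isDefEq.respectTransparency false

namespace Groth.Agent.CohDer42

variable {C : Type u} [Category.{v} C] [Abelian C] [EnoughInjectives C]
  {D : Type u'} [Category.{v'} D] [Abelian D] (F : C ⥤ D) [F.Additive]

lemma mono_rightDerived_zero_map {S : ShortComplex C} (hS : S.ShortExact) :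
    Mono ((F.rightDerived 0).map S.f) := by
  let T := RD97.res S hS
  have h := (T.map_shortExact F)
  have := h.mono_f
  have : Mono ((T.cx.map (F.mapHomologicalComplex _)).f.f 0) :=
    inferInstanceAs (Mono ((HomologicalComplex.eval D _ 0).map (T.cx.map (F.mapHomologicalComplex _)).f))
  have hm : Mono (HomologicalComplex.homologyMap (T.cx.map (F.mapHomologicalComplex _)).f 0) := by
    let g := (T.cx.map (F.mapHomologicalComplex _)).f
    have hc : Mono (HomologicalComplex.cyclesMap g 0) := by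
      have : Mono (HomologicalComplex.cyclesMap g 0 ≫ HomologicalComplex.iCycles _ 0) := by
        rw [HomologicalComplex.cyclesMap_i]; infer_instance
      exact mono_of_mono _ (HomologicalComplex.iCycles _ 0)
    have e : HomologicalComplex.homologyMap g 0 = (CochainComplex.isoHomologyπ₀ _).inv ≫
        HomologicalComplex.cyclesMap g 0 ≫ (CochainComplex.isoHomologyπ₀ _).hom := by
      rw [Iso.eq_inv_comp]
      exact HomologicalComplex.homologyπ_naturality g 0
    rw [e]; infer_instance
  have := RD97.nat_f F T 0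
  have e : (F.rightDerived 0).map S.f = ((T.I₁.isoRightDerivedObj F 0).hom ≫
      HomologicalComplex.homologyMap (T.cx.map (F.mapHomologicalComplex _)).f 0) ≫
      (T.I₂.isoRightDerivedObj F 0).inv := (Iso.eq_comp_inv _).2 this
  rw [e]; infer_instance

lemma preservesFiniteLimits_rightDerived_zero : PreservesFiniteLimits (F.rightDerived 0) := by
  obtain ⟨Δ⟩ := RD97.nonempty_derivedLES F
  exact (Functor.preservesFiniteLimits_iff_forall_exact_map_and_mono _).2
    fun S hS => ⟨Δ.exact₂ S hS 0, mono_rightDerived_zero_map F hS⟩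

theorem acyclic_two_of_three [PreservesFiniteLimits F] (S : ShortComplex C) (hS : S.ShortExact) :
    ((∀ i : ℕ, 0 < i → IsZero ((F.rightDerived i).obj S.X₁)) →
      ((∀ i : ℕ, 0 < i → IsZero ((F.rightDerived i).obj S.X₃)) →
        (∀ i : ℕ, 0 < i → IsZero ((F.rightDerived i).obj S.X₂))) ∧
      ((∀ i : ℕ, 0 < i → IsZero ((F.rightDerived i).obj S.X₂)) →
        (∀ i : ℕ, 0 < i → IsZero ((F.rightDerived i).obj S.X₃))) ∧ (S.map F).ShortExact) ∧
    ((∀ i : ℕ, 0 < i → IsZero ((F.rightDerived i).obj S.X₂)) →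
      (∀ i : ℕ, 0 < i → IsZero ((F.rightDerived i).obj S.X₃)) → Epi (F.map S.g) →
        (∀ i : ℕ, 0 < i → IsZero ((F.rightDerived i).obj S.X₁)) ∧ (S.map F).ShortExact) := by
  obtain ⟨Δ⟩ := RD97.nonempty_derivedLES F
  obtain ⟨hex, hmono⟩ := (F.preservesFiniteLimits_iff_forall_exact_map_and_mono).1 inferInstance S hS
  have heg : Epi ((F.rightDerived 0).map S.g) ↔ Epi (F.map S.g) :=
    (MorphismProperty.epimorphisms D).arrow_mk_iso_iff
      (Arrow.isoMk (F.rightDerivedZeroIsoSelf.app _) (F.rightDerivedZeroIsoSelf.app _)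
        (F.rightDerivedZeroIsoSelf.hom.naturality S.g).symm)
  have hse : Epi (F.map S.g) → (S.map F).ShortExact := fun he =>
    { exact := hex, mono_f := hmono, epi_g := he }
  refine ⟨fun h1 => ⟨fun h3 i hi => (Δ.exact₂ S hS i).isZero_X₂ ((h1 i hi).eq_of_src _ _)
    ((h3 i hi).eq_of_tgt _ _), fun h2 i hi => (Δ.exact₃ S hS i (i + 1) rfl).isZero_X₂
      ((h2 i hi).eq_of_src _ _) ((h1 (i + 1) (by lia)).eq_of_tgt _ _), hse (heg.1 ?_)⟩,
    fun h2 h3 he => ⟨fun i hi => ?_, hse he⟩⟩
  · exact (Δ.exact₃ S hS 0 1 rfl).epi_f ((h1 1 one_pos).eq_of_tgt _ _)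
  · obtain ⟨j, rfl⟩ : ∃ j, i = j + 1 := ⟨i - 1, by lia⟩
    refine (Δ.exact₁ S hS j (j + 1) rfl).isZero_X₂ ?_ ((h2 (j + 1) hi).eq_of_tgt _ _)
    rcases Nat.eq_zero_or_pos j with rfl | hj
    · have : Epi ((F.rightDerived 0).map S.g) := heg.2 he
      exact (cancel_epi ((F.rightDerived 0).map S.g)).1 ((Δ.comp_δ S hS 0 1 rfl).trans comp_zero.symm)
    · exact (h3 j hj).eq_of_src _ _

end Groth.Agent.CohDer42
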