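import Mathlib.Algebra.Homology.DerivedCategory.Fractions
import Mathlib.Algebra.Homology.HomotopyCofiber

/-!
# Roofs between bounded complexes
-/

universe w v u

open CategoryTheory Category Limits

set_option autoImplicit false
set_option backward.isDefEq.respectTransparency false
set_option backward.isDefEq.respectTransparency.types false

namespace Groth.Agent.CohDer42

variable {A : Type u} [Category.{v} A] [Abelian A]

lemma isStrictlyLE_cylinder (K : CochainComplex A ℤ) (n : ℤ) [K.IsStrictlyLE n] :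
    CochainComplex.IsStrictlyLE (HomologicalComplex.cylinder K) n := by
  rw [CochainComplex.isStrictlyLE_iff]
  intro i hi
  refine HomologicalComplex.homotopyCofiber.isZero_X (biprod.lift (𝟙 K) (-𝟙 K)) i ?_ fun j hj => ?_
  · refine IsZero.of_iso ?_ ((HomologicalComplex.eval A (ComplexShape.up ℤ) i).mapBiprod K K)
    have hz : IsZero (K.X i) := K.isZero_of_isStrictlyLE n i hi
    exact (IsZero.iff_id_eq_zero _).2 (biprod.hom_ext _ _ (hz.eq_of_tgt _ _) (hz.eq_of_tgt _ _))
  · simp only [ComplexShape.up_Rel] at hj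
    exact K.isZero_of_isStrictlyLE n j (by lia)

/-- homotopic maps from a complex `≤ n` stay homotopic after lifting to the truncation -/
lemma homotopic_of_comp_ιTruncLE {K M : CochainComplex A ℤ} (n : ℤ) [K.IsStrictlyLE n]
    (f g : K ⟶ M.truncLE n) (h : Homotopy (f ≫ M.ιTruncLE n) (g ≫ M.ιTruncLE n)) :
    Nonempty (Homotopy f g) := by
  have := isStrictlyLE_cylinder K n
  let Φ : HomologicalComplex.cylinder K ⟶ M := HomologicalComplex.cylinder.desc _ _ h
  let Φ' : HomologicalComplex.cylinder K ⟶ M.truncLE n :=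
    inv (CochainComplex.ιTruncLE (HomologicalComplex.cylinder K) n) ≫ CochainComplex.truncLEMap Φ n
  have hΦ : Φ' ≫ M.ιTruncLE n = Φ := by
    simp [Φ']
  have : Mono (M.ιTruncLE n) := inferInstanceAs (Mono (HomologicalComplex.ιTruncLE _ _))
  have h₀ : HomologicalComplex.cylinder.ι₀ K ≫ Φ' = f := by
    rw [← cancel_mono (M.ιTruncLE n), assoc, hΦ]; simp [Φ]
  have h₁ : HomologicalComplex.cylinder.ι₁ K ≫ Φ' = g := by
    rw [← cancel_mono (M.ιTruncLE n), assoc, hΦ]; simp [Φ]
  exact ⟨(Homotopy.ofEq h₀.symm).trans (((HomologicalComplex.cylinder.homotopy₀₁ K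
    (fun j => ⟨j - 1, by simp⟩)).compRight Φ').trans (Homotopy.ofEq h₁))⟩

variable [HasDerivedCategory.{w} A]

local notation "q" => HomotopyCategory.quotient A (ComplexShape.up ℤ)

lemma quasiIso_of_isIso_Q {X Y : CochainComplex A ℤ} (s : X ⟶ Y)
    (h : IsIso (DerivedCategory.Q.map s)) :
    HomotopyCategory.quasiIso A (ComplexShape.up ℤ) ((q).map s) := by
  rw [HomotopyCategory.quotient_map_mem_quasiIso_iff, HomologicalComplex.mem_quasiIso_iff]
  exact (DerivedCategory.isIso_Q_map_iff_quasiIso _ s).1 h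

lemma isIso_Q_of_quasiIso {X Y : CochainComplex A ℤ} (s : X ⟶ Y)
    (h : HomotopyCategory.quasiIso A (ComplexShape.up ℤ) ((q).map s)) :
    IsIso (DerivedCategory.Q.map s) := by
  rw [DerivedCategory.isIso_Q_map_iff_quasiIso]
  rwa [HomotopyCategory.quotient_map_mem_quasiIso_iff, HomologicalComplex.mem_quasiIso_iff] at h

lemma Qh_map_quotient {X Y : CochainComplex A ℤ} (f : X ⟶ Y) :
    DerivedCategory.Qh.map ((q).map f) = (DerivedCategory.quotientCompQhIso A).hom.app X ≫
      DerivedCategory.Q.map f ≫ (DerivedCategory.quotientCompQhIso A).inv.app Y :=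
  (NatIso.naturality_2 (DerivedCategory.quotientCompQhIso A) f).symm

lemma roof_right (K L : CochainComplex A ℤ) (a : ℤ) [K.IsStrictlyLE a]
    (φ : DerivedCategory.Qh.obj ((q).obj K) ⟶ DerivedCategory.Qh.obj ((q).obj L)) :
    ∃ (K' : CochainComplex A ℤ) (_ : K'.IsStrictlyLE a) (s : K' ⟶ K) (f : K' ⟶ L),
      HomotopyCategory.quasiIso A (ComplexShape.up ℤ) ((q).map s) ∧
      DerivedCategory.Qh.map ((q).map s) ≫ φ = DerivedCategory.Qh.map ((q).map f) := by
  obtain ⟨K', hK', s, hs, f, hf⟩ := DerivedCategory.right_fac_of_isStrictlyLE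
    ((DerivedCategory.quotientCompQhIso A).inv.app K ≫ φ ≫
      (DerivedCategory.quotientCompQhIso A).hom.app L) a
  refine ⟨K', hK', s, f, quasiIso_of_isIso_Q s hs, ?_⟩
  rw [Qh_map_quotient, Qh_map_quotient, ← cancel_mono ((DerivedCategory.quotientCompQhIso A).hom.app L)]
  have := congrArg (DerivedCategory.Q.map s ≫ ·) hf
  simp only [IsIso.hom_inv_id_assoc] at this
  simp [← this]

lemma roof_left (K L : CochainComplex A ℤ) (a b : ℤ) [K.IsStrictlyLE b] [L.IsStrictlyGE a]
    [L.IsStrictlyLE b] (φ : DerivedCategory.Qh.obj ((q).obj K) ⟶ DerivedCategory.Qh.obj ((q).obj L)) :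
    ∃ (L' : CochainComplex A ℤ) (_ : L'.IsStrictlyGE a) (_ : L'.IsStrictlyLE b) (f : K ⟶ L')
      (t : L ⟶ L'), HomotopyCategory.quasiIso A (ComplexShape.up ℤ) ((q).map t) ∧
      φ ≫ DerivedCategory.Qh.map ((q).map t) = DerivedCategory.Qh.map ((q).map f) := by
  obtain ⟨L', h₁, h₂, f, t, ht, hf⟩ := DerivedCategory.left_fac_of_isStrictlyLE_of_isStrictlyGE a b
    ((DerivedCategory.quotientCompQhIso A).inv.app K ≫ φ ≫
      (DerivedCategory.quotientCompQhIso A).hom.app L)
  refine ⟨L', h₁, h₂, f, t, quasiIso_of_isIso_Q t ht, ?_⟩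
  rw [Qh_map_quotient, Qh_map_quotient,
    ← cancel_epi ((DerivedCategory.quotientCompQhIso A).inv.app K)]
  have := congrArg (· ≫ DerivedCategory.Q.map t) hf
  simp only [assoc, IsIso.inv_hom_id, comp_id] at this
  simp [← this]

lemma equalize_right (K L : CochainComplex A ℤ) (a : ℤ) [K.IsStrictlyLE a] (f₁ f₂ : K ⟶ L)
    (h : DerivedCategory.Qh.map ((q).map f₁) = DerivedCategory.Qh.map ((q).map f₂)) :
    ∃ (K' : CochainComplex A ℤ) (_ : K'.IsStrictlyLE a) (s : K' ⟶ K),
      HomotopyCategory.quasiIso A (ComplexShape.up ℤ) ((q).map s) ∧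
      (q).map s ≫ (q).map f₁ = (q).map s ≫ (q).map f₂ := by
  obtain ⟨X', s, hs, e⟩ := (MorphismProperty.map_eq_iff_precomp DerivedCategory.Qh
    (HomotopyCategory.quasiIso A (ComplexShape.up ℤ)) _ _).1 h
  obtain ⟨X', rfl⟩ := HomotopyCategory.quotient_obj_surjective X'
  obtain ⟨s, rfl⟩ := (q).map_surjective s
  have := isIso_Q_of_quasiIso s hs
  have : IsIso (DerivedCategory.Q.map (CochainComplex.truncLEMap s a)) := by
    rw [DerivedCategory.isIso_Q_map_iff_quasiIso, CochainComplex.quasiIso_truncLEMap_iff]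
    have := (DerivedCategory.isIso_Q_map_iff_quasiIso _ s).1 ‹_›
    infer_instance
  refine ⟨CochainComplex.truncLE X' a, inferInstance, CochainComplex.ιTruncLE X' a ≫ s, quasiIso_of_isIso_Q _ ?_, ?_⟩
  · rw [← CochainComplex.ιTruncLE_naturality s a, DerivedCategory.Q.map_comp]
    infer_instance
  · rw [Functor.map_comp, assoc, assoc, e]

lemma equalize_left (K L : CochainComplex A ℤ) (a b : ℤ) [K.IsStrictlyLE b] [L.IsStrictlyGE a]
    [L.IsStrictlyLE b] (f₁ f₂ : K ⟶ L)
    (h : DerivedCategory.Qh.map ((q).map f₁) = DerivedCategory.Qh.map ((q).map f₂)) :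
    ∃ (L' : CochainComplex A ℤ) (_ : L'.IsStrictlyGE a) (_ : L'.IsStrictlyLE b) (t : L ⟶ L'),
      HomotopyCategory.quasiIso A (ComplexShape.up ℤ) ((q).map t) ∧
      (q).map f₁ ≫ (q).map t = (q).map f₂ ≫ (q).map t := by
  obtain ⟨Y', t, ht, e⟩ := (MorphismProperty.map_eq_iff_postcomp DerivedCategory.Qh
    (HomotopyCategory.quasiIso A (ComplexShape.up ℤ)) _ _).1 h
  obtain ⟨Y', rfl⟩ := HomotopyCategory.quotient_obj_surjective Y'
  obtain ⟨t, rfl⟩ := (q).map_surjective t
  have htq : QuasiIso t := (DerivedCategory.isIso_Q_map_iff_quasiIso _ t).1 (isIso_Q_of_quasiIso t ht)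
  let t₁ : L ⟶ CochainComplex.truncGE Y' a := t ≫ CochainComplex.πTruncGE Y' a
  have : QuasiIso (CochainComplex.truncGEMap t a) := by
    rw [CochainComplex.quasiIso_truncGEMap_iff]
    intro i _; infer_instance
  have hq1 : QuasiIso t₁ := by
    simp only [t₁, ← CochainComplex.πTruncGE_naturality t a]
    infer_instance
  have : QuasiIso (CochainComplex.truncLEMap t₁ b) := by
    rw [CochainComplex.quasiIso_truncLEMap_iff]
    intro i _; infer_instance
  let t₂ : L ⟶ (CochainComplex.truncGE Y' a).truncLE b := inv (L.ιTruncLE b) ≫ CochainComplex.truncLEMap t₁ b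
  have h₂ : t₂ ≫ (CochainComplex.truncGE Y' a).ιTruncLE b = t₁ := by simp [t₂]
  refine ⟨(CochainComplex.truncGE Y' a).truncLE b, inferInstance, inferInstance, t₂,
    quasiIso_of_isIso_Q _ ((DerivedCategory.isIso_Q_map_iff_quasiIso _ _).2 inferInstance), ?_⟩
  have H : (q).map (f₁ ≫ t₁) = (q).map (f₂ ≫ t₁) := by
    simp only [t₁, Functor.map_comp]
    rw [← assoc, ← assoc]
    exact congrArg (· ≫ (q).map (CochainComplex.πTruncGE Y' a)) e
  have H' : (q).map ((f₁ ≫ t₂) ≫ CochainComplex.ιTruncLE (CochainComplex.truncGE Y' a) b) =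
      (q).map ((f₂ ≫ t₂) ≫ CochainComplex.ιTruncLE (CochainComplex.truncGE Y' a) b) := by
    rw [Category.assoc f₁ t₂, Category.assoc f₂ t₂, h₂]; exact H
  rw [← Functor.map_comp, ← Functor.map_comp]
  exact HomotopyCategory.eq_of_homotopy _ _
    (homotopic_of_comp_ιTruncLE b (f₁ ≫ t₂) (f₂ ≫ t₂) (HomotopyCategory.homotopyOfEq _ _ H')).some

end Groth.Agent.CohDer42
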