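import Groth.Prelude.Def_DerLim
import Mathlib.CategoryTheory.Abelian.GrothendieckAxioms.Colim
import Mathlib.CategoryTheory.Functor.OfSequence
import Mathlib.Algebra.Homology.ShortComplex.ShortExact
import Mathlib.Algebra.Homology.HomologicalComplexAbelian
import Mathlib.Algebra.Homology.HomologicalComplexLimits

/-!
# The telescope sequence of a sequential colimit
-/

universe v u

open CategoryTheory Category Limits MorphismProperty

set_option autoImplicit false
set_option linter.unusedSectionVars false
set_option backward.isDefEq.respectTransparency false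

namespace Groth.Agent.CohDer42.SeqColim

variable {C : Type u} [Category.{v} C] [Abelian C]

/-- one transition map -/
noncomputable abbrev fm (F : ℕ ⥤ C) (n : ℕ) : F.obj n ⟶ F.obj (n + 1) :=
  F.map (homOfLE (Nat.le_succ n))

variable (F : ℕ ⥤ C)

/-- partial sums -/
noncomputable def S : ℕ → C
  | 0 => F.obj 0
  | n + 1 => S n ⊞ F.obj (n + 1)

/-- the inclusion of partial sums -/
noncomputable def incl (n : ℕ) : S F n ⟶ S F (n + 1) := (biprod.inl : S F n ⟶ S F n ⊞ F.obj (n + 1))

/-- `1 - shift` on partial sums -/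
noncomputable def e : ∀ n, S F n ⟶ S F (n + 1)
  | 0 => (biprod.lift (𝟙 _) (-fm F 0) : F.obj 0 ⟶ F.obj 0 ⊞ F.obj 1)
  | n + 1 => (biprod.desc (e n ≫ biprod.inl) (biprod.inr ≫ biprod.inl - fm F (n + 1) ≫ biprod.inr) :
      S F n ⊞ F.obj (n + 1) ⟶ (S F n ⊞ F.obj (n + 1)) ⊞ F.obj (n + 1 + 1))

lemma mono_e_fst : ∀ n, Mono (e F n ≫ (biprod.fst : S F n ⊞ F.obj (n + 1) ⟶ S F n))
  | 0 => by
    rw [show e F 0 ≫ (biprod.fst : S F 0 ⊞ F.obj (0 + 1) ⟶ S F 0) = 𝟙 _ from biprod.lift_fst _ _]
    infer_instance
  | n + 1 => by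
    let en : S F n ⟶ S F n ⊞ F.obj (n + 1) := e F n
    have : Mono (en ≫ biprod.fst) := mono_e_fst n
    have key : Mono (biprod.desc en biprod.inr) := by
      rw [Preadditive.mono_iff_cancel_zero]
      intro T g hg
      rw [biprod.desc_eq, Preadditive.comp_add] at hg
      have hx : g ≫ biprod.fst = 0 := zero_of_comp_mono (en ≫ biprod.fst) (by
        simpa [Preadditive.add_comp] using congrArg (· ≫ biprod.fst) hg)
      have hy : g ≫ biprod.snd = 0 := by
        rw [reassoc_of% hx, zero_comp, zero_add, ← assoc] at hg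
        exact zero_of_comp_mono _ hg
      exact biprod.hom_ext _ _ (by rw [hx, zero_comp]) (by rw [hy, zero_comp])
    have he : (biprod.desc (en ≫ biprod.inl) (biprod.inr ≫ biprod.inl - fm F (n + 1) ≫ biprod.inr) :
        S F n ⊞ F.obj (n + 1) ⟶ (S F n ⊞ F.obj (n + 1)) ⊞ F.obj (n + 1 + 1)) ≫ biprod.fst =
        biprod.desc en biprod.inr := by
      apply biprod.hom_ext' <;> simp [Preadditive.sub_comp]
    rw [← he] at key
    exact key

lemma mono_e (n : ℕ) : Mono (e F n) :=
  haveI := mono_e_fst F n
  mono_of_mono (e F n) (biprod.fst : S F n ⊞ F.obj (n + 1) ⟶ S F n)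

variable [HasCoproduct F.obj]

/-- the map from a partial sum -/
noncomputable def j : ∀ n, S F n ⟶ ∐ F.obj
  | 0 => Sigma.ι F.obj 0
  | n + 1 => (biprod.desc (j n) (Sigma.ι F.obj (n + 1)) : S F n ⊞ F.obj (n + 1) ⟶ _)

lemma incl_j (n : ℕ) : incl F n ≫ j F (n + 1) = j F n := biprod.inl_desc _ _

/-- `1 - shift` -/
noncomputable abbrev oneSub : (∐ F.obj) ⟶ ∐ F.obj :=
  𝟙 (∐ F.obj) - DerLim.shiftMap F.obj (fm F)

lemma ι_oneSub (n : ℕ) :
    Sigma.ι F.obj n ≫ oneSub F = Sigma.ι F.obj n - fm F n ≫ Sigma.ι F.obj (n + 1) := by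
  rw [oneSub, Preadditive.comp_sub, comp_id, DerLim.shiftMap, Sigma.ι_desc]

lemma e_j : ∀ n, e F n ≫ j F (n + 1) = j F n ≫ oneSub F
  | 0 => by
    simp only [e, j, S, ι_oneSub, biprod.lift_desc, id_comp, Preadditive.neg_comp]
    abel
  | n + 1 => by
    apply biprod.hom_ext'
    · have := e_j n
      simp only [e, j, S] at this ⊢
      simp only [biprod.inl_desc_assoc, assoc, biprod.inl_desc, this]
    · simp only [e, j, S, biprod.inr_desc_assoc, Preadditive.sub_comp, assoc, biprod.inl_desc_assoc,
        biprod.inl_desc, biprod.inr_desc, ι_oneSub]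

/-- partial sums as a functor -/
noncomputable def SF : ℕ ⥤ C := Functor.ofSequence (incl F)

/-- shifted partial sums as a functor -/
noncomputable def TF : ℕ ⥤ C :=
  Functor.ofSequence (X := fun n => S F (n + 1)) (fun n => incl F (n + 1))

/-- `1 - shift` as a natural transformation -/
noncomputable def eT : SF F ⟶ TF F :=
  NatTrans.ofSequence (e F) (fun n => by
    simp only [SF, TF, Functor.ofSequence_map_homOfLE_succ]
    exact biprod.inl_desc _ _)

/-- the cocone of partial sums -/
noncomputable def cS : Cocone (SF F) where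
  pt := ∐ F.obj
  ι := NatTrans.ofSequence (G := (Functor.const ℕ).obj (∐ F.obj)) (j F) (fun n => by
    simp only [SF, Functor.ofSequence_map_homOfLE_succ, Functor.const_obj_map]
    exact (incl_j F n).trans (comp_id _).symm)

/-- the cocone of shifted partial sums -/
noncomputable def cT : Cocone (TF F) where
  pt := ∐ F.obj
  ι := NatTrans.ofSequence (G := (Functor.const ℕ).obj (∐ F.obj)) (fun n => j F (n + 1)) (fun n => by
    simp only [TF, Functor.ofSequence_map_homOfLE_succ, Functor.const_obj_map]
    exact (incl_j F (n + 1)).trans (comp_id _).symm)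

/-- the component of a map out of the colimit of partial sums -/
noncomputable def comp {W : C} (k : ∀ n, S F n ⟶ W) : ∀ n, F.obj n ⟶ W
  | 0 => k 0
  | n + 1 => (biprod.inr : _ ⟶ S F n ⊞ F.obj (n + 1)) ≫ k (n + 1)

lemma j_desc {W : C} (k : ∀ n, S F n ⟶ W) (hk : ∀ n, incl F n ≫ k (n + 1) = k n) :
    ∀ n, j F n ≫ Sigma.desc (comp F k) = k n
  | 0 => Sigma.ι_desc _ _
  | n + 1 => by
    apply biprod.hom_ext'
    · simp only [j, S, biprod.inl_desc_assoc]
      exact (j_desc k hk n).trans (hk n).symm
    · simp only [j, S, biprod.inr_desc_assoc, Sigma.ι_desc]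
      rfl

lemma hom_ext_j {W : C} {g g' : ∐ F.obj ⟶ W} (h : ∀ n, j F n ≫ g = j F n ≫ g') : g = g' := by
  refine Sigma.hom_ext _ _ fun n => ?_
  rcases n with _ | n
  · exact h 0
  · have := congrArg ((biprod.inr : _ ⟶ S F n ⊞ F.obj (n + 1)) ≫ ·) (h (n + 1))
    simpa [j, S] using this

/-- partial sums converge to the sum -/
noncomputable def isColimit_cS : IsColimit (cS F) where
  desc c := Sigma.desc (comp F fun n => c.ι.app n)
  fac c n := j_desc F (fun m => c.ι.app m) (fun m => by
    have := c.w (homOfLE (Nat.le_succ m))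
    simp only [SF, Functor.ofSequence_map_homOfLE_succ] at this
    exact this) n
  uniq c m hm := hom_ext_j F fun n => (hm n).trans (j_desc F (fun m => c.ι.app m) (fun m => by
    have := c.w (homOfLE (Nat.le_succ m))
    simp only [SF, Functor.ofSequence_map_homOfLE_succ] at this
    exact this) n).symm

/-- shifted partial sums converge to the sum -/
noncomputable def isColimit_cT : IsColimit (cT F) :=
  let k := fun (c : Cocone (TF F)) (n : ℕ) =>
    (match n with
      | 0 => incl F 0 ≫ c.ι.app 0
      | m + 1 => c.ι.app m : S F n ⟶ c.pt)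
  have hk : ∀ c n, incl F n ≫ k c (n + 1) = k c n := fun c n => by
    rcases n with _ | n
    · rfl
    · have := c.w (homOfLE (Nat.le_succ n))
      simp only [TF, Functor.ofSequence_map_homOfLE_succ] at this
      exact this
  { desc := fun c => Sigma.desc (comp F (k c))
    fac := fun c n => j_desc F (k c) (hk c) (n + 1)
    uniq := fun c m hm => hom_ext_j F fun n => by
      rw [j_desc F (k c) (hk c) n]
      rcases n with _ | n
      · rw [← incl_j F 0, assoc]
        exact congrArg (incl F 0 ≫ ·) (hm 0)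
      · exact hm n }

variable [(monomorphisms C).IsStableUnderColimitsOfShape ℕ]

lemma mono_oneSub : Mono (oneSub F) :=
  IsStableUnderColimitsOfShape.condition (W := monomorphisms C) (J := ℕ) _ _ _ _
    (isColimit_cS F) (isColimit_cT F) (eT F) (fun n => mono_e F n) (oneSub F) (fun n => (e_j F n).symm)

/-- the projection to the colimit -/
noncomputable abbrev proj [HasColimit F] : (∐ F.obj) ⟶ colimit F :=
  Sigma.desc (fun n => colimit.ι F n)

lemma oneSub_proj [HasColimit F] : oneSub F ≫ proj F = 0 := Sigma.hom_ext _ _ fun n => by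
  rw [← assoc, ι_oneSub, Preadditive.sub_comp, assoc, Sigma.ι_desc, Sigma.ι_desc, colimit.w, sub_self,
    comp_zero]

theorem shortExact [HasColimit F] : (ShortComplex.mk _ _ (oneSub_proj F)).ShortExact := by
  have := mono_oneSub F
  have hepi : Epi (proj F) := ⟨fun g h hgh => colimit.hom_ext fun n => by
    simpa using congrArg (Sigma.ι F.obj n ≫ ·) hgh⟩
  refine { exact := ShortComplex.exact_of_g_is_cokernel _ ?_ }
  refine CokernelCofork.IsColimit.ofπ' _ _ fun {W} k hk => ?_
  have hw : ∀ n, fm F n ≫ Sigma.ι F.obj (n + 1) ≫ k = Sigma.ι F.obj n ≫ k := fun n => by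
    have := congrArg (Sigma.ι F.obj n ≫ ·) hk
    dsimp only at this
    rw [← assoc, comp_zero] at this
    erw [ι_oneSub, Preadditive.sub_comp, assoc, sub_eq_zero] at this
    exact this.symm
  let c : Cocone F :=
    { pt := W
      ι := NatTrans.ofSequence (G := (Functor.const ℕ).obj W) (fun n => Sigma.ι F.obj n ≫ k) (fun n => by
        simp only [Functor.const_obj_map]
        exact (hw n).trans (comp_id _).symm) }
  exact ⟨colimit.desc F c, Sigma.hom_ext _ _ fun n => by simp [c]⟩

omit [HasCoproduct F.obj] [(monomorphisms C).IsStableUnderColimitsOfShape ℕ] in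
lemma stable_cochainComplex [HasColimitsOfShape ℕ C] [HasExactColimitsOfShape ℕ C] :
    (monomorphisms (CochainComplex C ℤ)).IsStableUnderColimitsOfShape ℕ where
  condition X₁ X₂ c₁ c₂ h₁ h₂ f hf φ hφ := by
    have : ∀ i, Mono (φ.f i) := fun i =>
      IsStableUnderColimitsOfShape.condition (W := monomorphisms C) (J := ℕ) _ _ _ _
        (isColimitOfPreserves (HomologicalComplex.eval C (ComplexShape.up ℤ) i) h₁)
        (isColimitOfPreserves (HomologicalComplex.eval C (ComplexShape.up ℤ) i) h₂)
        (Functor.whiskerRight f (HomologicalComplex.eval C (ComplexShape.up ℤ) i))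
        (fun n => by
          have : Mono (f.app n) := hf n
          exact inferInstanceAs (Mono ((HomologicalComplex.eval C (ComplexShape.up ℤ) i).map (f.app n))))
        (φ.f i) (fun n => HomologicalComplex.congr_hom (hφ n) i)
    exact HomologicalComplex.mono_of_mono_f _ this

end Groth.Agent.CohDer42.SeqColim
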