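import Groth.Agent.CohDer42.GrothColim
import Mathlib.Algebra.Homology.Double
import Mathlib.Algebra.Homology.Refinements
import Mathlib.CategoryTheory.Functor.OfSequence
import Mathlib.CategoryTheory.Subobject.Limits

/-!
# Every nonzero acyclic complex contains a small nonzero acyclic subcomplex
-/

universe v u

open CategoryTheory Category Limits HomologicalComplex

set_option autoImplicit false
set_option linter.unusedSectionVars false
set_option backward.isDefEq.respectTransparency false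

namespace Groth.Agent.CohDer42

section General

variable {C : Type u} [Category.{v} C] [Abelian C]

lemma exists_small_cover [HasCoproducts.{v} C] {G : C} (hG : IsSeparator G) {W Z : C} (p : W ⟶ Z)
    [Epi p] [Small.{v} (Subobject Z)] :
    ∃ (σ : Set (Shrink.{v} (Subobject Z))) (g : σ → (G ⟶ W)),
      Epi (Sigma.desc (fun s => g s ≫ p)) := by
  let img : (G ⟶ W) → Shrink.{v} (Subobject Z) := fun h => equivShrink _ (imageSubobject (h ≫ p))
  refine ⟨Set.range img, fun s => s.2.choose, Preadditive.epi_of_cancel_zero _ (fun {T} c hc => ?_)⟩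
  rw [← cancel_epi p, comp_zero]
  refine (isSeparator_def G).1 hG _ _ (fun h => ?_)
  rw [comp_zero]
  let s : Set.range img := ⟨img h, h, rfl⟩
  have e : imageSubobject (s.2.choose ≫ p) = imageSubobject (h ≫ p) :=
    (equivShrink _).injective s.2.choose_spec
  have hz : (s.2.choose ≫ p) ≫ c = 0 := by
    have := Sigma.ι (fun _ : Set.range img => G) s ≫= hc
    rwa [Sigma.ι_desc_assoc, comp_zero] at this
  have h0 : (imageSubobject (s.2.choose ≫ p)).arrow ≫ c = 0 := by
    rw [← cancel_epi (factorThruImageSubobject (s.2.choose ≫ p)), comp_zero, ← assoc,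
      imageSubobject_arrow_comp]
    exact hz
  rw [e] at h0
  rw [← assoc, ← imageSubobject_arrow_comp (h ≫ p), assoc, h0, comp_zero]

lemma exists_quotient_iso {Z V : C} (e : Z ⟶ V) [Epi e] [Small.{v} (Subobject Z)] :
    ∃ s : Shrink.{v} (Subobject Z), Nonempty (cokernel ((equivShrink _).symm s).arrow ≅ V) := by
  refine ⟨equivShrink _ (kernelSubobject e), ?_⟩
  rw [Equiv.symm_apply_apply]
  let S := ShortComplex.mk (kernelSubobject e).arrow e (kernelSubobject_arrow_comp e)
  have hS : S.Exact := S.exact_of_f_is_kernel (KernelFork.IsLimit.ofι' _ _ (fun {W} x hx =>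
    ⟨factorThruKernelSubobject e x hx, factorThruKernelSubobject_comp_arrow e x hx⟩))
  have : Epi S.g := inferInstanceAs (Epi e)
  exact ⟨(colimit.isColimit _).coconePointUniqueUpToIso hS.gIsCokernel⟩

end General

variable {A : Type u} [Category.{v} A] [Abelian A] [IsGrothendieckAbelian.{v} A]

/-- the disk complex in degrees `n - 1`, `n` -/
noncomputable def disk (G : A) (n : ℤ) : CochainComplex A ℤ :=
  double (𝟙 G) (c := ComplexShape.up ℤ) (i₀ := n - 1) (i₁ := n) (by simp)

/-- morphisms out of a disk -/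
noncomputable def diskMap {G : A} {Q : CochainComplex A ℤ} {n : ℤ} (a : G ⟶ Q.X (n - 1)) :
    disk G n ⟶ Q :=
  mkHomFromDouble (c := ComplexShape.up ℤ) (i₀ := n - 1) (i₁ := n) (by simp) (by omega) a
    (a ≫ Q.d (n - 1) n) (by simp) (by simp)

lemma doubleXIso₀_inv_diskMap {G : A} {Q : CochainComplex A ℤ} {n : ℤ} (a : G ⟶ Q.X (n - 1)) :
    (doubleXIso₀ (𝟙 G) (c := ComplexShape.up ℤ) (i₀ := n - 1) (i₁ := n) (by simp)).inv ≫
      (diskMap a).f (n - 1) = a := by
  simp [diskMap, disk]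

lemma homologyMap_eq_zero_of_cover {X I Q : CochainComplex A ℤ} (j : X ⟶ I) (k : I ⟶ Q) [Mono k]
    (u : X ⟶ Q) (hj : j ≫ k = u) (n : ℤ) {G : A} {σ : Type v}
    (b : σ → (G ⟶ pullback (Q.toCycles (n - 1) n) (cyclesMap u n)))
    [Epi (Sigma.desc (fun t => b t ≫ pullback.snd _ _))]
    (y : σ → (G ⟶ I.X (n - 1))) (hy : ∀ t, y t ≫ k.f (n - 1) = b t ≫ pullback.fst _ _) :
    homologyMap j n = 0 := by
  rw [← cancel_epi (X.homologyπ n), comp_zero, homologyπ_naturality,
    ← cancel_epi (Sigma.desc (fun t => b t ≫ pullback.snd _ _)), comp_zero]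
  refine Sigma.hom_ext _ _ (fun t => ?_)
  rw [comp_zero, Sigma.ι_desc_assoc]
  have key : (b t ≫ pullback.snd _ _) ≫ cyclesMap j n = y t ≫ I.toCycles (n - 1) n := by
    rw [← cancel_mono (I.iCycles n), assoc, assoc, assoc, cyclesMap_i, toCycles_i,
      ← cancel_mono (k.f n)]
    simp only [assoc]
    rw [← k.comm, reassoc_of% (hy t), ← comp_f, hj, ← cyclesMap_i,
      ← pullback.condition_assoc, toCycles_i]
  rw [assoc, ← assoc (b t), ← assoc, key, assoc, toCycles_comp_homologyπ, comp_zero]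

variable {ι : Type v} (X : ι → CochainComplex A ℤ)

/-- the index type of one enlargement step -/
def StepIndex (G : A) : Type v :=
  Σ (i : ι) (σ : ∀ n : ℤ, Set (Shrink.{v} (Subobject ((X i).cycles n)))),
    Shrink.{v} (Subobject (X i ⊞ ∐ fun p : (Σ n : ULift.{v} ℤ, σ n.down) => disk G p.1.down))

lemma exists_step_family :
    ∃ (κ : Type v) (Y : κ → CochainComplex A ℤ), ∀ (i : ι) (Q : CochainComplex A ℤ), Q.Acyclic →
      ∀ (u : X i ⟶ Q), Mono u → ∃ (k : κ) (w : Y k ⟶ Q) (j : X i ⟶ Y k), Mono w ∧ j ≫ w = u ∧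
        ∀ n, homologyMap j n = 0 := by
  let G := separator A
  refine ⟨StepIndex X G, fun k => cokernel ((equivShrink _).symm k.2.2).arrow,
    fun i Q hQ u hu => ?_⟩
  have hd : ∀ n, Epi (Q.toCycles (n - 1) n) := fun n => by
    rw [epi_iff_surjective_up_to_refinements]
    intro T z
    obtain ⟨T', π, hπ, x, hx⟩ := (exactAt_iff_exact_up_to_refinements Q (n - 1) n (n + 1)
      (by simp) (by simp)).1 (hQ n) (z ≫ Q.iCycles n) (by simp)
    refine ⟨T', π, hπ, x, ?_⟩
    rw [← cancel_mono (Q.iCycles n), assoc, assoc, toCycles_i]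
    exact hx
  have hcov : ∀ n, ∃ (σ : Set (Shrink.{v} (Subobject ((X i).cycles n))))
      (g : σ → (G ⟶ pullback (Q.toCycles (n - 1) n) (cyclesMap u n))),
      Epi (Sigma.desc (fun s => g s ≫ pullback.snd _ _)) := fun n => by
    have := hd n
    exact exists_small_cover (isSeparator_separator A) (pullback.snd (Q.toCycles (n - 1) n) (cyclesMap u n))
  choose σ g hg using hcov
  let D := fun p : (Σ n : ULift.{v} ℤ, σ n.down) => disk G p.1.down
  let φ : X i ⊞ ∐ D ⟶ Q :=
    biprod.desc u (Sigma.desc (fun p => diskMap (g p.1.down p.2 ≫ pullback.fst _ _)))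
  obtain ⟨s, ⟨e⟩⟩ := exists_quotient_iso (Abelian.factorThruImage φ)
  let j : X i ⟶ Abelian.image φ := biprod.inl ≫ Abelian.factorThruImage φ
  have hj : j ≫ Abelian.image.ι φ = u :=
    (assoc _ _ _).trans ((congrArg (biprod.inl ≫ ·) (Abelian.image.fac φ)).trans
      (biprod.inl_desc _ _))
  have hz : ∀ n, homologyMap j n = 0 := fun n => by
    have := hg n
    refine homologyMap_eq_zero_of_cover j (Abelian.image.ι φ) u hj n (g n)
      (fun t => (doubleXIso₀ (𝟙 G) (c := ComplexShape.up ℤ) (i₀ := n - 1) (i₁ := n) (by simp)).inv ≫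
        (Sigma.ι D ⟨ULift.up n, t⟩ ≫ (biprod.inr : _ ⟶ X i ⊞ ∐ D) ≫
          Abelian.factorThruImage φ).f (n - 1)) (fun t => ?_)
    have hd₀ : (Sigma.ι D ⟨ULift.up n, t⟩ ≫ (biprod.inr : _ ⟶ X i ⊞ ∐ D) ≫
        Abelian.factorThruImage φ) ≫ Abelian.image.ι φ = diskMap (g n t ≫ pullback.fst _ _) := by
      rw [assoc, assoc, Abelian.image.fac φ, biprod.inr_desc, Sigma.ι_desc]
    rw [assoc, ← comp_f, hd₀, doubleXIso₀_inv_diskMap]
  refine ⟨⟨i, σ, s⟩, e.hom ≫ Abelian.image.ι φ, j ≫ e.inv, inferInstance, ?_, fun n => ?_⟩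
  · exact (assoc _ _ _).trans ((congrArg (j ≫ ·) (Iso.inv_hom_id_assoc e _)).trans hj)
  · exact (homologyMap_comp _ _ _).trans ((congrArg (· ≫ _) (hz n)).trans zero_comp)

attribute [local instance] IsFiltered.isConnected in
/-- the union of a sequence of subcomplexes with vanishing transition maps in homology -/
lemma exists_acyclic_union {Q : CochainComplex A ℤ} (U : ℕ → CochainComplex A ℤ)
    (j : ∀ m, U m ⟶ U (m + 1)) (w : ∀ m, U m ⟶ Q) (hw : ∀ m, Mono (w m))
    (hj : ∀ m, j m ≫ w (m + 1) = w m) (hz : ∀ m n, homologyMap (j m) n = 0) :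
    ∃ (V : CochainComplex A ℤ) (u : V ⟶ Q) (p : (∐ fun m : ULift.{v} ℕ => U m.down) ⟶ V),
      Mono u ∧ Epi p ∧ V.Acyclic ∧ Sigma.ι _ ⟨0⟩ ≫ p ≫ u = w 0 := by
  let J := ULift.{v} ℕ
  let d : J ⥤ ℕ := Monotone.functor (f := fun m : J => m.down) (fun _ _ h => h)
  let F : J ⥤ CochainComplex A ℤ := d ⋙ Functor.ofSequence j
  let α₀ : Functor.ofSequence j ⟶ (Functor.const ℕ).obj Q :=
    NatTrans.ofSequence (fun m => w m) (fun m => by
      rw [Functor.ofSequence_map_homOfLE_succ]
      exact (hj m).trans (comp_id _).symm)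
  let α : F ⟶ (Functor.const J).obj Q :=
    { app := fun m => w m.down
      naturality := fun a b g => (α₀.naturality (d.map g)) }
  have : ∀ m, Mono (α.app m) := fun m => hw m.down
  have : Mono α := NatTrans.mono_of_mono_app α
  let u : colimit F ⟶ Q := colimit.desc F (Cocone.mk Q α)
  have hmono : Mono u :=
    colim.map_mono' α (colimit.isColimit F) (isColimitConstCocone J Q) u
      (fun m => (colimit.ι_desc _ _).trans (comp_id _).symm)
  let p : (∐ fun m : J => U m.down) ⟶ colimit F := Sigma.desc (fun m => colimit.ι F m)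
  have hp : ∀ m, Sigma.ι _ m ≫ p = colimit.ι F m := fun m => Sigma.ι_desc _ m
  have : Epi p := Preadditive.epi_of_cancel_zero _ (fun {T} c hc => by
    refine colimit.hom_ext (fun m => ?_)
    rw [comp_zero, ← hp m, assoc, hc, comp_zero])
  refine ⟨colimit F, u, p, hmono, inferInstance, fun n => ?_, ?_⟩
  · refine (exactAt_iff_isZero_homology _ n).2
      (isZero_homology_of_colimit (colimit.isColimit F) n (fun m => ?_))
    have hle : m ≤ ⟨m.down + 1⟩ := Nat.le_succ m.down
    change homologyMap (colimit.ι F m) n = 0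
    rw [← colimit.w F (homOfLE hle), homologyMap_comp]
    have : F.map (homOfLE hle) = j m.down := Functor.ofSequence_map_homOfLE_succ j m.down
    rw [this, hz m.down n]
    exact zero_comp
  · rw [← assoc, hp]
    exact colimit.ι_desc _ _

/-- every nonzero acyclic complex contains a nonzero acyclic subcomplex from a small family -/
theorem exists_small_acyclic :
    ∃ (κ : Type v) (Y : κ → CochainComplex A ℤ), ∀ (Q : CochainComplex A ℤ), Q.Acyclic →
      ¬ IsZero Q → ∃ (k : κ) (u : Y k ⟶ Q), Mono u ∧ (Y k).Acyclic ∧ ¬ IsZero (Y k) := by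
  choose κs Ys hs using fun (d : Σ ι : Type v, ι → CochainComplex A ℤ) => exists_step_family d.2
  let G' := separator (CochainComplex A ℤ)
  let F : ℕ → Σ ι : Type v, ι → CochainComplex A ℤ := fun m => Nat.rec
    ⟨Shrink.{v} (Subobject G'), fun s => cokernel ((equivShrink _).symm s).arrow⟩
    (fun _ d => ⟨κs d, Ys d⟩) m
  refine ⟨Σ c : ∀ m, (F m).1, Shrink.{v} (Subobject (∐ fun m : ULift.{v} ℕ => (F m.down).2 (c m.down))),
    fun k => cokernel ((equivShrink _).symm k.2).arrow, fun Q hQ hQ0 => ?_⟩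
  obtain ⟨h, hh⟩ : ∃ h : G' ⟶ Q, h ≠ 0 := by
    by_contra hne
    refine hQ0 ((IsZero.iff_id_eq_zero _).2 ?_)
    refine (isSeparator_def G').1 (isSeparator_separator _) _ _ (fun h => ?_)
    rw [comp_id, comp_zero]
    exact Classical.byContradiction (fun h0 => hne ⟨h, h0⟩)
  obtain ⟨s₀, ⟨e₀⟩⟩ := exists_quotient_iso (Abelian.factorThruImage h)
  let St : ℕ → Type v := fun m => Σ' (k : (F m).1) (w : (F m).2 k ⟶ Q), Mono w
  have step : ∀ m (d : St m), ∃ (d' : St (m + 1)) (j : (F m).2 d.1 ⟶ (F (m + 1)).2 d'.1),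
      j ≫ d'.2.1 = d.2.1 ∧ ∀ n, homologyMap j n = 0 := by
    rintro m ⟨k, w, hw⟩
    obtain ⟨k', w', j, hw', hj, hz⟩ := hs (F m) k Q hQ w hw
    exact ⟨⟨k', w', hw'⟩, j, hj, hz⟩
  choose next jn hjn hzn using step
  let T : ∀ m, St m := fun m =>
    Nat.rec ⟨s₀, e₀.hom ≫ Abelian.image.ι h, inferInstance⟩ (fun m d => next m d) m
  obtain ⟨V, u, p, hu, hp, hV, h0⟩ := exists_acyclic_union (Q := Q) (fun m => (F m).2 (T m).1)
    (fun m => jn m (T m)) (fun m => (T m).2.1) (fun m => (T m).2.2)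
    (fun m => hjn m (T m)) (fun m => hzn m (T m))
  obtain ⟨s, ⟨e⟩⟩ := exists_quotient_iso p
  refine ⟨⟨fun m => (T m).1, s⟩, e.hom ≫ u, inferInstance, fun n => (hV n).of_iso e.symm,
    fun hzero => hh ?_⟩
  have hw0 : e₀.hom ≫ Abelian.image.ι h = 0 := by
    refine h0.symm.trans ?_
    rw [(hzero.of_iso e.symm).eq_of_src u 0]
    simp
  have hι : Abelian.image.ι h = 0 := by
    rw [← cancel_epi e₀.hom, comp_zero, hw0]
  rw [← Abelian.image.fac h, hι, comp_zero]

end Groth.Agent.CohDer42
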