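import Groth.Agent.CohDer42.DerProd
import Mathlib.CategoryTheory.EssentiallySmall
import Mathlib.CategoryTheory.Localization.Equivalence

/-!
# Small hom derived categories
-/

universe w v u

open CategoryTheory Category Limits

set_option autoImplicit false
set_option linter.unusedSectionVars false

namespace Groth.Agent.CohDer42

variable (A : Type u) [Category.{v} A] [Abelian A]

lemma locallySmall_derivedCategory [HasDerivedCategory.{w} A]
    (h : ∀ M : CochainComplex A ℤ, ∃ (I : CochainComplex A ℤ) (f : M ⟶ I), I.IsKInjective ∧ QuasiIso f) :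
    LocallySmall.{v} (DerivedCategory A) := by
  refine ⟨fun X Y => ?_⟩
  let K := DerivedCategory.Q.objPreimage X
  let eX : DerivedCategory.Q.obj K ≅ X := DerivedCategory.Q.objObjPreimageIso X
  obtain ⟨I, f, hI, hf⟩ := h (DerivedCategory.Q.objPreimage Y)
  let eY : DerivedCategory.Q.obj I ≅ Y :=
    (asIso (DerivedCategory.Q.map f)).symm ≪≫ DerivedCategory.Q.objObjPreimageIso Y
  haveI : Small.{v} (K ⟶ I) := small_self _
  refine small_of_surjective (α := K ⟶ I)
    (f := fun g => eX.inv ≫ DerivedCategory.Q.map g ≫ eY.hom) fun φ => ?_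
  obtain ⟨g, hg⟩ := Q_map_surjective_of_isKInjective (eX.hom ≫ φ ≫ eY.inv)
  exact ⟨g, by simp [hg]⟩

/-- a derived category with small hom types -/
@[instance_reducible]
noncomputable def hasDerivedCategorySmall
    (h : ∀ M : CochainComplex A ℤ, ∃ (I : CochainComplex A ℤ) (f : M ⟶ I), I.IsKInjective ∧ QuasiIso f) :
    HasDerivedCategory.{v} A :=
  letI := HasDerivedCategory.standard A
  haveI : LocallySmall.{v} (DerivedCategory A) := locallySmall_derivedCategory A h
  haveI : (DerivedCategory.Q ⋙ (ShrinkHoms.equivalence.{v} (DerivedCategory A)).functor).IsLocalization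
      (HomologicalComplex.quasiIso A (ComplexShape.up ℤ)) :=
    Functor.IsLocalization.of_equivalence_target DerivedCategory.Q _ _ (ShrinkHoms.equivalence.{v} (DerivedCategory A))
      (Iso.refl _)
  { D := ShrinkHoms.{max u v} (DerivedCategory A)
    L := DerivedCategory.Q ⋙ (ShrinkHoms.equivalence.{v} (DerivedCategory A)).functor }

end Groth.Agent.CohDer42
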