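import Groth.Agent.CohDer42.SubRes
import Groth.Agent.CohDer42.ResOp
import Mathlib.Algebra.Homology.DerivedCategory.ExactFunctor
import Mathlib.Algebra.Homology.DerivedCategory.KInjective
import Mathlib.Algebra.Homology.DerivedCategory.Fractions
import Mathlib.Algebra.Homology.DerivedCategory.TStructure
import Mathlib.CategoryTheory.Abelian.SerreClass.Basic
import Mathlib.CategoryTheory.Abelian.Subcategory

/-!
# Derived categories of abelian subcategories
-/

universe w w' v v' u u'

open CategoryTheory Category Limits HomologicalComplex Opposite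

set_option autoImplicit false
set_option linter.unusedSectionVars false
set_option backward.isDefEq.respectTransparency false

namespace Groth.Agent.CohDer42.SubFF

variable {A' : Type u'} [Category.{v'} A'] [Abelian A'] {A : Type u} [Category.{v} A] [Abelian A]
  (ι : A' ⥤ A) [ι.Additive] [ι.Full] [ι.Faithful]

local notation "ιc" => ι.mapHomologicalComplex (ComplexShape.up ℤ)

/-- a homotopy between images under a fully faithful functor comes from a homotopy -/
noncomputable def homotopyPreimage {K L : CochainComplex A' ℤ} {f g : K ⟶ L}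
    (h : Homotopy ((ιc).map f) ((ιc).map g)) : Homotopy f g where
  hom i j := ι.preimage (h.hom i j)
  zero i j hij := ι.map_injective (by rw [ι.map_preimage, h.zero i j hij, ι.map_zero])
  comm i := ι.map_injective (by
    rw [ι.map_add, ι.map_add]
    refine (h.comm i).trans ?_
    rw [dNext_eq _ (show (ComplexShape.up ℤ).Rel i (i + 1) from rfl),
      prevD_eq _ (show (ComplexShape.up ℤ).Rel (i - 1) i from sub_add_cancel i 1),
      dNext_eq _ (show (ComplexShape.up ℤ).Rel i (i + 1) from rfl),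
      prevD_eq _ (show (ComplexShape.up ℤ).Rel (i - 1) i from sub_add_cancel i 1)]
    simp)

lemma exists_preimage_hom {K L : CochainComplex A' ℤ} (g : (ιc).obj K ⟶ (ιc).obj L) :
    ∃ f : K ⟶ L, (ιc).map f = g :=
  ⟨{ f := fun n => ι.preimage (g.f n)
     comm' := fun i j _ => ι.map_injective (by
      rw [ι.map_comp, ι.map_comp, ι.map_preimage, ι.map_preimage]
      exact g.comm i j) }, by ext n; exact ι.map_preimage _⟩

lemma exists_lift_complex (L : CochainComplex A ℤ) (hL : ∀ n, ι.essImage (L.X n)) :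
    ∃ M : CochainComplex A' ℤ, Nonempty ((ιc).obj M ≅ L) := by
  choose Y e using hL
  let e' : ∀ n, ι.obj (Y n) ≅ L.X n := fun n => (e n).some
  refine ⟨{ X := Y, d := fun i j => ι.preimage ((e' i).hom ≫ L.d i j ≫ (e' j).inv),
            shape := fun i j h => ι.map_injective (by rw [ι.map_preimage, L.shape i j h]; simp),
            d_comp_d' := fun i j k _ _ => ι.map_injective (by simp) },
    ⟨Hom.isoOfComponents e' (fun i j _ => ?_)⟩⟩
  change (e' i).hom ≫ L.d i j = ι.map (ι.preimage _) ≫ (e' j).hom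
  rw [ι.map_preimage]
  simp

lemma isZero_of_isZero_map {X : A'} (h : IsZero (ι.obj X)) : IsZero X := by
  rw [IsZero.iff_id_eq_zero]
  exact ι.map_injective (h.eq_of_src _ _)

lemma injective_of_map [ι.PreservesMonomorphisms] {Y : A'} (h : Injective (ι.obj Y)) : Injective Y :=
  ⟨fun {X Z} g f _ => ⟨ι.preimage (Injective.factorThru (ι.map g) (ι.map f)),
    ι.map_injective (by rw [ι.map_comp, ι.map_preimage, Injective.comp_factorThru])⟩⟩

variable [PreservesFiniteLimits ι] [PreservesFiniteColimits ι]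

lemma subResHyp_essImage
    (hext : ∀ S : ShortComplex A, S.ShortExact → ι.essImage S.X₁ → ι.essImage S.X₃ → ι.essImage S.X₂)
    (hinj : ∀ X' : A', ∃ (Y' : A') (i : X' ⟶ Y'), Mono i ∧ Injective (ι.obj Y')) :
    SubResHyp (fun X => ι.essImage X) (fun X => ι.essImage X ∧ Injective X) where
  iso e h := ι.essImage.prop_of_iso e h
  zero := by
    open scoped ZeroObject in
    exact ⟨ι.obj 0, ι.map_isZero (isZero_zero _), Functor.obj_mem_essImage _ _,
      (ι.map_isZero (isZero_zero _)).injective⟩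
  le _ h := h.1
  emb {X Z} i _ hX := by
    obtain ⟨X', ⟨e⟩⟩ := hX
    obtain ⟨Y', j, _, hY⟩ := hinj X'
    refine ⟨ι.obj Y', Injective.factorThru (e.inv ≫ ι.map j) i, ⟨Functor.obj_mem_essImage _ _, hY⟩, ?_⟩
    rw [Injective.comp_factorThru]
    infer_instance
  coker {X Y} f _ hX hY := by
    obtain ⟨X', ⟨eX⟩⟩ := hX
    obtain ⟨Y', ⟨eY⟩⟩ := hY
    refine ⟨cokernel (ι.preimage (eX.hom ≫ f ≫ eY.inv)), ⟨PreservesCokernel.iso ι _ ≪≫ ?_⟩⟩
    exact cokernel.mapIso _ _ eX eY (by simp)
  ext := hext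

section Derived

variable [HasDerivedCategory.{w'} A'] [HasDerivedCategory.{w} A]

open DerivedCategory

lemma Q_map_eq_of_homotopy {C : Type*} [Category* C] [Abelian C] [HasDerivedCategory C]
    {K L : CochainComplex C ℤ} {f g : K ⟶ L} (h : Homotopy f g) :
    DerivedCategory.Q.map f = DerivedCategory.Q.map g := by
  rw [← cancel_epi ((quotientCompQhIso C).hom.app K)]
  exact ((quotientCompQhIso C).hom.naturality f).symm.trans
    ((congrArg (fun x => Qh.map x ≫ (quotientCompQhIso C).hom.app L)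
      (HomotopyCategory.eq_of_homotopy f g h)).trans ((quotientCompQhIso C).hom.naturality g))

lemma Qh_quotient_map_eq {C : Type*} [Category* C] [Abelian C] [HasDerivedCategory C]
    {K L : CochainComplex C ℤ} {f g : K ⟶ L} (h : DerivedCategory.Q.map f = DerivedCategory.Q.map g) :
    Qh.map ((HomotopyCategory.quotient C (ComplexShape.up ℤ)).map f) =
      Qh.map ((HomotopyCategory.quotient C (ComplexShape.up ℤ)).map g) := by
  rw [← cancel_mono ((quotientCompQhIso C).hom.app L)]
  exact ((quotientCompQhIso C).hom.naturality f).trans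
    ((congrArg (fun x => (quotientCompQhIso C).hom.app K ≫ x) h).trans
      ((quotientCompQhIso C).hom.naturality g).symm)

local notation "DF" => ι.mapDerivedCategory

lemma map_Q_map {K L : CochainComplex A' ℤ} (f : K ⟶ L) :
    (DF).map (Q.map f) = ι.mapDerivedCategoryFactors.hom.app K ≫ Q.map ((ιc).map f) ≫
      ι.mapDerivedCategoryFactors.inv.app L := by
  have := ι.mapDerivedCategoryFactors.hom.naturality f
  change (DF).map (Q.map f) ≫ _ = _ ≫ Q.map _ at this
  rw [← assoc, ← this, assoc, Iso.hom_inv_id_app]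
  exact (comp_id _).symm

lemma exists_Q_map {C : Type*} [Category* C] [Abelian C] [HasDerivedCategory C]
    (M N : CochainComplex C ℤ) [N.IsKInjective] (φ : Q.obj M ⟶ Q.obj N) : ∃ f, Q.map f = φ := by
  obtain ⟨ψ, hψ⟩ := (CochainComplex.IsKInjective.Qh_map_bijective
    ((HomotopyCategory.quotient C (ComplexShape.up ℤ)).obj M) N).2
    ((quotientCompQhIso C).hom.app M ≫ φ ≫ (quotientCompQhIso C).inv.app N)
  obtain ⟨f, rfl⟩ := (HomotopyCategory.quotient C (ComplexShape.up ℤ)).map_surjective ψ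
  refine ⟨f, ?_⟩
  rw [← cancel_epi ((quotientCompQhIso C).hom.app M)]
  exact ((quotientCompQhIso C).hom.naturality f).symm.trans
    ((congrArg (· ≫ (quotientCompQhIso C).hom.app N) hψ).trans (by simp))

lemma bijective_of_kInjective (K J : CochainComplex A' ℤ) [CochainComplex.IsKInjective ((ιc).obj J)]
    [J.IsKInjective] : Function.Bijective (fun φ : Q.obj K ⟶ Q.obj J => (DF).map φ) := by
  constructor
  · intro φ φ' h
    obtain ⟨f, rfl⟩ := exists_Q_map K J φ
    obtain ⟨f', rfl⟩ := exists_Q_map K J φ'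
    simp only [map_Q_map, cancel_epi, cancel_mono] at h
    exact Q_map_eq_of_homotopy (homotopyPreimage ι (HomotopyCategory.homotopyOfEq _ _
      ((CochainComplex.IsKInjective.Qh_map_bijective _ _).1 (Qh_quotient_map_eq h))))
  · intro ψ
    obtain ⟨g, hg⟩ : ∃ g, Q.map g = ι.mapDerivedCategoryFactors.inv.app K ≫ ψ ≫
        ι.mapDerivedCategoryFactors.hom.app J :=
      exists_Q_map _ _ _
    obtain ⟨f, rfl⟩ := exists_preimage_hom ι g
    refine ⟨Q.map f, ?_⟩
    change (DF).map (Q.map f) = ψ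
    rw [map_Q_map, hg]
    simp

lemma bijective_of_iso {C D : Type*} [Category* C] [Category* D] (F : C ⥤ D) {X X' Y Y' : C}
    (eX : X ≅ X') (eY : Y ≅ Y') (h : Function.Bijective (fun φ : X' ⟶ Y' => F.map φ)) :
    Function.Bijective (fun φ : X ⟶ Y => F.map φ) := by
  constructor
  · intro φ φ' hφ
    have h' : F.map (eX.inv ≫ φ ≫ eY.hom) = F.map (eX.inv ≫ φ' ≫ eY.hom) := by
      simp only [Functor.map_comp]
      exact congrArg (fun x => F.map eX.inv ≫ x ≫ F.map eY.hom) hφ
    have := h.1 h'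
    simpa using this
  · intro ψ
    obtain ⟨φ, hφ⟩ := h.2 (F.map eX.inv ≫ ψ ≫ F.map eY.hom)
    refine ⟨eX.hom ≫ φ ≫ eY.inv, ?_⟩
    change F.map (eX.hom ≫ φ ≫ eY.inv) = ψ
    simp only [Functor.map_comp]
    rw [show F.map φ = _ from hφ]
    simp [← Functor.map_comp, ← Functor.map_comp_assoc]

theorem bijective_isGE (hinj : ∀ X' : A', ∃ (Y' : A') (i : X' ⟶ Y'), Mono i ∧ Injective (ι.obj Y'))
    (X Y : DerivedCategory A') (b : ℤ) [Y.IsGE b] :
    Function.Bijective (fun φ : X ⟶ Y => (DF).map φ) := by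
  obtain ⟨K, _, ⟨e⟩⟩ := exists_iso_Q_obj_of_isGE Y b
  open scoped ZeroObject in
  obtain ⟨J, α, _, hJ, -, _⟩ := exists_resolution (fun Z : A' => Injective (ι.obj Z))
    (fun Z => let ⟨W, i, hi, hW⟩ := hinj Z; ⟨W, i, hW, hi⟩) K
    ⟨0, isZero_zero _, (ι.map_isZero (isZero_zero _)).injective⟩ b
  have : ∀ n, Injective (J.X n) := fun n => injective_of_map ι (hJ n)
  have := CochainComplex.isKInjective_of_injective J b
  let J₁ : CochainComplex A ℤ := (ιc).obj J
  have : J₁.IsStrictlyGE b := by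
    rw [CochainComplex.isStrictlyGE_iff]
    exact fun i hi => ι.map_isZero (J.isZero_of_isStrictlyGE b i hi)
  have : ∀ n, Injective (J₁.X n) := hJ
  have : J₁.IsKInjective := CochainComplex.isKInjective_of_injective J₁ b
  exact bijective_of_iso _ ((Q : CochainComplex A' ℤ ⥤ _).objObjPreimageIso X).symm
    (e ≪≫ asIso (Q.map α)) (bijective_of_kInjective ι _ J)

end Derived

section Serre

variable (P : ObjectProperty A) [P.IsSerreClass]

lemma subResHyp_op
    (hlift : ∀ (X Y : A) (π : X ⟶ Y), Epi π → P Y → ∃ (X' : A) (i : X' ⟶ X), Mono i ∧ P X' ∧ Epi (i ≫ π)) :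
    SubResHyp (fun X : Aᵒᵖ => P X.unop) (fun X : Aᵒᵖ => P X.unop) where
  iso e h := P.prop_of_iso e.unop.symm h
  zero := by
    obtain ⟨Z, hZ, hPZ⟩ := P.exists_prop_of_containsZero
    exact ⟨op Z, hZ.op, hPZ⟩
  le _ h := h
  emb {X Z} i _ hX := by
    obtain ⟨X', j, _, hX', hepi⟩ := hlift Z.unop X.unop i.unop inferInstance hX
    refine ⟨op X', j.op, hX', ?_⟩
    exact inferInstanceAs (Mono (j ≫ i.unop).op)
  coker {X Y} f _ _ hY := P.prop_of_mono (cokernel.π f).unop hY
  ext S hS h1 h3 := P.prop_X₂_of_shortExact hS.unop h3 h1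

lemma nonempty_negOp_homology (K : CochainComplex A ℤ) (i : ℤ) :
    Nonempty ((negOp K).homology i ≅ op (K.homology (-i))) := by
  have h1 : (ComplexShape.up ℤ).prev (-i) = -(i + 1) := by simp; omega
  have h2 : (ComplexShape.up ℤ).next (-i) = -(i - 1) := by simp; omega
  exact ⟨(negOp K).homologyIsoSc' (i - 1) i (i + 1) (by simp) (by simp) ≪≫
    (K.sc' (-(i + 1)) (-i) (-(i - 1))).homologyOpIso ≪≫
    (K.homologyIsoSc' (-(i + 1)) (-i) (-(i - 1)) h1 h2).op⟩

variable [P.IsClosedUnderKernels] [P.IsClosedUnderCokernels] [P.IsClosedUnderFiniteProducts]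
  [PreservesFiniteLimits P.ι] [PreservesFiniteColimits P.ι]
  (hlift : ∀ (X Y : A) (π : X ⟶ Y), Epi π → P Y → ∃ (X' : A) (i : X' ⟶ X), Mono i ∧ P X' ∧ Epi (i ≫ π))

local notation "Pc" => P.ι.mapHomologicalComplex (ComplexShape.up ℤ)

include hlift in
theorem exists_left_subResolution (K : CochainComplex A ℤ) (b : ℤ)
    (hb : ∀ i, b < i → IsZero (K.homology i)) (hK : ∀ i, P (K.homology i)) :
    ∃ (M : CochainComplex P.FullSubcategory ℤ) (α : (Pc).obj M ⟶ K), M.IsStrictlyLE b ∧ QuasiIso α := by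
  have : (negOp K).IsGE (-b) := by
    rw [CochainComplex.isGE_iff]
    intro i hi
    exact (exactAt_iff_isZero_homology _ _).2
      ((hb (-i) (by omega)).op.of_iso (nonempty_negOp_homology K i).some)
  obtain ⟨L, α, _, hLP, _⟩ := exists_subResolution' (negOp K) (subResHyp_op P hlift) (-b)
    (fun i => P.prop_of_iso (nonempty_negOp_homology K i).some.unop (hK (-i)))
  let M₀ := negUnop L
  have hM₀ : ∀ n, P.ι.essImage (M₀.X n) := fun n => ⟨⟨M₀.X n, hLP (-n)⟩, ⟨Iso.refl _⟩⟩
  obtain ⟨M, ⟨e⟩⟩ := exists_lift_complex P.ι M₀ hM₀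
  have := quasiIso_negUnopMap α
  refine ⟨M, e.hom ≫ negUnopMap α ≫ (negUnopNegOpIso K).hom, ?_, inferInstance⟩
  rw [CochainComplex.isStrictlyLE_iff]
  intro i hi
  exact isZero_of_isZero_map P.ι
    (((L.isZero_of_isStrictlyGE (-b) (-i) (by omega)).unop).of_iso ((HomologicalComplex.eval _ _ i).mapIso e))

variable [HasDerivedCategory.{w} A] [HasDerivedCategory.{w'} P.FullSubcategory]

open DerivedCategory

lemma hom_props {M : CochainComplex P.FullSubcategory ℤ} {Z : CochainComplex A ℤ} (s : Z ⟶ (Pc).obj M)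
    [QuasiIso s] (b : ℤ) (hb : ∀ i, b < i → IsZero (M.homology i)) :
    (∀ i, b < i → IsZero (Z.homology i)) ∧ ∀ i, P (Z.homology i) := by
  have e : ∀ i, Z.homology i ≅ P.ι.obj (M.homology i) := fun i =>
    isoOfQuasiIsoAt s i ≪≫ (M.sc i).mapHomologyIso P.ι
  exact ⟨fun i hi => (P.ι.map_isZero (hb i hi)).of_iso (e i),
    fun i => P.prop_of_iso (e i).symm (M.homology i).property⟩

include hlift in
theorem bijective_isLE (X Y : DerivedCategory P.FullSubcategory) (b : ℤ) [X.IsLE b] :
    Function.Bijective (fun φ : X ⟶ Y => P.ι.mapDerivedCategory.map φ) := by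
  obtain ⟨M, _, ⟨eM⟩⟩ := exists_iso_Q_obj_of_isLE X b
  let N := (Q : CochainComplex P.FullSubcategory ℤ ⥤ _).objPreimage Y
  refine bijective_of_iso _ eM ((Q : CochainComplex P.FullSubcategory ℤ ⥤ _).objObjPreimageIso Y).symm ?_
  have hM : ∀ i, b < i → IsZero (M.homology i) := fun i hi =>
    (exactAt_iff_isZero_homology _ _).1 (M.exactAt_of_isLE b i hi)
  let Fac := P.ι.mapDerivedCategoryFactors
  constructor
  · intro φ₁ φ₂ h12
    rw [← sub_eq_zero]
    have h0 : P.ι.mapDerivedCategory.map (φ₁ - φ₂) = 0 := by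
      rw [Functor.map_sub]; exact sub_eq_zero.2 h12
    obtain ⟨X', s, hs, g, hφ⟩ := right_fac (φ₁ - φ₂)
    rw [hφ] at h0 ⊢
    rw [Functor.map_comp, Preadditive.IsIso.comp_left_eq_zero, map_Q_map,
      Preadditive.IsIso.comp_left_eq_zero, Preadditive.IsIso.comp_right_eq_zero] at h0
    have h1 : Qh.map ((HomotopyCategory.quotient A _).map ((Pc).map g)) =
        Qh.map ((HomotopyCategory.quotient A _).map 0) :=
      Qh_quotient_map_eq (by rw [h0, Functor.map_zero])
    obtain ⟨Z, t, ht, htg⟩ := (MorphismProperty.map_eq_iff_precomp Qh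
      (HomotopyCategory.quasiIso A (ComplexShape.up ℤ)) _ _).1 h1
    obtain ⟨Z, rfl⟩ := HomotopyCategory.quotient_obj_surjective Z
    obtain ⟨t, rfl⟩ := (HomotopyCategory.quotient A _).map_surjective t
    rw [← isIso_Qh_map_iff] at ht
    have : IsIso (Q.map t) := (NatIso.isIso_map_iff (quotientCompQhIso A) t).1 ht
    rw [isIso_Q_map_iff_quasiIso] at this hs
    have hX' : ∀ i, b < i → IsZero (X'.homology i) := fun i hi =>
      (hM i hi).of_iso (isoOfQuasiIsoAt s i)
    obtain ⟨hb, hP⟩ := hom_props P t b hX'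
    obtain ⟨M', α, _, _⟩ := exists_left_subResolution P hlift Z b hb hP
    obtain ⟨t', ht'⟩ := exists_preimage_hom P.ι (α ≫ t)
    have hqt : QuasiIso t' := by
      have : QuasiIso ((Pc).map t') := by rw [ht']; infer_instance
      exact (quasiIso_map_iff_of_preservesHomology t' P.ι).1 this
    have h2 : Homotopy ((Pc).map (t' ≫ g)) ((Pc).map 0) := HomotopyCategory.homotopyOfEq _ _ (by
      rw [Functor.map_comp (Pc), ht', assoc, Functor.map_comp, Functor.map_comp, htg,
        Functor.map_zero (Pc)]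
      simp)
    have h3 := Q_map_eq_of_homotopy (homotopyPreimage P.ι h2)
    rw [Functor.map_comp, Functor.map_zero] at h3
    have : IsIso (Q.map t') := (isIso_Q_map_iff_quasiIso _ _).2 hqt
    rw [(Preadditive.IsIso.comp_left_eq_zero _ _).1 h3, comp_zero]
  · intro ψ
    obtain ⟨Z, s, hs, g, hψ⟩ := right_fac (Fac.inv.app M ≫ ψ ≫ Fac.hom.app N)
    rw [isIso_Q_map_iff_quasiIso] at hs
    obtain ⟨hb, hP⟩ := hom_props P s b hM
    obtain ⟨M', α, _, _⟩ := exists_left_subResolution P hlift Z b hb hP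
    obtain ⟨s', hs'⟩ := exists_preimage_hom P.ι (α ≫ s)
    obtain ⟨g', hg'⟩ := exists_preimage_hom P.ι (α ≫ g)
    have : QuasiIso s' := by
      have : QuasiIso ((Pc).map s') := by rw [hs']; infer_instance
      exact (quasiIso_map_iff_of_preservesHomology s' P.ι).1 this
    refine ⟨inv (Q.map s') ≫ Q.map g', ?_⟩
    change P.ι.mapDerivedCategory.map _ = ψ
    have : IsIso (Q.map s) := (isIso_Q_map_iff_quasiIso _ _).2 hs
    rw [← cancel_epi (P.ι.mapDerivedCategory.map (Q.map s')), ← Functor.map_comp, IsIso.hom_inv_id_assoc,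
      map_Q_map, map_Q_map, hs', hg', Functor.map_comp, Functor.map_comp]
    have hψ' : Q.map g = Q.map s ≫ Fac.inv.app M ≫ ψ ≫ Fac.hom.app N := by
      rw [hψ, IsIso.hom_inv_id_assoc]
    simp only [hψ', assoc, Fac, N]
    simp

end Serre

end Groth.Agent.CohDer42.SubFF
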