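import Mathlib.CategoryTheory.Abelian.Refinements
import Mathlib.CategoryTheory.Subobject.Limits
import Mathlib.CategoryTheory.Subobject.NoetherianObject
import Mathlib.CategoryTheory.Subobject.ArtinianObject
import Mathlib.CategoryTheory.Simple
import Mathlib.Order.ModularLattice
import Mathlib.Order.JordanHolder

/-!
# The modular lattice of subobjects in an abelian category, Jordan–Hölder
-/

universe v u

open CategoryTheory Category Limits

set_option autoImplicit false
set_option backward.isDefEq.respectTransparency false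

namespace Groth.Agent.CohDer42.SubMod

variable {C : Type u} [Category.{v} C] [Abelian C] {X : C}

lemma factors_iff (P : Subobject X) {T : C} (f : T ⟶ X) :
    P.Factors f ↔ f ≫ cokernel.π P.arrow = 0 := by
  constructor
  · intro h
    rw [← Subobject.factorThru_arrow P f h, assoc, cokernel.condition, comp_zero]
  · intro h
    exact (Subobject.factors_iff _ _).2
      ⟨Abelian.monoLift P.arrow f h, Abelian.monoLift_comp P.arrow f h⟩

lemma factors_of_epi (P : Subobject X) {T T' : C} (p : T' ⟶ T) [Epi p] (f : T ⟶ X)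
    (h : P.Factors (p ≫ f)) : P.Factors f := by
  rw [factors_iff] at h ⊢
  rw [← cancel_epi p, comp_zero, ← assoc, h]

lemma sup_eq_image (x y : Subobject X) :
    x ⊔ y = imageSubobject (biprod.desc x.arrow y.arrow) := by
  apply le_antisymm
  · refine sup_le (Subobject.le_of_comm
      (biprod.inl ≫ factorThruImageSubobject (biprod.desc x.arrow y.arrow)) ?_)
      (Subobject.le_of_comm
        (biprod.inr ≫ factorThruImageSubobject (biprod.desc x.arrow y.arrow)) ?_)
    · rw [assoc, imageSubobject_arrow_comp, biprod.inl_desc]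
    · rw [assoc, imageSubobject_arrow_comp, biprod.inr_desc]
  · refine imageSubobject_le _ (biprod.desc (Subobject.ofLE x (x ⊔ y) le_sup_left)
      (Subobject.ofLE y (x ⊔ y) le_sup_right)) ?_
    ext <;> simp

lemma epi_biprod_to_sup (x y : Subobject X) :
    Epi (biprod.desc (Subobject.ofLE x (x ⊔ y) le_sup_left)
      (Subobject.ofLE y (x ⊔ y) le_sup_right)) := by
  have h : biprod.desc (Subobject.ofLE x (x ⊔ y) le_sup_left)
      (Subobject.ofLE y (x ⊔ y) le_sup_right) =
      factorThruImageSubobject (biprod.desc x.arrow y.arrow) ≫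
        Subobject.ofLE _ _ (sup_eq_image x y).ge := by
    rw [← cancel_mono (x ⊔ y).arrow, assoc, Subobject.ofLE_arrow, imageSubobject_arrow_comp]
    ext <;> simp
  rw [h]
  have : IsIso (Subobject.ofLE _ _ (sup_eq_image x y).ge) :=
    ⟨Subobject.ofLE _ _ (sup_eq_image x y).le, by simp, by simp⟩
  infer_instance

lemma exists_decomp (x y : Subobject X) {T : C} (f : T ⟶ X) (h : (x ⊔ y).Factors f) :
    ∃ (T' : C) (p : T' ⟶ T) (_ : Epi p) (a : T' ⟶ (x : C)) (b : T' ⟶ (y : C)),
      p ≫ f = a ≫ x.arrow + b ≫ y.arrow := by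
  have := epi_biprod_to_sup x y
  obtain ⟨T', p, hp, c, hc⟩ := surjective_up_to_refinements_of_epi
    (biprod.desc (Subobject.ofLE x (x ⊔ y) le_sup_left) (Subobject.ofLE y (x ⊔ y) le_sup_right))
    ((x ⊔ y).factorThru f h)
  refine ⟨T', p, hp, c ≫ biprod.fst, c ≫ biprod.snd, ?_⟩
  rw [← Subobject.factorThru_arrow (x ⊔ y) f h, ← assoc, hc]
  simp only [assoc, ← Preadditive.comp_add]
  congr 1
  ext <;> simp

instance : IsModularLattice (Subobject X) where
  sup_inf_le_assoc_of_le {x} y {z} hxz := by
    let w := (x ⊔ y) ⊓ z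
    have hw : (x ⊔ y ⊓ z).Factors w.arrow := by
      obtain ⟨T', p, hp, a, b, hab⟩ := exists_decomp x y w.arrow
        (Subobject.inf_arrow_factors_left (x ⊔ y) z)
      refine factors_of_epi _ p _ ?_
      rw [hab]
      refine Subobject.factors_add _ _ (Subobject.sup_factors_of_factors_left
        (Subobject.factors_comp_arrow a)) (Subobject.sup_factors_of_factors_right ?_)
      rw [Subobject.inf_factors]
      refine ⟨Subobject.factors_comp_arrow b, ?_⟩
      have h1 : z.Factors (p ≫ w.arrow) := Subobject.factors_of_factors_right p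
        (Subobject.inf_arrow_factors_right (x ⊔ y) z)
      have h2 : z.Factors (a ≫ x.arrow) :=
        Subobject.factors_of_le _ hxz (Subobject.factors_comp_arrow a)
      rw [factors_iff] at h1 h2 ⊢
      rw [hab, Preadditive.add_comp, h2, zero_add] at h1
      exact h1
    exact Subobject.le_of_comm (Subobject.factorThru _ _ hw) (Subobject.factorThru_arrow _ _ hw)

/-- The quotient of `b` by `a`. -/
noncomputable abbrev quo (a b : Subobject X) (h : a ≤ b) : C := cokernel (Subobject.ofLE a b h)

lemma quo_congr {a a' b b' : Subobject X} (h : a ≤ b) (h' : a' ≤ b') (ha : a = a') (hb : b = b') :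
    Nonempty (quo a b h ≅ quo a' b' h') := by
  subst ha hb
  exact ⟨Iso.refl _⟩

lemma second_iso (x y : Subobject X) :
    Nonempty (quo (x ⊓ y) y inf_le_right ≅ quo x (x ⊔ y) le_sup_left) := by
  let k : quo (x ⊓ y) y inf_le_right ⟶ quo x (x ⊔ y) le_sup_left :=
    cokernel.map _ _ (Subobject.ofLE (x ⊓ y) x inf_le_left) (Subobject.ofLE y (x ⊔ y) le_sup_right)
      (by rw [Subobject.ofLE_comp_ofLE, Subobject.ofLE_comp_ofLE])
  have hπ : cokernel.π (Subobject.ofLE (x ⊓ y) y inf_le_right) ≫ k =
      Subobject.ofLE y (x ⊔ y) le_sup_right ≫ cokernel.π _ := cokernel.π_desc _ _ _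
  have : Epi k := by
    rw [Preadditive.epi_iff_cancel_zero]
    intro P g hg
    have := epi_biprod_to_sup x y
    rw [← cancel_epi (cokernel.π (Subobject.ofLE x (x ⊔ y) le_sup_left)), comp_zero,
      ← cancel_epi (biprod.desc (Subobject.ofLE x (x ⊔ y) le_sup_left)
      (Subobject.ofLE y (x ⊔ y) le_sup_right)), comp_zero]
    ext
    · simp
    · rw [biprod.inr_desc_assoc, ← assoc, ← hπ, assoc, hg, comp_zero, comp_zero]
  have : Mono k := by
    rw [Preadditive.mono_iff_cancel_zero]
    intro T g hg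
    obtain ⟨T', p, hp, b, hb⟩ := surjective_up_to_refinements_of_epi
      (cokernel.π (Subobject.ofLE (x ⊓ y) y inf_le_right)) g
    rw [← cancel_epi p, comp_zero, hb]
    have h0 : (b ≫ Subobject.ofLE y (x ⊔ y) le_sup_right) ≫ cokernel.π (Subobject.ofLE x (x ⊔ y) le_sup_left) = 0 := by
      rw [assoc, ← hπ, ← assoc, ← hb, assoc, hg, comp_zero]
    have hx : x.Factors (b ≫ y.arrow) := (Subobject.factors_iff _ _).2
      ⟨Abelian.monoLift _ _ h0, by
        change Abelian.monoLift _ _ h0 ≫ x.arrow = b ≫ y.arrow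
        rw [← Subobject.ofLE_arrow (le_sup_left : x ≤ x ⊔ y), Abelian.monoLift_comp_assoc, assoc,
          Subobject.ofLE_arrow]⟩
    have hxy : (x ⊓ y).Factors (b ≫ y.arrow) :=
      (Subobject.inf_factors _).2 ⟨hx, Subobject.factors_comp_arrow b⟩
    have hb' : b = Subobject.factorThru _ _ hxy ≫ Subobject.ofLE (x ⊓ y) y inf_le_right := by
      rw [← cancel_mono y.arrow, assoc, Subobject.ofLE_arrow, Subobject.factorThru_arrow]
    rw [hb', assoc, cokernel.condition, comp_zero]
  have : IsIso k := isIso_of_mono_of_epi k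
  exact ⟨asIso k⟩

lemma isZero_quo_iff {a b : Subobject X} (h : a ≤ b) : IsZero (quo a b h) ↔ a = b := by
  constructor
  · intro hz
    have : Epi (Subobject.ofLE a b h) := Preadditive.epi_of_isZero_cokernel _ hz
    have : IsIso (Subobject.ofLE a b h) := isIso_of_mono_of_epi _
    exact le_antisymm h (Subobject.le_of_comm (inv (Subobject.ofLE a b h))
      (by rw [IsIso.inv_comp_eq, Subobject.ofLE_arrow]))
  · rintro rfl
    have : Subobject.ofLE a a h = 𝟙 _ := Subobject.ofLE_refl a
    rw [IsZero.iff_id_eq_zero, ← cancel_epi (cokernel.π (Subobject.ofLE a a h)), comp_zero, comp_id]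
    have h0 := cokernel.condition (Subobject.ofLE a a h)
    conv_lhs at h0 => arg 1; rw [this]
    rwa [id_comp] at h0

theorem simple_quo_iff {a b : Subobject X} (h : a ≤ b) : Simple (quo a b h) ↔ a ⋖ b := by
  constructor
  · intro _
    refine ⟨lt_of_le_of_ne h fun hab => Simple.not_isZero (quo a b h) ((isZero_quo_iff h).2 hab), ?_⟩
    intro c hac hcb
    let k : quo a c hac.le ⟶ quo a b h :=
      cokernel.map _ _ (𝟙 _) (Subobject.ofLE c b hcb.le) (by rw [id_comp, Subobject.ofLE_comp_ofLE])
    have hπ : cokernel.π (Subobject.ofLE a c hac.le) ≫ k =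
        Subobject.ofLE c b hcb.le ≫ cokernel.π _ := cokernel.π_desc _ _ _
    have : Mono k := by
      rw [Preadditive.mono_iff_cancel_zero]
      intro T g hg
      obtain ⟨T', p, hp, t, ht⟩ := surjective_up_to_refinements_of_epi
        (cokernel.π (Subobject.ofLE a c hac.le)) g
      rw [← cancel_epi p, comp_zero, ht]
      have h0 : (t ≫ Subobject.ofLE c b hcb.le) ≫ cokernel.π (Subobject.ofLE a b h) = 0 := by
        rw [assoc, ← hπ, ← assoc, ← ht, assoc, hg, comp_zero]
      have he : Abelian.monoLift _ _ h0 ≫ Subobject.ofLE a c hac.le = t := by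
        rw [← cancel_mono (Subobject.ofLE c b hcb.le), assoc, Subobject.ofLE_comp_ofLE]
        exact Abelian.monoLift_comp _ _ h0
      rw [← he, assoc, cokernel.condition, comp_zero]
    have hk : k ≠ 0 := fun hk => hac.ne ((isZero_quo_iff hac.le).1 (IsZero.of_mono_eq_zero k hk))
    have : IsIso k := isIso_of_mono_of_nonzero hk
    have : Epi (Subobject.ofLE c b hcb.le ≫ cokernel.π (Subobject.ofLE a b h)) := by
      rw [← hπ]; infer_instance
    refine hcb.ne ((isZero_quo_iff hcb.le).1 ?_)
    let q : quo a b h ⟶ quo c b hcb.le := cokernel.desc _ (cokernel.π _) (by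
      rw [← Subobject.ofLE_comp_ofLE a c b hac.le hcb.le, assoc, cokernel.condition, comp_zero])
    have hq : q = 0 := by
      rw [← cancel_epi (Subobject.ofLE c b hcb.le ≫ cokernel.π (Subobject.ofLE a b h)), comp_zero,
        assoc, cokernel.π_desc, cokernel.condition]
    rw [IsZero.iff_id_eq_zero, ← cancel_epi (cokernel.π (Subobject.ofLE c b hcb.le)), comp_zero,
      comp_id, ← cokernel.π_desc (Subobject.ofLE a b h) (cokernel.π (Subobject.ofLE c b hcb.le))]
    change _ ≫ q = 0
    rw [hq, comp_zero]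
  · intro hab
    have hnz : ¬ IsZero (quo a b h) := fun hz => hab.1.ne ((isZero_quo_iff h).1 hz)
    refine ⟨fun {Y} f _ => ⟨fun _ hf => ?_, fun hf => ?_⟩⟩
    · exact hnz (IsZero.of_epi_eq_zero f hf)
    let π := cokernel.π (Subobject.ofLE a b h)
    let c := Subobject.mk (pullback.fst π f ≫ b.arrow)
    have hac : a ≤ c := Subobject.le_mk_of_comm
      (pullback.lift (Subobject.ofLE a b h) 0 (by simp [π])) (by simp)
    have hcb : c ≤ b := Subobject.mk_le_of_comm (pullback.fst π f) rfl
    rcases hac.eq_or_lt with hca | hca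
    · exfalso
      apply hf
      have hfa : a.Factors (pullback.fst π f ≫ b.arrow) :=
        Subobject.factors_of_le _ hca.ge (Subobject.mk_factors_self _)
      have h0 : pullback.fst π f = Subobject.factorThru _ _ hfa ≫ Subobject.ofLE a b h := by
        rw [← cancel_mono b.arrow, assoc, Subobject.ofLE_arrow, Subobject.factorThru_arrow]
      rw [← cancel_epi (pullback.snd π f), comp_zero, ← pullback.condition, h0, assoc,
        cokernel.condition, comp_zero]
    · have hcb' : c = b := hcb.eq_or_lt.resolve_right (hab.2 hca)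
      have hb : c.Factors b.arrow := by
        rw [hcb']; exact Subobject.factors_self b
      obtain ⟨l, hl⟩ := (Subobject.mk_factors_iff _ _).1 hb
      have hl' : l ≫ pullback.fst π f = 𝟙 _ := by
        rw [← cancel_mono b.arrow, assoc, id_comp]; exact hl
      have : Epi f := by
        have hl2 : (l ≫ pullback.snd π f) ≫ f = π := by
          rw [assoc, ← pullback.condition, ← assoc, hl', id_comp]
        exact epi_of_epi_fac hl2
      exact isIso_of_mono_of_epi f

lemma iso_rel {p q : Subobject X × Subobject X} (h : JordanHolderLattice.Iso p q) :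
    Nonempty (quo p.1 (p.1 ⊔ p.2) le_sup_left ≅ quo q.1 (q.1 ⊔ q.2) le_sup_left) := by
  refine JordanHolderLattice.Iso.rel
    (fun p q => Nonempty (quo p.1 (p.1 ⊔ p.2) le_sup_left ≅ quo q.1 (q.1 ⊔ q.2) le_sup_left))
    ⟨Iso.refl _⟩ (fun ⟨e⟩ => ⟨e.symm⟩) (fun ⟨e⟩ ⟨e'⟩ => ⟨e ≪≫ e'⟩) ?_ h
  intro x y _
  obtain ⟨e⟩ := second_iso x y
  obtain ⟨e₁⟩ := quo_congr (show x ≤ x ⊔ (x ⊔ y) from le_sup_left) (le_sup_left : x ≤ x ⊔ y)
    rfl (sup_eq_right.2 le_sup_left)
  obtain ⟨e₂⟩ := quo_congr (show x ⊓ y ≤ x ⊓ y ⊔ y from le_sup_left) (inf_le_right : x ⊓ y ≤ y)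
    rfl (sup_eq_right.2 inf_le_right)
  exact ⟨e₁ ≪≫ e.symm ≪≫ e₂.symm⟩

/-- In a modular lattice, a finite chain of covers from `⊥` to `⊤` gives well-foundedness. -/
theorem wellFoundedLT_of_chain {α : Type*} [Lattice α] [BoundedOrder α] [IsModularLattice α] (n : ℕ)
    (F : Fin (n + 1) → α) (h0 : F 0 = ⊥) (hn : F (Fin.last n) = ⊤)
    (h : ∀ i : Fin n, F i.castSucc ⋖ F i.succ) : WellFoundedLT α := by
  have key : ∀ i : Fin (n + 1), WellFoundedLT (Set.Iic (F i)) := by
    intro i
    induction i using Fin.induction with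
    | zero =>
      rw [h0]
      have : Subsingleton (Set.Iic (⊥ : α)) :=
        ⟨fun a b => Subtype.ext ((le_bot_iff.1 a.2).trans (le_bot_iff.1 b.2).symm)⟩
      infer_instance
    | succ i ih =>
      have hfin : Finite (Set.Icc (F i.castSucc) (F i.succ)) := by
        rw [(h i).Icc_eq]
        infer_instance
      let φ : Set.Iic (F i.succ) → Set.Iic (F i.castSucc) × Set.Icc (F i.castSucc) (F i.succ) :=
        fun c => (⟨c.1 ⊓ F i.castSucc, inf_le_right⟩,
          ⟨c.1 ⊔ F i.castSucc, le_sup_right, sup_le c.2 (h i).1.le⟩)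
      have hφ : StrictMono φ := fun a b hab => by
        have h' := strictMono_inf_prod_sup (z := F i.castSucc) (show a.1 < b.1 from hab)
        simpa [Prod.lt_iff, φ, Subtype.mk_lt_mk, Subtype.mk_le_mk] using h'
      exact hφ.wellFoundedLT
  have := key (Fin.last n)
  rw [hn] at this
  exact StrictMono.wellFoundedLT (f := fun a : α => (⟨a, le_top⟩ : Set.Iic (⊤ : α))) fun _ _ h => h

theorem wellFoundedGT_of_chain {α : Type*} [Lattice α] [BoundedOrder α] [IsModularLattice α] (n : ℕ)
    (F : Fin (n + 1) → α) (h0 : F 0 = ⊥) (hn : F (Fin.last n) = ⊤)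
    (h : ∀ i : Fin n, F i.castSucc ⋖ F i.succ) : WellFoundedGT α := by
  have := wellFoundedLT_of_chain (α := αᵒᵈ) n (fun i => OrderDual.toDual (F i.rev))
    (by simp [hn]) (by simp [h0]) (fun i => by simpa [Fin.rev_succ, Fin.rev_castSucc] using h i.rev)
  exact (wellFoundedLT_dual_iff α).1 this

end Groth.Agent.CohDer42.SubMod
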