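import Groth.Agent.CohDer42.Res
import Mathlib.Algebra.Homology.Refinements

/-!
# Resolutions of complexes with cohomology in a subcategory by objects of the subcategory
-/

universe v u

open CategoryTheory Category Limits HomologicalComplex
open CochainComplex (mappingCone)

set_option autoImplicit false
set_option linter.unusedSectionVars false
set_option backward.isDefEq.respectTransparency false

namespace Groth.Agent.CohDer42

variable {A : Type u} [Category.{v} A] [Abelian A]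

/-- Hypotheses on a subcategory `P` and a class `I` of resolving objects in it. -/
structure SubResHyp (P I : A → Prop) : Prop where
  iso : ∀ {X Y : A}, (X ≅ Y) → P X → P Y
  zero : ∃ Z : A, IsZero Z ∧ I Z
  le : ∀ X, I X → P X
  emb : ∀ {X Z : A} (i : X ⟶ Z), Mono i → P X → ∃ (J : A) (w : Z ⟶ J), I J ∧ Mono (i ≫ w)
  coker : ∀ {X Y : A} (f : X ⟶ Y), Mono f → P X → P Y → P (cokernel f)
  ext : ∀ S : ShortComplex A, S.ShortExact → P S.X₁ → P S.X₃ → P S.X₂

variable {P I : A → Prop} (K : CochainComplex A ℤ)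

/-- the part of the next cohomology of the cone already determined by a state -/
noncomputable def stE {n : ℤ} (t : RState I K n) : A :=
  kernel (cokernel.desc t.δ (biprod.fst ≫ K.d (n + 1) (n + 1 + 1)) t.comm)

lemma isZero_stE {n : ℤ} (t : RState I K n) (hz : IsZero (K.X (n + 1) ⊞ t.L)) : IsZero (stE K t) :=
  IsZero.of_mono (kernel.ι _) (IsZero.of_epi (cokernel.π t.δ) hz)

/-- a new state -/
noncomputable def stNext {n : ℤ} (t : RState I K n) {J : A} (hJ : I J) (w : cokernel t.δ ⟶ J) :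
    RState I K (n + 1) where
  L := J
  hL := hJ
  X := K.X (n + 1) ⊞ t.L
  δ := coneD K n (cokernel.π t.δ ≫ w)
  comm := by simp [coneD]

lemma prop_stE_next (h : SubResHyp P I) {n : ℤ} (t : RState I K n) {J : A} (hJ : I J)
    (w : cokernel t.δ ⟶ J) (hu : Mono (kernel.ι (cokernel.desc t.δ _ t.comm) ≫ w))
    (hE : P (stE K t)) (hH : P (K.homology (n + 1 + 1))) : P (stE K (stNext K t hJ w)) := by
  let u : stE K t ⟶ J := kernel.ι _ ≫ w
  let δ' := coneD K n (cokernel.π t.δ ≫ w)
  let f' := cokernel.desc δ' (biprod.fst ≫ K.d (n + 1 + 1) (n + 1 + 1 + 1)) (stNext K t hJ w).comm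
  have hf' : (stE K (stNext K t hJ w)) = kernel f' := rfl
  rw [hf']
  let r : J ⟶ kernel f' := kernel.lift f' (biprod.inr ≫ cokernel.π δ') (by simp [f'])
  have hur : u ≫ r = 0 := by
    obtain ⟨T, π, _, c, hc⟩ := surjective_up_to_refinements_of_epi (cokernel.π t.δ)
      (kernel.ι (cokernel.desc t.δ _ t.comm))
    have h0 : c ≫ biprod.fst ≫ K.d (n + 1) (n + 1 + 1) = 0 := by
      have := congrArg (· ≫ cokernel.desc t.δ _ t.comm) hc
      simpa using this.symm
    rw [← cancel_mono (kernel.ι f'), ← cancel_epi π]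
    simp only [u, r, assoc, zero_comp, comp_zero, kernel.lift_ι]
    have : π ≫ kernel.ι (cokernel.desc t.δ _ t.comm) ≫ w ≫ biprod.inr = c ≫ δ' := by
      rw [reassoc_of% hc]
      apply biprod.hom_ext <;> simp [δ', coneD, h0]
    rw [reassoc_of% this, cokernel.condition, comp_zero]
  have hex : (ShortComplex.mk u r hur).Exact := by
    rw [ShortComplex.exact_iff_exact_up_to_refinements]
    intro T j hj
    have h1 : (j ≫ biprod.inr) ≫ cokernel.π δ' = 0 := by
      have := congrArg (· ≫ kernel.ι f') hj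
      simpa [r] using this
    obtain ⟨T₁, π₁, _, c, hc⟩ := (ShortComplex.exact_cokernel δ').exact_up_to_refinements _ h1
    have hc1 : c ≫ biprod.fst ≫ K.d (n + 1) (n + 1 + 1) = 0 := by
      have := congrArg (· ≫ biprod.fst) hc
      simpa [δ', coneD] using this
    have hc2 : π₁ ≫ j = (c ≫ cokernel.π t.δ) ≫ w := by
      have := congrArg (· ≫ biprod.snd) hc
      simpa [δ', coneD] using this
    refine ⟨T₁, π₁, inferInstance, kernel.lift _ (c ≫ cokernel.π t.δ) (by simp [hc1]), ?_⟩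
    change _ = kernel.lift _ _ _ ≫ kernel.ι _ ≫ w
    rw [kernel.lift_ι_assoc, hc2]
  let dsc : cokernel u ⟶ kernel f' := cokernel.desc u r hur
  have : Mono dsc := (ShortComplex.exact_iff_mono_cokernel_desc _).1 hex
  refine h.ext _ (shortExact_cokernel' dsc) (h.coker u hu hE (h.le J hJ)) ?_
  let m := n + 1 + 1
  let s : K.cycles m ⟶ kernel f' :=
    kernel.lift f' (K.iCycles m ≫ biprod.inl ≫ cokernel.π δ') (by simp [f', m])
  have hd : K.toCycles (n + 1) m ≫ s ≫ cokernel.π dsc = 0 := by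
    have hrπ : r ≫ cokernel.π dsc = 0 := by
      rw [show r = cokernel.π u ≫ dsc from (cokernel.π_desc _ _ _).symm, assoc, cokernel.condition,
        comp_zero]
    have : K.toCycles (n + 1) m ≫ s = (biprod.inl ≫ cokernel.π t.δ ≫ w) ≫ r := by
      rw [← cancel_mono (kernel.ι f')]
      simp only [assoc, s, r, kernel.lift_ι, K.toCycles_i_assoc]
      have e : biprod.inl ≫ δ' = -(K.d (n + 1) m ≫ biprod.inl) +
          (biprod.inl ≫ cokernel.π t.δ ≫ w) ≫ biprod.inr := by
        apply biprod.hom_ext <;> simp [δ', coneD, m]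
      have := congrArg (· ≫ cokernel.π δ') e
      simp only [assoc, cokernel.condition, comp_zero, Preadditive.add_comp,
        Preadditive.neg_comp] at this
      exact neg_add_eq_zero.1 this.symm
    rw [reassoc_of% this, hrπ]
    simp
  obtain ⟨Φ, hΦ'⟩ := CokernelCofork.IsColimit.desc' (K.homologyIsCokernel (n + 1) m (by simp [m]))
    (s ≫ cokernel.π dsc) hd
  replace hΦ' : K.homologyπ m ≫ Φ = s ≫ cokernel.π dsc := hΦ'
  have hΦ : K.homologyπ m ≫ Φ = s ≫ cokernel.π dsc := hΦ'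
  have : Epi Φ := by
    rw [Preadditive.epi_iff_cancel_zero]
    intro Y g hg
    have hg1 : s ≫ cokernel.π dsc ≫ g = 0 := by rw [← assoc, ← hΦ, assoc, hg, comp_zero]
    have hr : r ≫ cokernel.π dsc ≫ g = 0 := by
      rw [show r = cokernel.π u ≫ dsc from (cokernel.π_desc _ _ _).symm, assoc,
        cokernel.condition_assoc, zero_comp, comp_zero]
    rw [← cancel_epi (cokernel.π dsc), comp_zero]
    obtain ⟨T, π, _, c, hc⟩ := surjective_up_to_refinements_of_epi (cokernel.π δ') (kernel.ι f')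
    have hk : (c ≫ biprod.fst) ≫ K.d m (m + 1) = 0 := by
      have := congrArg (· ≫ f') hc
      simpa [f'] using this.symm
    have : π = K.liftCycles (c ≫ biprod.fst) (m + 1) (by simp [m]) hk ≫ s + (c ≫ biprod.snd) ≫ r := by
      rw [← cancel_mono (kernel.ι f')]
      simp only [Preadditive.add_comp, assoc, s, r, kernel.lift_ι, K.liftCycles_i_assoc, hc]
      erw [K.liftCycles_i_assoc]
      rw [assoc, ← Preadditive.comp_add]
      congr 1
      calc cokernel.π δ' = 𝟙 _ ≫ cokernel.π δ' := (id_comp _).symm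
        _ = _ := by rw [← biprod.total, Preadditive.add_comp, assoc, assoc]
    rw [← cancel_epi π, comp_zero, this, Preadditive.add_comp, assoc, assoc, hg1, hr]
    simp
  have : Mono Φ := by
    rw [Preadditive.mono_iff_cancel_zero]
    intro T γ hγ
    obtain ⟨T₁, π₁, _, z, hz, hzγ⟩ := K.eq_liftCycles_homologyπ_up_to_refinements γ (m + 1) (by simp)
    have h1 : (K.liftCycles z (m + 1) (by simp) hz ≫ s) ≫ cokernel.π dsc = 0 := by
      rw [assoc, ← hΦ, ← assoc, ← hzγ, assoc, hγ, comp_zero]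
    obtain ⟨T₂, π₂, _, q, hq⟩ := (ShortComplex.exact_cokernel dsc).exact_up_to_refinements _ h1
    obtain ⟨T₃, π₃, _, j, hj⟩ := surjective_up_to_refinements_of_epi (cokernel.π u) q
    have h2 : ((π₃ ≫ π₂ ≫ z) ≫ biprod.inl - j ≫ biprod.inr) ≫ cokernel.π δ' = 0 := by
      have := congrArg (fun x => π₃ ≫ x ≫ kernel.ι f') hq
      simp only [assoc, reassoc_of% hj] at this
      simp only [s, r, dsc, cokernel.π_desc_assoc, kernel.lift_ι, K.liftCycles_i_assoc] at this
      rw [Preadditive.sub_comp, sub_eq_zero]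
      simpa using this
    obtain ⟨T₄, π₄, _, c, hc⟩ := (ShortComplex.exact_cokernel δ').exact_up_to_refinements _ h2
    have h3 : π₄ ≫ π₃ ≫ π₂ ≫ z = (-(c ≫ biprod.fst)) ≫ K.d (n + 1) m := by
      have := congrArg (· ≫ biprod.fst) hc
      simpa [δ', coneD, m] using this
    rw [← cancel_epi π₁, ← cancel_epi π₂, ← cancel_epi π₃, ← cancel_epi π₄]
    simp only [comp_zero]
    have hcond : (π₄ ≫ π₃ ≫ π₂ ≫ z) ≫ K.d m (m + 1) = 0 := by simp only [assoc, hz, comp_zero]
    rw [hzγ, K.comp_liftCycles_assoc, K.comp_liftCycles_assoc, K.comp_liftCycles_assoc]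
    exact K.liftCycles_homologyπ_eq_zero_of_boundary _ _ _ _ h3
  exact h.iso (@asIso _ _ _ _ Φ (isIso_of_mono_of_epi Φ)) hH
where
  shortExact_cokernel' {X Y : A} (f : X ⟶ Y) [Mono f] :
      (ShortComplex.mk f (cokernel.π f) (cokernel.condition f)).ShortExact :=
    { exact := ShortComplex.exact_cokernel f }

/-- transition of states -/
def SNext (n : ℤ) (t : RState I K n) (t' : RState I K (n + 1)) : Prop :=
  ∃ (w : K.X (n + 1) ⊞ t.L ⟶ t'.L) (e : t'.X ≅ K.X (n + 1) ⊞ t.L) (h : t.δ ≫ w = 0),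
    t'.δ = e.hom ≫ coneD K n w ∧
    ∀ ⦃T : A⦄ (x : T ⟶ K.X (n + 1) ⊞ t.L), x ≫ biprod.fst ≫ K.d (n + 1) (n + 1 + 1) = 0 → x ≫ w = 0 →
      ∃ (T' : A) (π : T' ⟶ T) (_ : Epi π) (y : T' ⟶ t.X), π ≫ x = y ≫ t.δ

theorem exists_subResolution (h : SubResHyp P I) (a : ℤ) [K.IsStrictlyGE a]
    (hK : ∀ i, P (K.homology i)) :
    ∃ (L : CochainComplex A ℤ) (α : K ⟶ L), L.IsStrictlyGE a ∧ (∀ n, I (L.X n)) ∧ QuasiIso α := by
  obtain ⟨Z, hZ, hIZ⟩ := h.zero
  have hK0 : ∀ m, m < a → IsZero (K.X m) := fun m hm => K.isZero_of_isStrictlyGE a m hm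
  let zs : ∀ n, RState I K n := fun n =>
    { L := Z, hL := hIZ, X := Z, δ := 0, comm := zero_comp }
  have hPzero : ∀ {X : A}, IsZero X → P X := fun hX => h.iso (hZ.iso hX) (h.le Z hIZ)
  obtain ⟨g, hg⟩ := Groth.Agent.FilD41.exists_chain_up
    (T := fun n => { t : RState I K n // (n ≤ a - 1 → IsZero t.L) ∧ P (stE K t) })
    (fun n t t' => SNext K n t.1 t'.1) (a - 2)
    (fun n hn => ⟨zs n, fun _ => hZ,
      hPzero (isZero_stE K _ ((biprod_isZero_iff _ _).2 ⟨hK0 _ (by omega), hZ⟩))⟩)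
    (fun n hn => by
      have hz : IsZero (K.X (n + 1) ⊞ Z) := (biprod_isZero_iff _ _).2 ⟨hK0 _ (by omega), hZ⟩
      exact ⟨0, hZ.iso hz, hZ.eq_of_src _ _, hZ.eq_of_src _ _,
        fun T x _ _ => ⟨T, 𝟙 T, inferInstance, 0, hz.eq_of_tgt _ _⟩⟩)
    (fun n t => by
      have main : ∀ {J : A} (hJ : I J) (w : cokernel t.1.δ ⟶ J),
          Mono (kernel.ι (cokernel.desc t.1.δ _ t.1.comm) ≫ w) → (n + 1 ≤ a - 1 → IsZero J) →
          ∃ t' : { t : RState I K (n + 1) // (n + 1 ≤ a - 1 → IsZero t.L) ∧ P (stE K t) },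
            SNext K n t.1 t'.1 := by
        intro J hJ w hu hJ0
        refine ⟨⟨stNext K t.1 hJ w, hJ0, prop_stE_next K h t.1 hJ w hu t.2.2 (hK _)⟩,
          cokernel.π t.1.δ ≫ w, Iso.refl _, by simp, (id_comp _).symm, fun T x hx hxw => ?_⟩
        refine (ShortComplex.exact_cokernel t.1.δ).exact_up_to_refinements x ?_
        have hk : (x ≫ cokernel.π t.1.δ) ≫ cokernel.desc t.1.δ _ t.1.comm = 0 := by
          simpa using hx
        have := (cancel_mono (kernel.ι (cokernel.desc t.1.δ _ t.1.comm) ≫ w)).1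
          (show kernel.lift _ _ hk ≫ _ = 0 ≫ _ by rw [kernel.lift_ι_assoc, assoc, hxw, zero_comp])
        have h' := congrArg (· ≫ kernel.ι _) this
        simpa using h'
      by_cases hn : n + 1 ≤ a - 1
      · have hz : IsZero (stE K t.1) :=
          isZero_stE K _ ((biprod_isZero_iff _ _).2 ⟨hK0 _ (by omega), t.2.1 (by omega)⟩)
        exact main hIZ 0 ⟨fun p q _ => IsZero.eq_of_tgt hz p q⟩ (fun _ => hZ)
      · obtain ⟨J, w, hJ, hw⟩ := h.emb (kernel.ι (cokernel.desc t.1.δ _ t.1.comm)) inferInstance t.2.2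
        exact main hJ w hw (fun hn' => absurd hn' hn))
  choose w e hw₀ hδ hex using hg
  let L₀ : ℤ → A := fun n => (g n).1.L
  have hMM : ∀ n, coneD K n (w n) ≫ w (n + 1) = 0 := fun n => by
    have := hw₀ (n + 1)
    rw [hδ n, assoc] at this
    exact (cancel_epi (e n).hom).1 (this.trans comp_zero.symm)
  let dL : ∀ n, L₀ n ⟶ L₀ (n + 1) := fun n => biprod.inr ≫ w n
  have hw : ∀ n, (biprod.inl ≫ w n) ≫ dL (n + 1) =
      K.d (n + 1) (n + 1 + 1) ≫ biprod.inl ≫ w (n + 1) := fun n => by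
    have := biprod.inl ≫= hMM n
    simp [coneD, biprod.lift_eq, Preadditive.comp_add, Preadditive.add_comp] at this
    rw [neg_add_eq_zero] at this
    simpa [dL] using this.symm
  have hdd : ∀ n, dL n ≫ dL (n + 1) = 0 := fun n => by
    have := biprod.inr ≫= hMM n
    simp [coneD, biprod.lift_eq, Preadditive.comp_add, Preadditive.add_comp] at this
    simpa [dL] using this
  let L : CochainComplex A ℤ := CochainComplex.of L₀ dL hdd
  have hLd : ∀ n, L.d n (n + 1) = dL n := fun n => CochainComplex.of_d L₀ dL n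
  let φf : ∀ n, K.X n ⟶ L.X n := fun n =>
    (K.XIsoOfEq (sub_add_cancel n 1)).inv ≫ biprod.inl ≫ w (n - 1) ≫
      (L.XIsoOfEq (sub_add_cancel n 1)).hom
  have hφf : ∀ n, φf (n + 1) = biprod.inl ≫ w n := by
    suffices ∀ (n m : ℤ) (hm : m + 1 = n + 1),
        (K.XIsoOfEq hm).inv ≫ biprod.inl ≫ w m ≫ (L.XIsoOfEq hm).hom = biprod.inl ≫ w n from
      fun n => this n _ _
    intro n m hm
    obtain rfl : m = n := by omega
    simp
    exact congrArg (fun t => biprod.inl ≫ t) (comp_id (w m))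
  let φ : K ⟶ L :=
    { f := φf
      comm' := fun i j (hij : i + 1 = j) => by
        subst hij
        obtain ⟨n, rfl⟩ : ∃ n, i = n + 1 := ⟨i - 1, by omega⟩
        rw [hφf, hφf, hLd]
        exact hw n }
  refine ⟨L, φ, ?_, fun n => (g n).1.hL, ?_⟩
  · exact (CochainComplex.isStrictlyGE_iff _ a).2 (fun n hn => (g n).2.1 (by omega))
  · refine Groth.Agent.PCoh41.quasiIso_of_nqiso _ (fun _ i _ => ?_)
    obtain ⟨n, rfl⟩ : ∃ n, i = n + 1 := ⟨i - 1, by omega⟩
    refine (exactAt_iff_isZero_homology _ _).1 ?_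
    rw [exactAt_iff' _ n (n + 1) (n + 1 + 1) (by simp) (by simp)]
    have hc : ∀ m, (coneXIso K φ m).hom ≫ (mappingCone φ).d m (m + 1) =
        coneD K m (w m) ≫ (coneXIso K φ (m + 1)).hom := fun m => by
      have h1 : φ.f (m + 1) = biprod.inl ≫ w m := hφf m
      have h2 : L.d m (m + 1) = biprod.inr ≫ w m := hLd m
      apply biprod.hom_ext'
      · simp [coneXIso, coneD, h1, CochainComplex.mappingCone.inl_v_d φ (m + 1) m (m + 1 + 1)
          (by omega) (by omega), biprod.lift_desc, Preadditive.comp_add]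
        erw [biprod.inl_fst_assoc]
        abel
      · simp [coneXIso, coneD, h2, biprod.lift_desc, Preadditive.comp_add]
        erw [biprod.inr_fst_assoc]
        simp
        rfl
    have hz : (g (n + 1)).1.δ ≫ coneD K (n + 1) (w (n + 1)) = 0 := by
      apply biprod.hom_ext <;> simp [coneD, (g (n + 1)).1.comm, hw₀ (n + 1)]
    have hex' : (ShortComplex.mk _ _ hz).Exact := by
      rw [ShortComplex.exact_iff_exact_up_to_refinements]
      intro T x hx
      refine hex (n + 1) x ?_ ?_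
      · have := hx =≫ biprod.fst
        simpa [coneD] using this
      · have := hx =≫ biprod.snd
        simpa [coneD] using this
    refine ShortComplex.exact_of_iso
      (ShortComplex.isoMk (S₂ := (mappingCone φ).sc' n (n + 1) (n + 1 + 1))
        (e n ≪≫ coneXIso K φ n) (coneXIso K φ (n + 1)) (coneXIso K φ (n + 1 + 1)) ?_
        (hc (n + 1))) hex'
    change ((e n).hom ≫ (coneXIso K φ n).hom) ≫ (mappingCone φ).d n (n + 1) =
        (g (n + 1)).1.δ ≫ (coneXIso K φ (n + 1)).hom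
    rw [assoc, hc n, hδ n, assoc]

theorem exists_subResolution' (h : SubResHyp P I) (a : ℤ) [K.IsGE a]
    (hK : ∀ i, P (K.homology i)) :
    ∃ (L : CochainComplex A ℤ) (α : K ⟶ L), L.IsStrictlyGE a ∧ (∀ n, I (L.X n)) ∧ QuasiIso α := by
  obtain ⟨L, α, h₁, h₂, h₃⟩ := exists_subResolution (K.truncGE a) h a fun i =>
    h.iso (isoOfQuasiIsoAt (K.πTruncGE a) i) (hK i)
  exact ⟨L, K.πTruncGE a ≫ α, h₁, h₂, inferInstance⟩

end Groth.Agent.CohDer42
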