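import Groth.Prelude.Def_SpSeq
import Groth.Agent.CohDer42.KInj
import Groth.Agent.CohDer42.DerProd
import Mathlib.Algebra.Homology.HomotopyCategory.MappingCone
import Mathlib.CategoryTheory.Abelian.GrothendieckCategory.Monomorphisms
import Mathlib.CategoryTheory.Limits.Constructions.Filtered
import Mathlib.CategoryTheory.Limits.Connected

/-!
# Realizing inverse systems in the derived category by filtered complexes
-/

universe w v u

open CategoryTheory Category Limits HomologicalComplex CochainComplex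
open CategoryTheory.Limits.CoproductsFromFiniteFiltered

set_option autoImplicit false
set_option linter.unusedSectionVars false
set_option backward.isDefEq.respectTransparency false

namespace Groth.Agent.CohDer42.Telescope

/-- in a category with exact filtered colimits, sums embed in products -/
theorem mono_sigmaToPi {C : Type u} [Category.{v} C] [Abelian C] [IsGrothendieckAbelian.{v} C]
    {ι : Type v} (X : ι → C) (δ : (∐ X) ⟶ ∏ᶜ X)
    (h : ∀ i, Sigma.ι X i ≫ δ ≫ Pi.π X i = 𝟙 _)
    (h' : ∀ i j, i ≠ j → Sigma.ι X i ≫ δ ≫ Pi.π X j = 0) : Mono δ := by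
  classical
  let α : liftToFinsetObj (Discrete.functor X) ⟶ (Functor.const _).obj (∏ᶜ X) :=
    { app := fun s => Sigma.desc fun x => Sigma.ι X x.1.as ≫ δ
      naturality := fun s s' f => by
        refine Sigma.hom_ext _ _ fun x => ?_
        simp [liftToFinsetObj] }
  have hα : ∀ s, Mono (α.app s) := by
    intro s
    let g : (∏ᶜ X) ⟶ ∐ fun x : s => X x.1.as :=
      ∑ y : s, Pi.π X y.1.as ≫ Sigma.ι (fun x : s => X x.1.as) y
    suffices e : α.app s ≫ g = 𝟙 _ from mono_of_mono_fac e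
    refine Sigma.hom_ext _ _ fun x => ?_
    simp only [α, g, Sigma.ι_desc_assoc, assoc, Preadditive.comp_sum, comp_id]
    rw [Finset.sum_eq_single x]
    · rw [reassoc_of% (h x.1.as)]
      exact (comp_id _).symm
    · intro y _ hy
      have hne : x.1.as ≠ y.1.as := fun e => hy (Subtype.ext (Discrete.ext e.symm))
      rw [reassoc_of% (h' _ _ hne), zero_comp]
    · exact fun hx => absurd (Finset.mem_univ x) hx
  haveI : IsConnected (Finset (Discrete ι)) := IsFiltered.isConnected _
  exact MorphismProperty.IsStableUnderColimitsOfShape.condition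
    (W := MorphismProperty.monomorphisms C) (J := Finset (Discrete ι)) _ _ _ _
    (isColimitFiniteSubproductsCocone X) (isColimitConstCocone (Finset (Discrete ι)) (∏ᶜ X)) α hα δ (fun s => by
      refine Sigma.hom_ext _ _ fun x => ?_
      simp [α])

variable {A : Type u} [Category.{v} A] [Abelian A]

/-- a homotopy from the identity of a sum to zero, componentwise -/
lemma nonempty_homotopy_sigma {ι : Type*} (X : ι → CochainComplex A ℤ) [HasCoproduct X]
    (H : ∀ i, Homotopy (𝟙 (X i)) 0) : Nonempty (Homotopy (𝟙 (∐ X)) 0) := by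
  let Φ : ∐ X ⟶ pathObject (∐ X) := Sigma.desc fun i =>
    pathObject.lift (Sigma.ι X i) 0 ((Homotopy.ofEq (id_comp _).symm).trans
      (((H i).compRight (Sigma.ι X i)).trans (Homotopy.ofEq zero_comp)))
  have h₀ : Φ ≫ pathObject.π₀ (∐ X) = 𝟙 _ := Sigma.hom_ext _ _ fun i => by simp [Φ]
  have h₁ : Φ ≫ pathObject.π₁ (∐ X) = 0 := Sigma.hom_ext _ _ fun i => by simp [Φ]
  exact ⟨(Homotopy.ofEq h₀.symm).trans (((pathObject.homotopy₀₁ (∐ X)
    (fun j => ⟨j + 1, by simp⟩)).compLeft Φ).trans (Homotopy.ofEq h₁))⟩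

/-- a homotopy from the identity of a product to zero, componentwise -/
lemma nonempty_homotopy_pi {ι : Type*} (X : ι → CochainComplex A ℤ) [HasProduct X]
    (H : ∀ i, Homotopy (𝟙 (X i)) 0) : Nonempty (Homotopy (𝟙 (∏ᶜ X)) 0) := by
  let Φ : cylinder (∏ᶜ X) ⟶ ∏ᶜ X := Pi.lift fun i =>
    cylinder.desc (Pi.π X i) 0 ((Homotopy.ofEq (comp_id _).symm).trans
      (((H i).compLeft (Pi.π X i)).trans (Homotopy.ofEq comp_zero)))
  have h₀ : cylinder.ι₀ (∏ᶜ X) ≫ Φ = 𝟙 _ := Pi.hom_ext _ _ fun i => by simp [Φ]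
  have h₁ : cylinder.ι₁ (∏ᶜ X) ≫ Φ = 0 := Pi.hom_ext _ _ fun i => by simp [Φ]
  exact ⟨(Homotopy.ofEq h₀.symm).trans (((cylinder.homotopy₀₁ (∏ᶜ X)
    (fun j => ⟨j - 1, by simp⟩)).compRight Φ).trans (Homotopy.ofEq h₁))⟩

variable [IsGrothendieckAbelian.{v} A]
  (I : ℤ → CochainComplex A ℤ) (t : ∀ i, I (i + 1) ⟶ I i)

/-- composite transition maps -/
noncomputable def tk : ∀ (k : ℕ) (m i : ℤ), i = m + k → (I i ⟶ I m)
  | 0, m, i, h => eqToHom (congrArg I (by omega))
  | k + 1, m, i, h => eqToHom (congrArg I (show i = m + k + 1 by push_cast at h; omega)) ≫ t (m + k) ≫ tk k m (m + k) rfl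

lemma tk_congr {k k' : ℕ} (e : k = k') (m i : ℤ) (h : i = m + k) (h' : i = m + k') :
    tk I t k m i h = tk I t k' m i h' := by subst e; rfl

/-- composite transition maps -/
noncomputable def tt (m i : ℤ) (h : m ≤ i) : I i ⟶ I m := tk I t (i - m).toNat m i (by omega)

lemma isIso_tt {m i : ℤ} (e : m = i) : IsIso (tt I t m i e.le) := by
  subst e
  rw [tt, tk_congr I t (show (m - m).toNat = 0 by omega) m m _ (by omega)]
  change IsIso (eqToHom _)
  infer_instance

lemma tt_self (m : ℤ) : tt I t m m le_rfl = 𝟙 _ := by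
  rw [tt, tk_congr I t (show (m - m).toNat = 0 by omega) m m _ (by omega)]
  rfl

lemma tt_succ (m i : ℤ) (h : m ≤ i) : tt I t m (i + 1) (by omega) = t i ≫ tt I t m i h := by
  obtain ⟨k, rfl⟩ : ∃ k : ℕ, i = m + k := ⟨(i - m).toNat, by omega⟩
  rw [tt, tt, tk_congr I t (show (m + k + 1 - m).toNat = k + 1 by omega) m _ _ (by push_cast; omega),
    tk_congr I t (show (m + k - m).toNat = k by omega) m _ _ rfl]
  change eqToHom _ ≫ t (m + k) ≫ tk I t k m (m + k) rfl = _
  simp

/-- the cones -/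
noncomputable abbrev Dc (j : ULift.{v} ℤ) : CochainComplex A ℤ := mappingCone (𝟙 (I (j.down + 1)))

/-- the index set of the `i`th step -/
abbrev P (i : ℤ) : Type v := {j : ULift.{v} ℤ // i ≤ j.down}

/-- the sum in the `i`th step -/
noncomputable abbrev S (i : ℤ) : CochainComplex A ℤ := ∐ fun j : P i => Dc I j.1

/-- the `i`th step -/
noncomputable abbrev T (i : ℤ) : CochainComplex A ℤ := I i ⊞ S I i

variable {J : CochainComplex A ℤ} (a : ∀ i, I i ⟶ J)
  (H : ∀ j : ULift.{v} ℤ, Dc I j ⟶ J)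
  (hH : ∀ j : ULift.{v} ℤ, mappingCone.inr (𝟙 (I (j.down + 1))) ≫ H j = a (j.down + 1) - t j.down ≫ a j.down)

/-- the total complex -/
noncomputable abbrev K (J : CochainComplex A ℤ) : CochainComplex A ℤ := J ⊞ ∏ᶜ Dc I

/-- the component of `ψ` -/
noncomputable def comp (i : ℤ) (j : ULift.{v} ℤ) : I i ⟶ Dc I j :=
  if h : j.down + 1 ≤ i then tt I t (j.down + 1) i h ≫ mappingCone.inr (𝟙 (I (j.down + 1))) else 0

open Classical in
/-- the diagonal component -/
noncomputable def dia (j j' : ULift.{v} ℤ) : Dc I j ⟶ Dc I j' :=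
  if h : j = j' then eqToHom (congrArg (Dc I) h) else 0

/-- the embedding of a step -/
noncomputable def φ (i : ℤ) : T I i ⟶ K I J :=
  biprod.desc (biprod.lift (a i) (Pi.lift fun j => comp I t i j))
    (Sigma.desc fun j => biprod.lift (H j.1) (Pi.lift fun j' => dia I j.1 j'))

/-- the transition between steps -/
noncomputable def step (i : ℤ) : T I (i + 1) ⟶ T I i :=
  biprod.desc
    (biprod.lift (t i) (mappingCone.inr (𝟙 (I (i + 1))) ≫ Sigma.ι (fun j : P i => Dc I j.1) ⟨ULift.up i, le_rfl⟩))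
    (Sigma.desc fun j => Sigma.ι (fun j : P i => Dc I j.1) ⟨j.1, le_trans (by omega) j.2⟩ ≫ biprod.inr)

include hH in
lemma step_φ (i : ℤ) : step I t i ≫ φ I t a H i = φ I t a H (i + 1) := by
  apply biprod.hom_ext'
  · simp only [step, φ, biprod.inl_desc_assoc, biprod.lift_desc, assoc, Sigma.ι_desc, biprod.inl_desc]
    apply biprod.hom_ext
    · simp only [Preadditive.add_comp, assoc, biprod.lift_fst]
      rw [hH ⟨i⟩]
      simp
    · simp only [Preadditive.add_comp, assoc, biprod.lift_snd]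
      refine Pi.hom_ext _ _ fun j => ?_
      simp only [Preadditive.add_comp, assoc, Pi.lift_π, comp, dia]
      rcases lt_trichotomy j.down i with hj | hj | hj
      · rw [dif_pos (by omega : j.down + 1 ≤ i), dif_pos (by omega : j.down + 1 ≤ i + 1),
          dif_neg (fun e : ULift.up i = j => by subst e; simp at hj), comp_zero, add_zero,
          tt_succ I t (j.down + 1) i (by omega), assoc]
      · obtain rfl : j = ULift.up i := ULift.ext j (ULift.up i) hj
        rw [dif_neg (by omega), dif_pos (le_refl (i + 1)), dif_pos rfl, comp_zero, zero_add]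
        rw [tt_self]
        simp
      · rw [dif_neg (fun e : ULift.up i = j => by subst e; simp at hj),
          dif_neg (show ¬ j.down + 1 ≤ i by omega), dif_neg (show ¬ j.down + 1 ≤ i + 1 by omega),
          comp_zero, comp_zero, add_zero]
  · simp only [step, φ, biprod.inr_desc_assoc, biprod.inr_desc]
    refine Sigma.hom_ext _ _ fun j => ?_
    simp

lemma mono_φ (i : ℤ) : Mono (φ I t a H i) := by
  let δ : S I i ⟶ ∏ᶜ fun j : P i => Dc I j.1 := Sigma.desc fun j => Pi.lift fun j' => dia I j.1 j'.1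
  have hδ : Mono δ := mono_sigmaToPi (fun j : P i => Dc I j.1) δ
    (fun j => by simp [δ, dia]) (fun j j' h => by
      simp only [δ, Sigma.ι_desc_assoc, Pi.lift_π, dia]
      exact dif_neg fun e => h (Subtype.ext e))
  rw [Preadditive.mono_iff_cancel_zero]
  intro W g hg
  obtain ⟨x, y, rfl⟩ : ∃ (x : W ⟶ I i) (y : W ⟶ S I i), g = biprod.lift x y :=
    ⟨g ≫ biprod.fst, g ≫ biprod.snd, by apply biprod.hom_ext <;> simp⟩
  have h2 : ∀ j : ULift.{v} ℤ,
      x ≫ comp I t i j + y ≫ (Sigma.desc fun j' : P i => dia I j'.1 j) = 0 := by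
    intro j
    have h := congrArg (fun u => u ≫ biprod.snd ≫ Pi.π (Dc I) j) hg
    simp only [φ, biprod.lift_desc, Preadditive.add_comp, assoc, biprod.lift_snd_assoc, Pi.lift_π, zero_comp] at h
    rw [← h]
    congr 2
    exact Sigma.hom_ext _ _ fun j' => by simp
  have hx : x = 0 := by
    have h := h2 ⟨i - 1⟩
    have hz : (Sigma.desc fun j' : P i => dia I j'.1 ⟨i - 1⟩) = 0 := Sigma.hom_ext _ _ fun j' => by
      simp only [Sigma.ι_desc, comp_zero, dia]
      exact dif_neg fun e => by have := j'.2; rw [e] at this; simp at this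
    rw [hz, comp_zero, add_zero, comp, dif_pos (by simp : i - 1 + 1 ≤ i), ← assoc] at h
    have hm : ∀ n, Mono ((mappingCone.inr (𝟙 (I (i - 1 + 1)))).f n) := fun n =>
      mono_of_mono_fac (mappingCone.inr_f_snd_v (𝟙 (I (i - 1 + 1))) n)
    have : Mono (mappingCone.inr (𝟙 (I (i - 1 + 1)))) := HomologicalComplex.mono_of_mono_f _ hm
    have := isIso_tt I t (show i - 1 + 1 = i by omega)
    exact zero_of_comp_mono _ (zero_of_comp_mono _ h)
  have hy : y = 0 := by
    apply zero_of_comp_mono δ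
    refine Pi.hom_ext _ _ fun j => ?_
    rw [zero_comp, assoc]
    have h := h2 j.1
    rw [hx, zero_comp, zero_add] at h
    rw [← h]
    congr 1
    exact Sigma.hom_ext _ _ fun j' => by simp [δ]
  subst hx hy
  apply biprod.hom_ext <;> simp

include hH in
lemma antitone_mk : Antitone fun i => @Subobject.mk _ _ _ _ (φ I t a H i) (mono_φ I t a H i) :=
  antitone_int_of_succ_le fun i =>
    @Subobject.mk_le_mk_of_comm _ _ _ _ _ (φ I t a H (i + 1)) (φ I t a H i)
      (mono_φ I t a H (i + 1)) (mono_φ I t a H i) (step I t i) (step_φ I t a H hH i)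

variable [HasDerivedCategory.{w} A]

lemma isZero_Q_of_homotopy {X : CochainComplex A ℤ} (h : Homotopy (𝟙 X) 0) :
    IsZero (DerivedCategory.Q.obj X) := by
  rw [IsZero.iff_id_eq_zero, ← CategoryTheory.Functor.map_id, DerivedCategory.Q_map_eq_of_homotopy _ h,
    Functor.map_zero]

lemma isIso_Q_inl (X Y : CochainComplex A ℤ) (h : IsZero (DerivedCategory.Q.obj Y)) :
    IsIso (DerivedCategory.Q.map (biprod.inl : X ⟶ X ⊞ Y)) := by
  refine ⟨DerivedCategory.Q.map biprod.fst, by rw [← Functor.map_comp, biprod.inl_fst, CategoryTheory.Functor.map_id], ?_⟩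
  have h0 : DerivedCategory.Q.map (biprod.inr : Y ⟶ X ⊞ Y) = 0 := h.eq_of_src _ _
  rw [← Functor.map_comp, ← CategoryTheory.Functor.map_id, ← biprod.total, Functor.map_add,
    Functor.map_comp DerivedCategory.Q biprod.snd, h0, comp_zero, add_zero]

lemma isZero_Q_S (i : ℤ) : IsZero (DerivedCategory.Q.obj (S I i)) :=
  isZero_Q_of_homotopy (nonempty_homotopy_sigma _ fun _ => mappingCone.homotopyToZeroOfId _).some

lemma isZero_Q_pi : IsZero (DerivedCategory.Q.obj (∏ᶜ Dc I)) :=
  isZero_Q_of_homotopy (nonempty_homotopy_pi _ fun _ => mappingCone.homotopyToZeroOfId _).some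

theorem realize (E : DerivedCategory A) (Es : ℤ → DerivedCategory A) (t' : ∀ i : ℤ, Es (i + 1) ⟶ Es i)
    (a' : ∀ i : ℤ, Es i ⟶ E) (hat : ∀ i : ℤ, t' i ≫ a' i = a' (i + 1)) :
    ∃ (F : SpSeq.FilCx A) (e : DerivedCategory.Q.obj F.obj ≅ E)
      (ei : ∀ i : ℤ, DerivedCategory.Q.obj (F.step i) ≅ Es i),
      (∀ i : ℤ, DerivedCategory.Q.map (F.fil i).arrow ≫ e.hom = (ei i).hom ≫ a' i) ∧
      (∀ i : ℤ, DerivedCategory.Q.map (F.stepLE (le_of_lt (Int.lt_succ_self i))) ≫ (ei i).hom =
        (ei (i + 1)).hom ≫ t' i) := by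
  have hex : ∀ X : DerivedCategory A, ∃ I : CochainComplex A ℤ, I.IsKInjective ∧
      Nonempty (DerivedCategory.Q.obj I ≅ X) := fun X => by
    obtain ⟨I, f, hI, hf, -⟩ := exists_kinjective_resolution (DerivedCategory.Q.objPreimage X)
    exact ⟨I, hI, ⟨(asIso (DerivedCategory.Q.map f)).symm ≪≫ DerivedCategory.Q.objObjPreimageIso X⟩⟩
  obtain ⟨J, hJ, ⟨eJ⟩⟩ := hex E
  choose I hI eI using fun i => hex (Es i)
  choose t ht using fun i => Q_map_surjective_of_isKInjective ((eI (i + 1)).some.hom ≫ t' i ≫ (eI i).some.inv)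
  choose a ha using fun i => Q_map_surjective_of_isKInjective ((eI i).some.hom ≫ a' i ≫ eJ.inv)
  have hh : ∀ j : ULift.{v} ℤ, DerivedCategory.Q.map (a (j.down + 1) - t j.down ≫ a j.down) =
      DerivedCategory.Q.map 0 := fun j => by
    rw [Functor.map_sub, Functor.map_comp, Functor.map_zero, sub_eq_zero, ht, ha, ha, ← hat]
    simp
  choose H hH using fun j : ULift.{v} ℤ =>
    (show ∃ H : Dc I j ⟶ J, mappingCone.inr (𝟙 (I (j.down + 1))) ≫ H = a (j.down + 1) - t j.down ≫ a j.down by
      have h := (homotopy_of_Q_map_eq (hh j)).some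
      refine ⟨mappingCone.desc (𝟙 _) ((CochainComplex.HomComplex.Cochain.equivHomotopy _ _) h).1
        (a (j.down + 1) - t j.down ≫ a j.down) ?_, by simp⟩
      have h' := ((CochainComplex.HomComplex.Cochain.equivHomotopy _ _) h).2
      simp only [CochainComplex.HomComplex.Cochain.ofHom_zero, add_zero] at h'
      rw [id_comp]
      exact h'.symm)
  have hm := mono_φ I t a H
  let F : SpSeq.FilCx A := ⟨K I J, fun i => Subobject.mk (φ I t a H i), antitone_mk I t a H hH⟩
  haveI := fun i => isIso_Q_inl (I i) (S I i) (isZero_Q_S I i)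
  haveI := isIso_Q_inl J (∏ᶜ Dc I) (isZero_Q_pi I)
  let eT : ∀ i, DerivedCategory.Q.obj (T I i) ≅ Es i := fun i =>
    (asIso (DerivedCategory.Q.map (biprod.inl : I i ⟶ T I i))).symm ≪≫ (eI i).some
  let e : DerivedCategory.Q.obj (K I J) ≅ E :=
    (asIso (DerivedCategory.Q.map (biprod.inl : J ⟶ K I J))).symm ≪≫ eJ
  have he : DerivedCategory.Q.map (biprod.fst : K I J ⟶ J) ≫ eJ.hom = e.hom := by
    simp only [e, Iso.trans_hom, Iso.symm_hom, asIso_inv]
    rw [IsIso.eq_inv_comp, ← Functor.map_comp_assoc, biprod.inl_fst]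
    simp
  have key : ∀ i, DerivedCategory.Q.map (φ I t a H i) ≫ e.hom = (eT i).hom ≫ a' i := fun i => by
    rw [← cancel_epi (DerivedCategory.Q.map (biprod.inl : I i ⟶ T I i)), ← he, ← Functor.map_comp_assoc,
      ← Functor.map_comp_assoc, assoc]
    simp only [φ, biprod.inl_desc_assoc, biprod.lift_fst, ha, eT, Iso.trans_hom, Iso.symm_hom, asIso_inv,
      assoc, IsIso.hom_inv_id_assoc, Iso.inv_hom_id, comp_id]
  have key' : ∀ i, DerivedCategory.Q.map (step I t i) ≫ (eT i).hom = (eT (i + 1)).hom ≫ t' i := fun i => by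
    rw [← cancel_epi (DerivedCategory.Q.map (biprod.inl : I (i + 1) ⟶ T I (i + 1)))]
    have h1 : (biprod.inl : I (i + 1) ⟶ _) ≫ step I t i =
        t i ≫ biprod.inl + (mappingCone.inr _ ≫ Sigma.ι (fun j : P i => Dc I j.1) ⟨ULift.up i, le_rfl⟩) ≫ biprod.inr := by
      simp [step, biprod.lift_eq]
    have h0 : DerivedCategory.Q.map (biprod.inr : S I i ⟶ T I i) = 0 := (isZero_Q_S I i).eq_of_src _ _
    rw [← Functor.map_comp_assoc, h1, Functor.map_add, Functor.map_comp _ (t i),
      Functor.map_comp DerivedCategory.Q (_ ≫ _) biprod.inr, h0, comp_zero, add_zero, ht]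
    simp [eT]
  let u : ∀ i, F.step i ≅ T I i := fun i => Subobject.underlyingIso (φ I t a H i)
  refine ⟨F, e, fun i => DerivedCategory.Q.mapIso (u i) ≪≫ eT i, fun i => ?_, fun i => ?_⟩
  · have h : (u i).hom ≫ φ I t a H i = (F.fil i).arrow := Subobject.underlyingIso_hom_comp_eq_mk _
    rw [← h, Functor.map_comp, assoc, key]
    simp
  · have h : F.stepLE (le_of_lt (Int.lt_succ_self i)) ≫ (u i).hom = (u (i + 1)).hom ≫ step I t i := by
      haveI := hm i
      rw [← cancel_mono (φ I t a H i), assoc, assoc, step_φ I t a H hH]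
      exact (congrArg (F.stepLE _ ≫ ·) (Subobject.underlyingIso_hom_comp_eq_mk _)).trans
        ((Subobject.ofLE_arrow _).trans (Subobject.underlyingIso_hom_comp_eq_mk _).symm)
    simp only [Iso.trans_hom, Functor.mapIso_hom, assoc]
    rw [← Functor.map_comp_assoc, h, Functor.map_comp, assoc, key']

end Groth.Agent.CohDer42.Telescope
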