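import Mathlib.Algebra.Homology.TotalComplex
import Mathlib.Algebra.Homology.Refinements
import Mathlib.Algebra.Homology.HomologicalComplexAbelian
import Mathlib.Algebra.Homology.QuasiIso
import Mathlib.Algebra.BigOperators.Intervals
import Mathlib.Data.Int.Interval

/-!
# Total complexes of bounded below double complexes preserve quasi-isomorphisms
-/

universe v u

open CategoryTheory Category Limits

set_option autoImplicit false
set_option backward.isDefEq.respectTransparency false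

namespace Groth.Agent.CohDer42.TotalQis

variable {A : Type u} [Category.{v} A] [Abelian A]

local notation "up" => ComplexShape.up ℤ

variable (K L : HomologicalComplex₂ A up up) (φ : K ⟶ L)
  [K.HasTotal up] [L.HasTotal up]

/-- Projection of the total complex on a summand. -/
noncomputable def pr (p q n : ℤ) : (K.total up).X n ⟶ (K.X p).X q :=
  K.totalDesc fun p' q' _ =>
    if h : p' = p ∧ q' = q then (K.XXIsoOfEq _ _ _ h.1 h.2).hom else 0

lemma ι_pr_self (p q n : ℤ) (h : p + q = n) :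
    K.ιTotal up p q n h ≫ pr K p q n = 𝟙 _ := by
  simp [pr]

lemma ι_pr_ne (p q p' q' n : ℤ) (h : p' + q' = n) (hne : ¬(p' = p ∧ q' = q)) :
    K.ιTotal up p' q' n h ≫ pr K p q n = 0 := by
  simp [pr, dif_neg hne]

lemma map_pr (p q n : ℤ) :
    (HomologicalComplex₂.total.map φ up).f n ≫ pr L p q n = pr K p q n ≫ (φ.f p).f q := by
  apply HomologicalComplex₂.total.hom_ext
  intro p' q' h
  rw [HomologicalComplex₂.ιTotal_map_assoc]
  by_cases hpq : p' = p ∧ q' = q
  · obtain ⟨rfl, rfl⟩ := hpq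
    rw [ι_pr_self L _ _ _ h, ← assoc, ι_pr_self K _ _ _ h, comp_id, id_comp]
  · rw [ι_pr_ne L _ _ _ _ _ h hpq, ← assoc, ι_pr_ne K _ _ _ _ _ h hpq, comp_zero, zero_comp]

lemma D₁_pr (p q n m : ℤ) (hm : n + 1 = m) :
    K.D₁ up n m ≫ pr K (p + 1) q m = pr K p q n ≫ (K.d p (p + 1)).f q := by
  apply HomologicalComplex₂.total.hom_ext
  intro p' q' h
  rw [HomologicalComplex₂.ι_D₁_assoc]
  have h' : (p' + 1) + q' = m := by change p' + q' = n at h; omega
  rw [K.d₁_eq up (show (up).Rel p' (p' + 1) from rfl) q' m h']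
  rw [show ComplexShape.ε₁ up up up (p', q') = 1 from rfl, one_smul, assoc]
  by_cases hpq : p' = p ∧ q' = q
  · obtain ⟨rfl, rfl⟩ := hpq
    rw [ι_pr_self K _ _ _ h', ← assoc, ι_pr_self K _ _ _ h, id_comp, comp_id]
  · rw [ι_pr_ne K _ _ _ _ _ h' (by omega), ← assoc, ι_pr_ne K _ _ _ _ _ h hpq, comp_zero, zero_comp]

lemma D₂_pr (p q n m : ℤ) (hm : n + 1 = m) :
    K.D₂ up n m ≫ pr K p (q + 1) m =
      p.negOnePow • (pr K p q n ≫ (K.X p).d q (q + 1)) := by
  apply HomologicalComplex₂.total.hom_ext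
  intro p' q' h
  rw [HomologicalComplex₂.ι_D₂_assoc]
  have h' : p' + (q' + 1) = m := by change p' + q' = n at h; omega
  rw [K.d₂_eq up p' (show (up).Rel q' (q' + 1) from rfl) m h', Linear.units_smul_comp, assoc,
    Linear.comp_units_smul]
  by_cases hpq : p' = p ∧ q' = q
  · obtain ⟨rfl, rfl⟩ := hpq
    rw [ι_pr_self K _ _ _ h', ← assoc (K.ιTotal up p' q' n h), ι_pr_self K _ _ _ h, id_comp, comp_id]
    rfl
  · rw [ι_pr_ne K _ _ _ _ _ h' (by omega), ← assoc (K.ιTotal up p' q' n h),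
      ι_pr_ne K _ _ _ _ _ h hpq, comp_zero, zero_comp, smul_zero, smul_zero]

lemma d_pr (p p' q q' n m : ℤ) (hm : n + 1 = m) (hp : p' + 1 = p) (hq : q' + 1 = q) :
    (K.total up).d n m ≫ pr K p q m =
      pr K p' q n ≫ (K.d p' p).f q + p.negOnePow • (pr K p q' n ≫ (K.X p).d q' q) := by
  subst hp hq
  rw [HomologicalComplex₂.total_d, Preadditive.add_comp, D₁_pr K _ _ _ _ hm, D₂_pr K _ _ _ _ hm]

/-- Components below `k` vanish. -/
def SuppGE {T : A} {n : ℤ} (x : T ⟶ (K.total up).X n) (k : ℤ) : Prop :=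
  ∀ p q, p + q = n → q < k → x ≫ pr K p q n = 0

lemma comp_d_pr_of_suppGE {T : A} {n : ℤ} (x : T ⟶ (K.total up).X n) (k : ℤ) (hx : SuppGE K x k)
    (p : ℤ) (m : ℤ) (hm : n + 1 = m) (hp : p + k = n) :
    x ≫ (K.total up).d n m ≫ pr K (p + 1) k m = (x ≫ pr K p k n) ≫ (K.d p (p + 1)).f k := by
  rw [d_pr K (p + 1) p k (k - 1) n m hm rfl (sub_add_cancel k 1), Preadditive.comp_add,
    Linear.comp_units_smul, ← assoc x (pr K (p + 1) (k - 1) n),
    hx (p + 1) (k - 1) (by omega) (by omega), zero_comp, smul_zero, add_zero, assoc]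

lemma suppGE_ι {T : A} (p q n : ℤ) (h : p + q = n) (u : T ⟶ (K.X p).X q) :
    SuppGE K (u ≫ K.ιTotal up p q n h) q := fun p' q' h' hq => by
  rw [assoc, ι_pr_ne K _ _ _ _ _ h (by omega), comp_zero]

lemma suppGE_comp_d {T : A} {n : ℤ} (x : T ⟶ (K.total up).X n) (k m : ℤ) (hm : n + 1 = m)
    (hx : SuppGE K x k) : SuppGE K (x ≫ (K.total up).d n m) k := fun p q h hq => by
  rw [assoc, d_pr K p (p - 1) q (q - 1) n m hm (sub_add_cancel p 1) (sub_add_cancel q 1), Preadditive.comp_add, Linear.comp_units_smul, ← assoc, ← assoc,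
    hx (p - 1) q (by omega) hq, hx p (q - 1) (by omega) (by omega)]
  simp

lemma eq_zero_of_components {T : A} {n : ℤ} (a b : ℤ)
    (hK : ∀ p q : ℤ, p < a ∨ q < b → IsZero ((K.X p).X q)) (x : T ⟶ (K.total up).X n)
    (hx : ∀ q, b ≤ q → q ≤ n - a → x ≫ pr K (n - q) q n = 0) : x = 0 := by
  classical
  have hid : (∑ q ∈ Finset.Icc b (n - a),
      pr K (n - q) q n ≫ K.ιTotal up (n - q) q n (sub_add_cancel n q)) = 𝟙 _ := by
    apply HomologicalComplex₂.total.hom_ext
    intro p' q' h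
    change p' + q' = n at h
    by_cases hz : p' < a ∨ q' < b
    · exact (hK p' q' hz).eq_of_src _ _
    rw [Preadditive.comp_sum, comp_id, Finset.sum_eq_single q']
    · obtain rfl : p' = n - q' := by omega
      rw [← assoc, ι_pr_self, id_comp]
    · intro q _ hq
      rw [← assoc, ι_pr_ne K _ _ _ _ _ h (by omega), zero_comp]
    · intro hq
      exact absurd (Finset.mem_Icc.2 (by omega)) hq
  rw [← comp_id x, ← hid, Preadditive.comp_sum]
  refine Finset.sum_eq_zero fun q hq => ?_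
  rw [Finset.mem_Icc] at hq
  rw [← assoc, hx q hq.1 hq.2, zero_comp]

lemma column_acyclic [QuasiIso φ] (k p : ℤ) {T : A} (x : T ⟶ (K.X (p + 1)).X k)
    (y : T ⟶ (L.X p).X k) (hx : x ≫ (K.d (p + 1) (p + 1 + 1)).f k = 0)
    (hxy : x ≫ (φ.f (p + 1)).f k + y ≫ (L.d p (p + 1)).f k = 0) :
    ∃ (T' : A) (π : T' ⟶ T) (_ : Epi π) (u : T' ⟶ (K.X p).X k) (v : T' ⟶ (L.X (p - 1)).X k),
      π ≫ x = -(u ≫ (K.d p (p + 1)).f k) ∧
      π ≫ y = u ≫ (φ.f p).f k + v ≫ (L.d (p - 1) p).f k := by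
  let E := HomologicalComplex.eval A up k
  let ψ := (E.mapHomologicalComplex up).map φ
  have : QuasiIso ψ := inferInstance
  have hmono : Mono (HomologicalComplex.homologyMap ψ (p + 1)) := inferInstance
  have hepi : Epi (HomologicalComplex.homologyMap ψ p) := inferInstance
  rw [HomologicalComplex.mono_homologyMap_iff_up_to_refinements ψ p (p + 1) (p + 1 + 1) (by simp) (by simp)] at hmono
  rw [HomologicalComplex.epi_homologyMap_iff_up_to_refinements ψ (p - 1) p (p + 1) (by simp) (by simp)] at hepi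
  have hxy' : x ≫ (φ.f (p + 1)).f k = (-y) ≫ (L.d p (p + 1)).f k := by
    rw [Preadditive.neg_comp]
    exact eq_neg_of_add_eq_zero_left hxy
  obtain ⟨T₁, π₁, _, u, hu⟩ := hmono x hx (-y) hxy'
  have hu' : π₁ ≫ x = u ≫ (K.d p (p + 1)).f k := hu
  have hcyc : (π₁ ≫ y + u ≫ (φ.f p).f k) ≫ (L.d p (p + 1)).f k = 0 := by
    rw [Preadditive.add_comp, assoc, assoc, HomologicalComplex₂.comm_f, ← assoc u, ← hu', assoc,
      ← Preadditive.comp_add, add_comm (y ≫ _), hxy, comp_zero]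
  obtain ⟨T₂, π₂, _, z, hz, v, hv⟩ := hepi (π₁ ≫ y + u ≫ (φ.f p).f k) hcyc
  have hz' : z ≫ (K.d p (p + 1)).f k = 0 := hz
  have hv' : π₂ ≫ (π₁ ≫ y + u ≫ (φ.f p).f k) = z ≫ (φ.f p).f k + v ≫ (L.d (p - 1) p).f k := hv
  refine ⟨T₂, π₂ ≫ π₁, inferInstance, z - π₂ ≫ u, v, ?_, ?_⟩
  · rw [Preadditive.sub_comp, hz', assoc, assoc, hu', zero_sub, neg_neg]
  · rw [Preadditive.sub_comp, assoc, assoc]
    rw [Preadditive.comp_add] at hv'
    rw [eq_sub_of_add_eq hv']
    abel

lemma acyclic [QuasiIso φ] (a b : ℤ)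
    (hK : ∀ p q : ℤ, p < a ∨ q < b → IsZero ((K.X p).X q))
    (hL : ∀ p q : ℤ, p < a ∨ q < b → IsZero ((L.X p).X q)) (n : ℤ) :
    ∀ (j : ℕ) (k : ℤ), n + 2 - a ≤ k + j → ∀ {T : A} (x : T ⟶ (K.total up).X (n + 1))
      (y : T ⟶ (L.total up).X n), SuppGE K x k → SuppGE L y k →
      x ≫ (K.total up).d (n + 1) (n + 1 + 1) = 0 →
      x ≫ (HomologicalComplex₂.total.map φ up).f (n + 1) + y ≫ (L.total up).d n (n + 1) = 0 →
      ∃ (T' : A) (π : T' ⟶ T) (_ : Epi π) (x' : T' ⟶ (K.total up).X n)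
        (y' : T' ⟶ (L.total up).X (n - 1)),
        π ≫ x = -(x' ≫ (K.total up).d n (n + 1)) ∧
        π ≫ y = x' ≫ (HomologicalComplex₂.total.map φ up).f n + y' ≫ (L.total up).d (n - 1) n := by
  intro j
  induction j with
  | zero =>
    intro k hk T x y hxs hys _ _
    refine ⟨T, 𝟙 T, inferInstance, 0, 0, ?_, ?_⟩
    · rw [eq_zero_of_components K a b hK x (fun q h1 h2 => hxs _ _ (by omega) (by omega))]
      simp
    · rw [eq_zero_of_components L a b hL y (fun q h1 h2 => hys _ _ (by omega) (by omega))]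
      simp
  | succ j ih =>
    intro k hk T x y hxs hys hx hxy
    obtain ⟨p, hp⟩ : ∃ p, p + k = n := ⟨n - k, by omega⟩
    have h1 : (x ≫ pr K (p + 1) k (n + 1)) ≫ (K.d (p + 1) (p + 1 + 1)).f k = 0 := by
      rw [← comp_d_pr_of_suppGE K x k hxs (p + 1) (n + 1 + 1) rfl (by omega), ← assoc, hx, zero_comp]
    have h2 : (x ≫ pr K (p + 1) k (n + 1)) ≫ (φ.f (p + 1)).f k +
        (y ≫ pr L p k n) ≫ (L.d p (p + 1)).f k = 0 := by
      rw [← comp_d_pr_of_suppGE L y k hys p (n + 1) rfl hp, assoc, ← map_pr, ← assoc, ← assoc,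
        ← Preadditive.add_comp, hxy, zero_comp]
    obtain ⟨T₁, π₁, _, u, v, hu, hv⟩ := column_acyclic K L φ k p _ _ h1 h2
    let u' := u ≫ K.ιTotal up p k n hp
    let v' := v ≫ L.ιTotal up (p - 1) k (n - 1) (show p - 1 + k = n - 1 by omega)
    have hus : SuppGE K u' k := suppGE_ι K _ _ _ hp u
    have hvs : SuppGE L v' k := suppGE_ι L _ _ _ (show p - 1 + k = n - 1 by omega) v
    let x₁ := π₁ ≫ x + u' ≫ (K.total up).d n (n + 1)
    let y₁ := π₁ ≫ y - u' ≫ (HomologicalComplex₂.total.map φ up).f n - v' ≫ (L.total up).d (n - 1) n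
    have hx₁s : SuppGE K x₁ (k + 1) := fun p' q' h hq => by
      rw [Preadditive.add_comp, assoc]
      rcases (show q' < k ∨ q' = k by omega) with hq' | rfl
      · rw [hxs p' q' h hq', suppGE_comp_d K u' k _ rfl hus p' q' h hq', comp_zero, add_zero]
      · obtain rfl : p' = p + 1 := by omega
        rw [assoc, hu, comp_d_pr_of_suppGE K u' q' hus p (n + 1) rfl hp]
        simp [u', ι_pr_self]
    have hy₁s : SuppGE L y₁ (k + 1) := fun p' q' h hq => by
      rw [Preadditive.sub_comp, Preadditive.sub_comp, assoc, assoc, map_pr, ← assoc u']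
      rcases (show q' < k ∨ q' = k by omega) with hq' | rfl
      · rw [hys p' q' h hq', hus p' q' h hq',
          suppGE_comp_d L v' k n (by omega) hvs p' q' h hq']
        simp
      · obtain rfl : p' = p := by omega
        obtain ⟨p₀, rfl⟩ : ∃ p₀, p' = p₀ + 1 := ⟨p' - 1, by omega⟩
        rw [hv]
        simp only [u', v', assoc]
        rw [d_pr L (p₀ + 1) p₀ q' (q' - 1) (n - 1) n (by omega) rfl (sub_add_cancel q' 1)]
        simp only [Preadditive.comp_add, Linear.comp_units_smul]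
        rw [reassoc_of% (ι_pr_self K (p₀ + 1) q' n hp)]
        have h3 : L.ιTotal up (p₀ + 1 - 1) q' (n - 1) (show p₀ + 1 - 1 + q' = n - 1 by omega) ≫
            pr L (p₀ + 1) (q' - 1) (n - 1) = 0 := ι_pr_ne L _ _ _ _ _ _ (by omega)
        rw [reassoc_of% h3]
        have key : ∀ (r : ℤ) (hr : r = p₀) (w : T₁ ⟶ (L.X r).X q') (hh : r + q' = n - 1),
            w ≫ L.ιTotal up r q' (n - 1) hh ≫ pr L p₀ q' (n - 1) ≫ (L.d p₀ (p₀ + 1)).f q' =
              w ≫ (L.d r (p₀ + 1)).f q' := by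
          rintro r rfl w hh
          rw [reassoc_of% (ι_pr_self L r q' (n - 1) hh)]
        rw [key _ (by omega) v _]
        simp
    have hx₁ : x₁ ≫ (K.total up).d (n + 1) (n + 1 + 1) = 0 := by
      simp only [x₁, Preadditive.add_comp, assoc, hx, comp_zero, HomologicalComplex.d_comp_d, add_zero]
    have hxy₁ : x₁ ≫ (HomologicalComplex₂.total.map φ up).f (n + 1) +
        y₁ ≫ (L.total up).d n (n + 1) = 0 := by
      have h' := congrArg (π₁ ≫ ·) hxy
      simp only [Preadditive.comp_add, comp_zero] at h'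
      simp only [x₁, y₁, Preadditive.add_comp, Preadditive.sub_comp, assoc,
        HomologicalComplex.d_comp_d, comp_zero, sub_zero, HomologicalComplex.Hom.comm]
      rw [← h']
      abel
    obtain ⟨T₂, π₂, _, x', y', e₁, e₂⟩ := ih (k + 1) (by omega) x₁ y₁ hx₁s hy₁s hx₁ hxy₁
    refine ⟨T₂, π₂ ≫ π₁, inferInstance, x' + π₂ ≫ u', y' + π₂ ≫ v', ?_, ?_⟩
    · simp only [x₁, Preadditive.comp_add] at e₁
      simp only [Preadditive.add_comp, assoc, neg_add]
      rw [eq_sub_of_add_eq e₁, sub_eq_add_neg]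
    · simp only [y₁, Preadditive.comp_sub, sub_sub] at e₂
      simp only [Preadditive.add_comp, assoc]
      rw [eq_add_of_sub_eq e₂, Preadditive.comp_add]
      abel

theorem quasiIso_total_map [QuasiIso φ] (a b : ℤ)
    (hK : ∀ p q : ℤ, p < a ∨ q < b → IsZero ((K.X p).X q))
    (hL : ∀ p q : ℤ, p < a ∨ q < b → IsZero ((L.X p).X q)) :
    QuasiIso (HomologicalComplex₂.total.map φ up) := by
  have key : ∀ (n : ℤ) {T : A} (x : T ⟶ (K.total up).X (n + 1)) (y : T ⟶ (L.total up).X n),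
      x ≫ (K.total up).d (n + 1) (n + 1 + 1) = 0 →
      x ≫ (HomologicalComplex₂.total.map φ up).f (n + 1) + y ≫ (L.total up).d n (n + 1) = 0 →
      ∃ (T' : A) (π : T' ⟶ T) (_ : Epi π) (x' : T' ⟶ (K.total up).X n)
        (y' : T' ⟶ (L.total up).X (n - 1)),
        π ≫ x = -(x' ≫ (K.total up).d n (n + 1)) ∧
        π ≫ y = x' ≫ (HomologicalComplex₂.total.map φ up).f n + y' ≫ (L.total up).d (n - 1) n := by
    intro n T x y hx hxy
    refine acyclic K L φ a b hK hL n (n + 2 - a - b).toNat b (by omega) x y ?_ ?_ hx hxy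
    · intro p q _ hq
      exact (hK p q (Or.inr hq)).eq_of_tgt _ _
    · intro p q _ hq
      exact (hL p q (Or.inr hq)).eq_of_tgt _ _
  rw [quasiIso_iff]
  intro i
  rw [quasiIsoAt_iff_isIso_homologyMap]
  have : Epi (HomologicalComplex.homologyMap (HomologicalComplex₂.total.map φ up) i) := by
    rw [HomologicalComplex.epi_homologyMap_iff_up_to_refinements _ (i - 1) i (i + 1) (by simp) (by simp)]
    intro T y hy
    obtain ⟨T', π, hπ, x', y', h₁, h₂⟩ := key i (0 : T ⟶ _) y (by simp) (by simpa using hy)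
    rw [comp_zero, eq_comm, neg_eq_zero] at h₁
    exact ⟨T', π, hπ, x', h₁, y', h₂⟩
  have : Mono (HomologicalComplex.homologyMap (HomologicalComplex₂.total.map φ up) i) := by
    obtain ⟨n, rfl⟩ : ∃ n, i = n + 1 := ⟨i - 1, by omega⟩
    rw [HomologicalComplex.mono_homologyMap_iff_up_to_refinements _ n (n + 1) (n + 1 + 1) (by simp) (by simp)]
    intro T x hx y hxy
    obtain ⟨T', π, hπ, x', y', h₁, -⟩ := key n x (-y) hx (by rw [hxy, Preadditive.neg_comp, add_neg_cancel])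
    exact ⟨T', π, hπ, -x', by rw [h₁, Preadditive.neg_comp]⟩
  exact isIso_of_mono_of_epi _

end Groth.Agent.CohDer42.TotalQis
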