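import Groth.Agent.CohDer42.ResOp
import Groth.Agent.CohDer42.CxFactor

/-!
# Termwise split towers of resolutions of the canonical truncations
-/

universe v u

open CategoryTheory Category Limits HomologicalComplex

set_option autoImplicit false
set_option linter.unusedSectionVars false
set_option backward.isDefEq.respectTransparency false

namespace Groth.Agent.CohDer42

variable {A : Type u} [Category.{v} A] [Abelian A]

/-- mono quasi-isomorphisms are stable under pushouts, epi ones under pullbacks -/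
lemma epi_quasiIso_of_isPullback {X Y Z W : CochainComplex A ℤ} {f : X ⟶ Y} {g : X ⟶ Z}
    {i : Y ⟶ W} {j : Z ⟶ W} (sq : IsPullback f g i j) [Epi j] [QuasiIso j] :
    Epi f ∧ QuasiIso f := by
  have he : Epi f := Abelian.epi_fst_of_isLimit i j sq.isLimit
  have hac : ∀ {K L : CochainComplex A ℤ} (p : K ⟶ L) [Epi p],
      (ShortComplex.mk _ _ (kernel.condition p)).ShortExact :=
    fun p _ => { exact := ShortComplex.exact_kernel p }
  have hk : (kernel j).Acyclic := (hac j).acyclic_X₁ (by dsimp; infer_instance)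
  have := isIso_kernel_map_of_isPullback sq
  refine ⟨he, ⟨fun n => ?_⟩⟩
  have hz : ∀ m, IsZero ((kernel f).homology m) := fun m =>
    (exactAt_iff_isZero_homology _ _).1 ((hk m).of_iso (asIso (kernel.map _ _ _ _ sq.w)).symm)
  rw [quasiIsoAt_iff_isIso_homologyMap]
  have : Mono (homologyMap f n) := ((hac f).homology_exact₂ n).mono_g ((hz n).eq_of_src _ _)
  have : Epi (homologyMap f n) :=
    ((hac f).homology_exact₃ n (n + 1) rfl).epi_f ((hz (n + 1)).eq_of_tgt _ _)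
  exact isIso_of_mono_of_epi _

lemma quasiIso_of_inverse_homotopy {K L : CochainComplex A ℤ} (f : K ⟶ L) (g : L ⟶ K)
    (h : f ≫ g = 𝟙 K) (h' : Homotopy (g ≫ f) (𝟙 L)) : QuasiIso f :=
  (⟨f, g, Homotopy.ofEq h, h'⟩ : HomotopyEquiv K L).quasiIso_hom

section

variable (I : ObjectProperty A) [I.IsClosedUnderIsomorphisms]
  (hI0 : ∃ Z : A, IsZero Z ∧ I Z) (hIsum : ∀ X Y : A, I X → I Y → I (X ⊞ Y))
  (hI : ∀ X : A, ∃ (Y : A) (ι : X ⟶ Y), I Y ∧ Mono ι)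

include hI0 hIsum hI in
/-- a morphism into a bounded below complex with terms in `I` factors as a mono quasi-isomorphism
followed by a termwise split surjection with kernel in `I` -/
lemma exists_factor_res {M Q : CochainComplex A ℤ} (f : M ⟶ Q) (a : ℤ) [M.IsStrictlyGE a]
    [Q.IsStrictlyGE a] (hQ : ∀ i, I (Q.X i)) :
    ∃ (Q' : CochainComplex A ℤ) (π : M ⟶ Q') (p : Q' ⟶ Q), π ≫ p = f ∧ QuasiIso π ∧
      (∀ i, Mono (π.f i)) ∧ (∃ b : ℤ, Q'.IsStrictlyGE b) ∧ (∀ i, I (Q'.X i)) ∧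
      ∀ i, (∃ s : Q.X i ⟶ Q'.X i, s ≫ p.f i = 𝟙 _) ∧ I (kernel (p.f i)) := by
  obtain ⟨N, i₁, α', s, h₁, h₂, ⟨h₃⟩, h₄, h₅, -⟩ := exists_split_epi_factorization M Q f
  have : QuasiIso i₁ := quasiIso_of_inverse_homotopy i₁ s h₂ h₃
  have : Mono i₁ := mono_of_mono_fac h₂
  have hsec : ∀ i, ∃ σ : Q.X i ⟶ N.X i, σ ≫ α'.f i = 𝟙 _ := fun i => by
    obtain ⟨C, e, he⟩ := h₄ i
    exact ⟨biprod.inr ≫ e.inv, by rw [assoc, he, biprod.inr_snd]⟩
  choose σ hσ using hsec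
  have : Epi α' := by
    have : ∀ i, Epi (α'.f i) := fun i => (IsSplitEpi.mk' ⟨σ i, hσ i⟩).epi
    exact epi_of_epi_f _ this
  have := h₅ a inferInstance inferInstance
  have : (kernel α').IsStrictlyGE a := by
    rw [CochainComplex.isStrictlyGE_iff]
    intro i hi
    rw [IsZero.iff_id_eq_zero, ← cancel_mono ((kernel.ι α').f i)]
    exact (N.isZero_of_isStrictlyGE a i hi).eq_of_tgt _ _
  obtain ⟨J, r, hJ, hJI, hrm, hrq⟩ := exists_resolution I hI (kernel α') hI0 a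
  have : Mono r := mono_of_mono_f _ hrm
  have sq : IsPushout (kernel.ι α') r (pushout.inl _ _) (pushout.inr _ _) :=
    IsPushout.of_hasPushout (kernel.ι α') r
  obtain ⟨hm₁, hq₁⟩ := mono_quasiIso_of_isPushout sq.flip
  have hm₂ : Mono (pushout.inr (kernel.ι α') r) :=
    inferInstance
  let p := sq.desc α' 0 (by simp)
  have hp₁ : pushout.inl _ _ ≫ p = α' := sq.inl_desc _ _ _
  have hp₂ : pushout.inr _ _ ≫ p = 0 := sq.inr_desc _ _ _
  have : Epi p := epi_of_epi_fac hp₁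
  let T := ShortComplex.mk _ _ hp₂
  have hT : T.Exact := by
    refine T.exact_of_g_is_cokernel (CokernelCofork.IsColimit.ofπ' _ _ (fun {W} φ hφ => ?_))
    have hφ' : kernel.ι α' ≫ pushout.inl _ _ ≫ φ = 0 := by
      rw [reassoc_of% sq.w, hφ, comp_zero]
    have hk : (ShortComplex.mk _ _ (kernel.condition α')).Exact := ShortComplex.exact_kernel α'
    refine ⟨hk.desc (pushout.inl _ _ ≫ φ) hφ', sq.hom_ext ?_ ?_⟩
    · rw [reassoc_of% hp₁]
      exact hk.g_desc _ _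
    · rw [reassoc_of% hp₂, zero_comp, hφ]
  have hTS : T.ShortExact := { exact := hT }
  have hTi : ∀ i, (T.map (eval A (ComplexShape.up ℤ) i)).ShortExact := fun i =>
    hTS.map_of_exact _
  let s' : ∀ i, Q.X i ⟶ (pushout (kernel.ι α') r).X i := fun i =>
    σ i ≫ (pushout.inl (kernel.ι α') r).f i
  have hs' : ∀ i, s' i ≫ p.f i = 𝟙 _ := fun i => by
    simp only [s', assoc, ← comp_f, hp₁, hσ]
  have spl : ∀ i, (T.map (eval A (ComplexShape.up ℤ) i)).Splitting := fun i =>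
    ShortComplex.Splitting.ofExactOfSection _ (hTi i).exact (s' i) (hs' i) (hTi i).mono_f
  refine ⟨pushout (kernel.ι α') r, i₁ ≫ pushout.inl _ _, p, by rw [assoc, hp₁, h₁],
    inferInstance, fun i => inferInstance, ⟨a, ?_⟩, fun i => ?_, fun i => ⟨⟨s' i, hs' i⟩, ?_⟩⟩
  · rw [CochainComplex.isStrictlyGE_iff]
    intro i hi
    exact (isZero_biprod (J.isZero_of_isStrictlyGE a i hi) (Q.isZero_of_isStrictlyGE a i hi)).of_iso
      (spl i).isoBinaryBiproduct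
  · exact I.prop_of_iso (spl i).isoBinaryBiproduct.symm (hIsum _ _ (hJI i) (hQ i))
  · exact I.prop_of_iso
      ((hTi i).fIsKernel.conePointUniqueUpToIso (limit.isLimit _)) (hJI i)

include hI0 hIsum hI in
lemma exists_tower (K : CochainComplex A ℤ) :
    ∃ (Q : ℕ → CochainComplex A ℤ) (p : ∀ n, Q (n + 1) ⟶ Q n) (π : ∀ n : ℕ, K.truncGE (-(n : ℤ)) ⟶ Q n),
      (∀ n, QuasiIso (π n) ∧ ∀ i, Mono ((π n).f i)) ∧
      (∀ n, ∃ a : ℤ, (Q n).IsStrictlyGE a) ∧ (∀ n i, I ((Q n).X i)) ∧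
      (∀ n i, (∃ s : (Q n).X i ⟶ (Q (n + 1)).X i, s ≫ (p n).f i = 𝟙 _) ∧ I (kernel ((p n).f i))) ∧
      (∀ n : ℕ, K.πTruncGE (-((n + 1 : ℕ) : ℤ)) ≫ π (n + 1) ≫ p n = K.πTruncGE (-(n : ℤ)) ≫ π n) := by
  let St : ℕ → Type (max u v) := fun n =>
    Σ' (Q : CochainComplex A ℤ) (π : K.truncGE (-(n : ℤ)) ⟶ Q),
      (QuasiIso π ∧ ∀ i, Mono (π.f i)) ∧ (∃ b : ℤ, Q.IsStrictlyGE b) ∧ ∀ i, I (Q.X i)
  have step : ∀ (n : ℕ) (d : St n), ∃ (d' : St (n + 1)) (p : d'.1 ⟶ d.1),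
      K.πTruncGE (-((n + 1 : ℕ) : ℤ)) ≫ d'.2.1 ≫ p = K.πTruncGE (-(n : ℤ)) ≫ d.2.1 ∧
      ∀ i, (∃ s : d.1.X i ⟶ d'.1.X i, s ≫ p.f i = 𝟙 _) ∧ I (kernel (p.f i)) := by
    rintro n ⟨Q, π, hπ, ⟨b, hb⟩, hQI⟩
    let m : ℤ := -(((n + 1 : ℕ) : ℤ))
    have : (K.truncGE (-(n : ℤ))).IsStrictlyGE m :=
      (K.truncGE (-(n : ℤ))).isStrictlyGE_of_ge m (-(n : ℤ)) (by omega)
    let c : K.truncGE m ⟶ K.truncGE (-(n : ℤ)) :=
      CochainComplex.truncGEMap (K.πTruncGE (-(n : ℤ))) m ≫ inv ((K.truncGE (-(n : ℤ))).πTruncGE m)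
    have hc : K.πTruncGE m ≫ c = K.πTruncGE (-(n : ℤ)) := by
      simp [c]
    have : (K.truncGE m).IsStrictlyGE (min m b) :=
      (K.truncGE m).isStrictlyGE_of_ge _ m (min_le_left _ _)
    have : Q.IsStrictlyGE (min m b) := Q.isStrictlyGE_of_ge _ b (min_le_right _ _)
    obtain ⟨Q', π', p, e, hq, hm, hb', hQ', hsp⟩ :=
      exists_factor_res I hI0 hIsum hI (c ≫ π) (min m b) hQI
    exact ⟨⟨Q', π', ⟨hq, hm⟩, hb', hQ'⟩, p, by rw [e]; exact (assoc _ _ _).symm.trans (by rw [hc]), hsp⟩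
  obtain ⟨L, α, hL, hLI, hLm, hLq⟩ := exists_resolution I hI (K.truncGE (-((0 : ℕ) : ℤ))) hI0 (-((0 : ℕ) : ℤ))
  choose next p hp hsp using step
  let F : ∀ n, St n := fun n => Nat.rec ⟨L, α, ⟨hLq, hLm⟩, ⟨_, hL⟩, hLI⟩ (fun n d => next n d) n
  exact ⟨fun n => (F n).1, fun n => p n (F n), fun n => (F n).2.1, fun n => (F n).2.2.1,
    fun n => (F n).2.2.2.1, fun n i => (F n).2.2.2.2 i, fun n i => hsp n (F n) i, fun n => hp n (F n)⟩

end

section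

variable (P : ObjectProperty A) [P.IsClosedUnderIsomorphisms]
  (hP0 : ∃ Z : A, IsZero Z ∧ P Z) (hPsum : ∀ X Y : A, P X → P Y → P (X ⊞ Y))
  (hP : ∀ X : A, ∃ (Y : A) (π : Y ⟶ X), P Y ∧ Epi π)

include hP0 hPsum hP in
/-- a morphism from a bounded above complex with terms in `P` factors as a termwise split
injection with cokernel in `P` followed by an epi quasi-isomorphism -/
lemma exists_factor_lres {Q M : CochainComplex A ℤ} (f : Q ⟶ M) (b : ℤ) [M.IsStrictlyLE b]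
    [Q.IsStrictlyLE b] (hQ : ∀ i, P (Q.X i)) :
    ∃ (Q' : CochainComplex A ℤ) (ι : Q ⟶ Q') (π : Q' ⟶ M), ι ≫ π = f ∧ QuasiIso π ∧
      (∀ i, Epi (π.f i)) ∧ (∃ b' : ℤ, Q'.IsStrictlyLE b') ∧ (∀ i, P (Q'.X i)) ∧
      ∀ i, (∃ r : Q'.X i ⟶ Q.X i, ι.f i ≫ r = 𝟙 _) ∧ P (cokernel (ι.f i)) := by
  obtain ⟨N, α', π₁, s, h₁, h₂, ⟨h₃⟩, h₄, -, h₅⟩ := exists_split_mono_factorization Q M f
  have : QuasiIso π₁ := (⟨π₁, s, h₃, Homotopy.ofEq h₂⟩ : HomotopyEquiv N M).quasiIso_hom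
  have : Epi π₁ := epi_of_epi_fac h₂
  have hret : ∀ i, ∃ ρ : N.X i ⟶ Q.X i, α'.f i ≫ ρ = 𝟙 _ := fun i => by
    obtain ⟨C, e, he⟩ := h₄ i
    exact ⟨e.hom ≫ biprod.fst, by rw [reassoc_of% he, biprod.inl_fst]⟩
  choose ρ hρ using hret
  have : Mono α' := by
    have : ∀ i, Mono (α'.f i) := fun i => (IsSplitMono.mk' ⟨ρ i, hρ i⟩).mono
    exact mono_of_mono_f _ this
  have := h₅ b inferInstance inferInstance
  have : (cokernel α').IsStrictlyLE b := by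
    rw [CochainComplex.isStrictlyLE_iff]
    intro i hi
    rw [IsZero.iff_id_eq_zero, ← cancel_epi ((cokernel.π α').f i)]
    exact (N.isZero_of_isStrictlyLE b i hi).eq_of_src _ _
  obtain ⟨J, r, hJ, hJP, hre, hrq⟩ := exists_left_resolution P hP0 hP (cokernel α') b
  have : Epi r := epi_of_epi_f _ hre
  have sq : IsPullback (pullback.fst (cokernel.π α') r) (pullback.snd _ _) (cokernel.π α') r :=
    IsPullback.of_hasPullback (cokernel.π α') r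
  obtain ⟨he₁, hq₁⟩ := epi_quasiIso_of_isPullback sq
  have he₂ : Epi (pullback.snd (cokernel.π α') r) :=
    inferInstance
  let j := sq.lift α' 0 (by simp)
  have hj₁ : j ≫ pullback.fst _ _ = α' := sq.lift_fst _ _ _
  have hj₂ : j ≫ pullback.snd _ _ = 0 := sq.lift_snd _ _ _
  have : Mono j := mono_of_mono_fac hj₁
  let T := ShortComplex.mk _ _ hj₂
  have hT : T.Exact := by
    refine T.exact_of_f_is_kernel (KernelFork.IsLimit.ofι' _ _ (fun {W} φ hφ => ?_))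
    have hφ' : (φ ≫ pullback.fst _ _) ≫ cokernel.π α' = 0 := by
      rw [assoc, sq.w, reassoc_of% hφ, zero_comp]
    have hk : (ShortComplex.mk _ _ (cokernel.condition α')).Exact := ShortComplex.exact_cokernel α'
    refine ⟨hk.lift (φ ≫ pullback.fst _ _) hφ', sq.hom_ext ?_ ?_⟩
    · rw [assoc, hj₁]
      exact hk.lift_f _ _
    · rw [assoc, hj₂, comp_zero, hφ]
  have hTS : T.ShortExact := { exact := hT }
  have hTi : ∀ i, (T.map (eval A (ComplexShape.up ℤ) i)).ShortExact := fun i =>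
    hTS.map_of_exact _
  let r' : ∀ i, (pullback (cokernel.π α') r).X i ⟶ Q.X i := fun i =>
    (pullback.fst (cokernel.π α') r).f i ≫ ρ i
  have hr' : ∀ i, j.f i ≫ r' i = 𝟙 _ := fun i => by
    simp only [r', ← assoc, ← comp_f, hj₁, hρ]
  have spl : ∀ i, (T.map (eval A (ComplexShape.up ℤ) i)).Splitting := fun i =>
    ShortComplex.Splitting.ofExactOfRetraction _ (hTi i).exact (r' i) (hr' i) (hTi i).epi_g
  refine ⟨pullback (cokernel.π α') r, j, pullback.fst _ _ ≫ π₁, by rw [reassoc_of% hj₁, h₁],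
    inferInstance, fun i => inferInstance, ⟨b, ?_⟩, fun i => ?_, fun i => ⟨⟨r' i, hr' i⟩, ?_⟩⟩
  · rw [CochainComplex.isStrictlyLE_iff]
    intro i hi
    exact (isZero_biprod (Q.isZero_of_isStrictlyLE b i hi) (J.isZero_of_isStrictlyLE b i hi)).of_iso
      (spl i).isoBinaryBiproduct
  · exact P.prop_of_iso (spl i).isoBinaryBiproduct.symm (hPsum _ _ (hQ i) (hJP i))
  · exact P.prop_of_iso
      ((hTi i).gIsCokernel.coconePointUniqueUpToIso (colimit.isColimit _)) (hJP i)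

include hP0 hPsum hP in
lemma exists_left_tower (K : CochainComplex A ℤ) :
    ∃ (Q : ℕ → CochainComplex A ℤ) (ι : ∀ n, Q n ⟶ Q (n + 1)) (π : ∀ n : ℕ, Q n ⟶ K.truncLE (n : ℤ)),
      (∀ n, QuasiIso (π n) ∧ ∀ i, Epi ((π n).f i)) ∧
      (∀ n, ∃ b : ℤ, (Q n).IsStrictlyLE b) ∧ (∀ n i, P ((Q n).X i)) ∧
      (∀ n i, (∃ r : (Q (n + 1)).X i ⟶ (Q n).X i, (ι n).f i ≫ r = 𝟙 _) ∧ P (cokernel ((ι n).f i))) ∧
      (∀ n : ℕ, π n ≫ K.ιTruncLE (n : ℤ) = ι n ≫ π (n + 1) ≫ K.ιTruncLE ((n + 1 : ℕ) : ℤ)) := by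
  let St : ℕ → Type (max u v) := fun n =>
    Σ' (Q : CochainComplex A ℤ) (π : Q ⟶ K.truncLE (n : ℤ)),
      (QuasiIso π ∧ ∀ i, Epi (π.f i)) ∧ (∃ b : ℤ, Q.IsStrictlyLE b) ∧ ∀ i, P (Q.X i)
  have step : ∀ (n : ℕ) (d : St n), ∃ (d' : St (n + 1)) (ι : d.1 ⟶ d'.1),
      d.2.1 ≫ K.ιTruncLE (n : ℤ) = ι ≫ d'.2.1 ≫ K.ιTruncLE ((n + 1 : ℕ) : ℤ) ∧
      ∀ i, (∃ r : d'.1.X i ⟶ d.1.X i, ι.f i ≫ r = 𝟙 _) ∧ P (cokernel (ι.f i)) := by
    rintro n ⟨Q, π, hπ, ⟨b, hb⟩, hQP⟩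
    let m : ℤ := ((n + 1 : ℕ) : ℤ)
    have : (K.truncLE (n : ℤ)).IsStrictlyLE m :=
      (K.truncLE (n : ℤ)).isStrictlyLE_of_le (n : ℤ) m (by omega)
    let c : K.truncLE (n : ℤ) ⟶ K.truncLE m :=
      inv ((K.truncLE (n : ℤ)).ιTruncLE m) ≫ CochainComplex.truncLEMap (K.ιTruncLE (n : ℤ)) m
    have hc : c ≫ K.ιTruncLE m = K.ιTruncLE (n : ℤ) := by
      simp [c]
    have : (K.truncLE m).IsStrictlyLE (max m b) :=
      (K.truncLE m).isStrictlyLE_of_le m _ (le_max_left _ _)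
    have : Q.IsStrictlyLE (max m b) := Q.isStrictlyLE_of_le b _ (le_max_right _ _)
    obtain ⟨Q', ι, π', e, hq, hm, hb', hQ', hsp⟩ :=
      exists_factor_lres P hP0 hPsum hP (π ≫ c) (max m b) hQP
    exact ⟨⟨Q', π', ⟨hq, hm⟩, hb', hQ'⟩, ι, by rw [reassoc_of% e, hc], hsp⟩
  obtain ⟨L, α, hL, hLP, hLe, hLq⟩ := exists_left_resolution P hP0 hP (K.truncLE ((0 : ℕ) : ℤ)) ((0 : ℕ) : ℤ)
  choose next ι hι hsp using step
  let F : ∀ n, St n := fun n => Nat.rec ⟨L, α, ⟨hLq, hLe⟩, ⟨_, hL⟩, hLP⟩ (fun n d => next n d) n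
  exact ⟨fun n => (F n).1, fun n => ι n (F n), fun n => (F n).2.1, fun n => (F n).2.2.1,
    fun n => (F n).2.2.2.1, fun n i => (F n).2.2.2.2 i, fun n i => hsp n (F n) i, fun n => hι n (F n)⟩

end

end Groth.Agent.CohDer42
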