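import Groth.Agent.CohDer42.LimKInj
import Mathlib.Algebra.Homology.HomologySequenceLemmas
import Mathlib.Algebra.Homology.DerivedCategory.KInjective
import Mathlib.Algebra.Homology.Embedding.CochainComplex
import Mathlib.CategoryTheory.Abelian.DiagramLemmas.Four
import Mathlib.CategoryTheory.Abelian.GrothendieckAxioms.Basic
import Groth.Agent.CohDer42.DerProd
import Groth.Agent.CohDer42.Tower

/-!
# Limits of towers via countable products, and K-injective resolutions when countable products are exact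
-/

universe v v' u u'

open CategoryTheory Category Limits Opposite

set_option autoImplicit false
set_option backward.isDefEq.respectTransparency false

namespace Groth.Agent.CohDer42.TowerLim

section General

variable {C : Type u} [Category.{v} C] [Abelian C] [HasLimitsOfShape (Discrete ℕ) C]

/-- the step map -/
def st (I : ℕᵒᵖ ⥤ C) (n : ℕ) : I.obj (op (n + 1)) ⟶ I.obj (op n) :=
  I.map (homOfLE (Nat.le_succ n)).op

lemma compat (I : ℕᵒᵖ ⥤ C) {T : C} (y : ∀ n, T ⟶ I.obj (op n))
    (hy : ∀ n, y (n + 1) ≫ st I n = y n) (a b : ℕ) (h : a ≤ b) :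
    y b ≫ I.map (homOfLE h).op = y a := by
  induction b, h using Nat.le_induction with
  | base => simp
  | succ b h ih =>
    rw [← ih, ← hy b, assoc, st, ← Functor.map_comp]
    rfl

/-- `1 - p` on the product -/
noncomputable def dMap (I : ℕᵒᵖ ⥤ C) :
    (∏ᶜ fun n : ℕ => I.obj (op n)) ⟶ ∏ᶜ fun n : ℕ => I.obj (op n) :=
  Pi.lift fun n => Pi.π _ n - Pi.π (fun n : ℕ => I.obj (op n)) (n + 1) ≫ st I n

lemma dMap_π (I : ℕᵒᵖ ⥤ C) (n : ℕ) : dMap I ≫ Pi.π _ n =
    Pi.π _ n - Pi.π (fun n : ℕ => I.obj (op n)) (n + 1) ≫ st I n := Pi.lift_π _ _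

/-- the limit -/
noncomputable def L (I : ℕᵒᵖ ⥤ C) : C := kernel (dMap I)

/-- the projections -/
noncomputable def pr (I : ℕᵒᵖ ⥤ C) (n : ℕ) : L I ⟶ I.obj (op n) :=
  kernel.ι (dMap I) ≫ Pi.π _ n

lemma pr_st (I : ℕᵒᵖ ⥤ C) (n : ℕ) : pr I (n + 1) ≫ st I n = pr I n := by
  have h := (kernel.condition (dMap I)) =≫ Pi.π _ n
  rw [assoc, dMap_π, Preadditive.comp_sub, zero_comp, sub_eq_zero] at h
  rw [pr, pr, assoc]
  exact h.symm

lemma lift_condition (I : ℕᵒᵖ ⥤ C) {T : C} (y : ∀ n, T ⟶ I.obj (op n))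
    (hy : ∀ n, y (n + 1) ≫ st I n = y n) : Pi.lift y ≫ dMap I = 0 := Pi.hom_ext _ _ fun n => by
  rw [assoc, dMap_π, Preadditive.comp_sub, ← assoc, Pi.lift_π, Pi.lift_π, hy, sub_self, zero_comp]

/-- universal property -/
noncomputable def lft (I : ℕᵒᵖ ⥤ C) {T : C} (y : ∀ n, T ⟶ I.obj (op n))
    (hy : ∀ n, y (n + 1) ≫ st I n = y n) : T ⟶ L I :=
  kernel.lift _ (Pi.lift y) (lift_condition I y hy)

@[reassoc (attr := simp)]
lemma lft_pr (I : ℕᵒᵖ ⥤ C) {T : C} (y : ∀ n, T ⟶ I.obj (op n))
    (hy : ∀ n, y (n + 1) ≫ st I n = y n) (n : ℕ) : lft I y hy ≫ pr I n = y n := by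
  rw [lft, pr, kernel.lift_ι_assoc, Pi.lift_π]

lemma hom_ext (I : ℕᵒᵖ ⥤ C) {T : C} {f g : T ⟶ L I} (h : ∀ n, f ≫ pr I n = g ≫ pr I n) : f = g := by
  rw [← cancel_mono (kernel.ι (dMap I))]
  exact Pi.hom_ext _ _ fun n => by simpa [pr] using h n

/-- the short complex -/
noncomputable def sc (I : ℕᵒᵖ ⥤ C) : ShortComplex C :=
  ShortComplex.mk (kernel.ι (dMap I)) (dMap I) (kernel.condition _)

lemma map_condition {I J : ℕᵒᵖ ⥤ C} (α : I ⟶ J) :
    dMap I ≫ Limits.Pi.map (fun n => α.app (op n)) = Limits.Pi.map (fun n => α.app (op n)) ≫ dMap J := by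
  refine Pi.hom_ext _ _ fun n => ?_
  have hn : α.app (op (n + 1)) ≫ st J n = st I n ≫ α.app (op n) := (α.naturality _).symm
  rw [assoc, Pi.map_π, ← assoc, dMap_π, assoc, dMap_π, Preadditive.sub_comp, Preadditive.comp_sub,
    Pi.map_π, Pi.map_π_assoc, hn, assoc]

/-- functoriality of the short complex -/
noncomputable def scMap {I J : ℕᵒᵖ ⥤ C} (α : I ⟶ J) : sc I ⟶ sc J where
  τ₁ := kernel.map _ _ _ _ (map_condition α)
  τ₂ := Limits.Pi.map (fun n => α.app (op n))
  τ₃ := Limits.Pi.map (fun n => α.app (op n))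
  comm₁₂ := by simp [sc, kernel.map]
  comm₂₃ := (map_condition α).symm

lemma scMap_τ₁_pr {I J : ℕᵒᵖ ⥤ C} (α : I ⟶ J) (n : ℕ) :
    (scMap α).τ₁ ≫ pr J n = pr I n ≫ α.app (op n) := by
  simp [scMap, pr, kernel.map]

/-- shift of a tower -/
def shiftFunctor (N : ℕ) : ℕᵒᵖ ⥤ ℕᵒᵖ :=
  (Monotone.functor (f := fun n : ℕ => n + N) (fun _ _ h => Nat.add_le_add_right h N)).op

lemma st_shift (I : ℕᵒᵖ ⥤ C) (N n : ℕ) :
    st (shiftFunctor N ⋙ I) n = I.map (homOfLE (show n + N ≤ n + 1 + N by lia)).op := rfl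

/-- restriction to a shifted tower -/
noncomputable def restrict (I : ℕᵒᵖ ⥤ C) (N : ℕ) : L I ⟶ L (shiftFunctor N ⋙ I) :=
  lft (shiftFunctor N ⋙ I) (fun n => pr I (n + N)) fun n => by
    rw [st_shift]
    exact compat I (pr I) (pr_st I) _ _ _

lemma isIso_restrict (I : ℕᵒᵖ ⥤ C) (N : ℕ) : IsIso (restrict I N) := by
  let J := shiftFunctor N ⋙ I
  let g : L J ⟶ L I := lft I (fun n => pr J n ≫ I.map (homOfLE (Nat.le_add_right n N)).op) fun n => by
    rw [← pr_st J n, assoc, assoc, st, st, ← Functor.map_comp]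
    change _ = pr J (n + 1) ≫ I.map _ ≫ I.map _
    rw [← Functor.map_comp]
    rfl
  refine ⟨g, hom_ext I fun n => ?_, hom_ext J fun n => ?_⟩
  · rw [assoc, id_comp, lft_pr, ← assoc, restrict, lft_pr]
    exact compat I (pr I) (pr_st I) _ _ _
  · rw [assoc, id_comp, restrict, lft_pr, lft_pr]
    exact compat J (pr J) (pr_st J) n (n + N) (Nat.le_add_right n N)

/-- the map into the limit of a constant tower -/
noncomputable def constLift (K : C) : K ⟶ L ((Functor.const ℕᵒᵖ).obj K) :=
  lft _ (fun _ => 𝟙 K) fun _ => by simp [st]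

lemma isIso_constLift (K : C) : IsIso (constLift K) := by
  refine ⟨pr _ 0, by simp [constLift], hom_ext _ fun n => ?_⟩
  rw [assoc, id_comp, constLift, lft_pr, comp_id]
  have := compat ((Functor.const ℕᵒᵖ).obj K) (pr _) (pr_st _) 0 n (Nat.zero_le n)
  simp only [Functor.const_obj_map] at this
  erw [comp_id] at this
  exact this.symm

end General

section Complexes

variable {A : Type u} [Category.{v} A] [Abelian A] [HasLimitsOfShape (Discrete ℕ) A]

lemma exists_section (I : ℕᵒᵖ ⥤ CochainComplex A ℤ)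
    (h2 : ∀ (n : ℕ) (m : ℤ), IsSplitEpi ((st I n).f m)) (m : ℤ) :
    IsSplitEpi ((dMap I).f m) := by
  let P := ∏ᶜ fun n : ℕ => I.obj (op n)
  let s := fun n => (h2 n m).exists_splitEpi.some.section_
  let σ : ∀ n, P.X m ⟶ (I.obj (op n)).X m := fun n => Nat.rec 0
    (fun n f => (f - (Pi.π (fun n : ℕ => I.obj (op n)) n).f m) ≫ s n) n
  let e := isLimitFanMkObjOfIsLimit (HomologicalComplex.eval A (ComplexShape.up ℤ) m) _ _
    (productIsProduct fun n : ℕ => I.obj (op n))
  let S : P.X m ⟶ P.X m := e.lift (Fan.mk _ σ)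
  have hS : ∀ n, S ≫ (Pi.π (fun n : ℕ => I.obj (op n)) n).f m = σ n := fun n => e.fac _ ⟨n⟩
  refine ⟨⟨⟨S, e.hom_ext fun ⟨n⟩ => ?_⟩⟩⟩
  change (S ≫ (dMap I).f m) ≫ (Pi.π (fun n : ℕ => I.obj (op n)) n).f m =
    𝟙 (P.X m) ≫ (Pi.π (fun n : ℕ => I.obj (op n)) n).f m
  rw [assoc, ← HomologicalComplex.comp_f, dMap_π, HomologicalComplex.sub_f_apply,
    HomologicalComplex.comp_f, Preadditive.comp_sub, ← assoc, hS, hS, id_comp]
  change σ n - ((σ n - _) ≫ s n) ≫ (st I n).f m = _
  rw [assoc, SplitEpi.id, comp_id, sub_sub_cancel]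

lemma shortExact_sc (I : ℕᵒᵖ ⥤ CochainComplex A ℤ)
    (h2 : ∀ (n : ℕ) (m : ℤ), IsSplitEpi ((st I n).f m)) : (sc I).ShortExact := by
  have : Epi (dMap I) := HomologicalComplex.epi_of_epi_f _ fun m => by
    have := exists_section I h2 m
    infer_instance
  exact { exact := ShortComplex.exact_kernel _, epi_g := this, mono_f := inferInstanceAs (Mono (kernel.ι _)) }

lemma isKInjective_L (I : ℕᵒᵖ ⥤ CochainComplex A ℤ) (h1 : ∀ n : ℕ, (I.obj (op n)).IsKInjective)
    (h2 : ∀ (n : ℕ) (m : ℤ), IsSplitEpi ((st I n).f m)) : (L I).IsKInjective where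
  nonempty_homotopy_zero {K} f hK := by
    let := HasDerivedCategory.standard A
    have : ∀ n : ℕ, (I.obj (op n)).IsKInjective := h1
    have := isKInjective_pi (fun n : ℕ => I.obj (op n))
    let g := dMap I
    obtain ⟨w, hw, hw'⟩ := step_homotopy g (exists_section I h2) hK (f ≫ kernel.ι g) 0 (by
      rw [CochainComplex.HomComplex.δ_zero, assoc, kernel.condition, comp_zero,
        CochainComplex.HomComplex.Cochain.ofHom_zero])
    let e := fun q : ℤ => isLimitForkMapOfIsLimit' (HomologicalComplex.eval A (ComplexShape.up ℤ) q)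
      (kernel.condition g) (kernelIsKernel g)
    have hz : ∀ p q (h : p + (-1) = q), w.v p q h ≫ g.f q = 0 := fun p q h => by
      have := CochainComplex.HomComplex.Cochain.congr_v hw' p q h
      simpa using this
    let W : CochainComplex.HomComplex.Cochain K (L I) (-1) :=
      CochainComplex.HomComplex.Cochain.mk fun p q h =>
        (e q).lift (KernelFork.ofι (w.v p q h) (hz p q h))
    have hW : W.comp (CochainComplex.HomComplex.Cochain.ofHom (kernel.ι g)) (add_zero (-1)) = w := by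
      ext p q h
      rw [CochainComplex.HomComplex.Cochain.comp_zero_cochain_v, CochainComplex.HomComplex.Cochain.ofHom_v]
      exact (e q).fac (KernelFork.ofι (w.v p q h) (hz p q h)) WalkingParallelPair.zero
    have hδ : CochainComplex.HomComplex.Cochain.ofHom f = CochainComplex.HomComplex.δ (-1) 0 W +
        CochainComplex.HomComplex.Cochain.ofHom 0 := by
      rw [CochainComplex.HomComplex.Cochain.ofHom_zero, add_zero]
      ext p
      have := CochainComplex.HomComplex.Cochain.congr_v hw p p (add_zero p)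
      rw [← hW, CochainComplex.HomComplex.δ_comp_ofHom,
        CochainComplex.HomComplex.Cochain.comp_zero_cochain_v,
        CochainComplex.HomComplex.Cochain.ofHom_v, CochainComplex.HomComplex.Cochain.ofHom_v,
        HomologicalComplex.comp_f] at this
      have hmono : Mono ((kernel.ι g).f p) := inferInstance
      rw [CochainComplex.HomComplex.Cochain.ofHom_v, ← cancel_mono ((kernel.ι g).f p)]
      exact this.symm
    exact ⟨(CochainComplex.HomComplex.Cochain.equivHomotopy f 0).symm ⟨W, hδ⟩⟩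

variable [HasExactLimitsOfShape (Discrete ℕ) A]

lemma quasiIsoAt_piMap {X Y : ℕ → CochainComplex A ℤ} (f : ∀ n, X n ⟶ Y n) (i : ℤ)
    (h : ∀ n, QuasiIsoAt (f n) i) : QuasiIsoAt (Limits.Pi.map f) i := by
  let j := (ComplexShape.up ℤ).prev i
  let k := (ComplexShape.up ℤ).next i
  let S : ∀ Z : ℕ → CochainComplex A ℤ, ShortComplex (Discrete ℕ ⥤ A) := fun Z =>
    ShortComplex.mk (X₁ := Discrete.functor fun n => (Z n).X j)
      (X₂ := Discrete.functor fun n => (Z n).X i) (X₃ := Discrete.functor fun n => (Z n).X k)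
      (Discrete.natTrans fun n => (Z n.as).d j i) (Discrete.natTrans fun n => (Z n.as).d i k)
      (by ext n; exact (Z n.as).d_comp_d j i k)
  let φ : S X ⟶ S Y :=
    { τ₁ := Discrete.natTrans fun n => (f n.as).f j
      τ₂ := Discrete.natTrans fun n => (f n.as).f i
      τ₃ := Discrete.natTrans fun n => (f n.as).f k
      comm₁₂ := by ext n; exact (f n.as).comm j i
      comm₂₃ := by ext n; exact (f n.as).comm i k }
  have hφ : ShortComplex.QuasiIso φ := by
    refine ⟨?_⟩
    rw [NatTrans.isIso_iff_isIso_app]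
    intro n
    let E := (evaluation (Discrete ℕ) A).obj n
    have h1 : ShortComplex.QuasiIso (E.mapShortComplex.map φ) := by
      have h' := h n.as
      rw [quasiIsoAt_iff] at h'
      exact h'
    have h2 := h1.isIso
    let γ := ShortComplex.mapHomologyIso (S X) E
    have key := ShortComplex.mapHomologyIso_hom_naturality φ E
    change IsIso (E.map (ShortComplex.homologyMap φ))
    have : E.map (ShortComplex.homologyMap φ) =
        γ.inv ≫ ShortComplex.homologyMap (E.mapShortComplex.map φ) ≫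
          (ShortComplex.mapHomologyIso (S Y) E).hom := by
      rw [key, Iso.inv_hom_id_assoc]
    rw [this]
    infer_instance
  let F := (lim : (Discrete ℕ ⥤ A) ⥤ A)
  have : PreservesBinaryBiproducts F := preservesBinaryBiproducts_of_preservesBinaryProducts F
  have : F.Additive := Functor.additive_of_preservesBinaryBiproducts F
  have : F.PreservesHomology := inferInstance
  have hF : ShortComplex.QuasiIso (F.mapShortComplex.map φ) := inferInstance
  let c : ∀ (Z : ℕ → CochainComplex A ℤ) (m : ℤ),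
      (∏ᶜ Z).X m ≅ F.obj (Discrete.functor fun n => (Z n).X m) := fun Z m =>
    PreservesProduct.iso (HomologicalComplex.eval A (ComplexShape.up ℤ) m) Z
  have hc : ∀ (Z : ℕ → CochainComplex A ℤ) (m : ℤ) (n : ℕ),
      (c Z m).hom ≫ limit.π _ ⟨n⟩ = (Pi.π Z n).f m := fun Z m n =>
    piComparison_comp_π (HomologicalComplex.eval A (ComplexShape.up ℤ) m) Z n
  let e : ∀ Z : ℕ → CochainComplex A ℤ, (∏ᶜ Z).sc i ≅ (S Z).map F := fun Z =>
    ShortComplex.isoMk (c Z j) (c Z i) (c Z k)
      (limit.hom_ext fun ⟨n⟩ => by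
        simp only [assoc, ShortComplex.map_f]
        rw [hc]
        erw [limMap_π, reassoc_of% (hc Z j n)]
        exact ((Pi.π Z n).comm j i))
      (limit.hom_ext fun ⟨n⟩ => by
        simp only [assoc, ShortComplex.map_g]
        rw [hc]
        erw [limMap_π, reassoc_of% (hc Z i n)]
        exact ((Pi.π Z n).comm i k))
  rw [quasiIsoAt_iff]
  have hm : ∀ m, (Limits.Pi.map f).f m ≫ (c Y m).hom =
      (c X m).hom ≫ F.map (Discrete.natTrans (F := Discrete.functor fun n => (X n).X m)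
        (G := Discrete.functor fun n => (Y n).X m) fun n => (f n.as).f m) := fun m =>
    limit.hom_ext fun ⟨n⟩ => by
      rw [assoc, assoc, hc, ← HomologicalComplex.comp_f, Limits.Pi.map_π, HomologicalComplex.comp_f]
      erw [limMap_π, reassoc_of% (hc X m n)]
      rfl
  have key : (HomologicalComplex.shortComplexFunctor A (ComplexShape.up ℤ) i).map (Limits.Pi.map f) =
      (e X).hom ≫ F.mapShortComplex.map φ ≫ (e Y).inv := by
    rw [← assoc, Iso.eq_comp_inv]
    exact ShortComplex.hom_ext _ _ (hm j) (hm i) (hm k)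
  rw [key]
  infer_instance

lemma quasiIsoAt_lft (I : ℕᵒᵖ ⥤ CochainComplex A ℤ)
    (h2 : ∀ (n : ℕ) (m : ℤ), IsSplitEpi ((st I n).f m)) {K : CochainComplex A ℤ}
    (φ : ∀ n, K ⟶ I.obj (op n)) (hφ : ∀ n, φ (n + 1) ≫ st I n = φ n) (i : ℤ) (N : ℕ)
    (hN : ∀ n, N ≤ n → QuasiIsoAt (φ n) (i - 1) ∧ QuasiIsoAt (φ n) i) :
    QuasiIsoAt (lft I φ hφ) i := by
  let J := shiftFunctor N ⋙ I
  let α : (Functor.const ℕᵒᵖ).obj K ⟶ J :=
    { app := fun n => φ (n.unop + N)
      naturality := fun m n g => by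
        rw [Functor.const_obj_map]
        erw [id_comp]
        exact (compat I φ hφ _ _ (Nat.add_le_add_right (leOfHom g.unop) N)).symm }
  have hc2 : ∀ (n : ℕ) (m : ℤ), IsSplitEpi ((st ((Functor.const ℕᵒᵖ).obj K) n).f m) := fun n m =>
    IsSplitEpi.mk' ⟨𝟙 _, by simp [st]⟩
  have hJ2 : ∀ (n : ℕ) (m : ℤ), IsSplitEpi ((st J n).f m) := fun n m => by
    rw [st_shift]
    have h := h2 (n + N) m
    have e : n + 1 + N = n + N + 1 := by lia
    have : I.map (homOfLE (show n + N ≤ n + 1 + N by lia)).op =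
        I.map (homOfLE e.ge).op ≫ st I (n + N) := by
      rw [st, ← Functor.map_comp]; rfl
    rw [this, HomologicalComplex.comp_f]
    have : IsIso (homOfLE e.ge) := ⟨homOfLE e.le, Subsingleton.elim _ _, Subsingleton.elim _ _⟩
    have : IsSplitEpi ((I.map (homOfLE e.ge).op).f m) :=
      inferInstanceAs (IsSplitEpi ((HomologicalComplex.eval A (ComplexShape.up ℤ) m).map
        (I.map (homOfLE e.ge).op)))
    infer_instance
  have hs₁ := shortExact_sc _ hc2
  have hs₂ := shortExact_sc _ hJ2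
  have hq : ∀ j : ℤ, (j = i - 1 ∨ j = i) →
      IsIso (HomologicalComplex.homologyMap (Limits.Pi.map fun n => α.app (op n)) j) := fun j hj => by
    have := quasiIsoAt_piMap (fun n => α.app (op n)) j (fun n => by
      rcases hj with rfl | rfl
      · exact (hN _ (Nat.le_add_left N n)).1
      · exact (hN _ (Nat.le_add_left N n)).2)
    exact (quasiIsoAt_iff_isIso_homologyMap _ _).1 this
  have hτ : IsIso (HomologicalComplex.homologyMap (scMap α).τ₁ i) := by
    have i₁ := hq (i - 1) (Or.inl rfl)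
    have i₂ := hq i (Or.inr rfl)
    exact Abelian.isIso_of_epi_of_isIso_of_isIso_of_mono
      (R₁ := ComposableArrows.δ₀Functor.obj (HomologicalComplex.HomologySequence.composableArrows₅
        hs₁ (i - 1) i (by simp)))
      (R₂ := ComposableArrows.δ₀Functor.obj (HomologicalComplex.HomologySequence.composableArrows₅
        hs₂ (i - 1) i (by simp)))
      (ComposableArrows.exact_iff_δ₀ _ |>.1
        (HomologicalComplex.HomologySequence.composableArrows₅_exact hs₁ (i - 1) i (by simp))).2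
      (ComposableArrows.exact_iff_δ₀ _ |>.1
        (HomologicalComplex.HomologySequence.composableArrows₅_exact hs₂ (i - 1) i (by simp))).2
      (ComposableArrows.δ₀Functor.map
        (HomologicalComplex.HomologySequence.mapComposableArrows₅ (scMap α) hs₁ hs₂ (i - 1) i
          (by simp)))
      (by dsimp; exact inferInstanceAs (Epi (HomologicalComplex.homologyMap
        (Limits.Pi.map fun n => α.app (op n)) (i - 1))))
      (by dsimp; exact i₁) (by dsimp; exact i₂)
      (by dsimp; exact inferInstanceAs (Mono (HomologicalComplex.homologyMap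
        (Limits.Pi.map fun n => α.app (op n)) i)))
  have : QuasiIsoAt (scMap α).τ₁ i := (quasiIsoAt_iff_isIso_homologyMap _ _).2 hτ
  have := isIso_restrict I N
  have := isIso_constLift K
  have : lft I φ hφ = constLift K ≫ (scMap α).τ₁ ≫ inv (restrict I N) := by
    rw [← assoc, IsIso.eq_comp_inv]
    exact hom_ext _ fun n => by
      rw [assoc, assoc, restrict, lft_pr, lft_pr, scMap_τ₁_pr, constLift, lft_pr_assoc, id_comp]
  rw [this]
  infer_instance

theorem exists_kinjective_of_exact_products [EnoughInjectives A] (K : CochainComplex A ℤ) :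
    ∃ (M : CochainComplex A ℤ) (f : K ⟶ M), M.IsKInjective ∧ QuasiIso f := by
  have : ObjectProperty.IsClosedUnderIsomorphisms (fun X : A => Injective X) :=
    ⟨fun e h => Injective.of_iso e h⟩
  obtain ⟨Q, p, π, hπ, hb, hinj, hs, hcomp⟩ := exists_tower (fun X : A => Injective X)
    ⟨_, isZero_zero A, inferInstance⟩ (fun X Y hX hY => inferInstance)
    (fun X => ⟨Injective.under X, Injective.ι X, inferInstance, inferInstance⟩) K
  let I : ℕᵒᵖ ⥤ CochainComplex A ℤ := Functor.ofOpSequence p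
  have hst : ∀ n, st I n = p n := fun n => Functor.ofOpSequence_map_homOfLE_succ p n
  have h1 : ∀ n, (I.obj (op n)).IsKInjective := fun n => by
    obtain ⟨a, ha⟩ := hb n
    have : ∀ i, Injective ((Q n).X i) := hinj n
    exact CochainComplex.isKInjective_of_injective (Q n) a
  have h2 : ∀ (n : ℕ) (m : ℤ), IsSplitEpi ((st I n).f m) := fun n m => by
    rw [hst]
    obtain ⟨⟨s, hs⟩, -⟩ := hs n m
    exact IsSplitEpi.mk' ⟨s, hs⟩
  let φ : ∀ n, K ⟶ I.obj (op n) := fun n => K.πTruncGE (-(n : ℤ)) ≫ π n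
  have hφ : ∀ n, φ (n + 1) ≫ st I n = φ n := fun n => by
    rw [hst]; exact (assoc _ _ _).trans (hcomp n)
  refine ⟨L I, lft I φ hφ, isKInjective_L I h1 h2, ⟨fun i => ?_⟩⟩
  refine quasiIsoAt_lft I h2 φ hφ i (1 - i).toNat fun n hn => ?_
  have := (hπ n).1
  have a₁ := CochainComplex.quasiIsoAt_πTruncGE K (-(n : ℤ)) (i - 1) (by lia)
  have a₂ := CochainComplex.quasiIsoAt_πTruncGE K (-(n : ℤ)) i (by lia)
  exact ⟨quasiIsoAt_comp _ _ _, quasiIsoAt_comp _ _ _⟩

end Complexes

end Groth.Agent.CohDer42.TowerLim
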