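import Groth.Agent.DC43.Trunc

/-!
# Factorization through truncations
-/

universe w v u

open CategoryTheory Category Limits Pretriangulated DerivedCategory

set_option autoImplicit false
set_option backward.isDefEq.respectTransparency false

namespace Groth.Agent.CohDer42

variable {A : Type u} [Category.{v} A] [Abelian A] [HasDerivedCategory.{w} A]

local notation "τ" => (DerivedCategory.TStructure.t (C := A))

lemma eq_zero_of_LE_GE {Y Z : DerivedCategory A} (g : Y ⟶ Z) (n : ℤ) (hY : Y.IsLE n) (hZ : Z.IsGE n)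
    (h : (homologyFunctor A n).map g = 0) : g = 0 := by
  have : (τ).IsLE Y n := hY
  have : (τ).IsGE Z n := hZ
  obtain ⟨g₁, hg₁⟩ : ∃ g₁ : Y ⟶ ((τ).truncLT (n + 1)).obj Z, g₁ ≫ ((τ).truncLTι (n + 1)).app Z = g :=
    ⟨(τ).liftTruncLT g n (n + 1) rfl, (τ).liftTruncLT_ι _ _ _ _⟩
  have : (τ).IsGE (((τ).truncLT (n + 1)).obj Z) n := inferInstance
  obtain ⟨g₂, hg₂⟩ : ∃ g₂ : ((τ).truncGE n).obj Y ⟶ ((τ).truncLT (n + 1)).obj Z,
      ((τ).truncGEπ n).app Y ≫ g₂ = g₁ :=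
    ⟨(τ).descTruncGE g₁ n, (τ).π_descTruncGE _ _⟩
  have : g₂ = 0 := by
    refine DC43.eq_zero_of_homology_eq_zero g₂ n (inferInstance : (τ).IsGE _ n)
      (inferInstance : (τ).IsLE _ n) (inferInstance : (τ).IsGE _ n) (inferInstance : (τ).IsLE _ n) ?_
    have := DC43.isIso_homology_truncLTι Z (n + 1) n (by lia)
    have := DC43.isIso_homology_truncGEπ Y n n le_rfl
    rw [← cancel_epi ((homologyFunctor A n).map (((τ).truncGEπ n).app Y)), comp_zero,
      ← Functor.map_comp, hg₂, ← cancel_mono ((homologyFunctor A n).map (((τ).truncLTι (n + 1)).app Z)),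
      zero_comp, ← Functor.map_comp, hg₁, h]
  rw [← hg₁, ← hg₂, this, comp_zero, zero_comp]

/-- forward induction -/
lemma exists_factor_LE (X : ℕ → DerivedCategory A) (f : ∀ j, X j ⟶ X (j + 1))
    (c : ∀ j, X 0 ⟶ X j) (hc0 : c 0 = 𝟙 _) (hc : ∀ j, c (j + 1) = c j ≫ f j)
    (h0 : (X 0).IsLE 0) : ∀ (n : ℕ), (∀ j, j < n → (homologyFunctor A (-(j : ℤ))).map (f j) = 0) →
      ∃ (W : DerivedCategory A) (a : X 0 ⟶ W) (b : W ⟶ X n), W.IsLE (-(n : ℤ)) ∧ a ≫ b = c n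
  | 0, _ => ⟨X 0, 𝟙 _, 𝟙 _, by simpa using h0, by simp [hc0]⟩
  | n + 1, hz => by
    obtain ⟨W, a, b, hW, hab⟩ := exists_factor_LE X f c hc0 hc h0 n (fun j hj => hz j (by lia))
    let m : ℤ := -(n : ℤ)
    have : (τ).IsLE W m := hW
    have h1 : (b ≫ f n) ≫ ((τ).truncGEπ m).app (X (n + 1)) = 0 := by
      refine eq_zero_of_LE_GE _ m hW (inferInstance : (τ).IsGE _ m) ?_
      rw [Functor.map_comp, Functor.map_comp, hz n (by lia), comp_zero, zero_comp]
    obtain ⟨e, he⟩ := Triangle.coyoneda_exact₂ _ ((τ).triangleLTGE_distinguished m (X (n + 1))) _ h1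
    refine ⟨((τ).truncLT m).obj (X (n + 1)), a ≫ e, ((τ).truncLTι m).app (X (n + 1)), ?_, ?_⟩
    · exact ((τ).isLE_truncLT_obj _ m _ (by simp [m]))
    · rw [hc, ← hab, assoc, assoc, he]
      rfl

/-- backward induction -/
lemma exists_factor_GE (X : ℕ → DerivedCategory A) (f : ∀ j, X (j + 1) ⟶ X j)
    (c : ∀ j, X j ⟶ X 0) (hc0 : c 0 = 𝟙 _) (hc : ∀ j, c (j + 1) = f j ≫ c j)
    (h0 : (X 0).IsGE 0) : ∀ (n : ℕ), (∀ j, j < n → (homologyFunctor A (j : ℤ)).map (f j) = 0) →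
      ∃ (W : DerivedCategory A) (a : X n ⟶ W) (b : W ⟶ X 0), W.IsGE (n : ℤ) ∧ a ≫ b = c n
  | 0, _ => ⟨X 0, 𝟙 _, 𝟙 _, by simpa using h0, by simp [hc0]⟩
  | n + 1, hz => by
    obtain ⟨W, a, b, hW, hab⟩ := exists_factor_GE X f c hc0 hc h0 n (fun j hj => hz j (by lia))
    let m : ℤ := (n : ℤ) + 1
    have : (τ).IsGE W n := hW
    have h1 : ((τ).truncLTι m).app (X (n + 1)) ≫ (f n ≫ a) = 0 := by
      refine eq_zero_of_LE_GE _ n ((τ).isLE_truncLT_obj _ m _ le_rfl) hW ?_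
      rw [Functor.map_comp, Functor.map_comp, hz n (by lia), zero_comp, comp_zero]
    obtain ⟨e, he⟩ := Triangle.yoneda_exact₂ _ ((τ).triangleLTGE_distinguished m (X (n + 1))) _ h1
    refine ⟨((τ).truncGE m).obj (X (n + 1)), ((τ).truncGEπ m).app (X (n + 1)), e ≫ b, ?_, ?_⟩
    · exact ((τ).isGE_truncGE_obj _ m _ (by simp [m]))
    · rw [hc, ← hab, ← assoc]
      exact (congrArg (· ≫ b) he.symm).trans (assoc _ _ _)

lemma factor_ιTruncLE (K : CochainComplex A ℤ) (n : ℤ) {S W : DerivedCategory A} (a : S ⟶ W)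
    (b : W ⟶ Q.obj K) (hW : W.IsLE n) :
    ∃ φ : S ⟶ Q.obj (K.truncLE n), φ ≫ Q.map (K.ιTruncLE n) = a ≫ b := by
  have hS := K.shortComplexTruncLE_shortExact n
  have : (τ).IsLE W n := hW
  have hi := Q.map (K.shortComplexTruncLEX₃ToTruncGE n (n + 1) rfl)
  have h1 : IsIso (Q.map (K.shortComplexTruncLEX₃ToTruncGE n (n + 1) rfl)) := inferInstance
  have hg : (τ).IsGE (Q.obj (K.truncGE (n + 1))) (n + 1) :=
    (DerivedCategory.isGE_Q_obj_iff _ _).2 inferInstance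
  have h2 : b ≫ (triangleOfSES hS).mor₂ = 0 := by
    change b ≫ Q.map (K.shortComplexTruncLE n).g = 0
    rw [← cancel_mono (Q.map (K.shortComplexTruncLEX₃ToTruncGE n (n + 1) rfl)), zero_comp]
    exact (τ).zero_of_isLE_of_isGE _ n (n + 1) (by lia) inferInstance inferInstance
  obtain ⟨e, he⟩ := Triangle.coyoneda_exact₂ _ (triangleOfSES_distinguished hS) b h2
  exact ⟨a ≫ e, (assoc _ _ _).trans (congrArg (a ≫ ·) he.symm)⟩

lemma factor_πTruncGE (K : CochainComplex A ℤ) (n : ℤ) {S W : DerivedCategory A} (a : Q.obj K ⟶ W)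
    (b : W ⟶ S) (hW : W.IsGE n) :
    ∃ φ : Q.obj (K.truncGE n) ⟶ S, Q.map (K.πTruncGE n) ≫ φ = a ≫ b := by
  have hS := K.shortComplexTruncLE_shortExact (n - 1)
  have : (τ).IsGE W n := hW
  have h1 : IsIso (Q.map (K.shortComplexTruncLEX₃ToTruncGE (n - 1) n (by lia))) := inferInstance
  have hl : (τ).IsLE (Q.obj (K.truncLE (n - 1))) (n - 1) :=
    (DerivedCategory.isLE_Q_obj_iff _ _).2 inferInstance
  have h2 : (triangleOfSES hS).mor₁ ≫ a = 0 := by
    change Q.map (K.shortComplexTruncLE (n - 1)).f ≫ a = 0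
    exact (τ).zero_of_isLE_of_isGE _ (n - 1) n (by lia) hl inferInstance
  obtain ⟨e, he⟩ := Triangle.yoneda_exact₂ _ (triangleOfSES_distinguished hS) a h2
  refine ⟨inv (Q.map (K.shortComplexTruncLEX₃ToTruncGE (n - 1) n (sub_add_cancel n 1))) ≫ e ≫ b, ?_⟩
  rw [← CochainComplex.g_shortComplexTruncLEX₃ToTruncGE K (n - 1) n (by lia), Functor.map_comp,
    assoc, IsIso.hom_inv_id_assoc, ← assoc]
  exact congrArg (· ≫ b) he.symm

lemma homology_Q_map_eq_zero {K L : CochainComplex A ℤ} (f : K ⟶ L) (i : ℤ)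
    (h : HomologicalComplex.homologyMap f i = 0) : (homologyFunctor A i).map (Q.map f) = 0 := by
  rw [← cancel_mono ((homologyFunctorFactors A i).hom.app L), zero_comp]
  exact ((homologyFunctorFactors A i).hom.naturality f).trans (by
    change _ ≫ HomologicalComplex.homologyMap f i = 0
    rw [h, comp_zero])

end Groth.Agent.CohDer42
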