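import Groth.Agent.DC43.Trunc
import Mathlib.CategoryTheory.Abelian.Refinements
import Mathlib.CategoryTheory.Triangulated.Functor
import Mathlib.Algebra.Homology.DerivedCategory.SingleTriangle

/-!
# Way-out functors
-/

universe w w' v v' u u'

open CategoryTheory Category Limits Pretriangulated DerivedCategory
open scoped ZeroObject

set_option autoImplicit false
set_option linter.unusedSectionVars false
set_option backward.isDefEq.respectTransparency false
set_option maxHeartbeats 800000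

namespace Groth.Agent.CohDer42.WayOut

section Diagram

variable {B : Type u} [Category.{v} B] [Abelian B] {a₁ a₂ a₃ a₄ b₁ b₂ b₃ b₄ : B}
  {f₁ : a₁ ⟶ a₂} {f₂ : a₂ ⟶ a₃} {f₃ : a₃ ⟶ a₄} {g₁ : b₁ ⟶ b₂} {g₂ : b₂ ⟶ b₃} {g₃ : b₃ ⟶ b₄}
  {φ₁ : a₁ ⟶ b₁} {φ₂ : a₂ ⟶ b₂} {φ₃ : a₃ ⟶ b₃} {φ₄ : a₄ ⟶ b₄}

lemma four_mono {wa : f₁ ≫ f₂ = 0} {wa' : f₂ ≫ f₃ = 0} {wb : g₁ ≫ g₂ = 0}
    (ha' : (ShortComplex.mk f₂ f₃ wa').Exact)
    (hb : (ShortComplex.mk g₁ g₂ wb).Exact)
    (c₁ : f₁ ≫ φ₂ = φ₁ ≫ g₁) (c₂ : f₂ ≫ φ₃ = φ₂ ≫ g₂) (c₃ : f₃ ≫ φ₄ = φ₃ ≫ g₃)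
    [Epi φ₁] [Mono φ₂] [Mono φ₄] : Mono φ₃ := by
  rw [Preadditive.mono_iff_cancel_zero]
  intro T x hx
  have h4 : x ≫ f₃ = 0 := by
    rw [← cancel_mono φ₄, assoc, c₃, ← assoc, hx, zero_comp, zero_comp]
  obtain ⟨T₁, π₁, _, x₂, hx₂⟩ := ha'.exact_up_to_refinements x h4
  have h2 : (x₂ ≫ φ₂) ≫ g₂ = 0 := by
    rw [assoc, ← c₂, ← assoc]
    change (x₂ ≫ f₂) ≫ φ₃ = 0
    rw [← show π₁ ≫ x = x₂ ≫ f₂ from hx₂, assoc, hx, comp_zero]
  obtain ⟨T₂, π₂, _, y₁, hy₁⟩ := hb.exact_up_to_refinements (x₂ ≫ φ₂) h2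
  obtain ⟨T₃, π₃, _, x₁, hx₁⟩ := surjective_up_to_refinements_of_epi φ₁ y₁
  have h3 : π₃ ≫ π₂ ≫ x₂ = x₁ ≫ f₁ := by
    rw [← cancel_mono φ₂, assoc, assoc, assoc, c₁]
    change π₃ ≫ π₂ ≫ x₂ ≫ φ₂ = x₁ ≫ φ₁ ≫ g₁
    rw [show π₂ ≫ x₂ ≫ φ₂ = y₁ ≫ g₁ from hy₁, ← assoc, hx₁, assoc]
  rw [← cancel_epi π₁, ← cancel_epi π₂, ← cancel_epi π₃, comp_zero, comp_zero, comp_zero,
    show π₁ ≫ x = x₂ ≫ f₂ from hx₂, ← assoc, ← assoc, assoc π₃, h3, assoc, wa, comp_zero]

lemma four_epi {wb : g₁ ≫ g₂ = 0} {wa' : f₂ ≫ f₃ = 0} {wb' : g₂ ≫ g₃ = 0}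
    (hb : (ShortComplex.mk g₁ g₂ wb).Exact) (ha' : (ShortComplex.mk f₂ f₃ wa').Exact)
    (c₁ : f₁ ≫ φ₂ = φ₁ ≫ g₁) (c₂ : f₂ ≫ φ₃ = φ₂ ≫ g₂) (c₃ : f₃ ≫ φ₄ = φ₃ ≫ g₃)
    [Epi φ₁] [Epi φ₃] [Mono φ₄] : Epi φ₂ := by
  rw [epi_iff_surjective_up_to_refinements]
  intro T y
  obtain ⟨T₁, π₁, _, x₃, hx₃⟩ := surjective_up_to_refinements_of_epi φ₃ (y ≫ g₂)
  have h3 : x₃ ≫ f₃ = 0 := by
    rw [← cancel_mono φ₄, assoc, c₃, zero_comp]
    rw [← assoc, ← hx₃, assoc, assoc, wb', comp_zero, comp_zero]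
  obtain ⟨T₂, π₂, _, x₂, hx₂⟩ := ha'.exact_up_to_refinements x₃ h3
  have hx₂' : π₂ ≫ x₃ = x₂ ≫ f₂ := hx₂
  have h2 : (π₂ ≫ π₁ ≫ y - x₂ ≫ φ₂) ≫ g₂ = 0 := by
    rw [Preadditive.sub_comp, sub_eq_zero]
    simp only [assoc]
    rw [hx₃, ← assoc, hx₂', assoc, c₂]
  obtain ⟨T₃, π₃, _, y₁, hy₁⟩ := hb.exact_up_to_refinements _ h2
  obtain ⟨T₄, π₄, _, x₁, hx₁⟩ := surjective_up_to_refinements_of_epi φ₁ y₁
  refine ⟨T₄, π₄ ≫ π₃ ≫ π₂ ≫ π₁, inferInstance, π₄ ≫ π₃ ≫ x₂ + x₁ ≫ f₁, ?_⟩
  have hy₁' : π₃ ≫ (π₂ ≫ π₁ ≫ y - x₂ ≫ φ₂) = y₁ ≫ g₁ := hy₁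
  have h := congrArg (π₄ ≫ ·) hy₁'
  rw [Preadditive.comp_sub, Preadditive.comp_sub] at h
  simp only [Preadditive.add_comp, assoc]
  rw [c₁, ← assoc x₁, ← hx₁, assoc]
  simp only [Preadditive.comp_sub] at h
  rw [← h]
  abel

end Diagram

variable {A : Type u} [Category.{v} A] [Abelian A] [HasDerivedCategory.{w} A]
  {B : Type u'} [Category.{v'} B] [Abelian B] [HasDerivedCategory.{w'} B]
  {F G : DerivedCategory A ⥤ DerivedCategory B} [F.CommShift ℤ] [G.CommShift ℤ]
  [F.IsTriangulated] [G.IsTriangulated] (η : F ⟶ G) [NatTrans.CommShift η ℤ]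

/-- the morphism of triangles induced by `η` -/
noncomputable def mapTriangleApp (T : Triangle (DerivedCategory A)) :
    F.mapTriangle.obj T ⟶ G.mapTriangle.obj T :=
  Triangle.homMk _ _ (η.app _) (η.app _) (η.app _) (η.naturality _) (η.naturality _) (by
    change (F.map T.mor₃ ≫ (F.commShiftIso (1 : ℤ)).hom.app T.obj₁) ≫ (η.app T.obj₁)⟦(1 : ℤ)⟧' =
      η.app T.obj₃ ≫ G.map T.mor₃ ≫ (G.commShiftIso (1 : ℤ)).hom.app T.obj₁
    erw [assoc, NatTrans.shift_app_comm η (1 : ℤ) T.obj₁, η.naturality_assoc])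

lemma isIso_app_iff_of_iso {X Y : DerivedCategory A} (e : X ≅ Y) :
    IsIso (η.app X) ↔ IsIso (η.app Y) :=
  (MorphismProperty.isomorphisms _).arrow_mk_iso_iff
    (Arrow.isoMk (F.mapIso e) (G.mapIso e) (η.naturality e.hom))

lemma isIso_app_shift (X : DerivedCategory A) (n : ℤ) [IsIso (η.app X)] :
    IsIso (η.app (X⟦n⟧)) := by
  rw [NatTrans.app_shift η n X]
  infer_instance

lemma isIso_app_of_isZero {X : DerivedCategory A} (h : IsZero X) : IsIso (η.app X) :=
  ⟨0, (F.map_isZero h).eq_of_src _ _, (G.map_isZero h).eq_of_src _ _⟩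

lemma isIso_app₂ {T : Triangle (DerivedCategory A)} (hT : T ∈ distTriang _)
    (h₁ : IsIso (η.app T.obj₁)) (h₃ : IsIso (η.app T.obj₃)) : IsIso (η.app T.obj₂) :=
  Pretriangulated.isIso₂_of_isIso₁₃ (mapTriangleApp η T) (F.map_distinguished _ hT)
    (G.map_distinguished _ hT) h₁ h₃

lemma isIso_app_single {X : A} (h : IsIso (η.app ((singleFunctor A 0).obj X))) (n : ℤ) :
    IsIso (η.app ((singleFunctor A n).obj X)) := by
  rw [← isIso_app_iff_of_iso η (((singleFunctors A).shiftIso (-n) n 0 (by lia)).app X)]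
  exact isIso_app_shift η _ _

section

variable (P : ObjectProperty A) [P.IsClosedUnderIsomorphisms]
  (hη : ∀ X : A, P X → IsIso (η.app ((singleFunctor A 0).obj X)))

include hη

lemma isIso_bounded_aux : ∀ (n : ℕ) (X : DerivedCategory A) (a : ℤ), X.IsGE a → X.IsLE (a + n - 1) →
    (∀ i : ℤ, P ((homologyFunctor A i).obj X) ∨ IsZero ((homologyFunctor A i).obj X)) →
    IsIso (η.app X)
  | 0, X, a, h₁, h₂, _ =>
    isIso_app_of_isZero η (TStructure.t.isZero X (a + 0 - 1) a (by lia))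
  | n + 1, X, a, h₁, h₂, hX => by
    let b : ℤ := a + n
    have : TStructure.t.IsGE X a := h₁
    have : TStructure.t.IsLE X b := by
      have : a + ↑(n + 1) - 1 = b := by simp [b]; lia
      rw [← this]; exact h₂
    have hT := TStructure.t.triangleLTGE_distinguished b X
    have hlt : ((TStructure.t.truncLT b).obj X).IsLE (a + n - 1) :=
      (inferInstance : TStructure.t.IsLE ((TStructure.t.truncLT b).obj X) (b - 1))
    have hge : ((TStructure.t.truncLT b).obj X).IsGE a :=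
      (inferInstance : TStructure.t.IsGE ((TStructure.t.truncLT b).obj X) a)
    refine isIso_app₂ η hT (isIso_bounded_aux n _ a hge hlt fun i => ?_) ?_
    · by_cases hi : i < b
      · have := DC43.isIso_homology_truncLTι X b i hi
        rcases hX i with h | h
        · exact Or.inl (P.prop_of_iso (asIso ((homologyFunctor A i).map
            ((TStructure.t.truncLTι b).app X))).symm h)
        · exact Or.inr (h.of_iso (asIso ((homologyFunctor A i).map
            ((TStructure.t.truncLTι b).app X))))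
      · exact Or.inr (DerivedCategory.isZero_of_isLE _ (a + n - 1) i (by simp [b] at hi; lia))
    · have h₄ : ((TStructure.t.truncGE b).obj X).IsGE b :=
        (inferInstance : TStructure.t.IsGE ((TStructure.t.truncGE b).obj X) b)
      have h₅ : ((TStructure.t.truncGE b).obj X).IsLE b :=
        (inferInstance : TStructure.t.IsLE ((TStructure.t.truncGE b).obj X) b)
      obtain ⟨Y, ⟨e⟩⟩ := exists_iso_singleFunctor_obj_of_isGE_of_isLE
        ((TStructure.t.truncGE b).obj X) b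
      change IsIso (η.app ((TStructure.t.truncGE b).obj X))
      rw [isIso_app_iff_of_iso η e]
      have := DC43.isIso_homology_truncGEπ X b b le_rfl
      let u : (homologyFunctor A b).obj X ≅ Y :=
        asIso ((homologyFunctor A b).map ((TStructure.t.truncGEπ b).app X)) ≪≫
          (homologyFunctor A b).mapIso e ≪≫ (singleFunctorCompHomologyFunctorIso A b).app Y
      refine isIso_app_single η ?_ b
      rcases hX b with h | h
      · exact hη Y (P.prop_of_iso u h)
      · exact isIso_app_of_isZero η ((singleFunctor A 0).map_isZero (h.of_iso u.symm))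

lemma isIso_bounded (X : DerivedCategory A) (a b : ℤ) (ha : X.IsGE a) (hb : X.IsLE b)
    (hX : ∀ i : ℤ, P ((homologyFunctor A i).obj X) ∨ IsZero ((homologyFunctor A i).obj X)) :
    IsIso (η.app X) := by
  obtain ⟨n, hn⟩ : ∃ n : ℕ, b ≤ a + n - 1 := ⟨(b + 1 - a).toNat, by lia⟩
  have : TStructure.t.IsLE X b := hb
  exact isIso_bounded_aux η P hη n X a ha (TStructure.t.isLE_of_le X b _ hn) hX

/-- way-out right extension -/
lemma isIso_of_wayOutRight
    (hF : ∀ n₁ : ℤ, ∃ n₂ : ℤ, ∀ Y : DerivedCategory A, Y.IsGE n₂ → (F.obj Y).IsGE n₁)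
    (hG : ∀ n₁ : ℤ, ∃ n₂ : ℤ, ∀ Y : DerivedCategory A, Y.IsGE n₂ → (G.obj Y).IsGE n₁)
    (X : DerivedCategory A)
    (hlt : ∀ m : ℤ, IsIso (η.app ((TStructure.t.truncLT m).obj X))) : IsIso (η.app X) := by
  rw [DerivedCategory.isIso_iff]
  intro i
  obtain ⟨p, hp⟩ := hF (i + 1)
  obtain ⟨q, hq⟩ := hG (i + 1)
  let m := max p q
  let Z := (TStructure.t.truncGE m).obj X
  have hp' : (F.obj Z).IsGE (i + 1) := hp _ (TStructure.t.isGE_truncGE_obj _ _ _ (le_max_left p q))
  have hq' : (G.obj Z).IsGE (i + 1) := hq _ (TStructure.t.isGE_truncGE_obj _ _ _ (le_max_right p q))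
  have key : ∀ (H : DerivedCategory A ⥤ DerivedCategory B) [H.CommShift ℤ] [H.IsTriangulated],
      (H.obj Z).IsGE (i + 1) →
        IsIso ((homologyFunctor B i).map (H.map ((TStructure.t.truncLTι m).app X))) := by
    intro H _ _ h
    have hT := H.map_distinguished _ (TStructure.t.triangleLTGE_distinguished m X)
    have h1 := DerivedCategory.isZero_of_isGE (H.obj Z) (i + 1) (i - 1) (by lia)
    have h2 := DerivedCategory.isZero_of_isGE (H.obj Z) (i + 1) i (by lia)
    have : Mono ((homologyFunctor B i).map (H.map ((TStructure.t.truncLTι m).app X))) :=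
      (HomologySequence.mono_homologyMap_mor₁_iff _ hT (i - 1) i (by lia)).2 (h1.eq_of_src _ _)
    have : Epi ((homologyFunctor B i).map (H.map ((TStructure.t.truncLTι m).app X))) :=
      (HomologySequence.epi_homologyMap_mor₁_iff _ hT i).2 (h2.eq_of_tgt _ _)
    exact isIso_of_mono_of_epi _
  have := key F hp'
  have := key G hq'
  have := hlt m
  have e := congrArg (homologyFunctor B i).map (η.naturality ((TStructure.t.truncLTι m).app X))
  rw [Functor.map_comp, Functor.map_comp] at e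
  have : IsIso ((homologyFunctor B i).map (F.map ((TStructure.t.truncLTι m).app X)) ≫
      (homologyFunctor B i).map (η.app X)) := by
    erw [e]; infer_instance
  exact IsIso.of_isIso_comp_left ((homologyFunctor B i).map (F.map ((TStructure.t.truncLTι m).app X))) _

/-- way-out left extension -/
lemma isIso_of_wayOutLeft
    (hF : ∀ n₁ : ℤ, ∃ n₂ : ℤ, ∀ Y : DerivedCategory A, Y.IsLE n₂ → (F.obj Y).IsLE n₁)
    (hG : ∀ n₁ : ℤ, ∃ n₂ : ℤ, ∀ Y : DerivedCategory A, Y.IsLE n₂ → (G.obj Y).IsLE n₁)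
    (X : DerivedCategory A)
    (hge : ∀ m : ℤ, IsIso (η.app ((TStructure.t.truncGE m).obj X))) : IsIso (η.app X) := by
  rw [DerivedCategory.isIso_iff]
  intro i
  obtain ⟨p, hp⟩ := hF (i - 1)
  obtain ⟨q, hq⟩ := hG (i - 1)
  let m := min p q
  let Z := (TStructure.t.truncLT m).obj X
  have hp' : (F.obj Z).IsLE (i - 1) :=
    hp _ (TStructure.t.isLE_truncLT_obj _ _ _ (by simp [m]))
  have hq' : (G.obj Z).IsLE (i - 1) :=
    hq _ (TStructure.t.isLE_truncLT_obj _ _ _ (by simp [m]))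
  have key : ∀ (H : DerivedCategory A ⥤ DerivedCategory B) [H.CommShift ℤ] [H.IsTriangulated],
      (H.obj Z).IsLE (i - 1) →
        IsIso ((homologyFunctor B i).map (H.map ((TStructure.t.truncGEπ m).app X))) := by
    intro H _ _ h
    have hT := H.map_distinguished _ (TStructure.t.triangleLTGE_distinguished m X)
    have h1 := DerivedCategory.isZero_of_isLE (H.obj Z) (i - 1) i (by lia)
    have h2 := DerivedCategory.isZero_of_isLE (H.obj Z) (i - 1) (i + 1) (by lia)
    have : Mono ((homologyFunctor B i).map (H.map ((TStructure.t.truncGEπ m).app X))) :=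
      (HomologySequence.mono_homologyMap_mor₂_iff _ hT i).2 (h1.eq_of_src _ _)
    have : Epi ((homologyFunctor B i).map (H.map ((TStructure.t.truncGEπ m).app X))) :=
      (HomologySequence.epi_homologyMap_mor₂_iff _ hT i (i + 1) rfl).2 (h2.eq_of_tgt _ _)
    exact isIso_of_mono_of_epi _
  have := key F hp'
  have := key G hq'
  have := hge m
  have e := congrArg (homologyFunctor B i).map (η.naturality ((TStructure.t.truncGEπ m).app X))
  rw [Functor.map_comp, Functor.map_comp] at e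
  have : IsIso ((homologyFunctor B i).map (η.app X) ≫
      (homologyFunctor B i).map (G.map ((TStructure.t.truncGEπ m).app X))) := by
    erw [← e]; infer_instance
  exact IsIso.of_isIso_comp_right _ ((homologyFunctor B i).map (G.map ((TStructure.t.truncGEπ m).app X)))

lemma isIso_of_isGE
    (hF : ∀ n₁ : ℤ, ∃ n₂ : ℤ, ∀ Y : DerivedCategory A, Y.IsGE n₂ → (F.obj Y).IsGE n₁)
    (hG : ∀ n₁ : ℤ, ∃ n₂ : ℤ, ∀ Y : DerivedCategory A, Y.IsGE n₂ → (G.obj Y).IsGE n₁)
    (X : DerivedCategory A) (a : ℤ) (ha : X.IsGE a)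
    (hX : ∀ i : ℤ, P ((homologyFunctor A i).obj X) ∨ IsZero ((homologyFunctor A i).obj X)) :
    IsIso (η.app X) := by
  have : TStructure.t.IsGE X a := ha
  refine isIso_of_wayOutRight η P hη hF hG X fun m => ?_
  refine isIso_bounded η P hη _ a (m - 1) (inferInstance : TStructure.t.IsGE _ a)
    (inferInstance : TStructure.t.IsLE _ (m - 1)) fun i => ?_
  by_cases hi : i < m
  · have := DC43.isIso_homology_truncLTι X m i hi
    rcases hX i with h | h
    · exact Or.inl (P.prop_of_iso (asIso ((homologyFunctor A i).map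
        ((TStructure.t.truncLTι m).app X))).symm h)
    · exact Or.inr (h.of_iso (asIso ((homologyFunctor A i).map
        ((TStructure.t.truncLTι m).app X))))
  · have : DerivedCategory.IsLE ((TStructure.t.truncLT m).obj X) (m - 1) :=
      (inferInstance : TStructure.t.IsLE _ (m - 1))
    exact Or.inr (DerivedCategory.isZero_of_isLE _ (m - 1) i (by lia))

lemma isIso_of_wayOut
    (hF : ∀ n₁ : ℤ, ∃ n₂ : ℤ, ∀ Y : DerivedCategory A, Y.IsGE n₂ → (F.obj Y).IsGE n₁)
    (hF' : ∀ n₁ : ℤ, ∃ n₂ : ℤ, ∀ Y : DerivedCategory A, Y.IsLE n₂ → (F.obj Y).IsLE n₁)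
    (hG : ∀ n₁ : ℤ, ∃ n₂ : ℤ, ∀ Y : DerivedCategory A, Y.IsGE n₂ → (G.obj Y).IsGE n₁)
    (hG' : ∀ n₁ : ℤ, ∃ n₂ : ℤ, ∀ Y : DerivedCategory A, Y.IsLE n₂ → (G.obj Y).IsLE n₁)
    (X : DerivedCategory A)
    (hX : ∀ i : ℤ, P ((homologyFunctor A i).obj X) ∨ IsZero ((homologyFunctor A i).obj X)) :
    IsIso (η.app X) := by
  refine isIso_of_wayOutLeft η P hη hF' hG' X fun m => ?_
  refine isIso_of_isGE η P hη hF hG _ m (inferInstance : TStructure.t.IsGE _ m) fun i => ?_
  by_cases hi : m ≤ i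
  · have := DC43.isIso_homology_truncGEπ X m i hi
    rcases hX i with h | h
    · exact Or.inl (P.prop_of_iso (asIso ((homologyFunctor A i).map
        ((TStructure.t.truncGEπ m).app X))) h)
    · exact Or.inr (h.of_iso (asIso ((homologyFunctor A i).map
        ((TStructure.t.truncGEπ m).app X))).symm)
  · have : DerivedCategory.IsGE ((TStructure.t.truncGE m).obj X) m :=
      (inferInstance : TStructure.t.IsGE _ m)
    exact Or.inr (DerivedCategory.isZero_of_isGE _ m i (by lia))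

end

section Resolving

include η

lemma isIso_of_embedding (P : A → Prop) (hP : ∀ X : A, ∃ (Y : A) (i : X ⟶ Y), P Y ∧ Mono i)
    (hF : ∀ n₁ : ℤ, ∃ n₂ : ℤ, ∀ Y : DerivedCategory A, Y.IsGE n₂ → (F.obj Y).IsGE n₁)
    (hG : ∀ n₁ : ℤ, ∃ n₂ : ℤ, ∀ Y : DerivedCategory A, Y.IsGE n₂ → (G.obj Y).IsGE n₁)
    (hη : ∀ X : A, P X → IsIso (η.app ((singleFunctor A 0).obj X))) (X : A) :
    IsIso (η.app ((singleFunctor A 0).obj X)) := by
  obtain ⟨p, hp⟩ := hF 0
  obtain ⟨q, hq⟩ := hG 0
  let m := max p q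
  have bound : ∀ (H : DerivedCategory A ⥤ DerivedCategory B) [H.CommShift ℤ],
      (∀ Y : DerivedCategory A, Y.IsGE m → (H.obj Y).IsGE 0) → ∀ (X : A) (j : ℤ), j < -m →
      IsZero ((homologyFunctor B j).obj (H.obj ((singleFunctor A 0).obj X))) := by
    intro H _ h X j hj
    have h0 : (H.obj ((singleFunctor A m).obj X)).IsGE 0 := h _ inferInstance
    have : TStructure.t.IsGE (H.obj ((singleFunctor A m).obj X)) 0 := h0
    have h1 : (H.obj ((singleFunctor A 0).obj X)).IsGE (-m) := by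
      have : TStructure.t.IsGE ((H.obj ((singleFunctor A m).obj X))⟦m⟧) (-m) :=
        TStructure.t.isGE_shift _ 0 m (-m) (by lia)
      have : TStructure.t.IsGE ((H ⋙ shiftFunctor (DerivedCategory B) m).obj
          ((singleFunctor A m).obj X)) (-m) := this
      exact TStructure.t.isGE_of_iso (((H.commShiftIso m).app _).symm ≪≫
        H.mapIso (((singleFunctors A).shiftIso m 0 m (by lia)).app X)) (-m)
    exact DerivedCategory.isZero_of_isGE _ (-m) j hj
  have bF := bound F fun Y hY => hp Y (by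
    have : TStructure.t.IsGE Y m := hY
    exact TStructure.t.isGE_of_ge Y p m (le_max_left p q))
  have bG := bound G fun Y hY => hq Y (by
    have : TStructure.t.IsGE Y m := hY
    exact TStructure.t.isGE_of_ge Y q m (le_max_right p q))
  rw [DerivedCategory.isIso_iff]
  suffices ∀ (k : ℕ) (j : ℤ), j < -m + k → ∀ X : A,
      IsIso ((homologyFunctor B j).map (η.app ((singleFunctor A 0).obj X))) by
    intro j
    exact this (j + m + 1).toNat j (by lia) X
  intro k
  induction k with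
  | zero => exact fun j hj X =>
      ⟨0, (bF X j (by simpa using hj)).eq_of_src _ _, (bG X j (by simpa using hj)).eq_of_src _ _⟩
  | succ k ih =>
    intro j hj
    have step : ∀ X : A, ∃ (T : Triangle (DerivedCategory A)) (X' Y : A), T ∈ distTriang _ ∧
        Nonempty (T.obj₁ ≅ (singleFunctor A 0).obj X) ∧
        Nonempty (T.obj₂ ≅ (singleFunctor A 0).obj Y) ∧
        Nonempty (T.obj₃ ≅ (singleFunctor A 0).obj X') ∧ P Y := by
      intro X
      obtain ⟨Y, i, hY, hi⟩ := hP X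
      have hS : (ShortComplex.mk i (cokernel.π i) (cokernel.condition i)).ShortExact :=
        { exact := ShortComplex.exact_cokernel i }
      exact ⟨hS.singleTriangle, cokernel i, Y, hS.singleTriangle_distinguished,
        ⟨Iso.refl _⟩, ⟨Iso.refl _⟩, ⟨Iso.refl _⟩, hY⟩
    have hlow : ∀ X : A,
        IsIso ((homologyFunctor B (j - 1)).map (η.app ((singleFunctor A 0).obj X))) :=
      fun X => ih (j - 1) (by lia) X
    let tr : ∀ (o : DerivedCategory A) (X : A) (i : ℤ),
        Nonempty (o ≅ (singleFunctor A 0).obj X) →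
        (Arrow.mk ((homologyFunctor B i).map (η.app o)) ≅
          Arrow.mk ((homologyFunctor B i).map (η.app ((singleFunctor A 0).obj X)))) :=
      fun o X i e => (homologyFunctor B i).mapArrow.mapIso
        (Arrow.isoMk (f := Arrow.mk (η.app o)) (g := Arrow.mk (η.app ((singleFunctor A 0).obj X)))
          (F.mapIso e.some) (G.mapIso e.some) (η.naturality e.some.hom))
    have hmono : ∀ X : A,
        Mono ((homologyFunctor B j).map (η.app ((singleFunctor A 0).obj X))) := by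
      intro X
      obtain ⟨T, X', Y, hT, e₁, e₂, e₃, hY⟩ := step X
      have iY : IsIso (η.app T.obj₂) := (isIso_app_iff_of_iso η e₂.some).2 (hη Y hY)
      have hj1 : IsIso ((homologyFunctor B (j - 1)).map (η.app T.obj₃)) :=
        ((MorphismProperty.isomorphisms B).arrow_mk_iso_iff (tr _ X' (j - 1) e₃)).2 (hlow X')
      have hc := mapTriangleApp η T
      have hFT := F.map_distinguished _ hT
      have hGT := G.map_distinguished _ hT
      have : Mono ((homologyFunctor B j).map (η.app T.obj₁)) :=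
        four_mono (φ₁ := (homologyFunctor B (j - 1)).map (η.app T.obj₂))
          (φ₂ := (homologyFunctor B (j - 1)).map (η.app T.obj₃))
          (φ₄ := (homologyFunctor B j).map (η.app T.obj₂))
          (g₃ := (homologyFunctor B j).map (G.map T.mor₁))
          (wa := HomologySequence.comp_δ _ hFT (j - 1) j)
          (HomologySequence.exact₁ _ hFT (j - 1) j)
          (HomologySequence.exact₃ _ hGT (j - 1) j)
          (by rw [← Functor.map_comp, ← Functor.map_comp]; exact congrArg _ (η.naturality _))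
          ((homologyFunctor B 0).homologySequenceδ_naturality _ _ (mapTriangleApp η T) (j - 1) j (by lia)).symm
          (by rw [← Functor.map_comp, ← Functor.map_comp]; exact congrArg _ (η.naturality _))
      exact ((MorphismProperty.monomorphisms B).arrow_mk_iso_iff (tr _ X j e₁)).1 this
    intro X
    have := hmono X
    suffices Epi ((homologyFunctor B j).map (η.app ((singleFunctor A 0).obj X))) from
      isIso_of_mono_of_epi _
    obtain ⟨T, X', Y, hT, e₁, e₂, e₃, hY⟩ := step X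
    have iY : IsIso (η.app T.obj₂) := (isIso_app_iff_of_iso η e₂.some).2 (hη Y hY)
    have hj1 : IsIso ((homologyFunctor B (j - 1)).map (η.app T.obj₃)) :=
      ((MorphismProperty.isomorphisms B).arrow_mk_iso_iff (tr _ X' (j - 1) e₃)).2 (hlow X')
    have hm : Mono ((homologyFunctor B j).map (η.app T.obj₃)) :=
      ((MorphismProperty.monomorphisms B).arrow_mk_iso_iff (tr _ X' j e₃)).2 (hmono X')
    have hFT := F.map_distinguished _ hT
    have hGT := G.map_distinguished _ hT
    have : Epi ((homologyFunctor B j).map (η.app T.obj₁)) :=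
      four_epi (φ₁ := (homologyFunctor B (j - 1)).map (η.app T.obj₃))
        (φ₃ := (homologyFunctor B j).map (η.app T.obj₂))
        (φ₄ := (homologyFunctor B j).map (η.app T.obj₃))
        (wb' := ShortComplex.zero (ShortComplex.mk ((homologyFunctor B j).map (G.mapTriangle.obj T).mor₁)
          ((homologyFunctor B j).map (G.mapTriangle.obj T).mor₂) (by
            rw [← Functor.map_comp, comp_distTriang_mor_zero₁₂ _ hGT, Functor.map_zero])))
        (HomologySequence.exact₁ _ hGT (j - 1) j)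
        (HomologySequence.exact₂ _ hFT j)
        ((homologyFunctor B 0).homologySequenceδ_naturality _ _ (mapTriangleApp η T) (j - 1) j (by lia)).symm
        (by rw [← Functor.map_comp, ← Functor.map_comp]; exact congrArg _ (η.naturality _))
        (by rw [← Functor.map_comp, ← Functor.map_comp]; exact congrArg _ (η.naturality _))
    exact ((MorphismProperty.epimorphisms B).arrow_mk_iso_iff (tr _ X j e₁)).1 this

end Resolving

end Groth.Agent.CohDer42.WayOut
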