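import Groth.Agent.Topos46.Deligne
import Mathlib.CategoryTheory.Preadditive.Yoneda.Limits
import Mathlib.CategoryTheory.Sites.Coherent.RegularTopology
import Mathlib.CategoryTheory.Sites.LocallyBijective
import Mathlib.CategoryTheory.Sites.Abelian
import Mathlib.CategoryTheory.Abelian.Exact
import Mathlib.CategoryTheory.Limits.FunctorCategory.Basic
import Mathlib.Algebra.Homology.ShortComplex.ExactFunctor
import Mathlib.Algebra.Category.Grp.Colimits
import Mathlib.Algebra.Category.Grp.FilteredColimits
import Mathlib.Algebra.Category.Grp.Abelian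

/-!
# The additive Yoneda embedding into abelian sheaves for the regular topology
-/

universe u

open CategoryTheory Category Limits Opposite

set_option autoImplicit false
set_option linter.unusedSectionVars false
set_option backward.isDefEq.respectTransparency false

namespace Groth.Agent.CohDer42.YonedaSheaf

variable {A : Type u} [SmallCategory A] [Abelian A] [Preregular A]

lemma effectiveEpi_of_epi {X Y : A} (f : X ⟶ Y) [Epi f] : EffectiveEpi f := by
  have : IsRegularEpi f := IsRegularEpiCategory.regularEpiOfEpi f
  infer_instance

lemma isSheaf_obj (X : A) : Presheaf.IsSheaf (regularTopology A) (preadditiveYoneda.obj X) := by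
  rw [Presheaf.isSheaf_iff_isSheaf_forget _ _ (forget AddCommGrpCat.{u}), isSheaf_iff_isSheaf_of_type]
  exact regularTopology.isSheaf_yoneda_obj X

/-- additive Yoneda as a functor to sheaves -/
noncomputable def toSheaf : A ⥤ Sheaf (regularTopology A) AddCommGrpCat.{u} :=
  ObjectProperty.lift _ preadditiveYoneda isSheaf_obj

/-- sheafifying representables does nothing -/
noncomputable def isoToSheaf :
    preadditiveYoneda ⋙ presheafToSheaf (regularTopology A) AddCommGrpCat.{u} ≅ toSheaf :=
  Functor.isoWhiskerLeft toSheaf
    (asIso (sheafificationAdjunction (regularTopology A) AddCommGrpCat.{u}).counit) ≪≫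
    toSheaf.rightUnitor

lemma full_toSheaf : (toSheaf (A := A)).Full := by
  have : (toSheaf (A := A) ⋙ sheafToPresheaf _ _).Full :=
    inferInstanceAs (preadditiveYoneda : A ⥤ _).Full
  exact Functor.Full.of_comp_faithful toSheaf (sheafToPresheaf _ _)

lemma faithful_toSheaf : (toSheaf (A := A)).Faithful := by
  have : (toSheaf (A := A) ⋙ sheafToPresheaf _ _).Faithful :=
    inferInstanceAs (preadditiveYoneda : A ⥤ _).Faithful
  exact Functor.Faithful.of_comp toSheaf (sheafToPresheaf _ _)

lemma preservesFiniteLimits_preadditiveYoneda :
    PreservesFiniteLimits (preadditiveYoneda : A ⥤ Aᵒᵖ ⥤ AddCommGrpCat.{u}) := by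
  refine ⟨fun J _ _ => ?_⟩
  refine preservesLimitsOfShape_of_evaluation _ J fun T => ?_
  exact inferInstanceAs (PreservesLimitsOfShape J (preadditiveCoyoneda.obj (op T.unop)))

lemma preservesFiniteLimits :
    PreservesFiniteLimits (preadditiveYoneda ⋙ presheafToSheaf (regularTopology A) AddCommGrpCat.{u}) := by
  have := preservesFiniteLimits_preadditiveYoneda (A := A)
  exact comp_preservesFiniteLimits _ _

lemma isLocallySurjective_map {X Y : A} (p : X ⟶ Y) [Epi p] :
    Presheaf.IsLocallySurjective (regularTopology A) (preadditiveYoneda.map p) where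
  imageSieve_mem {T} s := by
    let t : T ⟶ Y := s
    refine regularTopology.mem_sieves_of_hasEffectiveEpi _
      ⟨pullback t p, pullback.fst t p, effectiveEpi_of_epi _, pullback.snd t p, ?_⟩
    exact (pullback.condition (f := t) (g := p)).symm

lemma preservesFiniteColimits :
    PreservesFiniteColimits (preadditiveYoneda ⋙ presheafToSheaf (regularTopology A) AddCommGrpCat.{u}) := by
  let F := preadditiveYoneda ⋙ presheafToSheaf (regularTopology A) AddCommGrpCat.{u}
  have : PreservesFiniteLimits F := preservesFiniteLimits
  have : PreservesBinaryBiproducts F :=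
    preservesBinaryBiproducts_of_preservesBinaryProducts F
  have : F.Additive := Functor.additive_of_preservesBinaryBiproducts F
  have : F.PreservesEpimorphisms := ⟨fun {X Y} p _ => by
    have := isLocallySurjective_map p
    have : Sheaf.IsLocallySurjective (F.map p) :=
      (Presheaf.isLocallySurjective_presheafToSheaf_map_iff _ _).2 this
    exact Sheaf.epi_of_isLocallySurjective (F.map p)⟩
  have : F.PreservesHomology := F.preservesHomology_of_preservesEpis_and_kernels
  exact F.preservesFiniteColimits_of_preservesHomology

lemma hasEnoughPoints : GrothendieckTopology.HasEnoughPoints.{u, u, u} (regularTopology A) := by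
  refine Topos46.Deligne.hasEnoughPoints fun U S hS => ?_
  obtain ⟨Y, π, hπ, hSπ⟩ := (regularTopology.mem_sieves_iff_hasEffectiveEpi S).1 hS
  exact ⟨1, fun _ => Y, fun _ => π, fun _ => hSπ,
    regularTopology.mem_sieves_of_hasEffectiveEpi _
      ⟨Y, π, hπ, Sieve.ofArrows_mk (fun _ : Fin 1 => Y) (fun _ => π) 0⟩⟩

end Groth.Agent.CohDer42.YonedaSheaf
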